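import Cfsg.Agent.Lib.Recog.PrimeGraph
import Mathlib.LinearAlgebra.Matrix.SpecialLinearGroup
import Mathlib.LinearAlgebra.Matrix.ProjectiveSpecialLinearGroup
import Mathlib.LinearAlgebra.Matrix.Determinant.Basic
import Mathlib.Algebra.CharP.Two
import Mathlib.Tactic.LinearCombination
import Mathlib.Tactic.NoncommRing

/-! The natural module of `SL(2, F)` in characteristic two. -/

set_option autoImplicit false

namespace CfsgLib.Recog

open Matrix

variable (F : Type*) [Field F]

/-- The action of `SL(2, F)` on column vectors, as automorphisms of a multiplicative group. -/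
def sl2NatAct : SpecialLinearGroup (Fin 2) F →* MulAut (Multiplicative (Fin 2 → F)) where
  toFun g :=
    { toFun := fun v => Multiplicative.ofAdd ((g : Matrix (Fin 2) (Fin 2) F) *ᵥ v.toAdd)
      invFun := fun v => Multiplicative.ofAdd (((g⁻¹ : SpecialLinearGroup (Fin 2) F) : Matrix (Fin 2) (Fin 2) F) *ᵥ v.toAdd)
      left_inv := fun v => by
        simp only [toAdd_ofAdd, mulVec_mulVec, ← SpecialLinearGroup.coe_mul, inv_mul_cancel,
          SpecialLinearGroup.coe_one, one_mulVec, ofAdd_toAdd]
      right_inv := fun v => by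
        simp only [toAdd_ofAdd, mulVec_mulVec, ← SpecialLinearGroup.coe_mul, mul_inv_cancel,
          SpecialLinearGroup.coe_one, one_mulVec, ofAdd_toAdd]
      map_mul' := fun v w => by simp only [toAdd_mul, mulVec_add, ofAdd_add] }
  map_one' := by
    apply MulEquiv.ext
    intro v
    show Multiplicative.ofAdd ((1 : Matrix (Fin 2) (Fin 2) F) *ᵥ v.toAdd) = v
    rw [one_mulVec, ofAdd_toAdd]
  map_mul' a b := by
    apply MulEquiv.ext
    intro v
    show Multiplicative.ofAdd (((a * b : SpecialLinearGroup (Fin 2) F) : Matrix (Fin 2) (Fin 2) F) *ᵥ v.toAdd) = _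
    rw [SpecialLinearGroup.coe_mul, ← mulVec_mulVec]
    rfl

/-- In characteristic two, an element of `SL(2, F)` fixing a non-zero vector is an involution or trivial. -/
theorem sq_eq_one_of_fixed [CharP F 2] (g : SpecialLinearGroup (Fin 2) F) (v : Fin 2 → F) (hv : v ≠ 0)
    (h : (g : Matrix (Fin 2) (Fin 2) F) *ᵥ v = v) : g ^ 2 = 1 := by
  obtain ⟨a, b, c, d, hg⟩ : ∃ a b c d, (g : Matrix (Fin 2) (Fin 2) F) = !![a, b; c, d] :=
    ⟨_, _, _, _, eta_fin_two _⟩
  have hdet : a * d - b * c = 1 := by
    have := g.det_coe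
    rwa [hg, det_fin_two_of] at this
  have h0 := congrFun h 0
  have h1 := congrFun h 1
  simp only [hg, mulVec, dotProduct, Fin.sum_univ_two, of_apply, cons_val', cons_val_zero, cons_val_one,
    empty_val', cons_val_fin_one] at h0 h1
  have e2 : (2 : F) = 0 := CharTwo.two_eq_zero
  -- the determinant of `g - 1` vanishes, so the trace is `2 = 0`
  have hd0 : ((a - 1) * (d - 1) - b * c) * v 0 = 0 := by linear_combination (d - 1) * h0 - b * h1
  have hd1 : ((a - 1) * (d - 1) - b * c) * v 1 = 0 := by linear_combination (a - 1) * h1 - c * h0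
  have hz : (a - 1) * (d - 1) - b * c = 0 := by
    by_contra hne
    apply hv
    ext i
    fin_cases i
    · exact (mul_eq_zero.1 hd0).resolve_left hne
    · exact (mul_eq_zero.1 hd1).resolve_left hne
  have htr : a + d = 0 := by linear_combination hdet - hz + e2
  apply Subtype.ext
  show ((g ^ 2 : SpecialLinearGroup (Fin 2) F) : Matrix (Fin 2) (Fin 2) F) = 1
  rw [SpecialLinearGroup.coe_pow, hg, pow_two, mul_fin_two, one_fin_two]
  ext i j
  fin_cases i <;> fin_cases j
  · show a * a + b * c = 1
    linear_combination a * htr - hdet - e2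
  · show a * b + b * d = 0
    linear_combination b * htr
  · show c * a + d * c = 0
    linear_combination c * htr
  · show c * b + d * d = 1
    linear_combination d * htr - hdet - e2

theorem center_sl2_eq_bot [CharP F 2] : Subgroup.center (SpecialLinearGroup (Fin 2) F) = ⊥ := by
  rw [Subgroup.eq_bot_iff_forall]
  intro A hA
  obtain ⟨r, hr, hA⟩ := SpecialLinearGroup.mem_center_iff.1 hA
  rw [Fintype.card_fin] at hr
  have e2 : (2 : F) = 0 := CharTwo.two_eq_zero
  have h1 : r = 1 := by
    have : (r - 1) * (r - 1) = 0 := by linear_combination hr + (1 - r) * e2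
    exact sub_eq_zero.1 (mul_self_eq_zero.1 this)
  apply Subtype.ext
  rw [← hA, h1, map_one, SpecialLinearGroup.coe_one]

theorem psl_two_char_two_large [Fintype F] [CharP F 2] (hF : 4 ≤ Fintype.card F) (N : ℕ) :
    ∃ (H : Type) (_ : Group H) (_ : Fintype H), N < Nat.card H ∧
      SamePrimeGraph (ProjectiveSpecialLinearGroup (Fin 2) F) H := by
  classical
  haveI : Fact (Nat.Prime 2) := ⟨Nat.prime_two⟩
  let e : ProjectiveSpecialLinearGroup (Fin 2) F ≃* SpecialLinearGroup (Fin 2) F :=
    (QuotientGroup.quotientMulEquivOfEq (center_sl2_eq_bot F)).trans QuotientGroup.quotientBot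
  have hW : IsPGroup 2 (Multiplicative (Fin 2 → F)) := fun v => ⟨1, by
    apply Multiplicative.toAdd.injective
    show 2 ^ 1 • v.toAdd = 0
    rw [pow_one, two_nsmul]
    funext i
    exact CharTwo.add_self_eq_zero _⟩
  haveI : Nontrivial (Multiplicative (Fin 2 → F)) := (Multiplicative.ofAdd (α := Fin 2 → F)).injective.nontrivial
  have h2 : 2 ∣ Nat.card (SpecialLinearGroup (Fin 2) F) := by
    have e2 : (2 : F) = 0 := CharTwo.two_eq_zero
    let u : SpecialLinearGroup (Fin 2) F := ⟨!![1, 1; 0, 1], by simp [det_fin_two_of]⟩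
    have hu : orderOf u = 2 := by
      refine orderOf_eq_prime ?_ ?_
      · apply sq_eq_one_of_fixed F u ![1, 0] (fun h => one_ne_zero (congrFun h 0))
        funext i
        fin_cases i <;> simp [u, mulVec, dotProduct, Fin.sum_univ_two]
      · intro h
        have := congrFun (congrFun (congrArg Subtype.val h) 0) 1
        simp [u] at this
    have := orderOf_dvd_natCard u
    rwa [hu] at this
  obtain ⟨H, iH, iF, hN, hpg⟩ := exists_large_samePrimeGraph (W := Multiplicative (Fin 2 → F)) hW h2
    (sl2NatAct F) (fun g s hs hs2 hg v hv => by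
      by_contra hne
      have h := sq_eq_one_of_fixed F g v.toAdd (fun h => hne (Multiplicative.toAdd.injective h))
        (congrArg Multiplicative.toAdd hv)
      have := orderOf_dvd_of_pow_eq_one h
      rw [hg] at this
      exact hs2 ((Nat.prime_dvd_prime_iff_eq hs Nat.prime_two).1 this)) N
  exact ⟨H, iH, iF, hN, (SamePrimeGraph.of_mulEquiv e).trans hpg⟩

end CfsgLib.Recog
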