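import Mathlib.LinearAlgebra.Matrix.SpecialLinearGroup
import Mathlib.LinearAlgebra.Matrix.ToLin
import Mathlib.GroupTheory.SemidirectProduct
import Mathlib.GroupTheory.OrderOfElement
import Mathlib.GroupTheory.Perm.Sign
import Mathlib.GroupTheory.SpecificGroups.Alternating
import Mathlib.GroupTheory.Perm.Fin
import Mathlib.FieldTheory.Finite.Basic
import Mathlib.Tactic.LinearCombination
import Mathlib.Tactic.NormNum.Prime

/-! Element orders of `(F₄²)^k ⋊ SL₂(4)` and of the alternating group of degree six. -/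

set_option autoImplicit false

namespace CfsgLib.Recog

open Matrix

section
variable {F : Type*} [Field F] (k : ℕ)

/-- `SL₂(F)` acting diagonally on copies of the plane. -/
def planesAction : SpecialLinearGroup (Fin 2) F →* MulAut (Multiplicative (Fin k → Fin 2 → F)) where
  toFun A :=
    { toFun := fun v => Multiplicative.ofAdd fun i => (A : Matrix (Fin 2) (Fin 2) F) *ᵥ v.toAdd i
      invFun := fun v => Multiplicative.ofAdd fun i => ((A⁻¹ : SpecialLinearGroup (Fin 2) F) : Matrix (Fin 2) (Fin 2) F) *ᵥ v.toAdd i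
      left_inv := fun v => by
        refine congrArg Multiplicative.ofAdd (funext fun i => ?_)
        rw [toAdd_ofAdd, mulVec_mulVec, ← SpecialLinearGroup.coe_mul, inv_mul_cancel,
          SpecialLinearGroup.coe_one, one_mulVec]
        rfl
      right_inv := fun v => by
        refine congrArg Multiplicative.ofAdd (funext fun i => ?_)
        rw [toAdd_ofAdd, mulVec_mulVec, ← SpecialLinearGroup.coe_mul, mul_inv_cancel,
          SpecialLinearGroup.coe_one, one_mulVec]
        rfl
      map_mul' := fun v w => congrArg Multiplicative.ofAdd (funext fun i => mulVec_add _ _ _) }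
  map_one' := MulEquiv.ext fun v => congrArg Multiplicative.ofAdd (funext fun i => one_mulVec _)
  map_mul' A B := MulEquiv.ext fun v => congrArg Multiplicative.ofAdd (funext fun i => by
    rw [SpecialLinearGroup.coe_mul]; exact (mulVec_mulVec (v.toAdd i) (A : Matrix (Fin 2) (Fin 2) F) (B : Matrix (Fin 2) (Fin 2) F)).symm)

/-- The group `(F²)^k ⋊ SL₂(F)`. -/
abbrev AffinePlanes (F : Type*) [Field F] (k : ℕ) : Type _ :=
  Multiplicative (Fin k → Fin 2 → F) ⋊[planesAction (F := F) k] SpecialLinearGroup (Fin 2) F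

theorem affinePlanes_pow (x : AffinePlanes F k) (n : ℕ) :
    ((x ^ n).right : Matrix (Fin 2) (Fin 2) F) = (x.right : Matrix (Fin 2) (Fin 2) F) ^ n ∧
    ∀ i, (x ^ n).left.toAdd i =
      (∑ j ∈ Finset.range n, (x.right : Matrix (Fin 2) (Fin 2) F) ^ j) *ᵥ x.left.toAdd i := by
  induction n with
  | zero => simp
  | succ n ih =>
    obtain ⟨h1, h2⟩ := ih
    constructor
    · rw [pow_succ, SemidirectProduct.mul_right, SpecialLinearGroup.coe_mul, h1, pow_succ]
    · intro i
      rw [pow_succ, SemidirectProduct.mul_left]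
      change (x ^ n).left.toAdd i + ((x ^ n).right : Matrix (Fin 2) (Fin 2) F) *ᵥ x.left.toAdd i = _
      rw [h2 i, h1, Finset.sum_range_succ, add_mulVec]

theorem affinePlanes_pow_eq_one {x : AffinePlanes F k} {n : ℕ}
    (h1 : (x.right : Matrix (Fin 2) (Fin 2) F) ^ n = 1)
    (h2 : ∑ j ∈ Finset.range n, (x.right : Matrix (Fin 2) (Fin 2) F) ^ j = 0) : x ^ n = 1 := by
  obtain ⟨ha, hb⟩ := affinePlanes_pow k x n
  refine SemidirectProduct.ext (Multiplicative.toAdd.injective (funext fun i => ?_)) (Subtype.ext ?_)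
  · rw [hb i, h2, zero_mulVec]; rfl
  · rw [ha, h1]; rfl

end

section
variable {F : Type*} [Field F] [Fintype F]

omit [Fintype F] in
/-- Cayley–Hamilton in dimension two and characteristic two. -/
theorem sq_eq_trace_smul (h2 : (2 : F) = 0) (A : SpecialLinearGroup (Fin 2) F) :
    (A : Matrix (Fin 2) (Fin 2) F) ^ 2 = (A : Matrix (Fin 2) (Fin 2) F).trace • (A : Matrix (Fin 2) (Fin 2) F) + 1 := by
  have hd : (A : Matrix (Fin 2) (Fin 2) F).det = 1 := A.2
  rw [det_fin_two] at hd
  ext i j
  fin_cases i <;> fin_cases j <;>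
    simp only [Fin.zero_eta, Fin.mk_one, pow_two, trace_fin_two, mul_apply, Fin.sum_univ_two,
      Matrix.add_apply, Matrix.smul_apply, smul_eq_mul, one_apply_eq, ne_eq, zero_ne_one, one_ne_zero,
      not_false_eq_true, one_apply_ne]
  · linear_combination hd * (-1 : F) + h2 * (-(1 : F))
  · ring
  · ring
  · linear_combination hd * (-1 : F) + h2 * (-(1 : F))

theorem card_four_cases (hF : Fintype.card F = 4) (t : F) : t = 0 ∨ t = 1 ∨ t ^ 2 + t + 1 = 0 := by
  have h := FiniteField.pow_card t
  rw [hF] at h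
  by_cases h0 : t = 0
  · exact Or.inl h0
  by_cases h1 : t = 1
  · exact Or.inr (Or.inl h1)
  refine Or.inr (Or.inr ?_)
  have : t * (t - 1) * (t ^ 2 + t + 1) = 0 := by linear_combination h
  rcases mul_eq_zero.mp this with h' | h'
  · exact absurd h' (mul_ne_zero h0 (sub_ne_zero.mpr h1))
  · exact h'

theorem two_eq_zero_of_card_four (hF : Fintype.card F = 4) : (2 : F) = 0 := by
  have h := FiniteField.cast_card_eq_zero F
  rw [hF] at h
  have : (2 : F) * 2 = 0 := by push_cast at h; linear_combination h
  exact mul_self_eq_zero.mp this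

theorem affinePlanes_pow_cases (hF : Fintype.card F = 4) (k : ℕ) (x : AffinePlanes F k) :
    x ^ 4 = 1 ∨ x ^ 3 = 1 ∨ x ^ 5 = 1 := by
  have h2 := two_eq_zero_of_card_four hF
  set A := (x.right : Matrix (Fin 2) (Fin 2) F) with hA
  have hz : ∀ c : F, c = 0 → c • A = 0 := fun c hc => by rw [hc, zero_smul]
  have hz1 : ∀ c : F, c = 0 → c • (1 : Matrix (Fin 2) (Fin 2) F) = 0 := fun c hc => by rw [hc, zero_smul]
  have hsq : A ^ 2 = A.trace • A + 1 := sq_eq_trace_smul h2 x.right
  have red : ∀ a b : F, (a • A + b • (1 : Matrix (Fin 2) (Fin 2) F)) * A =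
      (a * A.trace + b) • A + a • (1 : Matrix (Fin 2) (Fin 2) F) := fun a b => by
    rw [add_mul, smul_mul_assoc, ← pow_two, hsq, smul_mul_assoc, one_mul, smul_add, smul_smul, add_smul]
    abel
  set t := A.trace with ht
  have e2 : A ^ 2 = t • A + (1 : F) • (1 : Matrix (Fin 2) (Fin 2) F) := by rw [hsq, one_smul]
  have e3 : A ^ 3 = (t * t + 1) • A + t • (1 : Matrix (Fin 2) (Fin 2) F) := by rw [pow_succ, e2, red]
  have e4 : A ^ 4 = ((t * t + 1) * t + t) • A + (t * t + 1) • (1 : Matrix (Fin 2) (Fin 2) F) := by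
    rw [pow_succ, e3, red]
  rcases card_four_cases hF t with h | h | h
  · refine Or.inl (affinePlanes_pow_eq_one k ?_ ?_)
    · rw [← hA, e4, h]; simp
    · simp only [← hA, Finset.sum_range_succ, Finset.sum_range_zero, zero_add, pow_zero, pow_one, e2, e3, h]
      simp only [mul_zero, zero_add, zero_smul, add_zero, one_smul]
      rw [show (1 : Matrix (Fin 2) (Fin 2) F) + A + 1 + A = (2 : F) • A + (2 : F) • (1 : Matrix (Fin 2) (Fin 2) F) by
        simp only [two_smul]; abel, hz _ h2, hz1 _ h2, add_zero]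
  · refine Or.inr (Or.inl (affinePlanes_pow_eq_one k ?_ ?_))
    · rw [← hA, e3, h, hz _ (by linear_combination h2), zero_add, one_smul]
    · simp only [← hA, Finset.sum_range_succ, Finset.sum_range_zero, zero_add, pow_zero, pow_one, e2, h,
        one_smul]
      rw [show (1 : Matrix (Fin 2) (Fin 2) F) + A + (A + 1) = (2 : F) • A + (2 : F) • (1 : Matrix (Fin 2) (Fin 2) F) by
        simp only [two_smul]; abel, hz _ h2, hz1 _ h2, add_zero]
  · refine Or.inr (Or.inr (affinePlanes_pow_eq_one k ?_ ?_))
    · have e5 : A ^ 5 = (((t * t + 1) * t + t) * t + (t * t + 1)) • A +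
          ((t * t + 1) * t + t) • (1 : Matrix (Fin 2) (Fin 2) F) := by rw [pow_succ, e4, red]
      rw [← hA, e5, hz _ (by linear_combination (t ^ 2 - t + 3) * h - (t + 1) * h2), zero_add,
        show (t * t + 1) * t + t = 1 by linear_combination (t - 1) * h + t * h2, one_smul]
    · simp only [← hA, Finset.sum_range_succ, Finset.sum_range_zero, zero_add, pow_zero, pow_one, e2, e3, e4]
      rw [show (1 : Matrix (Fin 2) (Fin 2) F) + A + (t • A + (1 : F) • (1 : Matrix (Fin 2) (Fin 2) F)) +
            ((t * t + 1) • A + t • (1 : Matrix (Fin 2) (Fin 2) F)) +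
            (((t * t + 1) * t + t) • A + (t * t + 1) • (1 : Matrix (Fin 2) (Fin 2) F)) =
          (1 + t + (t * t + 1) + ((t * t + 1) * t + t)) • A +
            (1 + 1 + t + (t * t + 1)) • (1 : Matrix (Fin 2) (Fin 2) F) by
        simp only [add_smul, one_smul]; abel]
      rw [hz _ (by linear_combination t * h + (t + 1) * h2), hz1 _ (by linear_combination h + h2), add_zero]

theorem orderOf_small {G : Type*} [Monoid G] {x : G} (h : x ^ 4 = 1 ∨ x ^ 3 = 1 ∨ x ^ 5 = 1) :
    orderOf x = 1 ∨ orderOf x = 2 ∨ orderOf x = 3 ∨ orderOf x = 4 ∨ orderOf x = 5 := by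
  rcases h with h | h | h
  · have hm : orderOf x ∈ Nat.divisors 4 := Nat.mem_divisors.mpr ⟨orderOf_dvd_of_pow_eq_one h, by norm_num⟩
    have hl : Nat.divisors 4 = {1, 2, 4} := by decide
    simp only [hl, Finset.mem_insert, Finset.mem_singleton] at hm
    omega
  · rcases (Nat.dvd_prime (by norm_num)).mp (orderOf_dvd_of_pow_eq_one h) with h | h <;> omega
  · rcases (Nat.dvd_prime (by norm_num)).mp (orderOf_dvd_of_pow_eq_one h) with h | h <;> omega

theorem affinePlanes_spectrum (hF : Fintype.card F = 4) (k : ℕ) (hk : 0 < k) :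
    Set.range (orderOf : AffinePlanes F k → ℕ) = {1, 2, 3, 4, 5} := by
  classical
  ext n
  simp only [Set.mem_range, Set.mem_insert_iff, Set.mem_singleton_iff]
  refine ⟨fun ⟨x, hx⟩ => hx ▸ orderOf_small (affinePlanes_pow_cases hF k x), fun hn => ?_⟩
  have h2 := two_eq_zero_of_card_four hF
  obtain ⟨w, hw0, hw1⟩ : ∃ w : F, w ≠ 0 ∧ w ≠ 1 := by
    by_contra hc
    push Not at hc
    have h1 : Finset.univ ⊆ ({0, 1} : Finset F) := fun w _ => by
      by_cases h : w = 0
      · simp [h]
      · simp [hc w h]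
    have := (Finset.card_le_card h1).trans Finset.card_le_two
    rw [Finset.card_univ, hF] at this
    omega
  let U : SpecialLinearGroup (Fin 2) F := ⟨!![1, 1; 0, 1], by simp [det_fin_two]⟩
  let v : Multiplicative (Fin k → Fin 2 → F) := Multiplicative.ofAdd fun _ => ![0, 1]
  have hU : U * U = 1 := Subtype.ext (by
    change !![(1 : F), 1; 0, 1] * !![1, 1; 0, 1] = 1
    ext i j
    fin_cases i <;> fin_cases j <;> simp [mul_apply, one_add_one_eq_two, h2])
  rcases hn with rfl | rfl | rfl | rfl | rfl
  · exact ⟨1, orderOf_one⟩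
  · haveI := Fact.mk Nat.prime_two
    refine ⟨SemidirectProduct.inr U, orderOf_eq_prime (by rw [← map_pow, pow_two, hU, map_one]) fun h => ?_⟩
    have := congrArg (fun z : AffinePlanes F k => (z.right : Matrix (Fin 2) (Fin 2) F) 0 1) h
    simp only [SemidirectProduct.right_inr, SemidirectProduct.one_right] at this
    simp [U] at this
  · haveI := Fact.mk Nat.prime_three
    let T : SpecialLinearGroup (Fin 2) F := ⟨!![0, 1; 1, 1], by simp [det_fin_two]; linear_combination -h2⟩
    refine ⟨SemidirectProduct.inr T, ?_⟩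
    rcases orderOf_small (affinePlanes_pow_cases hF k (SemidirectProduct.inr T)) with h | h | h | h | h
    all_goals first
      | exact h
      | (exfalso
         have hp := pow_orderOf_eq_one (SemidirectProduct.inr T : AffinePlanes F k)
         rw [h, ← map_pow] at hp
         have h00 := congrArg (fun z : AffinePlanes F k => (z.right : Matrix (Fin 2) (Fin 2) F) 0 1) hp
         simp only [SemidirectProduct.right_inr, SemidirectProduct.one_right,
           SpecialLinearGroup.coe_pow] at h00
         simp [T, pow_succ, mul_apply, one_add_one_eq_two, h2] at h00)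
  · refine ⟨⟨v, U⟩, orderOf_eq_prime_pow (p := 2) (n := 1) (fun h => ?_) ?_⟩
    · have := congrArg (fun z : AffinePlanes F k => z.left.toAdd ⟨0, hk⟩ 0) h
      rw [pow_one] at this
      have h3 := (affinePlanes_pow k (⟨v, U⟩ : AffinePlanes F k) 2).2 ⟨0, hk⟩
      simp [U, v, Finset.sum_range_succ, vecHead, vecTail, add_mulVec] at h3 this
      rw [h3] at this
      simp at this
    · rcases affinePlanes_pow_cases hF k (⟨v, U⟩ : AffinePlanes F k) with h | h | h
      · exact h
      all_goals
        exfalso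
        have := congrArg (SemidirectProduct.rightHom : AffinePlanes F k →* _) h
        rw [map_pow, map_one] at this
        change U ^ _ = 1 at this
        simp only [pow_succ, pow_zero, one_mul, hU] at this
        have h01 := congrArg (fun z : SpecialLinearGroup (Fin 2) F => (z : Matrix (Fin 2) (Fin 2) F) 0 1) this
        simp [U] at h01
  · haveI : Fact (Nat.Prime 5) := ⟨by norm_num⟩
    have hw : w ^ 2 + w + 1 = 0 := ((card_four_cases hF w).resolve_left hw0).resolve_left hw1
    let T : SpecialLinearGroup (Fin 2) F := ⟨!![0, 1; 1, w], by simp [det_fin_two]; linear_combination -h2⟩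
    refine ⟨SemidirectProduct.inr T, ?_⟩
    rcases orderOf_small (affinePlanes_pow_cases hF k (SemidirectProduct.inr T)) with h | h | h | h | h
    all_goals first
      | exact h
      | (exfalso
         have hp := pow_orderOf_eq_one (SemidirectProduct.inr T : AffinePlanes F k)
         rw [h, ← map_pow] at hp
         have h00 := congrArg (fun z : AffinePlanes F k => (z.right : Matrix (Fin 2) (Fin 2) F) 0 1) hp
         simp only [SemidirectProduct.right_inr, SemidirectProduct.one_right,
           SpecialLinearGroup.coe_pow] at h00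
         simp [T, pow_succ, mul_apply] at h00 <;> first
           | exact hw0 h00
           | exact hw0 (by linear_combination hw - h00)
           | exact one_ne_zero (α := F) (by linear_combination h00 - (w - 1) * hw - w * h2))


end

open Equiv in
set_option maxRecDepth 100000 in
theorem permSix_pow_cases : ∀ g : Perm (Fin 6), Perm.sign g = 1 → g ^ 4 = 1 ∨ g ^ 3 = 1 ∨ g ^ 5 = 1 := by
  decide +kernel

open Equiv in
theorem altSix_spectrum : Set.range (orderOf : alternatingGroup (Fin 6) → ℕ) = {1, 2, 3, 4, 5} := by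
  ext n
  simp only [Set.mem_range, Set.mem_insert_iff, Set.mem_singleton_iff]
  refine ⟨fun ⟨x, hx⟩ => hx ▸ orderOf_small ?_, fun hn => ?_⟩
  · rcases permSix_pow_cases x x.2 with h | h | h
    exacts [Or.inl (Subtype.ext h), Or.inr (Or.inl (Subtype.ext h)), Or.inr (Or.inr (Subtype.ext h))]
  rcases hn with rfl | rfl | rfl | rfl | rfl
  · exact ⟨1, orderOf_one⟩
  · haveI := Fact.mk Nat.prime_two
    exact ⟨⟨swap 0 1 * swap 2 3, Perm.mem_alternatingGroup.mpr (by decide)⟩,
      by rw [← Subgroup.orderOf_coe]; exact orderOf_eq_prime (by decide) (by decide)⟩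
  · haveI := Fact.mk Nat.prime_three
    exact ⟨⟨swap 0 1 * swap 1 2, Perm.mem_alternatingGroup.mpr (by decide)⟩,
      by rw [← Subgroup.orderOf_coe]; exact orderOf_eq_prime (by decide) (by decide)⟩
  · exact ⟨⟨swap 0 1 * swap 1 2 * swap 2 3 * swap 4 5, Perm.mem_alternatingGroup.mpr (by decide)⟩,
      by rw [← Subgroup.orderOf_coe]; exact orderOf_eq_prime_pow (p := 2) (n := 1) (by decide) (by decide)⟩
  · haveI : Fact (Nat.Prime 5) := ⟨by norm_num⟩
    exact ⟨⟨swap 0 1 * swap 1 2 * swap 2 3 * swap 3 4, Perm.mem_alternatingGroup.mpr (by decide)⟩,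
      by rw [← Subgroup.orderOf_coe]; exact orderOf_eq_prime (by decide) (by decide)⟩

end CfsgLib.Recog
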