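import Mathlib
import Cfsg.Agent.Lib.Present.BinIcosahedral

/-!
A simple group of order 360 is isomorphic to the alternating group of degree 6: the action on the
ten Sylow 3-subgroups is pinned down up to a finite check, which yields a subgroup `A₅`.
-/

set_option autoImplicit false

namespace CfsgLib.Recog.ThreeSixty

variable {G : Type*} [Group G] [Finite G] [IsSimpleGroup G]

theorem not_comm (hc : Nat.card G = 360) : ¬ ∀ a b : G, a * b = b * a := by
  intro h
  letI : CommGroup G := { ‹Group G› with mul_comm := h }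
  have := IsSimpleGroup.prime_card (α := G)
  rw [hc] at this
  norm_num at this

theorem card_dvd_index_factorial (H : Subgroup G) (hH : H ≠ ⊤) :
    Nat.card G ∣ H.index.factorial := by
  have hinj : Function.Injective (MulAction.toPermHom G (G ⧸ H)) := by
    rw [← MonoidHom.ker_eq_bot_iff]
    rcases (MulAction.toPermHom G (G ⧸ H)).normal_ker.eq_bot_or_eq_top with h | h
    · exact h
    · exfalso
      refine hH (eq_top_iff.mpr fun g _ => ?_)
      have hg : g ∈ (MulAction.toPermHom G (G ⧸ H)).ker := h ▸ Subgroup.mem_top g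
      have h1 := DFunLike.congr_fun (MonoidHom.mem_ker.mp hg) ((1 : G) : G ⧸ H)
      simp only [MulAction.toPermHom_apply, MulAction.toPerm_apply, Equiv.Perm.one_apply,
        MulAction.Quotient.smul_coe, smul_eq_mul, mul_one] at h1
      exact inv_inv g ▸ inv_mem (by simpa using QuotientGroup.eq.mp h1)
  have h2 := Subgroup.card_dvd_of_injective _ hinj
  rwa [Nat.card_perm, ← Subgroup.index] at h2

theorem six_le_index (hc : Nat.card G = 360) (H : Subgroup G) (hH : H ≠ ⊤) : 6 ≤ H.index := by
  by_contra h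
  have hd := card_dvd_index_factorial H hH
  rw [hc] at hd
  interval_cases H.index <;> norm_num [Nat.factorial] at hd

theorem iso_of_index_six (hc : Nat.card G = 360) (H : Subgroup G) (hH : H.index = 6) :
    Nonempty (G ≃* alternatingGroup (Fin 6)) := by
  classical
  have hne : H ≠ ⊤ := fun h => by rw [h, Subgroup.index_top] at hH; norm_num at hH
  letI := Fintype.ofFinite (G ⧸ H)
  have hcard : Fintype.card (G ⧸ H) = 6 := by rw [← Nat.card_eq_fintype_card, ← Subgroup.index, hH]
  obtain ⟨e⟩ : Nonempty (G ⧸ H ≃ Fin 6) := ⟨Fintype.equivFinOfCardEq hcard⟩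
  let f : G →* Equiv.Perm (Fin 6) := e.permCongrHom.toMonoidHom.comp (MulAction.toPermHom G (G ⧸ H))
  have hinj : Function.Injective f := by
    rw [← MonoidHom.ker_eq_bot_iff]
    rcases f.normal_ker.eq_bot_or_eq_top with h | h
    · exact h
    · exfalso
      refine hne (eq_top_iff.mpr fun g _ => ?_)
      have hg : g ∈ f.ker := h ▸ Subgroup.mem_top g
      have hg' : MulAction.toPermHom G (G ⧸ H) g = 1 :=
        e.permCongrHom.injective (hg.trans (map_one _).symm)
      have h1 := DFunLike.congr_fun hg' ((1 : G) : G ⧸ H)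
      simp only [MulAction.toPermHom_apply, MulAction.toPerm_apply, Equiv.Perm.one_apply,
        MulAction.Quotient.smul_coe, smul_eq_mul, mul_one] at h1
      exact inv_inv g ▸ inv_mem (by simpa using QuotientGroup.eq.mp h1)
  have hidx : f.range.index = 2 := by
    have h := f.range.card_mul_index
    rw [← Nat.card_congr (MonoidHom.ofInjective hinj).toEquiv, hc, Nat.card_perm, Nat.card_fin] at h
    norm_num [Nat.factorial] at h
    omega
  exact ⟨(MonoidHom.ofInjective hinj).trans
    (MulEquiv.subgroupCongr (Equiv.Perm.eq_alternatingGroup_of_index_eq_two hidx))⟩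

theorem no_burnside {p : ℕ} [Fact p.Prime] (P : Sylow p G) (hP1 : (P : Subgroup G) ≠ ⊥)
    (hP2 : (P : Subgroup G) ≠ ⊤) : ¬ Subgroup.normalizer (P : Set G) ≤ Subgroup.centralizer (P : Set G) := by
  intro hle
  have hcompl := MonoidHom.ker_transferSylow_isComplement' P hle
  rcases (MonoidHom.transferSylow P hle).normal_ker.eq_bot_or_eq_top with h | h
  · rw [h, Subgroup.isComplement'_bot_left] at hcompl
    exact hP2 hcompl
  · rw [h, Subgroup.isComplement'_top_left] at hcompl
    exact hP1 hcompl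

theorem sylow_card (hc : Nat.card G = 360) :
    (∀ P : Sylow 2 G, Nat.card P = 8) ∧ ∀ P : Sylow 3 G, Nat.card P = 9 := by
  constructor <;> intro P <;> rw [P.card_eq_multiplicity, hc]
  · rw [show (360 : ℕ) = 2 ^ 3 * 45 by norm_num, Nat.factorization_mul (by norm_num) (by norm_num),
      Finsupp.add_apply, Nat.Prime.factorization_pow Nat.prime_two, Finsupp.single_eq_same,
      Nat.factorization_eq_zero_of_not_dvd (show ¬ 2 ∣ 45 by norm_num)]
    norm_num
  · rw [show (360 : ℕ) = 3 ^ 2 * 40 by norm_num, Nat.factorization_mul (by norm_num) (by norm_num),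
      Finsupp.add_apply, Nat.Prime.factorization_pow Nat.prime_three, Finsupp.single_eq_same,
      Nat.factorization_eq_zero_of_not_dvd (show ¬ 3 ∣ 40 by norm_num)]
    norm_num

theorem three_comm (hc : Nat.card G = 360) (P : Sylow 3 G) :
    (P : Subgroup G) ≤ Subgroup.centralizer (P : Set G) := by
  haveI : IsMulCommutative (P : Subgroup G) :=
    IsPGroup.isMulCommutative_of_card_eq_prime_sq (p := 3) (((sylow_card hc).2 P).trans (by norm_num))
  exact Subgroup.le_centralizer _

theorem three_ne (hc : Nat.card G = 360) (P : Sylow 3 G) :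
    (P : Subgroup G) ≠ ⊥ ∧ (P : Subgroup G) ≠ ⊤ := by
  have h9 := (sylow_card hc).2 P
  exact ⟨fun h => by rw [h, Subgroup.card_bot] at h9; norm_num at h9,
    fun h => by rw [h, Subgroup.card_top, hc] at h9; norm_num at h9⟩

theorem card_sylow_three (hc : Nat.card G = 360) : Nat.card (Sylow 3 G) = 10 := by
  obtain ⟨P⟩ : Nonempty (Sylow 3 G) := inferInstance
  have h9 := (sylow_card hc).2 P
  have hd : Nat.card (Sylow 3 G) ∣ 40 := by
    have hi := (P : Subgroup G).card_mul_index
    rw [h9, hc] at hi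
    exact (show (P : Subgroup G).index = 40 by omega) ▸ P.card_dvd_index
  have hm : Nat.card (Sylow 3 G) % 3 = 1 := card_sylow_modEq_one 3 G
  have hn := P.card_eq_index_normalizer
  have h4 : Subgroup.normalizer (P : Set G) ≠ ⊤ := fun h => by
    have hnP : (P : Subgroup G).Normal := Subgroup.normalizer_eq_top_iff.mp h
    rcases hnP.eq_bot_or_eq_top with h | h
    exacts [(three_ne hc P).1 h, (three_ne hc P).2 h]
  have h6 := six_le_index hc _ h4
  have h40 : Nat.card (Sylow 3 G) ≠ 40 := fun e => by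
    refine no_burnside P (three_ne hc P).1 (three_ne hc P).2 ?_
    have hN : Nat.card (Subgroup.normalizer (P : Set G)) = 9 := by
      have h := (Subgroup.normalizer (P : Set G)).card_mul_index
      rw [← hn, e, hc] at h
      omega
    have : (P : Subgroup G) = Subgroup.normalizer (P : Set G) :=
      Subgroup.eq_of_le_of_card_ge Subgroup.le_normalizer (le_of_eq (hN.trans h9.symm))
    exact this ▸ three_comm hc P
  have hle := Nat.le_of_dvd (by norm_num) hd
  rw [← hn] at h6
  have hmem : Nat.card (Sylow 3 G) ∈ Nat.divisors 40 := Nat.mem_divisors.mpr ⟨hd, by norm_num⟩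
  rw [show Nat.divisors 40 = {1, 2, 4, 5, 8, 10, 20, 40} by decide +kernel] at hmem
  simp only [Finset.mem_insert, Finset.mem_singleton] at hmem
  omega

theorem card_normalizer_three (hc : Nat.card G = 360) (P : Sylow 3 G) :
    Nat.card (Subgroup.normalizer (P : Set G)) = 36 := by
  have h := (Subgroup.normalizer (P : Set G)).card_mul_index
  rw [← P.card_eq_index_normalizer, card_sylow_three hc, hc] at h
  omega

theorem four_dvd_of_normal_two {K : Subgroup G} {V : Subgroup G} (hc : Nat.card G = 360)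
    (hV : Nat.card V = 4) (hK : Nat.card K = 36) (hKV : K ≤ Subgroup.normalizer (V : Set G))
    (hVt : V ≠ ⊥) : False := by
  have hVp : IsPGroup 2 V := IsPGroup.of_card (n := 2) (by rw [hV]; norm_num)
  obtain ⟨S, hS⟩ := hVp.exists_le_sylow
  have h8 := (sylow_card hc).1 S
  have hnS : (V.subgroupOf (S : Subgroup G)).Normal := by
    refine Subgroup.normal_of_index_eq_two ?_
    have h := (V.subgroupOf (S : Subgroup G)).card_mul_index
    rw [Nat.card_congr (Subgroup.subgroupOfEquivOfLe hS).toEquiv, hV, h8] at h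
    omega
  have hSN : (S : Subgroup G) ≤ Subgroup.normalizer (V : Set G) :=
    (Subgroup.normal_subgroupOf_iff_le_normalizer hS).mp hnS
  have h1 := Subgroup.card_dvd_of_le hKV
  have h2 := Subgroup.card_dvd_of_le hSN
  rw [hK] at h1
  rw [h8] at h2
  have h72 : 72 ∣ Nat.card (Subgroup.normalizer (V : Set G)) := by omega
  have h := (Subgroup.normalizer (V : Set G)).card_mul_index
  rw [hc] at h
  have hne : Subgroup.normalizer (V : Set G) ≠ ⊤ := fun e => by
    rcases (Subgroup.normalizer_eq_top_iff.mp e).eq_bot_or_eq_top with e' | e'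
    · exact hVt e'
    · rw [e', Subgroup.card_top, hc] at hV; norm_num at hV
  have h6 := six_le_index hc _ hne
  obtain ⟨k, hk⟩ := h72
  rw [hk] at h
  rcases Nat.eq_zero_or_pos k with rfl | hk0
  · omega
  · nlinarith

/-- The Sylow 3-subgroups intersect trivially. -/
theorem three_ti (hc : Nat.card G = 360) (P Q : Sylow 3 G) (hPQ : P ≠ Q) {x : G}
    (hxP : x ∈ (P : Subgroup G)) (hxQ : x ∈ (Q : Subgroup G)) : x = 1 := by
  by_contra hx
  set C := Subgroup.centralizer ({x} : Set G) with hC
  have hPC : ∀ R : Sylow 3 G, x ∈ (R : Subgroup G) → (R : Subgroup G) ≤ C := by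
    intro R hR y hy
    rw [hC, Subgroup.mem_centralizer_singleton_iff]
    exact (Subgroup.mem_centralizer_iff.mp (three_comm hc R hy) x hR).symm
  have hCt : C ≠ ⊤ := fun h => by
    have : x ∈ Subgroup.center G := Subgroup.mem_center_iff.mpr fun g =>
      Subgroup.mem_centralizer_singleton_iff.mp (show g ∈ C by rw [h]; exact Subgroup.mem_top g)
    rcases (inferInstance : (Subgroup.center G).Normal).eq_bot_or_eq_top with h' | h'
    · rw [h'] at this; exact hx (Subgroup.mem_bot.mp this)
    · exact not_comm hc fun a b => (Subgroup.mem_center_iff.mp (h' ▸ Subgroup.mem_top b) a)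
  have h9 : 9 ∣ Nat.card C := (sylow_card hc).2 P ▸ Subgroup.card_dvd_of_le (hPC P hxP)
  have hCc := C.card_mul_index
  rw [hc] at hCc
  have h6 := six_le_index hc C hCt
  set P' : Sylow 3 C := P.subtype (hPC P hxP) with hP'
  have hne : Q.subtype (hPC Q hxQ) ≠ P' := fun e => hPQ (Sylow.subtype_injective e).symm
  have hn2 : 2 ≤ Nat.card (Sylow 3 C) := Finite.one_lt_card_iff_nontrivial.mpr ⟨⟨_, _, hne⟩⟩
  have hn1 : Nat.card (Sylow 3 C) % 3 = 1 := card_sylow_modEq_one 3 C
  have hcardP' : Nat.card (P' : Subgroup C) = 9 :=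
    (Nat.card_congr (Subgroup.subgroupOfEquivOfLe (hPC P hxP)).toEquiv).trans ((sylow_card hc).2 P)
  obtain ⟨m, hm⟩ := h9
  have hd : Nat.card (Sylow 3 C) ∣ m := by
    have h := (P' : Subgroup C).card_mul_index
    rw [hcardP', hm] at h
    exact (show (P' : Subgroup C).index = m by omega) ▸ P'.card_dvd_index
  have hmi : m * C.index = 40 := by rw [hm, mul_assoc] at hCc; omega
  have hm6 : m ≤ 6 := by nlinarith
  have hm0 : 0 < m := Nat.pos_of_ne_zero fun e => by simp [e] at hmi
  have hn4 : Nat.card (Sylow 3 C) = 4 ∧ m = 4 := by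
    have hnle := Nat.le_of_dvd hm0 hd
    have hmd : m ∣ 40 := ⟨_, hmi.symm⟩
    interval_cases m <;> interval_cases hh : Nat.card (Sylow 3 C) <;> norm_num at *
  have hN : Nat.card (Subgroup.normalizer (P' : Set C)) = 9 := by
    have h := (Subgroup.normalizer (P' : Set C)).card_mul_index
    rw [← P'.card_eq_index_normalizer, hn4.1, hm, hn4.2] at h
    omega
  haveI : IsMulCommutative (P' : Subgroup C) := IsPGroup.isMulCommutative_of_card_eq_prime_sq (p := 3) (hcardP'.trans (by norm_num))
  have hle : Subgroup.normalizer (P' : Set C) ≤ Subgroup.centralizer (P' : Set C) := by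
    have : (P' : Subgroup C) = Subgroup.normalizer (P' : Set C) :=
      Subgroup.eq_of_le_of_card_ge Subgroup.le_normalizer (le_of_eq (hN.trans hcardP'.symm))
    exact this ▸ Subgroup.le_centralizer (P' : Subgroup C)
  have hcompl := MonoidHom.ker_transferSylow_isComplement' P' hle
  set W := (MonoidHom.transferSylow P' hle).ker
  have hW : Nat.card W = 4 := by
    have h := hcompl.card_mul
    rw [hcardP', hm, hn4.2] at h
    omega
  set V := W.map C.subtype with hVdef
  have hV : Nat.card V = 4 := (Subgroup.card_map_of_injective C.subtype_injective).trans hW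
  refine four_dvd_of_normal_two (K := C) hc hV (by rw [hm, hn4.2]) ?_
    (fun e => by rw [e, Subgroup.card_bot] at hV; norm_num at hV)
  have h := Subgroup.le_normalizer_map C.subtype (H := W)
  rw [Subgroup.normalizer_eq_top_iff.mpr (inferInstance : W.Normal), ← MonoidHom.range_eq_map,
    Subgroup.range_subtype] at h
  exact h

/-- Points: `none` and the plane over the field with three elements. -/
abbrev Pt := Option (ZMod 3 × ZMod 3)

/-- Translations. -/
def trans (c : ZMod 3 × ZMod 3) : Equiv.Perm Pt := Equiv.optionCongr (Equiv.addLeft c)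

/-- A quarter turn of the plane. -/
def rot : Equiv.Perm (ZMod 3 × ZMod 3) :=
  ⟨fun z => (-z.2, z.1), fun z => (z.2, -z.1), fun z => by simp, fun z => by simp⟩

/-- A quarter turn fixing the point `none`. -/
def turn : Equiv.Perm Pt := Equiv.optionCongr rot

theorem sq_val : ∀ b : ZMod 3, b ≠ 0 → b.val * b.val % 3 = 1 := by decide

theorem pair_eq : ∀ z : ZMod 3 × ZMod 3,
    z = z.1.val • ((1 : ZMod 3), (0 : ZMod 3)) + z.2.val • ((0 : ZMod 3), (1 : ZMod 3)) := by decide

/-- The candidates for an element swapping `none` and the origin and normalising `turn`. -/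
def swapFun (e : Bool) (a b : ZMod 3 × ZMod 3) : Pt → Pt
  | none => some (0, 0)
  | some z =>
    let r : Equiv.Perm (ZMod 3 × ZMod 3) := if e then rot else rot.symm
    if z = (1, 0) then some a else if z = (0, 1) then some (r a) else if z = (2, 0) then some (r (r a))
    else if z = (0, 2) then some (r (r (r a))) else if z = (1, 1) then some b
    else if z = (2, 1) then some (r b) else if z = (2, 2) then some (r (r b))
    else if z = (1, 2) then some (r (r (r b))) else none

/-- The candidate as a permutation. -/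
def swapPerm (e : Bool) (a b : ZMod 3 × ZMod 3) : Equiv.Perm Pt :=
  if h : Function.Bijective (swapFun e a b) then
    ⟨swapFun e a b, Fintype.bijInv h, Fintype.leftInverse_bijInv h, Fintype.rightInverse_bijInv h⟩
  else 1

set_option synthInstance.maxHeartbeats 400000 in
set_option synthInstance.maxSize 4000 in
theorem swap_check : ∀ (e : Bool) (a b : ZMod 3 × ZMod 3),
    Function.Bijective (swapFun e a b) → Equiv.Perm.sign (swapPerm e a b) = 1 →
    (∃ k : Fin 4, swapPerm e a b * swapPerm e a b = turn ^ k.val) →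
    (∃ (c : ZMod 3 × ZMod 3) (m : Fin 4), c ≠ 0 ∧
      (swapPerm e a b * turn ^ m.val) * (swapPerm e a b * turn ^ m.val) = 1 ∧
      (trans c * (swapPerm e a b * turn ^ m.val)) ^ 5 = 1) ∨
    (∃ c : ZMod 3 × ZMod 3, (trans c * swapPerm e a b) ^ 60 ≠ 1) := by
  decide +kernel

theorem no_element_eight (hc : Nat.card G = 360) (z : G) : orderOf z ≠ 8 := by
  intro hz
  have hcz : Nat.card (Subgroup.zpowers z) = 8 := by rw [Nat.card_zpowers, hz]
  obtain ⟨S, hS⟩ := (IsPGroup.of_card (p := 2) (n := 3) (by rw [hcz]; norm_num) :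
    IsPGroup 2 (Subgroup.zpowers z)).exists_le_sylow
  have h8 := (sylow_card hc).1 S
  have hSz : Subgroup.zpowers z = (S : Subgroup G) :=
    Subgroup.eq_of_le_of_card_ge hS (le_of_eq (h8.trans hcz.symm))
  have hcyc : IsCyclic (S : Subgroup G) := hSz ▸ Subgroup.isCyclic_zpowers z
  refine no_burnside S (fun h => ?_) (fun h => ?_)
    (IsCyclic.normalizer_le_centralizer (p := 2) (by rw [hc]; norm_num) hcyc)
  · rw [h, Subgroup.card_bot] at h8; norm_num at h8
  · rw [h, Subgroup.card_top, hc] at h8; norm_num at h8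

theorem sign_eq_one (hc : Nat.card G = 360) {α : Type*} [DecidableEq α] [Fintype α]
    (ρ : G →* Equiv.Perm α) (g : G) : Equiv.Perm.sign (ρ g) = 1 := by
  rcases (Equiv.Perm.sign.comp ρ).normal_ker.eq_bot_or_eq_top with h | h
  · exfalso
    refine not_comm hc fun a b => (MonoidHom.ker_eq_bot_iff _).mp h ?_
    rw [map_mul, map_mul, mul_comm]
  · exact MonoidHom.mem_ker.mp (show g ∈ (Equiv.Perm.sign.comp ρ).ker by rw [h]; exact Subgroup.mem_top g)

theorem exists_index_six_of_triangle (hc : Nat.card G = 360) (X Y : G) (hX : X ^ 3 = 1) (hX1 : X ≠ 1)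
    (hY : Y ^ 5 = 1) (hY1 : Y ≠ 1) (hXY : (X * Y) ^ 2 = 1) (hXY1 : X * Y ≠ 1) :
    ∃ K : Subgroup G, K.index = 6 := by
  set K := Subgroup.closure ({X, Y} : Set G) with hK
  have mX : X ∈ K := Subgroup.subset_closure (Set.mem_insert X {Y})
  have mY : Y ∈ K := Subgroup.subset_closure (Set.mem_insert_of_mem X (Set.mem_singleton Y))
  set X' : K := ⟨X, mX⟩ with hX'
  set Y' : K := ⟨Y, mY⟩ with hY'
  have eX : X' ^ 3 = 1 := Subtype.ext hX
  have eY : Y' ^ 5 = 1 := Subtype.ext hY
  have eXY : (X' * Y') ^ 2 = 1 := Subtype.ext hXY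
  have hgen : Subgroup.closure ({X', Y'} : Set K) = ⊤ := by
    refine Eq.trans ?_ (Subgroup.closure_closure_coe_preimage (k := ({X, Y} : Set G)))
    refine congrArg Subgroup.closure (Set.ext fun z => ?_)
    simp [hX', hY', Subtype.ext_iff]
  have hle := (CfsgLib.Present.icosahedral_card_le X' Y' eX eY eXY hgen).2
  have h2 : 2 ∣ Nat.card K := (orderOf_eq_prime hXY hXY1) ▸
    (Subgroup.orderOf_mk (H := K) (X * Y) (mul_mem mX mY)) ▸ orderOf_dvd_natCard (G := K) _
  have h3 : 3 ∣ Nat.card K := (orderOf_eq_prime hX hX1) ▸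
    (Subgroup.orderOf_mk (H := K) X mX) ▸ orderOf_dvd_natCard (G := K) _
  haveI := Fact.mk Nat.prime_five
  have h5 : 5 ∣ Nat.card K := (orderOf_eq_prime hY hY1) ▸
    (Subgroup.orderOf_mk (H := K) Y mY) ▸ orderOf_dvd_natCard (G := K) _
  have hpos : 0 < Nat.card K := Nat.card_pos
  have hns : ¬ Group.IsSolvable K := by
    intro hs
    haveI : Nontrivial K := ⟨⟨X', 1, fun e => hX1 (congrArg Subtype.val e)⟩⟩
    refine (Group.IsSolvable.commutator_lt_top_of_nontrivial (G := K)).ne ?_
    rw [eq_top_iff, ← hgen, Subgroup.closure_le, ← Abelianization.ker_of (G := K)]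
    set a := Abelianization.of X'
    set b := Abelianization.of Y'
    have ea : a ^ 3 = 1 := by rw [← map_pow, eX, map_one]
    have eb : b ^ 5 = 1 := by rw [← map_pow, eY, map_one]
    have eab : a ^ 2 * b ^ 2 = 1 := by rw [← mul_pow, ← map_mul, ← map_pow, eXY, map_one]
    have ha1 : a = 1 := by
      have h10 : (a ^ 2 * b ^ 2) ^ 5 = 1 := by rw [eab, one_pow]
      rw [mul_pow, ← pow_mul, ← pow_mul, show 2 * 5 = 3 * 3 + 1 by norm_num, pow_succ a, pow_mul, ea,
        one_pow, one_mul, show 3 * 3 + 1 = 5 * 2 by norm_num, pow_mul, eb, one_pow, mul_one] at h10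
      exact h10
    have hb1 : b = 1 := by
      rw [ha1, one_pow, one_mul] at eab
      calc b = b ^ 5 * (b ^ 2)⁻¹ * (b ^ 2)⁻¹ := by group
        _ = 1 := by rw [eb, eab]; simp
    rintro z (rfl | rfl)
    · exact MonoidHom.mem_ker.mpr ha1
    · exact MonoidHom.mem_ker.mpr hb1
  have h30 : 30 ∣ Nat.card K := by omega
  have h60 : Nat.card K = 60 := by
    by_contra hne
    refine hns (CfsgLib.Present.isSolvable_of_card_dvd_sixty ?_ hne)
    have : Nat.card K = 30 := by omega
    rw [this]
    norm_num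
  refine ⟨K, ?_⟩
  have h := K.card_mul_index
  rw [h60, hc] at h
  omega

/-- A simple group of order 360 is isomorphic to the alternating group of degree 6. -/
theorem iso_alternating_six (hc : Nat.card G = 360) : Nonempty (G ≃* alternatingGroup (Fin 6)) := by
  classical
  suffices h : ∃ X Y : G, X ^ 3 = 1 ∧ X ≠ 1 ∧ Y ^ 5 = 1 ∧ Y ≠ 1 ∧ (X * Y) ^ 2 = 1 ∧ X * Y ≠ 1 by
    obtain ⟨X, Y, a, b, c, d, e, f⟩ := h
    obtain ⟨K, hK⟩ := exists_index_six_of_triangle hc X Y a b c d e f
    exact iso_of_index_six hc K hK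
  have hn3 := card_sylow_three hc
  haveI : Nontrivial (Sylow 3 G) := Finite.one_lt_card_iff_nontrivial.mp (by omega)
  obtain ⟨P, Q0, hPQ⟩ := exists_pair_ne (Sylow 3 G)
  have hP9 := (sylow_card hc).2 P
  have hcomm : ∀ {a b : G}, a ∈ (P : Subgroup G) → b ∈ (P : Subgroup G) → a * b = b * a :=
    fun {a b} ha hb => Subgroup.mem_centralizer_iff.mp (three_comm hc P hb) a ha
  have hPP : ∀ p ∈ (P : Subgroup G), p • P = P := fun p hp =>
    Sylow.smul_eq_iff_mem_normalizer.mpr (Subgroup.le_normalizer hp)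
  have hreg : ∀ p ∈ (P : Subgroup G), ∀ Q : Sylow 3 G, Q ≠ P → p • Q = Q → p = 1 := by
    intro p hp Q hQ hpQ
    have hpN := Sylow.smul_eq_iff_mem_normalizer.mp hpQ
    have hz : IsPGroup 3 (Subgroup.zpowers p) := P.2.to_le (Subgroup.zpowers_le.mpr hp)
    have hsup := hz.to_sup_of_normal_right' Q.2 (Subgroup.zpowers_le.mpr hpN)
    have : p ∈ (Q : Subgroup G) := Q.3 hsup le_sup_right ▸
      le_sup_left (b := (Q : Subgroup G)) (Subgroup.mem_zpowers p)
    exact three_ti hc P Q hQ.symm hp this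
  have hinjP : ∀ p ∈ (P : Subgroup G), ∀ q ∈ (P : Subgroup G), p • Q0 = q • Q0 → p = q := by
    intro p hp q hq h
    have h1 : (q⁻¹ * p) • Q0 = Q0 := by rw [mul_smul, h, inv_smul_smul]
    exact (inv_mul_eq_one.mp (hreg _ (mul_mem (inv_mem hq) hp) Q0 hPQ.symm h1)).symm
  have hsurjP : ∀ Q : Sylow 3 G, Q ≠ P → ∃ p ∈ (P : Subgroup G), p • Q0 = Q := by
    let f : ↥(P : Subgroup G) → {Q : Sylow 3 G // Q ≠ P} := fun p => ⟨(p : G) • Q0, fun e =>
      hPQ.symm (by rwa [smul_eq_iff_eq_inv_smul, hPP _ (inv_mem p.2)] at e)⟩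
    have hf : Function.Injective f := fun a b h => Subtype.ext (hinjP _ a.2 _ b.2 (congrArg Subtype.val h))
    have hcard : Nat.card {Q : Sylow 3 G // Q ≠ P} ≤ Nat.card (P : Subgroup G) := by
      letI := Fintype.ofFinite (Sylow 3 G)
      rw [hP9, Nat.card_eq_fintype_card, Fintype.card_subtype_compl, Fintype.card_subtype_eq,
        ← Nat.card_eq_fintype_card, hn3]
    intro Q hQ
    obtain ⟨p, hp⟩ := (hf.bijective_of_nat_card_le hcard).2 ⟨Q, hQ⟩
    exact ⟨p, p.2, congrArg Subtype.val hp⟩
  -- conjugation by the two-point stabiliser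
  have hconj : ∀ {h : G}, h • P = P → ∀ {p : G}, p ∈ (P : Subgroup G) → h * p * h⁻¹ ∈ (P : Subgroup G) := by
    intro h hh p hp
    exact (Subgroup.mem_normalizer_iff.mp (Sylow.smul_eq_iff_mem_normalizer.mp hh) p).mp hp
  set H : Subgroup G := MulAction.stabilizer G P ⊓ MulAction.stabilizer G Q0 with hH
  have hmemH : ∀ {h : G}, h ∈ H ↔ h • P = P ∧ h • Q0 = Q0 := by simp [hH, Subgroup.mem_inf]
  have hHcard : Nat.card H = 4 := by
    let f : ↥(P : Subgroup G) × H → MulAction.stabilizer G P := fun x => ⟨(x.1 : G) * x.2, by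
      rw [MulAction.mem_stabilizer_iff, mul_smul, (hmemH.mp x.2.2).1, hPP _ x.1.2]⟩
    have hf : Function.Bijective f := by
      constructor
      · intro x y hxy
        have h := congrArg Subtype.val hxy
        have h1 := congrArg (fun g : G => g • Q0) h
        simp only [f, mul_smul, (hmemH.mp x.2.2).2, (hmemH.mp y.2.2).2] at h1
        have e1 := hinjP _ x.1.2 _ y.1.2 h1
        simp only [f, e1] at h
        exact Prod.ext (Subtype.ext e1) (Subtype.ext (mul_left_cancel h))
      · rintro ⟨n, hn⟩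
        have hn' : n • P = P := hn
        have hne : n • Q0 ≠ P := fun e => hPQ.symm (MulAction.injective n (e.trans hn'.symm))
        obtain ⟨p, hp, hpe⟩ := hsurjP _ hne
        refine ⟨(⟨p, hp⟩, ⟨p⁻¹ * n, hmemH.mpr ⟨?_, ?_⟩⟩), Subtype.ext (mul_inv_cancel_left p n)⟩
        · rw [mul_smul, hn', hPP _ (inv_mem hp)]
        · rw [mul_smul, ← hpe, inv_smul_smul]
    have h := Nat.card_congr (Equiv.ofBijective f hf)
    rw [Nat.card_prod, hP9, Sylow.stabilizer_eq_normalizer, card_normalizer_three hc P] at h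
    omega
  have hfaith : ∀ h ∈ H, (∀ p ∈ (P : Subgroup G), h * p = p * h) → h = 1 := by
    intro h hh hcen
    have hfix : ∀ Q : Sylow 3 G, h • Q = Q := by
      intro Q
      by_cases hQ : Q = P
      · exact hQ ▸ (hmemH.mp hh).1
      · obtain ⟨p, hp, rfl⟩ := hsurjP Q hQ
        rw [smul_smul, hcen p hp, mul_smul, (hmemH.mp hh).2]
    rcases (MulAction.toPermHom G (Sylow 3 G)).normal_ker.eq_bot_or_eq_top with hk | hk
    · exact (MonoidHom.ker_eq_bot_iff _).mp hk ((Equiv.ext hfix).trans (map_one _).symm)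
    · exfalso
      obtain ⟨g, hg⟩ := MulAction.exists_smul_eq G P Q0
      have := DFunLike.congr_fun (MonoidHom.mem_ker.mp (hk ▸ Subgroup.mem_top g)) P
      exact hPQ (this.symm.trans hg)
  have hexp : ∀ p ∈ (P : Subgroup G), p ^ 3 = 1 := by
    intro p hp
    by_contra h3
    have h9 : orderOf p = 3 ^ 2 := orderOf_eq_prime_pow (n := 1) (by rwa [pow_one]) (by
      rw [show 3 ^ (1 + 1) = 9 by norm_num, ← hP9]
      exact orderOf_dvd_iff_pow_eq_one.mp (Subgroup.orderOf_dvd_natCard _ hp))
    have hgenP : Subgroup.zpowers p = (P : Subgroup G) :=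
      Subgroup.eq_of_le_of_card_ge (Subgroup.zpowers_le.mpr hp) (by rw [Nat.card_zpowers, h9, hP9]; norm_num)
    have hall : ∀ {h : G}, h • P = P → ∃ k : ℤ, h * p * h⁻¹ = p ^ k := by
      intro h hh
      have := hconj hh hp
      rw [← hgenP] at this
      obtain ⟨k, hk⟩ := Subgroup.mem_zpowers_iff.mp this
      exact ⟨k, hk.symm⟩
    have hcen : ∀ {h : G}, h * p = p * h → ∀ q ∈ (P : Subgroup G), h * q = q * h := by
      intro h hh q hq
      rw [← hgenP] at hq
      obtain ⟨k, rfl⟩ := Subgroup.mem_zpowers_iff.mp hq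
      exact ((show Commute h p from hh).zpow_right k).eq
    have hiter : ∀ {h : G} {k : ℤ}, h * p * h⁻¹ = p ^ k → ∀ j : ℕ, h ^ j * p * (h ^ j)⁻¹ = p ^ k ^ j := by
      intro h k hk j
      induction j with
      | zero => simp
      | succ j ih =>
        rw [pow_succ' h, pow_succ k, zpow_mul, ← ih]
        rw [show h * h ^ j * p * (h * h ^ j)⁻¹ = h * (h ^ j * p * (h ^ j)⁻¹) * h⁻¹ by group, ih,
          ← MulAut.conj_apply, map_zpow, MulAut.conj_apply, hk, ← zpow_mul, ← zpow_mul, mul_comm]
    have hcast : ∀ m : ℤ, p ^ m = p → (m : ZMod 9) = 1 := by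
      intro m hm
      have h1 : (orderOf p : ℤ) ∣ m - 1 := orderOf_dvd_iff_zpow_eq_one.mpr
        (by rw [zpow_sub, hm, zpow_one, mul_inv_cancel])
      rw [h9] at h1
      have := (ZMod.intCast_zmod_eq_zero_iff_dvd (m - 1) 9).mpr (by exact_mod_cast h1)
      push_cast at this
      exact sub_eq_zero.mp this
    have hsq : ∀ h ∈ H, h * h = 1 := by
      intro h hh
      obtain ⟨k, hk⟩ := hall (hmemH.mp hh).1
      have h4 : h ^ 4 = 1 := by
        have := pow_card_eq_one' (G := H) (x := ⟨h, hh⟩)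
        rw [hHcard] at this
        exact congrArg Subtype.val this
      have h4' := hiter hk 4
      rw [h4, one_mul, inv_one, mul_one] at h4'
      have hz4 := hcast _ h4'.symm
      push_cast at hz4
      have hz2 : ((k : ZMod 9)) ^ 2 = 1 := (by decide : ∀ z : ZMod 9, z ^ 4 = 1 → z ^ 2 = 1) _ hz4
      refine hfaith _ (mul_mem hh hh) (hcen ?_)
      have h2 := hiter hk 2
      have hk2 : p ^ (k ^ 2) = p := by
        conv_rhs => rw [← zpow_one p]
        rw [zpow_eq_zpow_iff_modEq, h9, ← ZMod.intCast_eq_intCast_iff]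
        push_cast
        exact hz2
      rw [hk2, pow_two] at h2
      exact mul_inv_eq_iff_eq_mul.mp h2
    have hinv : ∀ h ∈ H, h ≠ 1 → h * p * h⁻¹ = p⁻¹ := by
      intro h hh h1
      obtain ⟨k, hk⟩ := hall (hmemH.mp hh).1
      have h2 := hiter hk 2
      rw [pow_two, hsq h hh, one_mul, inv_one, mul_one] at h2
      have hz := hcast _ h2.symm
      push_cast at hz
      rcases (by decide : ∀ z : ZMod 9, z ^ 2 = 1 → z = 1 ∨ z = -1) _ hz with e | e
      · exfalso
        refine h1 (hfaith h hh (hcen ?_))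
        have : p ^ k = p := by
          conv_rhs => rw [← zpow_one p]
          rw [zpow_eq_zpow_iff_modEq, h9, ← ZMod.intCast_eq_intCast_iff]
          push_cast
          exact e
        exact mul_inv_eq_iff_eq_mul.mp (hk.trans this)
      · rw [hk, ← zpow_neg_one, zpow_eq_zpow_iff_modEq, h9, ← ZMod.intCast_eq_intCast_iff]
        push_cast
        exact e
    haveI : Nontrivial H := Finite.one_lt_card_iff_nontrivial.mp (by omega)
    obtain ⟨s, hs⟩ := exists_ne (1 : H)
    have hall2 : ∀ t : H, t = 1 ∨ t = s := by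
      intro t
      by_cases ht : t = 1
      · exact Or.inl ht
      · right
        have hts := hfaith _ (mul_mem t.2 s.2) (hcen (mul_inv_eq_iff_eq_mul.mp (show
          (t : G) * s * p * ((t : G) * s)⁻¹ = p by
          rw [show (t : G) * s * p * ((t : G) * s)⁻¹ = t * ((s : G) * p * (s : G)⁻¹) * (t : G)⁻¹ by group,
            hinv s s.2 (fun e => hs (Subtype.ext e)),
            show (t : G) * p⁻¹ * (t : G)⁻¹ = ((t : G) * p * (t : G)⁻¹)⁻¹ by group,
            hinv t t.2 (fun e => ht (Subtype.ext e)), inv_inv])))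
        exact Subtype.ext ((mul_eq_one_iff_eq_inv.mp hts).trans (inv_eq_of_mul_eq_one_right (hsq s s.2)))
    have : Nat.card H ≤ 2 := by
      refine (Nat.card_le_card_of_surjective (fun i : Fin 2 => if i = 0 then (1 : H) else s) fun t => ?_).trans
        (by simp)
      rcases hall2 t with h | h
      · exact ⟨0, by simp [h]⟩
      · exact ⟨1, by simp [h]⟩
    omega
  -- coordinates
  have hcoord : ∀ v ∈ (P : Subgroup G), ∀ u ∈ (P : Subgroup G), v ≠ 1 → u ∉ Subgroup.zpowers v →
      ∃ (ψ : ZMod 3 × ZMod 3 → G) (ρ : G →* Equiv.Perm Pt) (e : Pt ≃ Sylow 3 G),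
        Function.Injective ψ ∧ (∀ z, ψ z ∈ (P : Subgroup G)) ∧ ψ (1, 0) = v ∧ ψ (0, 1) = u ∧
        (∀ z z', ψ (z + z') = ψ z * ψ z') ∧ e none = P ∧ (∀ z, e (some z) = ψ z • Q0) ∧
        (∀ g q, e (ρ g q) = g • e q) ∧ Function.Injective ρ := by
    intro v hv u hu hv1 hu1
    let ψ : ZMod 3 × ZMod 3 → G := fun z => v ^ z.1.val * u ^ z.2.val
    have hψP : ∀ z, ψ z ∈ (P : Subgroup G) := fun z => mul_mem (pow_mem hv _) (pow_mem hu _)
    have hadd : ∀ x : G, x ^ 3 = 1 → ∀ a b : ZMod 3, x ^ (a + b).val = x ^ a.val * x ^ b.val := by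
      intro x hx a b
      rw [← pow_add, ZMod.val_add]
      exact (pow_eq_pow_mod (a.val + b.val) hx).symm
    have hψadd : ∀ z z', ψ (z + z') = ψ z * ψ z' := by
      intro z z'
      simp only [ψ, Prod.fst_add, Prod.snd_add, hadd v (hexp v hv), hadd u (hexp u hu)]
      have hvu : Commute (v ^ z'.1.val) (u ^ z.2.val) := (show Commute v u from hcomm hv hu).pow_pow _ _
      rw [mul_assoc, ← mul_assoc (v ^ z'.1.val), hvu.eq]
      group
    have hψ0 : ∀ z, ψ z = 1 → z = 0 := by
      rintro ⟨a, b⟩ h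
      have hb : b = 0 := by
        by_contra hb
        refine hu1 ?_
        have h1 : u ^ b.val ∈ Subgroup.zpowers v := by
          rw [show u ^ b.val = (v ^ a.val)⁻¹ from eq_inv_of_mul_eq_one_right h]
          exact inv_mem (pow_mem (Subgroup.mem_zpowers v) _)
        have h2 := pow_mem h1 b.val
        rw [← pow_mul, pow_eq_pow_mod _ (hexp u hu),
          sq_val b hb, pow_one] at h2
        exact h2
      subst hb
      simp only [ψ, ZMod.val_zero, pow_zero, mul_one] at h
      have ha : a = 0 := by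
        by_contra ha
        refine hv1 ?_
        have h2 : (v ^ a.val) ^ a.val = 1 := by rw [h, one_pow]
        rw [← pow_mul, pow_eq_pow_mod _ (hexp v hv),
          sq_val a ha, pow_one] at h2
        exact h2
      subst ha
      rfl
    have hψi : Function.Injective ψ := by
      intro z z' h
      refine sub_eq_zero.mp (hψ0 _ ?_)
      have h1 := hψadd (z - z') z'
      rw [sub_add_cancel, h] at h1
      exact mul_eq_right.mp h1.symm
    let f : Pt → Sylow 3 G := fun o => o.elim P fun z => ψ z • Q0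
    have hfi : Function.Injective f := by
      intro o o' h
      have hne : ∀ z, ψ z • Q0 ≠ P := fun z e =>
        hPQ.symm (by rwa [smul_eq_iff_eq_inv_smul, hPP _ (inv_mem (hψP z))] at e)
      rcases o with _ | z <;> rcases o' with _ | z'
      · rfl
      · exact absurd h.symm (hne z')
      · exact absurd h (hne z)
      · exact congrArg some (hψi (hinjP _ (hψP z) _ (hψP z') h))
    have hfb : Function.Bijective f := hfi.bijective_of_nat_card_le (by
      rw [hn3, Nat.card_eq_fintype_card]; simp)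
    let e : Pt ≃ Sylow 3 G := Equiv.ofBijective f hfb
    refine ⟨ψ, e.symm.permCongrHom.toMonoidHom.comp (MulAction.toPermHom G (Sylow 3 G)), e, hψi, hψP,
      ?_, ?_, hψadd, rfl, fun z => rfl, fun g q => e.apply_symm_apply _, ?_⟩
    · show v ^ (1 : ZMod 3).val * u ^ (0 : ZMod 3).val = v
      simp [ZMod.val_one]
    · show v ^ (0 : ZMod 3).val * u ^ (1 : ZMod 3).val = u
      simp [ZMod.val_one]
    · rw [MonoidHom.coe_comp]
      refine e.symm.permCongrHom.injective.comp ?_
      rw [← MonoidHom.ker_eq_bot_iff]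
      rcases (MulAction.toPermHom G (Sylow 3 G)).normal_ker.eq_bot_or_eq_top with hk | hk
      · exact hk
      · exfalso
        obtain ⟨g, hg⟩ := MulAction.exists_smul_eq G P Q0
        have := DFunLike.congr_fun (MonoidHom.mem_ker.mp (hk ▸ Subgroup.mem_top g)) P
        exact hPQ (this.symm.trans hg)
  have hlin : ∀ (ψ : ZMod 3 × ZMod 3 → G), (∀ z z', ψ (z + z') = ψ z * ψ z') →
      ∀ (h : G) (φ : ZMod 3 × ZMod 3 →+ ZMod 3 × ZMod 3), h * ψ (1, 0) * h⁻¹ = ψ (φ (1, 0)) →
      h * ψ (0, 1) * h⁻¹ = ψ (φ (0, 1)) → ∀ z, h * ψ z * h⁻¹ = ψ (φ z) := by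
    intro ψ hadd h φ h1 h2 z
    let Ψ : Multiplicative (ZMod 3 × ZMod 3) →* G :=
      MonoidHom.mk' (fun z => ψ z.toAdd) fun a b => hadd _ _
    have hpow : ∀ (n : ℕ) z, ψ (n • z) = ψ z ^ n := fun n z => map_pow Ψ (Multiplicative.ofAdd z) n
    have hz : z = z.1.val • ((1 : ZMod 3), (0 : ZMod 3)) + z.2.val • ((0 : ZMod 3), (1 : ZMod 3)) :=
      pair_eq z
    rw [hz, map_add, map_nsmul, map_nsmul, hadd, hadd, hpow, hpow, hpow, hpow,
      ← MulAut.conj_apply, map_mul, map_pow, map_pow, MulAut.conj_apply, MulAut.conj_apply, h1, h2]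
  -- every involution of `H` inverts `P`
  have hinvH : ∀ s ∈ H, s * s = 1 → s ≠ 1 → ∀ p ∈ (P : Subgroup G), s * p * s⁻¹ = p⁻¹ := by
    intro s hs hs2 hs1 p hp
    have hfpf : ∀ x ∈ (P : Subgroup G), s * x = x * s → x = 1 := by
      intro x hx hsx
      by_contra hx1
      have hxy : ∃ y ∈ (P : Subgroup G), y ∉ Subgroup.zpowers x := by
        by_contra hcon
        push Not at hcon
        have h := Subgroup.card_dvd_of_le (show (P : Subgroup G) ≤ Subgroup.zpowers x from hcon)
        rw [hP9, Nat.card_zpowers] at h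
        have := Nat.le_of_dvd (by norm_num) (orderOf_dvd_iff_pow_eq_one.mpr (hexp x hx))
        have := Nat.le_of_dvd (orderOf_pos x) h
        omega
      obtain ⟨y, hy, hyx⟩ := hxy
      have hsy := hconj (hmemH.mp hs).1 hy
      set u := y * (s * y * s⁻¹)⁻¹ with hu
      have huP : u ∈ (P : Subgroup G) := mul_mem hy (inv_mem hsy)
      have hsinv : s⁻¹ = s := inv_eq_of_mul_eq_one_right hs2
      have hsu : s * u * s⁻¹ = u⁻¹ := by
        rw [hu]
        conv_rhs => rw [mul_inv_rev, inv_inv]
        rw [show s * (y * (s * y * s⁻¹)⁻¹) * s⁻¹ = (s * y * s⁻¹) * ((s * s) * y⁻¹ * (s * s)⁻¹) by group,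
          hs2, one_mul, inv_one, mul_one]
      have hu1 : u ∉ Subgroup.zpowers x := by
        intro hux
        obtain ⟨k, hk⟩ := Subgroup.mem_zpowers_iff.mp hux
        have hsu2 : s * u * s⁻¹ = u := by
          rw [← hk, ((show Commute s x from hsx).zpow_right k).eq, mul_inv_cancel_right]
        have huu : u * u = 1 := by
          nth_rewrite 1 [← hsu2]
          rw [hsu, inv_mul_cancel]
        have h3 : u = 1 := by
          have h3 := hexp u huP
          rw [pow_succ, pow_two, huu, one_mul] at h3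
          exact h3
        rw [hu, mul_inv_eq_one] at h3
        refine hs1 (hfaith s hs fun q hq => ?_)
        obtain ⟨ψ, ρ, e, hψi, hψP, e10, e01, hadd, -, -, -, -⟩ := hcoord x hx y hy hx1 hyx
        let f : ZMod 3 × ZMod 3 → ↥(P : Subgroup G) := fun z => ⟨ψ z, hψP z⟩
        have hf : Function.Bijective f := Function.Injective.bijective_of_nat_card_le
          (fun a b h => hψi (congrArg Subtype.val h)) (by rw [hP9, Nat.card_eq_fintype_card]; simp)
        obtain ⟨z, hz⟩ := hf.2 ⟨q, hq⟩
        have hz' : ψ z = q := congrArg Subtype.val hz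
        have := hlin ψ hadd s (AddMonoidHom.id _)
          (by rw [AddMonoidHom.id_apply, e10]; exact mul_inv_eq_iff_eq_mul.mpr hsx)
          (by rw [AddMonoidHom.id_apply, e01]; exact h3.symm) z
        rw [AddMonoidHom.id_apply, hz'] at this
        exact mul_inv_eq_iff_eq_mul.mp this
      obtain ⟨ψ, ρ, e, hψi, hψP, e10, e01, hadd, he0, hes, hρ, -⟩ := hcoord x hx u huP hx1 hu1
      let φ : ZMod 3 × ZMod 3 →+ ZMod 3 × ZMod 3 :=
        AddMonoidHom.mk' (fun z => (z.1, -z.2)) (by decide)
      have hφ : ∀ z, s * ψ z * s⁻¹ = ψ (φ z) := hlin ψ hadd s φ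
        (by rw [show φ (1, 0) = (1, 0) by decide, e10]; exact mul_inv_eq_iff_eq_mul.mpr hsx)
        (by
          rw [show φ (0, 1) = (0, 1) + (0, 1) by decide, hadd, e01, hsu]
          refine inv_eq_of_mul_eq_one_right ?_
          rw [← mul_assoc, ← pow_three', hexp u huP])
      let r : Equiv.Perm (ZMod 3 × ZMod 3) :=
        ⟨fun z => (z.1, -z.2), fun z => (z.1, -z.2), fun z => by simp, fun z => by simp⟩
      have hs' : ρ s = Equiv.optionCongr r := by
        refine Equiv.ext fun q => e.injective ?_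
        rw [hρ]
        rcases q with _ | z
        · simp [he0, (hmemH.mp hs).1]
        · rw [hes, show (Equiv.optionCongr r) (some z) = some (φ z) from rfl, hes, ← hφ, mul_smul,
            mul_smul, show s⁻¹ • Q0 = Q0 from inv_smul_eq_iff.mpr (hmemH.mp hs).2.symm]
      have h1 := sign_eq_one hc ρ s
      rw [hs'] at h1
      revert h1
      show Equiv.Perm.sign (Equiv.optionCongr r : Equiv.Perm Pt) ≠ 1
      decide +kernel
    have hsp := hconj (hmemH.mp hs).1 hp
    have hsinv : s⁻¹ = s := inv_eq_of_mul_eq_one_right hs2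
    refine eq_inv_of_mul_eq_one_left ?_
    refine hfpf _ (mul_mem hsp hp) ?_
    calc s * (s * p * s⁻¹ * p) = (s * s) * p * s⁻¹ * p := by group
      _ = p * (s * p) := by rw [hs2, hsinv, one_mul, mul_assoc]
      _ = p * (s * p * s⁻¹) * s := by group
      _ = s * p * s⁻¹ * p * s := by rw [hcomm hp hsp]
  obtain ⟨h, hh, hh2⟩ : ∃ h ∈ H, h * h ≠ 1 := by
    by_contra hcon
    push Not at hcon
    haveI : Nontrivial H := Finite.one_lt_card_iff_nontrivial.mp (by omega)
    obtain ⟨s, hs⟩ := exists_ne (1 : H)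
    have : Nat.card H ≤ 2 := by
      refine (Nat.card_le_card_of_surjective (fun i : Fin 2 => if i = 0 then (1 : H) else s) fun t => ?_).trans
        (by simp)
      by_cases ht : t = 1
      · exact ⟨0, by simp [ht]⟩
      refine ⟨1, ?_⟩
      have hts := hfaith _ (mul_mem t.2 s.2) fun p hp => mul_inv_eq_iff_eq_mul.mp (show
          (t : G) * s * p * ((t : G) * s)⁻¹ = p by
          rw [show (t : G) * s * p * ((t : G) * s)⁻¹ = t * ((s : G) * p * (s : G)⁻¹) * (t : G)⁻¹ by group,
            hinvH s s.2 (hcon s s.2) (fun e => hs (Subtype.ext e)) p hp,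
            show (t : G) * p⁻¹ * (t : G)⁻¹ = ((t : G) * p * (t : G)⁻¹)⁻¹ by group,
            hinvH t t.2 (hcon t t.2) (fun e => ht (Subtype.ext e)) p hp, inv_inv])
      simp only [show (1 : Fin 2) ≠ 0 by decide, if_false]
      exact (Subtype.ext ((mul_eq_one_iff_eq_inv.mp hts).trans
        (inv_eq_of_mul_eq_one_right (hcon s s.2)))).symm
    omega
  have hh4 : h ^ 4 = 1 := by
    have := pow_card_eq_one' (G := H) (x := ⟨h, hh⟩)
    rw [hHcard] at this
    exact congrArg Subtype.val this
  have hord : orderOf h = 4 := orderOf_eq_prime_pow (p := 2) (n := 1) (by rwa [pow_one, pow_two]) hh4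
  have hHz : ∀ t ∈ H, t ∈ Subgroup.zpowers h := by
    have : Subgroup.zpowers h = H :=
      Subgroup.eq_of_le_of_card_ge (Subgroup.zpowers_le.mpr hh) (by rw [Nat.card_zpowers, hord, hHcard])
    exact fun t ht => this ▸ ht
  have hinv2 := hinvH (h * h) (mul_mem hh hh)
    (by rw [← mul_assoc, ← pow_two, ← pow_succ, ← pow_succ]; exact hh4) hh2
  obtain ⟨v, hv, hv1⟩ := (Subgroup.ne_bot_iff_exists_ne_one.mp (three_ne hc P).1)
    |> fun ⟨x, hx⟩ => (⟨(x : G), x.2, fun e => hx (Subtype.ext e)⟩ : ∃ v, v ∈ (P : Subgroup G) ∧ v ≠ 1)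
  set u := h * v * h⁻¹ with hu
  have huP : u ∈ (P : Subgroup G) := hconj (hmemH.mp hh).1 hv
  have hu2 : h * u * h⁻¹ = v⁻¹ := by
    rw [hu, ← hinv2 v hv]; group
  have hu1 : u ∉ Subgroup.zpowers v := by
    intro hmem
    obtain ⟨k, hk⟩ := Subgroup.mem_zpowers_iff.mp hmem
    have e2 : v⁻¹ = v ^ (k * k) := by
      rw [← hu2, ← hk, ← MulAut.conj_apply, map_zpow, MulAut.conj_apply, ← hu, ← hk, zpow_mul]
    have hord3 : orderOf v = 3 := orderOf_eq_prime (hexp v hv) hv1
    rw [← zpow_neg_one, zpow_eq_zpow_iff_modEq, hord3, ← ZMod.intCast_eq_intCast_iff] at e2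
    push_cast at e2
    exact (by decide : ∀ z : ZMod 3, (-1 : ZMod 3) ≠ z * z) _ e2
  obtain ⟨ψ, ρ, e, hψi, hψP, e10, e01, hadd, he0, hes, hρ, hρi⟩ := hcoord v hv u huP hv1 hu1
  have hconjψ : ∀ z, h * ψ z * h⁻¹ = ψ (rot z) := by
    refine hlin ψ hadd h (AddMonoidHom.mk' (fun z => rot z) (by decide)) ?_ ?_
    · show _ = ψ (rot (1, 0))
      rw [show rot (1, 0) = (0, 1) by decide, e10, e01]
    · show _ = ψ (rot (0, 1))
      rw [show rot (0, 1) = (1, 0) + (1, 0) by decide, hadd, e01, e10, hu2]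
      refine inv_eq_of_mul_eq_one_right ?_
      rw [← mul_assoc, ← pow_three', hexp v hv]
  have hρh : ρ h = turn := by
    refine Equiv.ext fun q => e.injective ?_
    rw [hρ]
    rcases q with _ | z
    · simp [turn, he0, (hmemH.mp hh).1]
    · rw [hes, show turn (some z) = some (rot z) from rfl, hes, ← hconjψ, mul_smul, mul_smul,
        show h⁻¹ • Q0 = Q0 from inv_smul_eq_iff.mpr (hmemH.mp hh).2.symm]
  have hρt : ∀ c, ρ (ψ c) = trans c := by
    intro c
    refine Equiv.ext fun q => e.injective ?_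
    rw [hρ]
    rcases q with _ | z
    · simp [trans, he0, hPP _ (hψP c)]
    · rw [hes, show trans c (some z) = some (c + z) from rfl, hes, hadd, mul_smul]
  have e00 : ψ 0 = 1 := mul_eq_right.mp (((hadd 0 0).symm).trans (by rw [add_zero]))
  -- a swap
  obtain ⟨g, hg1, hg2⟩ : ∃ g : G, g • P = Q0 ∧ g • Q0 = P := by
    obtain ⟨g₁, hg₁⟩ := MulAction.exists_smul_eq G P Q0
    have hne : g₁⁻¹ • P ≠ P := fun e => hPQ ((inv_smul_eq_iff.mp e).trans hg₁)
    obtain ⟨p, hp, hpe⟩ := hsurjP _ hne
    exact ⟨g₁ * p, by rw [mul_smul, hPP p hp, hg₁], by rw [mul_smul, hpe, smul_inv_smul]⟩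
  have hgg : g * g ∈ H := hmemH.mpr ⟨by rw [mul_smul, hg1, hg2], by rw [mul_smul, hg2, hg1]⟩
  have hgh : g * h * g⁻¹ ∈ H := hmemH.mpr
    ⟨by rw [mul_smul, mul_smul, inv_smul_eq_iff.mpr hg2.symm, (hmemH.mp hh).2, hg2],
     by rw [mul_smul, mul_smul, inv_smul_eq_iff.mpr hg1.symm, (hmemH.mp hh).1, hg1]⟩
  obtain ⟨j, hj⟩ : ∃ j : Fin 4, g * h * g⁻¹ = h ^ j.val := by
    have := mem_powers_iff_mem_zpowers.mpr (hHz _ hgh)
    obtain ⟨n, hn⟩ := this
    exact ⟨⟨n % 4, Nat.mod_lt _ (by norm_num)⟩, by rw [← hn]; exact pow_eq_pow_mod n hh4⟩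
  obtain ⟨i, hi⟩ : ∃ i : Fin 4, g * g = h ^ i.val := by
    have := mem_powers_iff_mem_zpowers.mpr (hHz _ hgg)
    obtain ⟨n, hn⟩ := this
    exact ⟨⟨n % 4, Nat.mod_lt _ (by norm_num)⟩, by rw [← hn]; exact pow_eq_pow_mod n hh4⟩
  set w := ρ g with hw
  have hw0 : w none = some (0, 0) := e.injective (by
    rw [hw, hρ, he0, hg1, hes, show ((0, 0) : ZMod 3 × ZMod 3) = 0 from rfl, e00, one_smul])
  have hw1 : w (some (0, 0)) = none := e.injective (by
    rw [hw, hρ, hes, show ((0, 0) : ZMod 3 × ZMod 3) = 0 from rfl, e00, one_smul, hg2, he0])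
  obtain ⟨r, hr, hwr⟩ : ∃ r : Bool, ((r = true → j = 1) ∧ (r = false → j = 3)) ∧
      ∀ z a, w (some z) = some a → w (some (rot z)) = some ((if r then rot else rot.symm) a) := by
    have hord' : orderOf (h ^ j.val) = 4 := by
      rw [← hj, ← MulAut.conj_apply, MulEquiv.orderOf_eq, hord]
    have hj13 : j = 1 ∨ j = 3 := by
      fin_cases j
      · simp at hord'
      · exact Or.inl rfl
      · exfalso
        have : orderOf (h ^ 2) = 4 := hord'
        rw [orderOf_pow' h (by norm_num), hord] at this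
        norm_num at this
      · exact Or.inr rfl
    have key : ∀ q, w (turn q) = (turn ^ j.val) (w q) := by
      intro q
      have : g * h = h ^ j.val * g := mul_inv_eq_iff_eq_mul.mp hj
      have h1 := DFunLike.congr_fun (congrArg ρ this) q
      rwa [map_mul, map_mul, map_pow, hρh] at h1
    rcases hj13 with rfl | rfl
    · refine ⟨true, ⟨fun _ => rfl, fun h => absurd h (by simp)⟩, fun z a hza => ?_⟩
      have := key (some z)
      rw [hza] at this
      exact this
    · refine ⟨false, ⟨fun h => absurd h (by simp), fun _ => rfl⟩, fun z a hza => ?_⟩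
      have := key (some z)
      rw [hza] at this
      exact this.trans ((by decide +kernel :
        ∀ a, (turn ^ 3) (some a) = some (rot.symm a)) a)
  have hsome : ∀ z : ZMod 3 × ZMod 3, z ≠ (0, 0) → ∃ a, w (some z) = some a := by
    intro z hz
    rcases hwz : w (some z) with _ | a
    · exact absurd (Option.some.inj (w.injective (hwz.trans hw1.symm))) hz
    · exact ⟨a, rfl⟩
  obtain ⟨a, ha⟩ := hsome (1, 0) (by decide)
  obtain ⟨b, hb⟩ := hsome (1, 1) (by decide)
  have e1 := hwr _ _ ha
  rw [show rot (1, 0) = (0, 1) by decide] at e1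
  have e2 := hwr _ _ e1
  rw [show rot (0, 1) = (2, 0) by decide] at e2
  have e3 := hwr _ _ e2
  rw [show rot (2, 0) = (0, 2) by decide] at e3
  have f1 := hwr _ _ hb
  rw [show rot (1, 1) = (2, 1) by decide] at f1
  have f2 := hwr _ _ f1
  rw [show rot (2, 1) = (2, 2) by decide] at f2
  have f3 := hwr _ _ f2
  rw [show rot (2, 2) = (1, 2) by decide] at f3
  have hwfun : ∀ q, w q = swapFun r a b q := by
    rintro (_ | z)
    · exact hw0
    · rcases (by decide : ∀ z : ZMod 3 × ZMod 3, z = (0, 0) ∨ z = (1, 0) ∨ z = (0, 1) ∨ z = (2, 0) ∨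
        z = (0, 2) ∨ z = (1, 1) ∨ z = (2, 1) ∨ z = (2, 2) ∨ z = (1, 2)) z with
        rfl | rfl | rfl | rfl | rfl | rfl | rfl | rfl | rfl
      · exact hw1
      · exact ha
      · exact e1
      · exact e2
      · exact e3
      · exact hb
      · exact f1
      · exact f2
      · exact f3
  have hbij : Function.Bijective (swapFun r a b) := (funext hwfun) ▸ w.bijective
  have hwp : swapPerm r a b = w := Equiv.ext fun q => by
    rw [swapPerm, dif_pos hbij]
    exact (hwfun q).symm
  have hcheck := swap_check r a b hbij (by rw [hwp]; exact sign_eq_one hc ρ g)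
    ⟨i, by rw [hwp, hw, ← map_mul, hi, map_pow, hρh]⟩
  rw [hwp] at hcheck
  rcases hcheck with ⟨c, m, hc0, hy2, hz5⟩ | ⟨c, hc60⟩
  · set x := ψ c with hx
    set y := g * h ^ m.val with hy
    have hρy : ρ y = w * turn ^ m.val := by rw [hy, map_mul, map_pow, hρh]
    have hx3 : x ^ 3 = 1 := hexp _ (hψP c)
    have hx1 : x ≠ 1 := fun e => hc0 (hψi (e.trans e00.symm))
    have hy1 : y ≠ 1 := by
      intro e
      have h1 := DFunLike.congr_fun ((congrArg ρ e).trans (map_one ρ)) none
      rw [hρy, Equiv.Perm.mul_apply] at h1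
      rw [show (turn ^ m.val) none = none from
        (by decide +kernel : ∀ m : Fin 4, (turn ^ m.val) none = none) m, hw0] at h1
      simp [trans] at h1
    refine ⟨x⁻¹, x * y, by rw [inv_pow, hx3, inv_one], fun e => hx1 (inv_eq_one.mp e), hρi ?_, ?_,
      ?_, by rwa [inv_mul_cancel_left]⟩
    · rw [map_pow, map_mul, hx, hρt, hρy, map_one]
      exact hz5
    · intro e
      have h1 := DFunLike.congr_fun ((congrArg ρ e).trans (map_one ρ)) none
      rw [map_mul, hx, hρt, hρy, Equiv.Perm.mul_apply, Equiv.Perm.mul_apply,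
        show (turn ^ m.val) none = none from (by decide +kernel : ∀ m : Fin 4, (turn ^ m.val) none = none) m,
        hw0] at h1
      simp [trans] at h1
    · rw [inv_mul_cancel_left, pow_two]
      exact hρi (by rw [map_mul, hρy, map_one]; exact hy2)
  · exfalso
    refine hc60 ?_
    rw [← hρt, hw, ← map_mul, ← map_pow]
    refine (congrArg ρ ?_).trans (map_one ρ)
    set t := ψ c * g
    rw [← orderOf_dvd_iff_pow_eq_one]
    have ht := orderOf_dvd_natCard t
    rw [hc] at ht
    have h8 : ¬ 8 ∣ orderOf t := fun hd => no_element_eight hc (t ^ (orderOf t / 8))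
      (orderOf_pow_orderOf_div (orderOf_pos t).ne' hd)
    have h9 : ¬ 9 ∣ orderOf t := fun hd => by
      set z := t ^ (orderOf t / 9) with hz
      have hoz : orderOf z = 9 := orderOf_pow_orderOf_div (orderOf_pos t).ne' hd
      obtain ⟨R, hR⟩ := (IsPGroup.of_card (p := 3) (n := 2) (by rw [Nat.card_zpowers, hoz]; norm_num) :
        IsPGroup 3 (Subgroup.zpowers z)).exists_le_sylow
      obtain ⟨k, hk⟩ := MulAction.exists_smul_eq G P R
      have hzR : z ∈ (R : Subgroup G) := hR (Subgroup.mem_zpowers z)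
      rw [← hk, Sylow.coe_subgroup_smul] at hzR
      obtain ⟨p, hp, hpz⟩ := hzR
      have : z ^ 3 = 1 := by
        rw [← hpz]
        show (MulAut.conj k p) ^ 3 = 1
        rw [← map_pow, hexp p hp, map_one]
      have := orderOf_dvd_iff_pow_eq_one.mpr this
      rw [hoz] at this
      norm_num at this
    have hd := Nat.mem_divisors.mpr ⟨ht, show (360 : ℕ) ≠ 0 by norm_num⟩
    revert h8 h9 hd
    generalize orderOf t = n
    intro h8 h9 hd
    exact (by decide +kernel : ∀ n ∈ Nat.divisors 360, ¬ 8 ∣ n → ¬ 9 ∣ n → n ∣ 60) n hd h8 h9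


end CfsgLib.Recog.ThreeSixty
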