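import Cfsg.Agent.Lib.Recog.ThreeCubeModel
import Cfsg.Agent.Lib.CharDeep.ClassSum
import Cfsg.Agent.Lib.Char.Induced
import Cfsg.Agent.Lib.Solvable.CoprimeGeneration
import Mathlib.GroupTheory.Transfer

/-!
A finite group with a self-normalizing-modulo-`2²` elementary abelian Sylow subgroup of order `27`
containing all centralisers of its nontrivial elements equals that normalizer `3³:2²`.
-/

set_option autoImplicit false

open scoped ComplexConjugate

namespace CfsgLib.ThreeCube

section Triangle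

variable {G : Type*} [Group G] [Finite G]

/-- Two elements of order three with product of order three commute with a common element of order
three or are conjugate. -/
theorem triangle {x y : G} (hx : x * x * x = 1) (hy : y * y * y = 1) (hxy : x * y * (x * y) * (x * y) = 1) :
    (∃ d, d ≠ 1 ∧ d * d * d = 1 ∧ d * x = x * d ∧ d * y = y * d) ∨ IsConj x y := by
  set a := x⁻¹ * y with ha
  set b := x * a * x⁻¹ with hb
  set c := x * b * x⁻¹ with hc
  have hxa : y = x * a := by rw [ha, mul_inv_cancel_left]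
  have hx2 : x * x = x⁻¹ := eq_inv_of_mul_eq_one_left hx
  have hxc : x * c * x⁻¹ = a := by
    rw [hc, hb]
    calc x * (x * (x * a * x⁻¹) * x⁻¹) * x⁻¹ = (x * x * x) * a * (x * x * x)⁻¹ := by group
      _ = a := by rw [hx]; group
  have hbca : b * c * a = 1 := by
    rw [hb, hc, hb]
    calc x * a * x⁻¹ * (x * (x * a * x⁻¹) * x⁻¹) * a
        = x * a * (x * a) * (x * x * x)⁻¹ * (x * a) := by group
      _ = y * y * y := by rw [hx, hxa]; group
      _ = 1 := hy
  have hcba : c * b * a = 1 := by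
    rw [hb, hc, hb]
    calc x * (x * a * x⁻¹) * x⁻¹ * (x * a * x⁻¹) * a
        = (x * x * a) * (x * x * x)⁻¹ * (x * x * a) * (x * x * x)⁻¹ * (x * x * a) := by
          rw [show (x * x * x)⁻¹ = 1 by rw [hx, inv_one]]
          simp only [mul_one]
          calc x * (x * a * x⁻¹) * x⁻¹ * (x * a * x⁻¹) * a = x * x * a * x⁻¹ * a * x⁻¹ * a := by group
            _ = x * x * a * (x * x) * a * (x * x) * a := by rw [hx2]
            _ = _ := by group
      _ = x * y * (x * y) * (x * y) := by rw [hx, hxa]; group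
      _ = 1 := hxy
  have hbc : Commute b c := mul_right_cancel (hbca.trans hcba.symm)
  have haeq : a = (b * c)⁻¹ := eq_inv_of_mul_eq_one_right hbca
  have hab : Commute a b := by rw [haeq]; exact (Commute.mul_left (Commute.refl b) hbc.symm).inv_left
  have hac : Commute a c := by rw [haeq]; exact (Commute.mul_left hbc (Commute.refl c)).inv_left
  have hcl : ∀ u ∈ ({a, b, c} : Set G), ∀ v ∈ ({a, b, c} : Set G), u * v = v * u := by
    rintro u (rfl | rfl | rfl) v (rfl | rfl | rfl)
    exacts [rfl, hab.eq, hac.eq, hab.eq.symm, rfl, hbc.eq, hac.eq.symm, hbc.eq.symm, rfl]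
  set A := Subgroup.closure ({a, b, c} : Set G) with hA
  let inst : CommGroup A := { (inferInstance : Group A) with
    mul_comm := (Subgroup.isMulCommutative_closure hcl).is_comm.comm }
  have hcomm : ∀ u ∈ A, ∀ v ∈ A, u * v = v * u := fun u hu v hv =>
    congrArg Subtype.val (mul_comm (⟨u, hu⟩ : A) ⟨v, hv⟩)
  have haA : a ∈ A := Subgroup.subset_closure (Or.inl rfl)
  have hbA : b ∈ A := Subgroup.subset_closure (Or.inr (Or.inl rfl))
  have hcA : c ∈ A := Subgroup.subset_closure (Or.inr (Or.inr rfl))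
  have hxA : ∀ u ∈ A, x * u * x⁻¹ ∈ A := by
    intro u hu
    have : A ≤ A.comap (MulAut.conj x).toMonoidHom := by
      refine (Subgroup.closure_le _).2 ?_
      rintro v (rfl | rfl | rfl)
      · exact hbA
      · exact hcA
      · show x * c * x⁻¹ ∈ A
        rw [hxc]; exact haA
    exact this hu
  by_cases h3 : 3 ∣ Nat.card A
  · obtain ⟨v, hv⟩ := exists_prime_orderOf_dvd_card' 3 (hp := ⟨Nat.prime_three⟩) h3
    refine Or.inl ?_
    have fin : ∀ d ∈ A, d ≠ 1 → d * d * d = 1 → x * d * x⁻¹ = d →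
        ∃ d, d ≠ 1 ∧ d * d * d = 1 ∧ d * x = x * d ∧ d * y = y * d := by
      intro d hd h1 h2 h4
      have hdx : d * x = x * d := (mul_inv_eq_iff_eq_mul.1 h4).symm
      exact ⟨d, h1, h2, hdx, by
        rw [hxa]
        exact ((Commute.mul_right hdx (hcomm d hd a haA)) : Commute d (x * a)).eq⟩
    have hv3 : (v : G) * v * v = 1 := by
      have := congrArg Subtype.val (hv ▸ pow_orderOf_eq_one v : v ^ 3 = 1)
      simpa [pow_succ] using this
    have hv1 : (v : G) ≠ 1 := fun e => by
      rw [show v = 1 from Subtype.ext e, orderOf_one] at hv; omega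
    have cube : ∀ p ∈ A, ∀ q ∈ A, p * p * p = 1 → q * q * q = 1 → (p * q) * (p * q) * (p * q) = 1 := by
      intro p hp q hq e1 e2
      have := hcomm p hp q hq
      calc p * q * (p * q) * (p * q) = (p * p * p) * (q * q * q) := by
            have hc' : Commute p q := this
            rw [← pow_three', ← pow_three', ← pow_three', hc'.mul_pow]
        _ = 1 := by rw [e1, e2, one_mul]
    have sig3 : ∀ p : G, p * p * p = 1 → (x * p * x⁻¹) * (x * p * x⁻¹) * (x * p * x⁻¹) = 1 := fun p e => by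
      calc _ = x * (p * p * p) * x⁻¹ := by group
        _ = 1 := by rw [e]; group
    set v1 := x * (v : G) * x⁻¹ with hv1d
    set v2 := x * v1 * x⁻¹ with hv2d
    by_cases hu : v1 = v
    · exact fin v v.2 hv1 hv3 hu
    set u := v1 * (v : G)⁻¹ with hud
    have hi3 : (v : G)⁻¹ * (v : G)⁻¹ * (v : G)⁻¹ = 1 := by
      rw [← mul_inv_rev, ← mul_inv_rev, ← mul_assoc, hv3, inv_one]
    have hv1A : v1 ∈ A := hxA _ v.2
    have huA : u ∈ A := mul_mem hv1A (inv_mem v.2)
    have hu1 : u ≠ 1 := fun e => hu (mul_inv_eq_one.1 e)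
    have hu3 : u * u * u = 1 := cube _ hv1A _ (inv_mem v.2) (sig3 _ hv3) hi3
    by_cases hw : x * u * x⁻¹ = u
    · exact fin u huA hu1 hu3 hw
    set w := x * u * x⁻¹ * u⁻¹ with hwd
    have hui : u⁻¹ * u⁻¹ * u⁻¹ = 1 := by rw [← mul_inv_rev, ← mul_inv_rev, ← mul_assoc, hu3, inv_one]
    refine fin w (mul_mem (hxA _ huA) (inv_mem huA)) (fun e => hw (mul_inv_eq_one.1 e))
      (cube _ (hxA _ huA) _ (inv_mem huA) (sig3 _ hu3) hui) ?_
    have hx2v : x * v2 * x⁻¹ = (v : G) := by
      rw [hv2d, hv1d]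
      calc x * (x * (x * (v : G) * x⁻¹) * x⁻¹) * x⁻¹ = (x * x * x) * v * (x * x * x)⁻¹ := by group
        _ = v := by rw [hx]; group
    have hv2A : v2 ∈ A := hxA _ hv1A
    have hw' : w = v2 * v1⁻¹ * v1⁻¹ * (v : G) := by
      rw [hwd, hud]
      calc x * (v1 * (v : G)⁻¹) * x⁻¹ * (v1 * (v : G)⁻¹)⁻¹
          = x * v1 * x⁻¹ * (x * (v : G) * x⁻¹)⁻¹ * ((v : G) * v1⁻¹) := by group
        _ = v2 * v1⁻¹ * (v1⁻¹ * (v : G)) := by rw [← hv2d, ← hv1d, hcomm _ v.2 _ (inv_mem hv1A)]
        _ = _ := by group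
    have e1 : x * w * x⁻¹ = (v : G) * v2⁻¹ * v2⁻¹ * v1 := by
      rw [hw']
      calc x * (v2 * v1⁻¹ * v1⁻¹ * (v : G)) * x⁻¹
          = (x * v2 * x⁻¹) * (x * v1 * x⁻¹)⁻¹ * (x * v1 * x⁻¹)⁻¹ * (x * (v : G) * x⁻¹) := by group
        _ = _ := by rw [hx2v, ← hv2d, ← hv1d]
    have ab : ∀ p q r : A, p * p * p = 1 → q * q * q = 1 → r * r * r = 1 →
        p * r⁻¹ * r⁻¹ * q = r * q⁻¹ * q⁻¹ * p := by
      intro p q r h1 h2 h3
      have e : q * q * q * (r * r * r)⁻¹ = 1 := by rw [h2, h3, inv_one, one_mul]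
      calc p * r⁻¹ * r⁻¹ * q = r * q⁻¹ * q⁻¹ * p * (q * q * q * (r * r * r)⁻¹) := by
            apply Additive.ofMul.injective
            simp only [ofMul_mul, ofMul_inv]
            abel
        _ = _ := by rw [e, mul_one]
    rw [e1, hw']
    exact congrArg Subtype.val (ab v ⟨v1, hv1A⟩ ⟨v2, hv2A⟩ (Subtype.ext hv3) (Subtype.ext (sig3 _ hv3))
      (Subtype.ext (sig3 _ (sig3 _ hv3))))
  · refine Or.inr ?_
    obtain ⟨k, hk⟩ : ∃ k : ℕ, Nat.card A ∣ 3 * k + (Nat.card A - 1) ∧ True := by
      rcases Nat.lt_or_ge (Nat.card A % 3) 2 with h | h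
      · exact ⟨(2 * Nat.card A + 1) / 3, ⟨3, by have := Nat.card_pos (α := A); omega⟩, trivial⟩
      · exact ⟨(Nat.card A + 1) / 3, ⟨2, by have := Nat.card_pos (α := A); omega⟩, trivial⟩
    set w : A := (⟨c, hcA⟩ * ⟨b, hbA⟩ ^ 2) ^ k with hw
    have hcard : ∀ p : A, p ^ (3 * k) = p := by
      intro p
      obtain ⟨⟨j, hj⟩, -⟩ := hk
      have hn : (Nat.card A - 1) + 1 = Nat.card A := Nat.succ_pred_eq_of_pos Nat.card_pos
      have h0 : p ^ (3 * k) * p ^ (Nat.card A - 1) = 1 := by
        rw [← pow_add, hj, pow_mul, pow_card_eq_one', one_pow]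
      have h1 : p * p ^ (Nat.card A - 1) = 1 := by rw [← pow_succ', hn, pow_card_eq_one']
      exact mul_right_cancel (h0.trans h1.symm)
    have hτ : x⁻¹ * (w : G) * x = ((⟨b, hbA⟩ * ⟨a, haA⟩ ^ 2 : A) ^ k : A) := by
      have e1 : x⁻¹ * c * x = b := by rw [hc]; group
      have e2 : x⁻¹ * b * x = a := by rw [hb]; group
      have h := congrArg (MulAut.conj x⁻¹) (show (w : G) = (c * b ^ 2) ^ k by
        simp [hw, SubmonoidClass.coe_pow])
      rw [map_pow, map_mul, map_pow] at h
      simp only [MulAut.conj_apply, inv_inv, e1, e2] at h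
      rw [h]
      simp [SubmonoidClass.coe_pow]
    have key : ((⟨b, hbA⟩ * ⟨a, haA⟩ ^ 2 : A) ^ k) * w⁻¹ = ⟨a, haA⟩ := by
      rw [hw, ← inv_pow, ← mul_pow]
      conv_rhs => rw [← hcard ⟨a, haA⟩, pow_mul]
      congr 1
      have hid : (⟨b, hbA⟩ * ⟨c, hcA⟩ * ⟨a, haA⟩ : A) = 1 := Subtype.ext hbca
      have hcb : (⟨a, haA⟩ : A) = (⟨b, hbA⟩ * ⟨c, hcA⟩)⁻¹ := eq_inv_of_mul_eq_one_right hid
      rw [hcb]
      apply Additive.ofMul.injective
      simp only [ofMul_mul, ofMul_inv, ofMul_pow]
      abel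
    refine isConj_iff.2 ⟨(w : G), ?_⟩
    have := congrArg Subtype.val key
    simp only [Subgroup.coe_mul, Subgroup.coe_inv] at this
    rw [← hτ] at this
    rw [hxa, ← this]
    group

end Triangle

section Main

variable {G : Type*} [Group G] [Fintype G] (H : Subgroup G) (e : ↥H ≃* Md) (T : Subgroup G)
  (hTH : T ≤ H) (hT : Nat.card T = 27) (hN : Subgroup.normalizer (T : Set G) = H)
  (hC : ∀ t ∈ T, t ≠ 1 → Subgroup.centralizer ({t} : Set G) ≤ H)

include hTH hT in
theorem mem_T_iff {h : G} (hh : h ∈ H) : h ∈ T ↔ IsRot (e ⟨h, hh⟩) := by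
  classical
  have h1 : ∀ t (ht : t ∈ T), IsRot (e ⟨t, hTH ht⟩) := by
    intro t ht
    refine rot_of_pow _ ?_
    rw [← map_pow, show (⟨t, hTH ht⟩ : H) ^ 27 = 1 from Subtype.ext ?_, map_one]
    have := congrArg Subtype.val (pow_card_eq_one' (x := (⟨t, ht⟩ : T)))
    rw [hT] at this
    simpa using this
  refine ⟨fun ht => h1 h ht, fun hr => ?_⟩
  have hinj : Function.Injective fun t : T => (⟨e ⟨t, hTH t.2⟩, h1 t t.2⟩ : {x : Md // IsRot x}) :=
    fun s t hst => Subtype.ext (congrArg (fun z : H => (z : G)) (e.injective (congrArg Subtype.val hst)))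
  have hc : Nat.card {x : Md // IsRot x} = Nat.card T := by
    rw [hT, Nat.card_eq_fintype_card, Fintype.card_subtype, card_rot]
  obtain ⟨t, ht⟩ := ((Nat.bijective_iff_injective_and_card _).2 ⟨hinj, hc.symm⟩).2 ⟨_, hr⟩
  have h2 : (⟨(t : G), hTH t.2⟩ : H) = ⟨h, hh⟩ := e.injective (congrArg Subtype.val ht)
  have h3 : (t : G) = h := congrArg Subtype.val h2
  exact h3 ▸ t.2

include e hTH hT hN hC in
theorem ti {g t t' : G} (ht : t ∈ T) (ht' : t' ∈ T) (ht1 : t' ≠ 1) (h : g * t * g⁻¹ = t') : g ∈ H := by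
  rw [← hN]
  have key : ∀ u ∈ T, g * u * g⁻¹ ∈ T := by
    intro u hu
    have hcu : u * t = t * u := by
      have := rot_comm _ _ ((mem_T_iff H e T hTH hT (hTH hu)).1 hu) ((mem_T_iff H e T hTH hT (hTH ht)).1 ht)
      rw [← map_mul, ← map_mul] at this
      exact congrArg Subtype.val (e.injective this)
    have hH : g * u * g⁻¹ ∈ H := hC t' ht' ht1 (by
      rw [Subgroup.mem_centralizer_singleton_iff, ← h]
      calc g * u * g⁻¹ * (g * t * g⁻¹) = g * (u * t) * g⁻¹ := by group
        _ = _ := by rw [hcu]; group)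
    refine (mem_T_iff H e T hTH hT hH).2 ((rot_iff _).2 ?_)
    have hu3 : u * u * u = 1 := by
      have := (rot_iff _).1 ((mem_T_iff H e T hTH hT (hTH hu)).1 hu)
      rw [← map_mul, ← map_mul, ← map_one e] at this
      exact congrArg Subtype.val (e.injective this)
    rw [← map_mul, ← map_mul, ← map_one e]
    congr 1
    refine Subtype.ext ?_
    show g * u * g⁻¹ * (g * u * g⁻¹) * (g * u * g⁻¹) = 1
    calc _ = g * (u * u * u) * g⁻¹ := by group
      _ = 1 := by rw [hu3]; group
  refine Subgroup.mem_normalizer_iff.2 fun u => ⟨key u, fun hu => ?_⟩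
  have hinj : Function.Injective fun s : T => (⟨g * s * g⁻¹, key s s.2⟩ : T) := fun s s' e' =>
    Subtype.ext (mul_left_cancel (mul_right_cancel (congrArg Subtype.val e')))
  obtain ⟨s, hs⟩ := Finite.surjective_of_injective hinj ⟨_, hu⟩
  have h3 : (s : G) = u := mul_left_cancel (mul_right_cancel (congrArg Subtype.val hs))
  exact h3 ▸ s.2

/-- transport of a function on the model -/
noncomputable def tr (f : Md → ℤ) : ↥H → ℂ := fun h => (f (e h) : ℂ)

theorem classInner_tr [Fintype H] (f g : Md → ℤ) {n : ℤ} (h : ip f g = 108 * n) :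
    Cfsg.classInner (tr H e f) (tr H e g) = (n : ℂ) := by
  classical
  have hc : Nat.card H = 108 := by rw [Nat.card_congr e.toEquiv, Nat.card_eq_fintype_card, card_Md]
  have hs : ∑ x : H, tr H e f x * conj (tr H e g x) = ((ip f g : ℤ) : ℂ) := by
    simp only [tr, map_intCast, ip, Int.cast_sum, Int.cast_mul]
    exact Fintype.sum_equiv e.toEquiv _ _ fun x => rfl
  simp only [Cfsg.classInner]
  rw [hs, hc, h]
  push_cast
  ring

/-- the homomorphism of a coordinate onto the permutations of three points -/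
def coHom (c : Fin 3) : Md →* Equiv.Perm (Fin 3) :=
  MonoidHom.mk' (fun x => dperm (co c x)) fun x y => by rw [co_mul, dperm_spec.1]

/-- a sign character -/
def sgHom (c : Fin 3) : Md →* ℂˣ :=
  MonoidHom.mk' (fun x => if sg (co c x) = 1 then 1 else -1) fun x y => by
    have h : ∀ a : Dih, sg a = 1 ∨ sg a = -1 := by decide
    rw [co_mul, sg_mul]
    rcases h (co c x) with a | a <;> rcases h (co c y) with b | b <;> simp [a, b]

theorem isGen_lam (c : Fin 3) : Cfsg.IsGeneralizedCharacter Md (fun x => (lam c x : ℂ)) := by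
  have h := Char.IsIrrCharacter.isGeneralizedCharacter (Char.isIrrCharacter_linear (sgHom c))
  have hv : ∀ a : Dih, sg a = 1 ∨ sg a = -1 := by decide
  convert h using 1
  funext x
  rcases hv (co c x) with a | a <;> simp [lam, sgHom, MonoidHom.mk'_apply, a]

theorem isGen_eta (c : Fin 3) : Cfsg.IsGeneralizedCharacter Md (fun x => (eta c x : ℂ)) := by
  classical
  have h := Char.IsGeneralizedCharacter.comp (Char.IsGeneralizedCharacter.sub
    (Char.IsCharacter.isGeneralizedCharacter
      (PermChar.isCharacter_piFun (G := Equiv.Perm (Fin 3)) (Ω := Fin 3)))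
    Char.IsGeneralizedCharacter.one) (coHom c)
  convert h using 1
  funext x
  simp only [Pi.sub_apply, Pi.one_apply, PermChar.piFun, eta, coHom, MonoidHom.mk'_apply, dperm_spec.2]
  rw [Nat.card_eq_fintype_card, Fintype.card_subtype]
  push_cast
  congr 1

theorem isGen_all (c : Fin 3) :
    (Cfsg.IsGeneralizedCharacter Md (fun x => (mA c x : ℂ)) ∧
      Cfsg.IsGeneralizedCharacter Md (fun x => (mB c x : ℂ))) ∧
    Cfsg.IsGeneralizedCharacter Md (fun x => (mT c x : ℂ)) ∧
    Cfsg.IsGeneralizedCharacter Md (fun x => (mE x : ℂ)) ∧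
      Cfsg.IsGeneralizedCharacter Md (fun x => (mW x : ℂ)) := by
  have one : Cfsg.IsGeneralizedCharacter Md (fun _ => (1 : ℂ)) := Char.IsGeneralizedCharacter.one
  have hR : ∀ d, Cfsg.IsGeneralizedCharacter Md (fun x => (rr d x : ℂ)) := fun d => by
    convert Char.IsGeneralizedCharacter.mul (isGen_eta (d + 1)) (isGen_eta (d + 2)) using 1
    funext x; simp [rr, eta]
  refine ⟨⟨?_, ?_⟩, ?_, ?_, ?_⟩
  · convert Char.IsGeneralizedCharacter.sub (Char.IsGeneralizedCharacter.sub (isGen_eta c) one) (isGen_lam c) using 1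
    funext x; simp [mA]
  · convert Char.IsGeneralizedCharacter.sub (Char.IsGeneralizedCharacter.sub
      (Char.IsGeneralizedCharacter.mul (isGen_eta c) (isGen_lam (c + 1))) (isGen_lam (c + 1)))
      (isGen_lam (c + 2)) using 1
    funext x; simp [mB, eta', eta, lam]
  · convert Char.IsGeneralizedCharacter.sub (hR c) (hR 0) using 1
    funext x; simp [mT]
  · convert Char.IsGeneralizedCharacter.sub (Char.IsGeneralizedCharacter.add (Char.IsGeneralizedCharacter.add
      (Char.IsGeneralizedCharacter.add one (isGen_lam 0)) (isGen_lam 1)) (isGen_lam 2)) (hR 0) using 1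
    funext x; simp [mE]
  · convert Char.IsGeneralizedCharacter.sub (Char.IsGeneralizedCharacter.mul
      (Char.IsGeneralizedCharacter.mul (isGen_eta 0) (isGen_eta 1)) (isGen_eta 2))
      (Char.IsGeneralizedCharacter.intCast_smul (hR 0) 2) using 1
    funext x; simp [mW, uu, eta]

theorem isGen_tr {f : Md → ℤ} (hf : Cfsg.IsGeneralizedCharacter Md (fun x => (f x : ℂ))) :
    Cfsg.IsGeneralizedCharacter H (tr H e f) :=
  Char.IsGeneralizedCharacter.comp hf e.toMonoidHom

/-- vanishing off the singular elements -/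
def Supp (f : Md → ℤ) : Prop := ∀ x, x * x = 1 → f x = 0

/-- the induced class function -/
noncomputable def up (f : Md → ℤ) : G → ℂ := Cfsg.indFun H (tr H e f)

include hTH hT hN hC in
theorem up_apply {f : Md → ℤ} (hcl : Cfsg.IsClassFunction H (tr H e f)) (hf : Supp f) (h : H)
    (h1 : e h * e h ≠ 1) : up H e f h = tr H e f h := by
  classical
  have hsq : ∀ k : H, e k * e k ≠ 1 → (k : G) * k ∈ T ∧ (k : G) * k ≠ 1 := fun k hk =>
    ⟨(mem_T_iff H e T hTH hT (mul_mem k.2 k.2)).2 (by
      have : e ⟨(k : G) * k, mul_mem k.2 k.2⟩ = e k * e k := map_mul e k k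
      rw [this]
      exact (rot_iff _).2 (cube_sq _ hk)),
      fun e' => hk (by rw [← map_mul, show k * k = 1 from Subtype.ext e', map_one])⟩
  rw [up, Char.indFun_apply, ← Finset.sum_subset (s₁ := Finset.univ.filter (· ∈ H)) (Finset.subset_univ _) ?_]
  · rw [Finset.sum_congr rfl (g := fun _ => tr H e f h) ?_, Finset.sum_const, nsmul_eq_mul]
    · rw [← Fintype.card_subtype, ← Nat.card_eq_fintype_card, ← mul_assoc, inv_mul_cancel₀, one_mul]
      exact Nat.cast_ne_zero.mpr (Nat.card_pos (α := H)).ne'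
    · intro x hx
      have hxH : x ∈ H := (Finset.mem_filter.mp hx).2
      have h2 := Char.extendByZero_conj H (tr H e f) hcl (⟨x, hxH⟩⁻¹) (h : G)
      simp only [Subgroup.coe_inv, inv_inv] at h2
      rw [h2, Char.extendByZero_coe]
  · intro x _ hx
    by_cases hm : x⁻¹ * (h : G) * x ∈ H
    · rw [Char.extendByZero_apply_mem H _ hm, tr]
      by_cases hne : e ⟨_, hm⟩ * e ⟨_, hm⟩ = 1
      · rw [hf _ hne, Int.cast_zero]
      · exfalso
        refine hx (Finset.mem_filter.2 ⟨Finset.mem_univ _, ?_⟩)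
        exact ti H e T hTH hT hN hC (hsq _ hne).1 (hsq h h1).1 (hsq h h1).2 (by group)
    · exact Char.extendByZero_of_notMem H _ hm

include hTH hT hN hC in
theorem classInner_up {f g : Md → ℤ} (hf : Supp f) (hg : Supp g) (hgcl : Cfsg.IsClassFunction H (tr H e g))
    {n : ℤ} (h : ip f g = 108 * n) : Cfsg.classInner (up H e f) (up H e g) = (n : ℂ) := by
  classical
  simp only [up]
  rw [Char.classInner_indFun H _ _ (Char.isClassFunction_indFun H _), ← classInner_tr H e f g h]
  unfold Cfsg.classInner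
  congr 1
  refine Finset.sum_congr rfl fun x _ => ?_
  by_cases hx : e x * e x = 1
  · simp [tr, hf _ hx]
  · have := up_apply H e T hTH hT hN hC hgcl hg x hx
    simp only [up] at this
    simp only [this]

theorem up_inner_one (f : Md → ℤ) {n : ℤ} (h : ip f 1 = 108 * n) :
    Cfsg.classInner (up H e f) (fun _ => 1) = (n : ℂ) := by
  classical
  rw [up, Char.classInner_indFun H _ _ (fun _ _ => rfl), ← classInner_tr H e f 1 h]
  congr 1
  funext x
  simp [tr]

theorem classInner_up_phi (i : Fin 3) (χ : Cfsg.IrrCharacter G) :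
    Cfsg.classInner (up H e (mPhi i)) χ = (χ : G → ℂ) (e.symm (pt i) : G) := by
  classical
  have hcl := Char.IsIrrCharacter.isClassFunction χ.2
  rw [up, Char.classInner_indFun H _ _ hcl]
  have hc : Nat.card H = 108 := by rw [Nat.card_congr e.toEquiv, Nat.card_eq_fintype_card, card_Md]
  have hne : pt i ≠ (pt i)⁻¹ := by revert i; decide +kernel
  have hs : ∑ x : H, tr H e (mPhi i) x * conj ((χ : G → ℂ) x) =
      54 * (conj ((χ : G → ℂ) (e.symm (pt i) : G)) + conj ((χ : G → ℂ) (e.symm (pt i)⁻¹ : G))) := by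
    rw [← e.symm.toEquiv.sum_comp fun x : H => tr H e (mPhi i) x * conj ((χ : G → ℂ) x),
      ← Finset.sum_subset (Finset.subset_univ ({pt i, (pt i)⁻¹} : Finset Md)) ?_, Finset.sum_pair hne]
    · simp [tr, mPhi]
      ring
    · intro x _ hx
      simp only [Finset.mem_insert, Finset.mem_singleton, not_or] at hx
      simp [tr, mPhi, hx.1, hx.2]
  simp only [Cfsg.classInner]
  rw [hs, hc]
  obtain ⟨m, hm⟩ := pt_conj_inv i
  have hconj : (χ : G → ℂ) (e.symm (pt i)⁻¹ : G) = (χ : G → ℂ) (e.symm (pt i) : G) := by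
    rw [← hm]
    simp only [map_mul, map_inv, Subgroup.coe_mul, Subgroup.coe_inv]
    exact hcl _ _
  have hreal : conj ((χ : G → ℂ) (e.symm (pt i) : G)) = (χ : G → ℂ) (e.symm (pt i) : G) := by
    rw [← Char.IsIrrCharacter.apply_inv χ.2, ← Subgroup.coe_inv, ← map_inv, hconj]
  rw [hconj, hreal]
  push_cast
  ring

include e hTH hT hN hC in
theorem fusion_pt {i j : Fin 3} (h : IsConj (e.symm (pt i) : G) (e.symm (pt j) : G)) : i = j := by
  obtain ⟨g, hg⟩ := isConj_iff.1 h
  have hmem : ∀ k, (e.symm (pt k) : G) ∈ T := fun k =>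
    (mem_T_iff H e T hTH hT (e.symm (pt k)).2).2 (by simpa using (pt_rot k).1)
  have hne : (e.symm (pt j) : G) ≠ 1 := fun e' => (pt_rot j).2 (by
    have : e.symm (pt j) = 1 := Subtype.ext e'
    simpa using congrArg e this)
  have hgH := ti H e T hTH hT hN hC (hmem i) (hmem j) hne hg
  have h2 : (⟨g, hgH⟩ : H) * e.symm (pt i) * (⟨g, hgH⟩ : H)⁻¹ = e.symm (pt j) := Subtype.ext hg
  have h3 := congrArg e h2
  simp only [map_mul, map_inv, MulEquiv.apply_symm_apply] at h3
  refine (pt_ne j i ?_).symm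
  rcases conj_pt i (e ⟨g, hgH⟩) with h4 | h4
  · exact Or.inl (h3.symm.trans h4)
  · exact Or.inr (h3.symm.trans h4)

include hTH hT hN hC in
theorem no_triple {i j l : Fin 3} (hne : ¬ (i = j ∧ j = l)) {x y : G}
    (hx : IsConj (e.symm (pt i) : G) x) (hy : IsConj (e.symm (pt j) : G) y) :
    x * y ≠ (e.symm (pt l) : G) := by
  intro hxy
  have h3 : ∀ k, (e.symm (pt k) : G) * e.symm (pt k) * e.symm (pt k) = 1 := fun k => by
    have := (rot_iff _).1 (pt_rot k).1
    have h' := congrArg e.symm this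
    rw [map_mul, map_mul, map_one] at h'
    exact congrArg Subtype.val h'
  have cube : ∀ {k : Fin 3} {u : G}, IsConj (e.symm (pt k) : G) u → u * u * u = 1 := by
    intro k u hu
    obtain ⟨g, rfl⟩ := isConj_iff.1 hu
    calc _ = g * ((e.symm (pt k) : G) * e.symm (pt k) * e.symm (pt k)) * g⁻¹ := by group
      _ = 1 := by rw [h3]; group
  have hmem : ∀ k, (e.symm (pt k) : G) ∈ T := fun k =>
    (mem_T_iff H e T hTH hT (e.symm (pt k)).2).2 (by simpa using (pt_rot k).1)
  have hpne : ∀ k, (e.symm (pt k) : G) ≠ 1 := fun k e' => (pt_rot k).2 (by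
    have : e.symm (pt k) = 1 := Subtype.ext e'
    simpa using congrArg e this)
  have hcase : ∀ d : G, d ≠ 1 → d * d * d = 1 → d * x = x * d → d * y = y * d → False := by
    intro d hd1 hd3 hdx hdy
    have hdH : d ∈ H := hC _ (hmem l) (hpne l) (by
      rw [Subgroup.mem_centralizer_singleton_iff, ← hxy, ← mul_assoc, hdx, mul_assoc, hdy, ← mul_assoc])
    have hdT : d ∈ T := (mem_T_iff H e T hTH hT hdH).2 ((rot_iff _).2 (by
      rw [← map_mul, ← map_mul, show (⟨d, hdH⟩ : H) * ⟨d, hdH⟩ * ⟨d, hdH⟩ = 1 from Subtype.ext hd3, map_one]))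
    have inT : ∀ {k : Fin 3} {u : G}, IsConj (e.symm (pt k) : G) u → d * u = u * d →
        ∃ hu : u ∈ H, e ⟨u, hu⟩ ∈ [pt k, (pt k)⁻¹] := by
      intro k u hu hdu
      have huH : u ∈ H := hC d hdT hd1 (Subgroup.mem_centralizer_singleton_iff.2 hdu.symm)
      refine ⟨huH, ?_⟩
      obtain ⟨g, rfl⟩ := isConj_iff.1 hu
      have huT := (mem_T_iff H e T hTH hT huH).2 ((rot_iff _).2 (by
        rw [← map_mul, ← map_mul, show (⟨_, huH⟩ : H) * ⟨_, huH⟩ * ⟨_, huH⟩ = 1 from
          Subtype.ext (cube hu), map_one]))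
      have hgH := ti H e T hTH hT hN hC (hmem k) huT (fun e' => hpne k (conj_eq_one_iff.1 e')) rfl
      have he : e ⟨_, huH⟩ = e ⟨g, hgH⟩ * pt k * (e ⟨g, hgH⟩)⁻¹ := by
        rw [show (⟨_, huH⟩ : H) = ⟨g, hgH⟩ * e.symm (pt k) * (⟨g, hgH⟩ : H)⁻¹ from Subtype.ext rfl,
          map_mul, map_mul, map_inv, MulEquiv.apply_symm_apply]
      rw [he]
      rcases conj_pt k (e ⟨g, hgH⟩) with h4 | h4 <;> simp [h4]
    obtain ⟨hxH, hxM⟩ := inT hx hdx
    obtain ⟨hyH, hyM⟩ := inT hy hdy
    refine hne (pt_sum i j l _ hxM _ hyM ?_)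
    rw [← map_mul, show (⟨x, hxH⟩ : H) * ⟨y, hyH⟩ = e.symm (pt l) from Subtype.ext hxy,
      MulEquiv.apply_symm_apply]
  rcases triangle (cube hx) (cube hy) (hxy ▸ h3 l) with ⟨d, h1, h2, h4, h5⟩ | hc1
  · exact hcase d h1 h2 h4 h5
  have hl : (e.symm (pt l) : G) = x * y := hxy.symm
  have hyinv : y * (e.symm (pt l) : G)⁻¹ = x⁻¹ := by rw [hl]; group
  rcases triangle (x := y) (y := (e.symm (pt l) : G)⁻¹) (cube hy) (by rw [← mul_inv_rev, ← mul_inv_rev,
      ← mul_assoc, h3, inv_one]) (by
      rw [hyinv, ← mul_inv_rev, ← mul_inv_rev, ← mul_assoc, cube hx, inv_one]) with ⟨d, h1, h2, h4, h5⟩ | hc2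
  · refine hcase d h1 h2 ?_ h4
    have hdl : d * (e.symm (pt l) : G) = e.symm (pt l) * d := by
      have : Commute d (e.symm (pt l) : G)⁻¹ := h5
      simpa using this.inv_right.eq
    have : x = (e.symm (pt l) : G) * y⁻¹ := by rw [hl, mul_inv_cancel_right]
    rw [this]
    exact ((Commute.mul_right (show Commute d _ from hdl) (show Commute d y from h4).inv_right) : Commute _ _).eq
  refine hne ⟨fusion_pt H e T hTH hT hN hC ((hx.trans hc1).trans hy.symm), fusion_pt H e T hTH hT hN hC ?_⟩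
  obtain ⟨m, hm⟩ := pt_conj_inv l
  refine (hy.trans hc2).trans (IsConj.symm (isConj_iff.2 ⟨(e.symm m : G), ?_⟩))
  have h' := congrArg (fun z => (e.symm z : G)) hm
  simpa using h'

set_option maxHeartbeats 1000000 in
include e hTH hT hN hC in
theorem exists_linear_chars : ∃ L : Fin 3 → Cfsg.IrrCharacter G, Function.Injective L ∧
    ∀ c, L c ≠ Char.principalIrr ∧ (L c : G → ℂ) 1 = 1 := by
  classical
  have hGram : Gram (fun x => up H e (mT x)) (fun c => up H e (mA c)) (fun c => up H e (mB c)) (up H e mE)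
      (up H e mW) := by
    have gen : ∀ c, _ := isGen_all
    have sT : ∀ c, Supp (mT c) := fun c x hx => ((support x hx).1 c).1
    have sA : ∀ c, Supp (mA c) := fun c x hx => ((support x hx).1 c).2.1
    have sB : ∀ c, Supp (mB c) := fun c x hx => ((support x hx).1 c).2.2
    have sE : Supp mE := fun x hx => (support x hx).2.1
    have sW : Supp mW := fun x hx => (support x hx).2.2
    have cT : ∀ c, Cfsg.IsClassFunction H (tr H e (mT c)) := fun c =>
      Char.IsGeneralizedCharacter.isClassFunction (isGen_tr H e (gen c).2.1)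
    have cA : ∀ c, Cfsg.IsClassFunction H (tr H e (mA c)) := fun c =>
      Char.IsGeneralizedCharacter.isClassFunction (isGen_tr H e (gen c).1.1)
    have cB : ∀ c, Cfsg.IsClassFunction H (tr H e (mB c)) := fun c =>
      Char.IsGeneralizedCharacter.isClassFunction (isGen_tr H e (gen c).1.2)
    have cE : Cfsg.IsClassFunction H (tr H e mE) :=
      Char.IsGeneralizedCharacter.isClassFunction (isGen_tr H e (gen 0).2.2.1)
    have cW : Cfsg.IsClassFunction H (tr H e mW) :=
      Char.IsGeneralizedCharacter.isClassFunction (isGen_tr H e (gen 0).2.2.2)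
    have z1 : ∀ f, Supp f → up H e f 1 = 0 := fun f hf => by
      rw [up, Char.indFun_apply_one, tr, map_one, hf 1 (one_mul 1), Int.cast_zero, mul_zero]
    have gI : ∀ {f}, Cfsg.IsGeneralizedCharacter Md (fun x => ((f x : ℤ) : ℂ)) →
        Cfsg.IsGeneralizedCharacter G (up H e f) := fun hf =>
      Char.IsGeneralizedCharacter.indFun H (isGen_tr H e hf)
    have I := fun {f g} (hf : Supp f) (hg : Supp g) (hgc : Cfsg.IsClassFunction H (tr H e g)) {n : ℤ}
      (h : ip f g = 108 * n) => classInner_up H e T hTH hT hN hC hf hg hgc h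
    refine
      { tau0 := ?_, genT := fun c => gI (gen c).2.1, genA := fun c => gI (gen c).1.1,
        genB := fun c => gI (gen c).1.2, genE := gI (gen 0).2.2.1, genW := gI (gen 0).2.2.2,
        oneT := fun c => z1 _ (sT c), oneA := fun c => z1 _ (sA c), oneB := fun c => z1 _ (sB c),
        oneE := z1 _ sE,
        TT := fun x y hx hy => I (sT x) (sT y) (cT y) (ip_TT x y hx hy),
        T1 := fun x => up_inner_one H e _ (ip_one.1 x),
        A1 := fun x => up_inner_one H e _ (ip_one.2.1 x),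
        B1 := fun x => up_inner_one H e _ (ip_one.2.2.1 x),
        E1 := up_inner_one H e _ ip_one.2.2.2.1,
        W1 := up_inner_one H e _ ip_one.2.2.2.2,
        AT := fun c x => I (sA c) (sT x) (cT x) (ip_AT c x).1,
        BT := fun c x => I (sB c) (sT x) (cT x) (ip_AT c x).2,
        ET := fun x hx => I sE (sT x) (cT x) (ip_EWT x hx).1,
        WT := fun x hx => I sW (sT x) (cT x) (ip_EWT x hx).2,
        AA := fun c d => I (sA c) (sA d) (cA d) (ip_AB c d).1,
        AB := fun c d => I (sA c) (sB d) (cB d) (ip_AB c d).2.1,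
        BB := fun c d => I (sB c) (sB d) (cB d) (ip_AB c d).2.2,
        EA := fun c => I sE (sA c) (cA c) (ip_EW.1 c).1,
        EB := fun c => I sE (sB c) (cB c) (ip_EW.1 c).2.1,
        EE := I sE sE cE ip_EW.2.1,
        WA := fun c => I sW (sA c) (cA c) (ip_EW.1 c).2.2.1,
        WB := fun c => I sW (sB c) (cB c) (ip_EW.1 c).2.2.2,
        WE := I sW sE cE ip_EW.2.2.1,
        WW := I sW sW cW ip_EW.2.2.2 }
    show up H e (mT 0) = 0
    have : tr H e (mT 0) = 0 := by funext x; simp [tr, mT]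
    rw [up, this, Char.indFun_zero]
  have hphi : ∀ i, phi (fun x => up H e (mT x)) (fun c => up H e (mA c)) (fun c => up H e (mB c)) (up H e mE)
      (up H e mW) i = up H e (mPhi i) := by
    intro i
    simp only [phi, up, ← Char.indLin_apply, ← map_add, ← map_sub, ← map_smul, ← map_sum]
    congr 1
    funext x
    simp only [Pi.sub_apply, Pi.add_apply, Pi.smul_apply, Finset.sum_apply, smul_eq_mul, tr, phi_eq]
    push_cast
    ring
  obtain ⟨L, hLinj, hL⟩ := hGram.exists_linear (by
    intro i j l hne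
    simp only [hphi, classInner_up_phi]
    have h := CharDeep.ClassSum.card_pairs (e.symm (pt i) : G) (e.symm (pt j) : G) (e.symm (pt l) : G)
    rw [Finset.card_eq_zero.2 (Finset.filter_eq_empty_iff.2 fun p hp => no_triple H e T hTH hT hN hC hne
      (Finset.mem_filter.1 (Finset.mem_product.1 hp).1).2 (Finset.mem_filter.1 (Finset.mem_product.1 hp).2).2)] at h
    have hreal : ∀ χ : Cfsg.IrrCharacter G, conj ((χ : G → ℂ) (e.symm (pt l) : G)) =
        (χ : G → ℂ) (e.symm (pt l) : G) := fun χ => by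
      obtain ⟨m, hm⟩ := pt_conj_inv l
      rw [← Char.IsIrrCharacter.apply_inv χ.2, ← Subgroup.coe_inv, ← map_inv, ← hm]
      simp only [map_mul, map_inv, Subgroup.coe_mul, Subgroup.coe_inv]
      exact Char.IsIrrCharacter.isClassFunction χ.2 _ _
    simp only [hreal, Nat.cast_zero] at h
    have hpos : ∀ a : G, ((Finset.univ.filter (IsConj a)).card : ℂ) ≠ 0 := fun a =>
      Nat.cast_ne_zero.2 (Finset.card_ne_zero_of_mem (Finset.mem_filter.2 ⟨Finset.mem_univ a, IsConj.refl a⟩))
    exact (mul_eq_zero.1 h.symm).resolve_left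
      (div_ne_zero (mul_ne_zero (hpos _) (hpos _)) (Nat.cast_ne_zero.2 Nat.card_pos.ne')))
  exact ⟨L, hLinj, hL⟩

include e hTH hT hN in
theorem exists_sylow : ∃ P : Sylow 3 G, (P : Subgroup G) = T := by
  classical
  -- Sylow
  obtain ⟨P, hPT⟩ : ∃ P : Sylow 3 G, T ≤ P := IsPGroup.exists_le_sylow (IsPGroup.of_card (n := 3) hT)
  have hP : (P : Subgroup G) = T := by
    by_contra hne
    have hlt : T < P := lt_of_le_of_ne hPT (Ne.symm hne)
    have hPp : IsPGroup 3 (P : Subgroup G) := P.2
    have := Fact.mk Nat.prime_three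
    have hnil : Group.IsNilpotent (P : Subgroup G) := hPp.isNilpotent
    have hlt' : T.subgroupOf P < ⊤ := lt_top_iff_ne_top.2 fun e' => not_le_of_gt hlt (Subgroup.subgroupOf_eq_top.1 e')
    obtain ⟨x, hxn, hxT⟩ := SetLike.exists_of_lt (normalizerCondition_of_isNilpotent _ hlt')
    have hxN : (x : G) ∈ Subgroup.normalizer (T : Set G) := by
      refine Subgroup.mem_normalizer_iff.2 fun u => ⟨fun hu => ?_, fun hu => ?_⟩
      · exact (Subgroup.mem_normalizer_iff.1 hxn ⟨u, hPT hu⟩).1 hu
      · have hP2 : u ∈ (P : Subgroup G) := by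
          have := (P : Subgroup G).mul_mem ((P : Subgroup G).mul_mem ((P : Subgroup G).inv_mem x.2) (hPT hu)) x.2
          simpa [mul_assoc] using this
        exact (Subgroup.mem_normalizer_iff.1 hxn ⟨u, hP2⟩).2 hu
    rw [hN] at hxN
    refine hxT ((mem_T_iff H e T hTH hT hxN).2 (rot_of_pow _ ?_))
    obtain ⟨k, hk⟩ := hPp x
    have h3 : (e ⟨x, hxN⟩) ^ (3 ^ k) = 1 := by
      rw [← map_pow, show (⟨(x : G), hxN⟩ : H) ^ (3 ^ k) = 1 from Subtype.ext (by simpa using congrArg Subtype.val hk),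
        map_one]
    have hord : orderOf (e ⟨x, hxN⟩) ∣ 27 := by
      have a := orderOf_dvd_of_pow_eq_one h3
      have b := orderOf_dvd_card (x := e ⟨(x : G), hxN⟩)
      rw [card_Md] at b
      obtain ⟨j, -, hj⟩ := (Nat.dvd_prime_pow Nat.prime_three).1 a
      rw [hj] at b ⊢
      have hj3 : j ≤ 3 := by
        by_contra hj4
        have h81 := (pow_dvd_pow 3 (show 4 ≤ j by omega)).trans b
        norm_num at h81
      exact pow_dvd_pow 3 hj3
    exact orderOf_dvd_iff_pow_eq_one.1 hord
  exact ⟨P, hP⟩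

set_option maxHeartbeats 1000000 in
include e hTH hT hN hC in
theorem exists_kernel : ∃ K : Subgroup G, K.Normal ∧ T ≤ K ∧ H ⊔ K = ⊤ ∧ ∀ x ∈ K, x ∈ H → x ∈ T := by
  classical
  obtain ⟨L, hLinj, hL⟩ := exists_linear_chars H e T hTH hT hN hC
  obtain ⟨P, hP⟩ := exists_sylow H e T hTH hT hN
  -- the linear characters and their common kernel
  have hlin : ∀ c, ∃ f : G →* ℂˣ, (L c : G → ℂ) = fun g => (f g : ℂ) := fun c =>
    (Char.IsCharacter.exists_linear (Char.IsIrrCharacter.isCharacter (L c).2) (hL c).2).imp fun f hf => by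
      first | exact hf | exact hf.symm | (funext g; exact hf g)
  choose f hf using hlin
  set F : Option (Fin 3) → (G →* ℂˣ) := fun o => o.elim 1 f with hF
  have hFinj : Function.Injective F := by
    have h1 : ∀ c, f c ≠ 1 := fun c e' => (hL c).1 (Subtype.ext (by rw [hf c, e']; rfl))
    rintro (_ | c) (_ | d) hcd
    · rfl
    · exact absurd hcd.symm (h1 d)
    · exact absurd hcd (h1 c)
    · exact congrArg some (hLinj (Subtype.ext (by rw [hf c, hf d, show f c = f d from hcd])))
  set K : Subgroup G := ⨅ o, (F o).ker with hK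
  have hKn : K.Normal := Subgroup.normal_iInf_normal fun o => inferInstance
  have hTK : T ≤ K := by
    intro t ht
    refine Subgroup.mem_iInf.2 fun o => ?_
    obtain ⟨hf', hdec⟩ := rot_commutator _ ((mem_T_iff H e T hTH hT (hTH ht)).1 ht)
    have h2 := congrArg (fun m => F o (e.symm m : G)) hdec
    simp only [MulEquiv.symm_apply_apply, map_mul, map_inv, Subgroup.coe_mul, Subgroup.coe_inv] at h2
    rw [MonoidHom.mem_ker, h2]
    have hc : ∀ p q : ℂˣ, p * q * p⁻¹ * q⁻¹ = 1 := fun p q => by rw [mul_comm p q]; group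
    rw [hc, hc, mul_one]
  have hsup : Subgroup.normalizer (T : Set G) ⊔ K = ⊤ := by
    have := Sylow.normalizer_sup_eq_top' P (N := K) (hP ▸ hTK)
    convert this using 3
    exact (congrArg SetLike.coe hP).symm
  rw [hN] at hsup
  have hKH : ∀ x ∈ K, x ∈ H → x ∈ T := by
    intro x hxK hxH
    have hv : ∀ (o : Option (Fin 3)) (v : Md), v * v = 1 →
        (F o (e.symm v : G) : ℂ) = 1 ∨ (F o (e.symm v : G) : ℂ) = -1 := by
      intro o v hv2
      have : F o (e.symm v : G) * F o (e.symm v : G) = 1 := by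
        rw [← map_mul, ← Subgroup.coe_mul, ← map_mul, hv2, map_one, OneMemClass.coe_one, map_one]
      exact mul_self_eq_one_iff.1 (by rw [← Units.val_mul, this, Units.val_one])
    have hTone : ∀ o, ∀ m : Md, IsRot m → F o (e.symm m : G) = 1 := fun o m hm => by
      have := hTK ((mem_T_iff H e T hTH hT (e.symm m).2).2 (by simpa using hm))
      exact MonoidHom.mem_ker.1 (Subgroup.mem_iInf.1 this o)
    set Φ : Option (Fin 3) → Bool × Bool := fun o =>
      (decide ((F o (e.symm va : G) : ℂ) = 1), decide ((F o (e.symm vb : G) : ℂ) = 1)) with hΦ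
    have hΦinj : Function.Injective Φ := by
      intro o o' ho
      apply hFinj
      simp only [hΦ, Prod.mk.injEq, decide_eq_decide] at ho
      have hval : ∀ v : Md, v * v = 1 → ((F o (e.symm v : G) : ℂ) = 1 ↔ (F o' (e.symm v : G) : ℂ) = 1) →
          F o (e.symm v : G) = F o' (e.symm v : G) := by
        intro v hv2 hiff
        refine Units.ext ?_
        rcases hv o v hv2 with a | a <;> rcases hv o' v hv2 with b | b
        · rw [a, b]
        · exact absurd (hiff.1 a) (by rw [b]; norm_num)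
        · exact absurd (hiff.2 b) (by rw [a]; norm_num)
        · rw [a, b]
      have e1 := hval va v_sq.1 ho.1
      have e2 := hval vb v_sq.2 ho.2
      have hM : ∀ m : Md, F o (e.symm m : G) = F o' (e.symm m : G) := by
        intro m
        rcases rot_mul_v m with h | h | h | h
        · rw [hTone o m h, hTone o' m h]
        all_goals
          have h1 := (hTone o _ h).trans (hTone o' _ h).symm
          simp only [map_mul, Subgroup.coe_mul, e1, e2] at h1
          exact mul_right_cancel h1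
      refine MonoidHom.ext fun g => ?_
      have hg : g ∈ H ⊔ K := hsup ▸ Subgroup.mem_top g
      refine (show H ⊔ K ≤ MonoidHom.eqLocus (F o) (F o') from sup_le (fun y hy => ?_) (fun y hy => ?_)) hg
      · have h1 := hM (e ⟨y, hy⟩)
        rw [MulEquiv.symm_apply_apply] at h1
        exact h1
      · exact (MonoidHom.mem_ker.1 (Subgroup.mem_iInf.1 hy o)).trans
          (MonoidHom.mem_ker.1 (Subgroup.mem_iInf.1 hy o')).symm
    rw [mem_T_iff H e T hTH hT hxH]
    have hone : ∀ o, F o (e.symm (e ⟨x, hxH⟩) : G) = 1 := fun o => by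
      rw [MulEquiv.symm_apply_apply]; exact MonoidHom.mem_ker.1 (Subgroup.mem_iInf.1 hxK o)
    rcases rot_mul_v (e ⟨x, hxH⟩) with h | h | h | h
    · exact h
    all_goals exfalso
    · have hA : ∀ o, (Φ o).1 = true := fun o => by
        have := hTone o _ h
        simp only [map_mul, Subgroup.coe_mul, hone, one_mul] at this
        simp [hΦ, this]
      exact absurd (Fintype.card_le_of_injective (fun o => (Φ o).2) fun a b e' =>
        hΦinj (Prod.ext ((hA a).trans (hA b).symm) e')) (by decide)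
    · have hA : ∀ o, (Φ o).2 = true := fun o => by
        have := hTone o _ h
        simp only [map_mul, Subgroup.coe_mul, hone, one_mul] at this
        simp [hΦ, this]
      exact absurd (Fintype.card_le_of_injective (fun o => (Φ o).1) fun a b e' =>
        hΦinj (Prod.ext e' ((hA a).trans (hA b).symm))) (by decide)
    · have hA : ∀ o, (Φ o).1 = (Φ o).2 := fun o => by
        have := hTone o _ h
        simp only [map_mul, Subgroup.coe_mul, hone, one_mul] at this
        have h' : (F o (e.symm va : G) : ℂ) * (F o (e.symm vb : G) : ℂ) = 1 := by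
          rw [← Units.val_mul, this, Units.val_one]
        simp only [hΦ, decide_eq_decide]
        constructor <;> intro hh <;> rw [hh] at h'
        · rwa [one_mul] at h'
        · rwa [mul_one] at h'
      exact absurd (Fintype.card_le_of_injective (fun o => (Φ o).1) fun a b e' =>
        hΦinj (Prod.ext e' ((hA a).symm.trans (e'.trans (hA b))))) (by decide)
  exact ⟨K, hKn, hTK, hsup, hKH⟩

include e hTH hT hN hC in
theorem eq_top : H = ⊤ := by
  classical
  obtain ⟨P, hP⟩ := exists_sylow H e T hTH hT hN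
  obtain ⟨K, hKn, hTK, hsup, hKH⟩ := exists_kernel H e T hTH hT hN hC
  -- Burnside transfer in the kernel
  have := Fact.mk Nat.prime_three
  let Q : Sylow 3 K := P.subtype (hP ▸ hTK)
  have hQ : (Q : Subgroup K) = T.subgroupOf K := by
    show ((P.subtype _ : Sylow 3 K) : Subgroup K) = _
    rw [Sylow.coe_subtype, hP]
  have hQC : Subgroup.normalizer ((Q : Subgroup K) : Set K) ≤ Subgroup.centralizer ((Q : Subgroup K) : Set K) := by
    intro x hx
    rw [hQ] at hx
    have hxT : (x : G) ∈ T := hKH _ x.2 (hN ▸ Subgroup.mem_normalizer_iff.2 fun u => ⟨fun hu => ?_, fun hu => ?_⟩)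
    · rw [Subgroup.mem_centralizer_iff]
      intro z hz
      rw [SetLike.mem_coe, hQ, Subgroup.mem_subgroupOf] at hz
      have := rot_comm _ _ ((mem_T_iff H e T hTH hT (hTH hz)).1 hz) ((mem_T_iff H e T hTH hT (hTH hxT)).1 hxT)
      rw [← map_mul, ← map_mul] at this
      exact Subtype.ext (congrArg (fun w : H => (w : G)) (e.injective this))
    · exact (Subgroup.mem_normalizer_iff.1 hx ⟨u, hTK hu⟩).1 hu
    · have huK : u ∈ K := by
        have h1 := hKn.conj_mem _ (hTK hu) (x : G)⁻¹
        simpa [mul_assoc] using h1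
      exact (Subgroup.mem_normalizer_iff.1 hx ⟨u, huK⟩).2 hu
  set N := (MonoidHom.transferSylow Q hQC).ker with hNdef
  have hN3 : ¬ 3 ∣ Nat.card N := MonoidHom.not_dvd_card_ker_transferSylow Q hQC
  have hNn : N.Normal := MonoidHom.normal_ker _
  have hcomp := MonoidHom.ker_transferSylow_isComplement' Q hQC
  rw [← hNdef] at hcomp
  clear_value N
  set N' : Subgroup G := N.map K.subtype with hN'
  have hcardN : Nat.card N' = Nat.card N :=
    (Nat.card_congr (Subgroup.equivMapOfInjective N K.subtype Subtype.val_injective).toEquiv).symm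
  have hTc : ∀ a ∈ T, ∀ b ∈ T, a * b = b * a := fun a ha b hb => by
    have := rot_comm _ _ ((mem_T_iff H e T hTH hT (hTH ha)).1 ha) ((mem_T_iff H e T hTH hT (hTH hb)).1 hb)
    rw [← map_mul, ← map_mul] at this
    exact congrArg Subtype.val (e.injective this)
  haveI hTcomm : IsMulCommutative T := ⟨⟨fun a b => Subtype.ext (hTc a a.2 b b.2)⟩⟩
  have hnc : ¬ IsCyclic T := by
    intro hcyc
    obtain ⟨g, hg⟩ := IsCyclic.exists_generator (α := T)
    have h3 : orderOf g = 27 := by rw [orderOf_eq_card_of_forall_mem_zpowers hg, hT]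
    have hg3 : g ^ 3 = 1 := by
      have := (rot_iff _).1 ((mem_T_iff H e T hTH hT (hTH g.2)).1 g.2)
      rw [← map_mul, ← map_mul, ← map_one e] at this
      refine Subtype.ext ?_
      simpa [pow_succ] using congrArg Subtype.val (e.injective this)
    have := orderOf_dvd_of_pow_eq_one hg3
    rw [h3] at this
    norm_num at this
  have hcop27 : Nat.Coprime 27 (Nat.card N') := by
    rw [hcardN, show (27 : ℕ) = 3 ^ 3 from rfl]
    exact Nat.Coprime.pow_left _ ((Nat.Prime.coprime_iff_not_dvd Nat.prime_three).2 hN3)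
  have hN'bot : N' ≤ ⊥ := by
    refine Solvable.le_of_centralizer_le hnc ?_ (by rw [hT]; exact hcop27) fun a ha ha1 => ?_
    · intro t ht
      refine Subgroup.mem_normalizer_iff.2 fun u => ⟨?_, ?_⟩
      · rintro ⟨v, hv, rfl⟩
        exact ⟨⟨t, hTK ht⟩ * v * ⟨t, hTK ht⟩⁻¹, hNn.conj_mem v hv _, rfl⟩
      · rintro ⟨v, hv, hvu⟩
        refine ⟨(⟨t, hTK ht⟩ : K)⁻¹ * v * ⟨t, hTK ht⟩, ?_, ?_⟩
        · simpa using hNn.conj_mem v hv (⟨t, hTK ht⟩ : K)⁻¹
        · have h' : (v : G) = t * u * t⁻¹ := hvu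
          show t⁻¹ * (v : G) * t = u
          rw [h']; group
    · rintro u ⟨hu, hu'⟩
      obtain ⟨v, hv, rfl⟩ := hu
      have hT' : (v : G) ∈ T := hKH _ v.2 (hC a ha ha1 hu')
      have h1 : orderOf (v : G) ∣ 27 := by
        rw [← Subgroup.orderOf_mk (v : G) hT', ← hT]
        exact orderOf_dvd_natCard _
      have hvN' : (v : G) ∈ N' := ⟨v, hv, rfl⟩
      have h2 : orderOf (v : G) ∣ Nat.card N' := by
        rw [← Subgroup.orderOf_mk (v : G) hvN']
        exact orderOf_dvd_natCard _
      exact Subgroup.mem_bot.2 (orderOf_eq_one_iff.1 (Nat.eq_one_of_dvd_coprimes hcop27 h1 h2))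
  have hKT : K ≤ T := by
    have hNb : N = ⊥ := by
      rw [eq_bot_iff]
      intro v hv
      exact Subgroup.mem_bot.2 (Subtype.ext (Subgroup.mem_bot.1 (hN'bot ⟨v, hv, rfl⟩)))
    rw [hNb] at hcomp
    have hQtop : (Q : Subgroup K) = ⊤ := by simpa using hcomp
    intro x hx
    have : (⟨x, hx⟩ : K) ∈ (Q : Subgroup K) := hQtop ▸ Subgroup.mem_top _
    rw [hQ] at this
    exact this
  rw [← hsup]
  exact le_antisymm le_sup_left (sup_le le_rfl (hKT.trans hTH))

end Main

end CfsgLib.ThreeCube
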