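import Cfsg.Agent.Lib.CA.SmallData
import Cfsg.Agent.Lib.CharDeep.ClassSum
import Cfsg.Agent.Lib.Recog.ThreeCubeMain
import Cfsg.Agent.Lib.Recog.OrderThreeSixty

/-!
A simple group with a self-centralizing `3 × 3` Sylow subgroup in the strong sense and two classes of
elements of order three is the alternating group of degree six.
-/

set_option autoImplicit false

open scoped ComplexConjugate

namespace CfsgLib.Recog.ThreeNine

open CfsgLib.CA CfsgLib.CA.Small

universe u

variable {G : Type u} [Group G] [Fintype G] {A : Subgroup G} [Fintype A]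
  [Fintype (Subgroup.normalizer (A : Set G))]

omit [Fintype (Subgroup.normalizer (A : Set G))] in
theorem cube (h3 : ∀ a ∈ A, a ^ 3 = 1) (a : A) : (a : G) * a * a = 1 := by
  simpa [pow_succ] using h3 a a.2

omit [Fintype (Subgroup.normalizer (A : Set G))] in
theorem inv_ne (h3 : ∀ a ∈ A, a ^ 3 = 1) {a : A} (ha : a ≠ 1) : a⁻¹ ≠ a := by
  intro h
  refine ha (Subtype.ext ?_)
  have := cube h3 a
  rw [mul_eq_one_iff_eq_inv.2 (congrArg Subtype.val h.symm), one_mul] at this
  exact this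

theorem inv_mem (hA : SelfCent A) (hodd : Odd (Nat.card A)) {e : ℕ}
    (he : Nat.card (Subgroup.normalizer (A : Set G)) = Nat.card A * e) (h2 : 2 ∣ e) (a : A) :
    a⁻¹ ∈ ncl a := by
  have := Fact.mk Nat.prime_two
  obtain ⟨t, ht⟩ := exists_prime_orderOf_dvd_card' 2 (he ▸ dvd_mul_of_dvd_right h2 _)
  have htA : (t : G) ∉ A := by
    intro h
    have h' := orderOf_dvd_natCard (⟨(t : G), h⟩ : A)
    rw [Subgroup.orderOf_mk, Subgroup.orderOf_coe, ht] at h'
    exact (Nat.not_even_iff_odd.2 hodd) (even_iff_two_dvd.2 h')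
  have ht2 : (t : G) * t = 1 := by
    have := congrArg Subtype.val (ht ▸ pow_orderOf_eq_one t : t ^ 2 = 1)
    simpa [pow_two] using this
  have hti : (t : G)⁻¹ = t := (eq_inv_of_mul_eq_one_left ht2).symm
  refine mem_ncl.2 ⟨t, ?_⟩
  by_contra hne
  refine htA (hA.mem_of_commute (A.mul_mem a.2 (conjA A t a).2) (fun h1 => hne (Subtype.ext ?_)) ?_)
  · rw [Subgroup.coe_inv]; exact (eq_inv_of_mul_eq_one_right h1)
  · have hc := hA.comm a.2 (conjA A t a).2
    calc (t : G) * ((a : G) * (conjA A t a : A)) = ((t : G) * a * (t : G)⁻¹) * ((t : G) * t) * a * (t : G)⁻¹ := by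
          rw [conjA_coe]; group
      _ = (conjA A t a : A) * (a : G) * t := by rw [ht2, hti, conjA_coe, hti, mul_one]
      _ = (a : G) * (conjA A t a : A) * t := by rw [hc]

omit [Fintype (Subgroup.normalizer (A : Set G))] in
theorem no_linear [IsSimpleGroup G] (hnc : ∃ x y : G, x * y ≠ y * x) (χ : Cfsg.IrrCharacter G)
    (hne : χ ≠ Char.principalIrr) : (χ : G → ℂ) 1 ≠ 1 := by
  intro h1
  obtain ⟨F, hF⟩ := Char.IsCharacter.exists_linear (Char.IsIrrCharacter.isCharacter χ.2) h1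
  rcases F.normal_ker.eq_bot_or_eq_top with h | h
  · obtain ⟨x, y, hxy⟩ := hnc
    exact hxy (MonoidHom.ker_eq_bot_iff _ |>.1 h (by rw [map_mul, map_mul, mul_comm]))
  · refine hne (Subtype.ext (funext fun g => ?_))
    rw [hF g, MonoidHom.mem_ker.1 (h ▸ Subgroup.mem_top g : g ∈ F.ker)]
    rfl

set_option maxHeartbeats 400000 in
theorem pairs_eq (hA : SelfCent A) (h3 : ∀ a ∈ A, a ^ 3 = 1) {a b c : A} (ha : a ≠ 1) (hb : b ≠ 1)
    (hc : c ≠ 1) (hne : ¬ (b ∈ ncl a ∧ c⁻¹ ∈ ncl b)) [DecidableEq G] [DecidablePred (IsConj (a : G))]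
    [DecidablePred (IsConj (b : G))] :
    ((Finset.univ.filter (IsConj (a : G)) ×ˢ Finset.univ.filter (IsConj (b : G))).filter
      fun p => p.1 * p.2 = (c : G)).card = pairsA a b c := by
  classical
  have cubeC : ∀ {u : A} {x : G}, IsConj (u : G) x → x * x * x = 1 := by
    intro u x hu
    obtain ⟨g, rfl⟩ := isConj_iff.1 hu
    calc _ = g * ((u : G) * u * u) * g⁻¹ := by group
      _ = 1 := by rw [cube h3]; group
  have key : ∀ {x y : G}, IsConj (a : G) x → IsConj (b : G) y → x * y = (c : G) → x ∈ A ∧ y ∈ A := by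
    intro x y hx hy hxy
    have hc1 : (c : G) ≠ 1 := fun h => hc (Subtype.ext h)
    have hcase : ∀ d : G, d ≠ 1 → d * x = x * d → d * y = y * d → x ∈ A ∧ y ∈ A := by
      intro d hd hdx hdy
      have hdA : d ∈ A := hA.mem_of_commute c.2 hc1 (by
        rw [← hxy, ← mul_assoc, hdx, mul_assoc, hdy, ← mul_assoc])
      exact ⟨hA.mem_of_commute hdA hd hdx.symm, hA.mem_of_commute hdA hd hdy.symm⟩
    rcases ThreeCube.triangle (cubeC hx) (cubeC hy) (hxy ▸ cube h3 c) with ⟨d, h1, -, h4, h5⟩ | hc1'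
    · exact hcase d h1 h4 h5
    have hyinv : y * (c : G)⁻¹ = x⁻¹ := by rw [← hxy]; group
    rcases ThreeCube.triangle (x := y) (y := (c : G)⁻¹) (cubeC hy)
        (by rw [← Subgroup.coe_inv]; exact cube h3 _)
        (by rw [hyinv, ← mul_inv_rev, ← mul_inv_rev, ← mul_assoc, cubeC hx, inv_one]) with
      ⟨d, h1, -, h4, h5⟩ | hc2
    · refine hcase d h1 ?_ h4
      have hdc : Commute d (c : G) := by
        have : Commute d (c : G)⁻¹ := h5
        simpa using this.inv_right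
      rw [show x = (c : G) * y⁻¹ by rw [← hxy, mul_inv_cancel_right]]
      exact (hdc.mul_right (show Commute d y from h4).inv_right).eq
    exact absurd ⟨(isConj_iff_mem_ncl hA ha).1 ((hx.trans hc1').trans hy.symm),
      (isConj_iff_mem_ncl hA hb).1 (by rw [Subgroup.coe_inv]; exact hy.trans hc2)⟩ hne
  unfold pairsA
  refine (Finset.card_bij (fun (p : A × A) _ => ((p.1 : G), (p.2 : G))) ?_ ?_ ?_).symm
  · intro p hp
    simp only [Finset.mem_filter, Finset.mem_product] at hp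
    simp only [Finset.mem_filter, Finset.mem_product, Finset.mem_univ, true_and]
    exact ⟨⟨(isConj_iff_mem_ncl hA ha).2 hp.1.1, (isConj_iff_mem_ncl hA hb).2 hp.1.2⟩,
      by rw [← Subgroup.coe_mul, hp.2]⟩
  · intro p _ q _ h
    simp only [Prod.mk.injEq, SetLike.coe_eq_coe] at h
    exact Prod.ext h.1 h.2
  · rintro ⟨x, y⟩ hp
    simp only [Finset.mem_filter, Finset.mem_product, Finset.mem_univ, true_and] at hp
    obtain ⟨⟨hx, hy⟩, hxy⟩ := hp
    obtain ⟨hxA, hyA⟩ := key hx hy hxy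
    refine ⟨(⟨x, hxA⟩, ⟨y, hyA⟩), ?_, rfl⟩
    simp only [Finset.mem_filter, Finset.mem_product]
    exact ⟨⟨(isConj_iff_mem_ncl hA ha).1 hx, (isConj_iff_mem_ncl hA hb).1 hy⟩, Subtype.ext hxy⟩

theorem coef_eq (hA : SelfCent A) (h3 : ∀ a ∈ A, a ^ 3 = 1) {e : ℕ} (D : Data A e) {a b c : A} (ha : a ≠ 1)
    (hb : b ≠ 1) (hc : c ≠ 1) (hne : ¬ (b ∈ ncl a ∧ c⁻¹ ∈ ncl b)) :
    (Nat.card A : ℚ) ^ 2 * (pairsA a b c : ℚ) = (Nat.card G : ℚ) *
      (1 + ∑ χ ∈ D.rest, (D.coeff χ : ℚ) ^ 3 / (D.deg χ : ℚ) +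
        (D.eps : ℚ) * ((Nat.card A : ℚ) * (pairsA a b c : ℚ) - (e : ℚ) ^ 2) / (D.f : ℚ)) := by
  classical
  have h := CharDeep.ClassSum.card_pairs (a : G) (b : G) (c : G)
  rw [pairs_eq hA h3 ha hb hc hne, D.coef a b c ha hb hc] at h
  have hK : ∀ u : A, u ≠ 1 →
      ((Finset.univ.filter (IsConj (u : G))).card : ℂ) * (Nat.card A : ℂ) = (Nat.card G : ℂ) := by
    intro u hu
    have h' := Char.card_isConj_mul_card_centralizer (u : G)
    rw [hA.centralizer_eq _ u.2 (fun h1 => hu (Subtype.ext h1))] at h'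
    rw [← Fintype.card_subtype, ← Nat.card_eq_fintype_card]
    exact_mod_cast h'
  have hG : (Nat.card G : ℂ) ≠ 0 := Nat.cast_ne_zero.mpr Nat.card_pos.ne'
  rw [← (Rat.cast_injective (α := ℂ)).eq_iff]
  push_cast
  generalize (1 : ℂ) + _ + _ = S at h ⊢
  rw [h]
  calc _ = ((Finset.univ.filter (IsConj (a : G))).card * (Nat.card A : ℂ)) *
        ((Finset.univ.filter (IsConj (b : G))).card * (Nat.card A : ℂ)) / (Nat.card G : ℂ) * S := by ring
    _ = _ := by rw [hK a ha, hK b hb, mul_div_assoc, div_self hG, mul_one]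

omit [Fintype (Subgroup.normalizer (A : Set G))] in
theorem rest_sq {e : ℕ} {n : ℕ} (he : e = n + 1) (he4 : e ≤ 4)
    [Fintype (Subgroup.normalizer (A : Set G))] (D : Data A e) :
    D.rest.card = n ∧ ∀ χ ∈ D.rest, D.coeff χ = 1 ∨ D.coeff χ = -1 := by
  have hn := D.norm
  have hsq : ∀ χ ∈ D.rest, 1 ≤ D.coeff χ ^ 2 := fun χ h => by
    have := (D.rest_ne χ h).2
    rcases lt_or_gt_of_ne this with h' | h' <;> nlinarith
  have hle : ∀ χ ∈ D.rest, D.coeff χ = 1 ∨ D.coeff χ = -1 := by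
    intro χ h
    have h1 := Finset.single_le_sum (f := fun ψ => D.coeff ψ ^ 2) (fun ψ _ => sq_nonneg _) h
    have he' : (e : ℤ) ≤ 4 := by exact_mod_cast he4
    have h2 : -1 ≤ D.coeff χ ∧ D.coeff χ ≤ 1 := by constructor <;> nlinarith
    have := (D.rest_ne χ h).2
    omega
  refine ⟨?_, hle⟩
  rw [Finset.sum_congr rfl (g := fun _ => (1 : ℤ)) fun χ h => by rcases hle χ h with a | a <;> simp [a],
    Finset.sum_const, nsmul_eq_mul, mul_one] at hn
  have he' : (e : ℤ) = n + 1 := by exact_mod_cast he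
  push_cast at hn
  omega

theorem false_of_one [IsSimpleGroup G] (hnc : ∃ x y : G, x * y ≠ y * x) (D : Data A 1) : False := by
  obtain ⟨hcard, -⟩ := rest_sq (n := 0) rfl (by norm_num) D
  have h := D.degree
  rw [Finset.card_eq_zero.1 hcard, Finset.sum_empty, add_zero] at h
  obtain ⟨χ, hχ, hf⟩ := D.exists_f
  refine no_linear hnc χ hχ ?_
  rw [hf]
  rcases D.eps_sq with e1 | e1 <;> rw [e1] at h
  · have h' : (D.f : ℤ) = 1 := by linarith
    exact_mod_cast h'
  · have h0 : (0 : ℤ) ≤ D.f := by positivity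
    omega

theorem f_pos {e : ℕ} (D : Data A e) : 0 < D.f := by
  obtain ⟨χ, -, hf⟩ := D.exists_f
  obtain ⟨n, hn, hn'⟩ := Char.IsIrrCharacter.exists_degree χ.2
  rw [hf] at hn'
  exact_mod_cast (show 0 < D.f by rw [show D.f = n by exact_mod_cast hn']; exact hn)

theorem deg_pos {e : ℕ} (D : Data A e) (χ : Cfsg.IrrCharacter G) : 0 < D.deg χ := by
  obtain ⟨n, hn, hn'⟩ := Char.IsIrrCharacter.exists_degree χ.2
  rw [D.deg_eq] at hn'
  rw [show D.deg χ = n by exact_mod_cast hn']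
  exact hn

set_option maxHeartbeats 400000 in
theorem false_of_two [IsSimpleGroup G] (hnc : ∃ x y : G, x * y ≠ y * x) (hA : SelfCent A)
    (h3 : ∀ a ∈ A, a ^ 3 = 1) (hcard : Nat.card A = 9)
    (he : Nat.card (Subgroup.normalizer (A : Set G)) = Nat.card A * 2) (D : Data A 2) : False := by
  classical
  obtain ⟨a, ha⟩ := @exists_ne A (Finite.one_lt_card_iff_nontrivial.1 (by omega : 1 < Nat.card A)) 1
  have hinv : ∀ x : A, x⁻¹ ∈ ncl x := inv_mem hA (by rw [hcard]; decide) he dvd_rfl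
  have hncl : ncl a = {a, a⁻¹} := by
    symm
    refine Finset.eq_of_subset_of_card_le ?_ ?_
    · intro y hy
      simp only [Finset.mem_insert, Finset.mem_singleton] at hy
      rcases hy with rfl | rfl
      exacts [self_mem_ncl _, hinv a]
    · rw [card_ncl hA he ha, Finset.card_pair (inv_ne h3 ha).symm]
  obtain ⟨c, hc⟩ : ∃ c : A, c ∉ insert 1 (ncl a) := by
    by_contra h
    push Not at h
    have := Finset.card_le_card (s := (Finset.univ : Finset A)) fun x _ => h x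
    rw [Finset.card_univ, ← Nat.card_eq_fintype_card, hcard] at this
    have h' := Finset.card_insert_le (1 : A) (ncl a)
    rw [card_ncl hA he ha] at h'
    omega
  simp only [Finset.mem_insert, not_or] at hc
  have hne : ¬ (a ∈ ncl a ∧ c⁻¹ ∈ ncl a) := fun h => hc.2 (by
    rw [← ncl_eq_of_mem h.2]
    simpa using hinv c⁻¹)
  have hzero : pairsA a a c = 0 := by
    rw [pairsA, Finset.card_eq_zero, Finset.filter_eq_empty_iff]
    rintro ⟨x, y⟩ hp hxy
    simp only [hncl, Finset.mem_product, Finset.mem_insert, Finset.mem_singleton] at hp hc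
    have ha3 : a * a = a⁻¹ := eq_inv_of_mul_eq_one_left (Subtype.ext (cube h3 a))
    simp only at hxy
    rcases hp.1 with rfl | rfl <;> rcases hp.2 with rfl | rfl
    · exact hc.2 (Or.inr (hxy.symm.trans ha3))
    · exact hc.1 (hxy.symm.trans (mul_inv_cancel _))
    · exact hc.1 (hxy.symm.trans (inv_mul_cancel _))
    · refine hc.2 (Or.inl (hxy.symm.trans ?_))
      rw [← mul_inv_rev, ha3, inv_inv]
  have h := coef_eq hA h3 D ha ha hc.1 hne
  rw [hzero, Nat.cast_zero, mul_zero, eq_comm, mul_eq_zero] at h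
  replace h := h.resolve_left (Nat.cast_ne_zero.mpr Nat.card_pos.ne')
  obtain ⟨hcr, hsgn⟩ := rest_sq (n := 1) rfl (by norm_num) D
  obtain ⟨ψ, hψ⟩ := Finset.card_eq_one.1 hcr
  have hdeg := D.degree
  rw [hψ, Finset.sum_singleton] at hdeg h
  have hψm : ψ ∈ D.rest := by rw [hψ]; exact Finset.mem_singleton_self ψ
  have hd2 : 2 ≤ D.deg ψ := by
    by_contra hlt
    have := deg_pos D ψ
    refine no_linear hnc ψ (D.rest_ne ψ hψm).1 ?_
    rw [D.deg_eq, show D.deg ψ = 1 by omega, Nat.cast_one]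
  have hf := f_pos D
  have hfq : (D.f : ℚ) ≠ 0 := Nat.cast_ne_zero.mpr hf.ne'
  have hdq : (D.deg ψ : ℚ) ≠ 0 := Nat.cast_ne_zero.mpr (deg_pos D ψ).ne'
  field_simp at h
  push_cast at h
  have hz : (D.deg ψ : ℤ) * D.f + D.coeff ψ ^ 3 * D.f - 4 * D.eps * D.deg ψ = 0 := by
    have : ((D.deg ψ : ℤ) * D.f + D.coeff ψ ^ 3 * D.f - 4 * D.eps * D.deg ψ : ℚ) = 0 := by
      push_cast; linear_combination h
    exact_mod_cast this
  have hd2' : (2 : ℤ) ≤ D.deg ψ := by exact_mod_cast hd2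
  have hf' : (1 : ℤ) ≤ D.f := by exact_mod_cast hf
  rcases D.eps_sq with e1 | e1 <;> rcases hsgn ψ hψm with c1 | c1 <;> rw [e1, c1] at hz hdeg
  · have hde : (D.deg ψ : ℤ) = D.f - 1 := by linarith
    rw [hde] at hz
    have : ((D.f : ℤ) - 2) ^ 2 = 0 := by nlinarith
    have := pow_eq_zero_iff (two_ne_zero) |>.1 this
    omega
  · omega
  · omega
  · have hde : (D.deg ψ : ℤ) = D.f + 1 := by linarith
    rw [hde] at hz
    nlinarith

/-- Coordinates of the pairs in a group of exponent three. -/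
def model : Finset (ZMod 3 × ZMod 3) := {(1, 0), (2, 0), (0, 1), (0, 2)}

theorem model_count : ((model ×ˢ model).filter fun p => p.1 + p.2 = (1, 1)).card = 2 := by decide

theorem model_notMem : ((1, 1) : ZMod 3 × ZMod 3) ∉ model ∧ ((2, 2) : ZMod 3 × ZMod 3) ∉ model := by decide

set_option maxHeartbeats 800000 in
theorem card_le_of_four (hA : SelfCent A) (h3 : ∀ a ∈ A, a ^ 3 = 1) (hcard : Nat.card A = 9)
    (he : Nat.card (Subgroup.normalizer (A : Set G)) = Nat.card A * 4) (D : Data A 4) :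
    Nat.card G ≤ 720 := by
  classical
  obtain ⟨a, ha⟩ := @exists_ne A (Finite.one_lt_card_iff_nontrivial.1 (by omega : 1 < Nat.card A)) 1
  have hinv : ∀ x : A, x⁻¹ ∈ ncl x := inv_mem hA (by rw [hcard]; decide) he (by norm_num)
  obtain ⟨y, hy, hy'⟩ : ∃ y ∈ ncl a, y ∉ ({a, a⁻¹} : Finset A) := by
    by_contra h
    push Not at h
    have := Finset.card_le_card h
    rw [card_ncl hA he ha] at this
    have := this.trans Finset.card_le_two
    omega
  simp only [Finset.mem_insert, Finset.mem_singleton, not_or] at hy'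
  have hcm : ∀ u v : A, Commute u v := fun u v => Subtype.ext (hA.comm u.2 v.2)
  have p3 : ∀ u : A, u ^ 3 = 1 := fun u => Subtype.ext (by simpa using h3 u u.2)
  let φ : ZMod 3 × ZMod 3 → A := fun p => a ^ p.1.val * y ^ p.2.val
  have hφ : ∀ p q, φ (p + q) = φ p * φ q := by
    intro p q
    have hp : ∀ (u : A) (i j : ZMod 3), u ^ (i + j).val = u ^ i.val * u ^ j.val := by
      intro u i j
      rw [← pow_add, ZMod.val_add, ← pow_eq_pow_mod _ (p3 u)]
    simp only [φ, Prod.fst_add, Prod.snd_add, hp]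
    exact (hcm _ _).mul_mul_mul_comm _ _
  have hy1 : y ≠ 1 := ne_one_of_mem_ncl ha hy
  have hsq : ∀ u : A, u ^ 2 = u⁻¹ := fun u => eq_inv_of_mul_eq_one_left (by rw [← pow_succ, p3])
  have hφ0 : ∀ p, φ p = 1 → p = 0 := by
    rintro ⟨i, j⟩ h
    fin_cases i <;> fin_cases j
    · rfl
    all_goals
      exfalso
      simp [φ, ZMod.val, hsq, mul_eq_one_iff_eq_inv, ha, hy1] at h
    all_goals first
      | exact hy'.1 h.symm
      | exact hy'.2 (inv_injective (by rw [inv_inv]; exact h.symm))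
      | exact hy'.2 (by rw [h, inv_inv])
      | exact hy'.1 (inv_injective h).symm
      | exact hy'.2 (by rw [h])
  have hinj : Function.Injective φ := by
    intro p q h
    have h0 : φ (p - q) * φ q = 1 * φ q := by rw [← hφ, sub_add_cancel, h, one_mul]
    exact sub_eq_zero.1 (hφ0 _ (mul_right_cancel h0))
  have hsum0 : ∀ p q : ZMod 3 × ZMod 3, p + q = 0 → φ p * φ q = 1 := fun p q h => by
    rw [← hφ, h]; simp [φ]
  have h10 : φ (1, 0) = a := by simp [φ, ZMod.val_one]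
  have h01 : φ (0, 1) = y := by simp [φ, ZMod.val_one]
  have h20 : φ (2, 0) = a⁻¹ := by
    refine eq_inv_of_mul_eq_one_left ?_
    rw [← h10]; exact hsum0 _ _ (by decide)
  have h02 : φ (0, 2) = y⁻¹ := by
    refine eq_inv_of_mul_eq_one_left ?_
    rw [← h01]; exact hsum0 _ _ (by decide)
  have himg : model.image φ = ncl a := by
    refine Finset.eq_of_subset_of_card_le ?_ ?_
    · intro x hx
      simp only [model, Finset.image_insert, Finset.image_singleton, Finset.mem_insert, Finset.mem_singleton,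
        h10, h20, h01, h02] at hx
      rcases hx with rfl | rfl | rfl | rfl
      exacts [self_mem_ncl _, hinv a, hy, mem_ncl_trans hy (hinv y)]
    · rw [card_ncl hA he ha, Finset.card_image_of_injective _ hinj]; decide
  set b := φ (1, 1) with hb
  have hb1 : b ≠ 1 := fun h => by simpa using hφ0 (1, 1) h
  have hnot : b⁻¹ ∉ ncl a := by
    have : b⁻¹ = φ (2, 2) := (eq_inv_of_mul_eq_one_left (by rw [hb]; exact hsum0 _ _ (by decide))).symm
    rw [this, ← himg, Finset.mem_image]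
    rintro ⟨p, hp, hpe⟩
    exact model_notMem.2 (hinj hpe ▸ hp)
  have htwo : pairsA a a b = 2 := by
    rw [pairsA, ← himg, ← model_count,
      ← Finset.card_image_of_injective ((model ×ˢ model).filter _) (hinj.prodMap hinj)]
    congr 1
    ext ⟨u, v⟩
    simp only [Finset.mem_filter, Finset.mem_product, Finset.mem_image, Prod.ext_iff, Prod.map_fst,
      Prod.map_snd]
    constructor
    · rintro ⟨⟨⟨p, hp, rfl⟩, ⟨q, hq, rfl⟩⟩, h⟩
      exact ⟨(p, q), ⟨⟨hp, hq⟩, Prod.ext_iff.1 (hinj (a₁ := p + q) (a₂ := (1, 1)) ((hφ p q).trans h))⟩, rfl, rfl⟩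
    · rintro ⟨⟨p, q⟩, ⟨⟨hp, hq⟩, h⟩, rfl, rfl⟩
      exact ⟨⟨⟨p, hp, rfl⟩, q, hq, rfl⟩, (hφ p q).symm.trans (congrArg φ (Prod.ext h.1 h.2))⟩
  have h := coef_eq hA h3 D ha ha hb1 fun h => hnot h.2
  rw [htwo, hcard] at h
  obtain ⟨hcr, hsgn⟩ := rest_sq (n := 3) rfl le_rfl D
  have hterm : ∀ χ ∈ D.rest, (-1 / 8 : ℚ) ≤ (D.coeff χ : ℚ) ^ 3 / (D.deg χ : ℚ) := by
    intro χ hχ
    rcases hsgn χ hχ with c1 | c1 <;> rw [c1] <;> push_cast
    · have : (0 : ℚ) ≤ 1 ^ 3 / (D.deg χ : ℚ) := by positivity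
      linarith
    · have hm := D.rest_mod χ hχ
      rw [hcard, c1] at hm
      have := deg_pos D χ
      have h8 : (8 : ℚ) ≤ D.deg χ := by
        have : (8 : ℕ) ≤ D.deg χ := by omega
        exact_mod_cast this
      rw [div_le_div_iff₀ (by norm_num) (by linarith)]
      linarith
  have hsum : (-3 / 8 : ℚ) ≤ ∑ χ ∈ D.rest, (D.coeff χ : ℚ) ^ 3 / (D.deg χ : ℚ) := by
    have := Finset.card_nsmul_le_sum D.rest _ _ hterm
    rw [hcr] at this
    norm_num at this ⊢
    linarith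
  have heps : (-2 / 5 : ℚ) ≤ (D.eps : ℚ) * (((9 : ℕ) : ℚ) * ((2 : ℕ) : ℚ) - ((4 : ℕ) : ℚ) ^ 2) / (D.f : ℚ) := by
    have hm := D.f_mod
    rw [hcard] at hm
    have := f_pos D
    rcases D.eps_sq with e1 | e1 <;> rw [e1] at hm ⊢ <;> norm_num
    · have : (0 : ℚ) ≤ 2 / (D.f : ℚ) := by positivity
      linarith
    · have h5 : (5 : ℚ) ≤ D.f := by
        have : (5 : ℕ) ≤ D.f := by omega
        exact_mod_cast this
      rw [neg_div, neg_le_neg_iff]
      gcongr
  have hG : (0 : ℚ) < Nat.card G := by exact_mod_cast Nat.card_pos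
  have : (Nat.card G : ℚ) ≤ 720 := by push_cast at h heps; nlinarith
  exact_mod_cast this

end CfsgLib.Recog.ThreeNine
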