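import Mathlib.Algebra.Field.Defs
import Mathlib.Data.Fintype.Basic
import Mathlib.Data.Fintype.Card
import Mathlib.Algebra.Ring.MinimalAxioms

/-! The field with 4 elements on `Fin 4`, with kernel-friendly operations. -/

set_option autoImplicit false

namespace CfsgLib.Recog.GF4

/-- The carrier: polynomials in `w` of degree below 2, `w^2 = w + 1`. -/
structure K4 where
  val : Fin 4
deriving DecidableEq

/-- Sum. -/
def add (a b : K4) : K4 := ⟨⟨Nat.xor a.val.1 b.val.1 % 4, Nat.mod_lt _ (by decide)⟩⟩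

/-- Product. -/
def mul (a b : K4) : K4 :=
  ⟨⟨if a.val.1 = 0 ∨ b.val.1 = 0 then 0 else (a.val.1 + b.val.1 - 2) % 3 + 1, by split <;> omega⟩⟩

/-- Inverse. -/
def inv (a : K4) : K4 := mul a a

instance instFintypeK4 : Fintype K4 :=
  Fintype.ofEquiv (Fin 4) ⟨K4.mk, K4.val, fun _ => rfl, fun _ => rfl⟩

theorem card_K4 : Fintype.card K4 = 4 := rfl

instance instAddK4 : Add K4 := ⟨add⟩
instance instMulK4 : Mul K4 := ⟨mul⟩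
instance instNegK4 : Neg K4 := ⟨id⟩
instance instZeroK4 : Zero K4 := ⟨⟨0⟩⟩
instance instOneK4 : One K4 := ⟨⟨1⟩⟩

theorem ring_aux : ∀ i j k : Fin 4, add (add ⟨i⟩ ⟨j⟩) ⟨k⟩ = add ⟨i⟩ (add ⟨j⟩ ⟨k⟩) ∧
    mul (mul ⟨i⟩ ⟨j⟩) ⟨k⟩ = mul ⟨i⟩ (mul ⟨j⟩ ⟨k⟩) ∧
    mul ⟨i⟩ (add ⟨j⟩ ⟨k⟩) = add (mul ⟨i⟩ ⟨j⟩) (mul ⟨i⟩ ⟨k⟩) ∧ mul ⟨i⟩ ⟨j⟩ = mul ⟨j⟩ ⟨i⟩ := by
  decide +kernel

theorem unit_aux : ∀ i : Fin 4, add ⟨0⟩ ⟨i⟩ = ⟨i⟩ ∧ mul ⟨1⟩ ⟨i⟩ = ⟨i⟩ ∧ add ⟨i⟩ ⟨i⟩ = ⟨0⟩ ∧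
    (i ≠ 0 → mul ⟨i⟩ (inv ⟨i⟩) = ⟨1⟩) := by
  decide +kernel

instance instCommRingK4 : CommRing K4 :=
  CommRing.ofMinimalAxioms (fun a b c => (ring_aux a.val b.val c.val).1)
    (fun a => (unit_aux a.val).1) (fun a => (unit_aux a.val).2.2.1)
    (fun a b c => (ring_aux a.val b.val c.val).2.1) (fun a b => (ring_aux a.val b.val 0).2.2.2)
    (fun a => (unit_aux a.val).2.1) (fun a b c => (ring_aux a.val b.val c.val).2.2.1)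

instance instFieldK4 : Field K4 where
  inv := inv
  exists_pair_ne := ⟨0, 1, by decide⟩
  mul_inv_cancel := fun a ha => (unit_aux a.val).2.2.2 fun h => ha (congrArg K4.mk h)
  inv_zero := rfl
  nnqsmul := _
  nnqsmul_def := fun _ _ => rfl
  qsmul := _
  qsmul_def := fun _ _ => rfl

theorem add_self (a : K4) : a + a = 0 := (unit_aux a.val).2.2.1

theorem two_eq_zero : (2 : K4) = 0 := by decide +kernel

end CfsgLib.Recog.GF4
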