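import Mathlib
import Cfsg.Agent.Lib.CharSimple.Basic
import Cfsg.Agent.Lib.PermDerange.Counting

/-!
# Conjugacy classes of derangements in primitive groups that are not almost simple

A finite primitive group that is neither almost simple nor of affine type has at least three
conjugacy classes of derangements.
-/

set_option autoImplicit false

namespace CfsgLib.Recog

open MulAction

/-- Jordan: a proper subgroup of a finite group misses some conjugacy class. -/
theorem exists_no_conj_mem {S : Type*} [Group S] [Finite S] (R : Subgroup S) (hR : R ≠ ⊤) :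
    ∃ s : S, ∀ c : S, c * s * c⁻¹ ∉ R := by
  classical
  haveI : Fintype S := Fintype.ofFinite S
  by_contra hcon
  push Not at hcon
  have hsum := PermDerange.sum_card_fixedBy_transitive (G := S) (Ω := S ⧸ R)
  have hone : ∀ s : S, 1 ≤ Nat.card (fixedBy (S ⧸ R) s) := by
    intro s
    obtain ⟨c, hc⟩ := hcon s
    haveI : Nonempty (fixedBy (S ⧸ R) s) := by
      refine ⟨⟨((c⁻¹ : S) : S ⧸ R), ?_⟩⟩
      change ((s * c⁻¹ : S) : S ⧸ R) = ((c⁻¹ : S) : S ⧸ R)
      rw [QuotientGroup.eq]
      simpa [mul_assoc] using R.inv_mem hc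
    exact Nat.card_pos
  have h1 : 2 ≤ Nat.card (fixedBy (S ⧸ R) (1 : S)) := by
    rw [show fixedBy (S ⧸ R) (1 : S) = Set.univ from Set.eq_univ_of_forall fun x => one_smul S x,
      Nat.card_congr (Equiv.Set.univ (S ⧸ R)), ← Subgroup.index_eq_card]
    exact Nat.one_lt_iff_ne_zero_and_ne_one.mpr
      ⟨Subgroup.index_ne_zero_of_finite, fun h => hR (Subgroup.index_eq_one.mp h)⟩
  have h2 : ∑ _g : S, 1 < ∑ g : S, Nat.card (fixedBy (S ⧸ R) g) :=
    Finset.sum_lt_sum (fun g _ => hone g) ⟨1, Finset.mem_univ _, h1⟩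
  rw [hsum, Finset.sum_const, Finset.card_univ, smul_eq_mul, mul_one, ← Nat.card_eq_fintype_card] at h2
  exact lt_irrefl _ h2

section Simple

variable {S : Type*} [Group S]

/-- A simple group which is not commutative has trivial centre. -/
theorem center_eq_bot_of_simple [IsSimpleGroup S] (hS : ¬ IsMulCommutative S) :
    Subgroup.center S = ⊥ := by
  rcases IsSimpleGroup.eq_bot_or_eq_top_of_normal (Subgroup.center S) inferInstance with h | h
  · exact h
  · refine absurd ⟨⟨fun a b => ?_⟩⟩ hS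
    exact Subgroup.mem_center_iff.mp (h ▸ Subgroup.mem_top b : b ∈ Subgroup.center S) a

/-- A finite non-abelian simple group has elements of two different prime orders. -/
theorem exists_two_prime_orders [Finite S] [IsSimpleGroup S] (hS : ¬ IsMulCommutative S) :
    ∃ a b : S, (orderOf a).Prime ∧ (orderOf b).Prime ∧ orderOf a ≠ orderOf b := by
  obtain ⟨p, hp, hpd⟩ := Nat.exists_prime_and_dvd
    (Finite.one_lt_card (α := S)).ne'
  by_cases h : ∀ q : ℕ, q.Prime → q ∣ Nat.card S → q = p
  · exfalso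
    have hcard := Nat.eq_prime_pow_of_unique_prime_dvd (Nat.card_pos (α := S)).ne' @h
    haveI := Fact.mk hp
    haveI : Group.IsNilpotent S := (IsPGroup.of_card hcard).isNilpotent
    exact hS ⟨⟨IsSimpleGroup.comm_iff_isSolvable.mpr inferInstance⟩⟩
  · push Not at h
    obtain ⟨q, hq, hqd, hqp⟩ := h
    haveI := Fact.mk hp
    haveI := Fact.mk hq
    obtain ⟨a, ha⟩ := exists_prime_orderOf_dvd_card' p hpd
    obtain ⟨b, hb⟩ := exists_prime_orderOf_dvd_card' q hqd
    exact ⟨a, b, ha ▸ hp, hb ▸ hq, ha ▸ hb ▸ Ne.symm hqp⟩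

variable {k : ℕ}

/-- An element of a direct power supported on at most one coordinate. -/
def IsSingle (x : Fin k → S) : Prop := ∃ i, ∀ j, j ≠ i → x j = 1

theorem isSingle_mulSingle (i : Fin k) (s : S) : IsSingle (Pi.mulSingle i s : Fin k → S) :=
  ⟨i, fun _ hj => Pi.mulSingle_eq_of_ne hj _⟩

theorem isSingle_one (i : Fin k) : IsSingle (1 : Fin k → S) := ⟨i, fun _ _ => rfl⟩

theorem eq_mulSingle {i : Fin k} {x : Fin k → S} (h : ∀ j, j ≠ i → x j = 1) :
    x = Pi.mulSingle i (x i) := by
  funext j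
  rcases eq_or_ne j i with rfl | hj
  · rw [Pi.mulSingle_eq_same]
  · rw [Pi.mulSingle_eq_of_ne hj, h j hj]

theorem mulSingle_conj (i : Fin k) (a : S) (c : Fin k → S) :
    c * Pi.mulSingle i a * c⁻¹ = Pi.mulSingle i (c i * a * (c i)⁻¹) := by
  funext j
  rcases eq_or_ne j i with rfl | hj
  · simp
  · simp [Pi.mulSingle_eq_of_ne hj]

/-- A simple normal subgroup of a power of a non-abelian simple group lies in one coordinate. -/
theorem exists_coord_of_simple_normal [IsSimpleGroup S] (hS : ¬ IsMulCommutative S)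
    (M : Subgroup (Fin k → S)) [M.Normal] [IsSimpleGroup M] :
    ∃ i, ∀ m ∈ M, ∀ j, j ≠ i → m j = 1 := by
  obtain ⟨m, hm, hm1⟩ : ∃ m ∈ M, m ≠ 1 := by
    by_contra h
    push Not at h
    exact (Subgroup.nontrivial_iff_ne_bot M).mp inferInstance ((Subgroup.eq_bot_iff_forall M).mpr h)
  obtain ⟨i, hi⟩ : ∃ i, m i ≠ 1 := by
    by_contra h
    push Not at h
    exact hm1 (funext h)
  obtain ⟨s, hs⟩ : ∃ s, m i * s * (m i)⁻¹ * s⁻¹ ≠ 1 := by
    by_contra h
    push Not at h
    refine hi (Subgroup.mem_bot.mp ((center_eq_bot_of_simple hS) ▸ Subgroup.mem_center_iff.mpr fun s => ?_))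
    exact (mul_inv_eq_iff_eq_mul.mp (mul_inv_eq_one.mp (h s))).symm
  let L : Subgroup M :=
    { carrier := {x | ∀ j, j ≠ i → (x : Fin k → S) j = 1}
      one_mem' := fun j _ => rfl
      mul_mem' := fun {a b} ha hb j hj => by simp [ha j hj, hb j hj]
      inv_mem' := fun {a} ha j hj => by simp [ha j hj] }
  haveI hLn : L.Normal := ⟨fun x hx g j hj => by simp [hx j hj]⟩
  refine ⟨i, fun x hx j hj => ?_⟩
  rcases IsSimpleGroup.eq_bot_or_eq_top_of_normal L hLn with h | h
  · exfalso
    have hmem : m * (Pi.mulSingle i s * m⁻¹ * (Pi.mulSingle i s)⁻¹) ∈ M :=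
      M.mul_mem hm (Subgroup.Normal.conj_mem inferInstance _ (M.inv_mem hm) _)
    have h1 : (⟨_, hmem⟩ : M) ∈ L := fun j hj => by simp [Pi.mulSingle_eq_of_ne hj]
    rw [h, Subgroup.mem_bot] at h1
    have h2 := congrArg (fun z : M => (z : Fin k → S) i) h1
    simp only [Pi.mul_apply, Pi.inv_apply, Pi.mulSingle_eq_same, Subgroup.coe_one, Pi.one_apply] at h2
    exact hs (by simpa [mul_assoc] using h2)
  · exact (h ▸ Subgroup.mem_top (⟨x, hx⟩ : M) : (⟨x, hx⟩ : M) ∈ L) j hj

/-- Automorphisms of a power of a non-abelian simple group preserve `IsSingle`. -/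
theorem IsSingle.map_aut [IsSimpleGroup S] (hS : ¬ IsMulCommutative S)
    (φ : MulAut (Fin k → S)) {x : Fin k → S} (hx : IsSingle x) : IsSingle (φ x) := by
  obtain ⟨i, hi⟩ := hx
  let f : S →* (Fin k → S) := φ.toMonoidHom.comp (MonoidHom.mulSingle (fun _ => S) i)
  have hf : Function.Injective f := φ.injective.comp (Pi.mulSingle_injective (M := fun _ => S) i)
  haveI : f.range.Normal := by
    refine ⟨?_⟩
    rintro _ ⟨s, rfl⟩ g
    refine ⟨φ.symm g i * s * (φ.symm g i)⁻¹, ?_⟩
    change φ (Pi.mulSingle i _) = g * φ (Pi.mulSingle i s) * g⁻¹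
    rw [← mulSingle_conj, map_mul, map_mul, map_inv, MulEquiv.apply_symm_apply]
  haveI : IsSimpleGroup f.range := MulEquiv.isSimpleGroup (MonoidHom.ofInjective hf).symm
  obtain ⟨i', hi'⟩ := exists_coord_of_simple_normal hS f.range
  exact ⟨i', hi' _ ⟨x i, by rw [eq_mulSingle hi]; simp [f]⟩⟩

theorem isSingle_aut_iff [IsSimpleGroup S] (hS : ¬ IsMulCommutative S)
    (φ : MulAut (Fin k → S)) (x : Fin k → S) : IsSingle (φ x) ↔ IsSingle x := by
  refine ⟨fun h => ?_, fun h => h.map_aut hS φ⟩
  have h' := h.map_aut hS φ.symm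
  rwa [MulEquiv.symm_apply_apply] at h'

/-- The element supported on two coordinates. -/
def pairElt (i j : Fin k) (a b : S) : Fin k → S := Pi.mulSingle i a * Pi.mulSingle j b

theorem pairElt_left {i j : Fin k} (h : i ≠ j) (a b : S) : pairElt i j a b i = a := by
  simp [pairElt, Pi.mulSingle_eq_of_ne h]

theorem pairElt_right {i j : Fin k} (h : i ≠ j) (a b : S) : pairElt i j a b j = b := by
  simp [pairElt, Pi.mulSingle_eq_of_ne h.symm]

theorem pairElt_conj {i j : Fin k} (a b : S) (c : Fin k → S) :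
    c * pairElt i j a b * c⁻¹ = pairElt i j (c i * a * (c i)⁻¹) (c j * b * (c j)⁻¹) := by
  rw [pairElt, pairElt, ← mulSingle_conj, ← mulSingle_conj]; group

theorem not_isSingle_pairElt {i j : Fin k} (h : i ≠ j) {a b : S} (ha : a ≠ 1) (hb : b ≠ 1) :
    ¬ IsSingle (pairElt i j a b) := by
  rintro ⟨l, hl⟩
  by_cases hli : l = i
  · exact hb (pairElt_right h a b ▸ hl j (hli ▸ h.symm))
  · exact ha (pairElt_left h a b ▸ hl i (Ne.symm hli))

/-- Three elements avoiding every conjugate of a core-free subgroup, in different automorphism classes. -/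
theorem exists_three_outside [Finite S] [IsSimpleGroup S] (hS : ¬ IsMulCommutative S) (hk : 2 ≤ k)
    (P : Subgroup (Fin k → S)) (hP : ∀ L : Subgroup (Fin k → S), L.Normal → L ≤ P → L = ⊥) :
    ∃ x : Fin 3 → (Fin k → S), (∀ a c, c * x a * c⁻¹ ∉ P) ∧
      ∀ (φ : MulAut (Fin k → S)) (a b : Fin 3), φ (x a) = x b → a = b := by
  classical
  obtain ⟨sp, sq, hsp, hsq, hne⟩ := exists_two_prime_orders hS
  have hsp1 : sp ≠ 1 := fun h => hsp.ne_one (by rw [h, orderOf_one])
  have hsq1 : sq ≠ 1 := fun h => hsq.ne_one (by rw [h, orderOf_one])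
  suffices h : ∃ x y z : Fin k → S, (∀ c, c * x * c⁻¹ ∉ P) ∧ (∀ c, c * y * c⁻¹ ∉ P) ∧
      (∀ c, c * z * c⁻¹ ∉ P) ∧
      ∀ φ : MulAut (Fin k → S), φ x ≠ y ∧ φ x ≠ z ∧ φ y ≠ z by
    obtain ⟨x, y, z, hx, hy, hz, hd⟩ := h
    refine ⟨![x, y, z], fun a => by fin_cases a <;> assumption, fun φ a b hab => ?_⟩
    have h1 := hd φ
    have h2 := hd φ.symm
    simp only [ne_eq, MulEquiv.symm_apply_eq] at h2
    fin_cases a <;> fin_cases b <;> simp at hab ⊢
    all_goals first
      | exact h1.1 hab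
      | exact h1.2.1 hab
      | exact h1.2.2 hab
      | exact h2.1 hab.symm
      | exact h2.2.1 hab.symm
      | exact h2.2.2 hab.symm
  by_cases hfull : ∀ i, P.map (Pi.evalMonoidHom (fun _ => S) i) = ⊤
  · have hlift : ∀ (i : Fin k) (c : S), ∃ n ∈ P, n i = c := fun i c => by
      obtain ⟨n, hn, hnc⟩ : c ∈ P.map (Pi.evalMonoidHom (fun _ => S) i) := hfull i ▸ Subgroup.mem_top c
      exact ⟨n, hn, hnc⟩
    have htriv : ∀ (i : Fin k) (a : S), Pi.mulSingle i a ∈ P → a = 1 := by
      intro i a ha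
      let M : Subgroup S := P.comap (MonoidHom.mulSingle (fun _ => S) i)
      have hMn : M.Normal := ⟨fun b hb c => by
        obtain ⟨n, hn, rfl⟩ := hlift i c
        change Pi.mulSingle i _ ∈ P
        rw [← mulSingle_conj]
        exact P.mul_mem (P.mul_mem hn hb) (P.inv_mem hn)⟩
      rcases IsSimpleGroup.eq_bot_or_eq_top_of_normal M hMn with h | h
      · exact Subgroup.mem_bot.mp (h ▸ (ha : a ∈ M))
      · exfalso
        have hr : (MonoidHom.mulSingle (fun _ : Fin k => S) i).range = ⊥ := by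
          refine hP _ ⟨?_⟩ ?_
          · rintro _ ⟨b, rfl⟩ g
            exact ⟨_, (mulSingle_conj i b g).symm⟩
          · rintro _ ⟨b, rfl⟩
            exact (h ▸ Subgroup.mem_top b : b ∈ M)
        have := Subgroup.mem_bot.mp (hr ▸ ⟨sp, rfl⟩ :
          Pi.mulSingle i sp ∈ (⊥ : Subgroup (Fin k → S)))
        exact hsp1 (by simpa using this)
    let i : Fin k := ⟨0, by omega⟩
    let j : Fin k := ⟨1, by omega⟩
    have hij : i ≠ j := by simp [i, j, Fin.ext_iff]
    have hsingle : ∀ s : S, s ≠ 1 → ∀ c : Fin k → S, c * Pi.mulSingle i s * c⁻¹ ∉ P := by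
      intro s hs c hc
      rw [mulSingle_conj] at hc
      exact hs (conj_eq_one_iff.mp (htriv _ _ hc))
    obtain ⟨b, hb1, hb⟩ : ∃ b : S, b ≠ 1 ∧ ∀ c, c * pairElt i j sp b * c⁻¹ ∉ P := by
      by_contra hcon
      push Not at hcon
      obtain ⟨c, hc⟩ := hcon sp hsp1
      obtain ⟨d, hd⟩ := hcon sq hsq1
      rw [pairElt_conj] at hc hd
      obtain ⟨n, hn, hni⟩ := hlift i (d i * (c i)⁻¹)
      have h3 := P.mul_mem (P.mul_mem hn hc) (P.inv_mem hn)
      rw [pairElt_conj, hni] at h3
      have h4 := P.mul_mem (P.inv_mem hd) h3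
      have h5 : (pairElt i j (d i * sp * (d i)⁻¹) (d j * sq * (d j)⁻¹))⁻¹ *
          pairElt i j (d i * (c i)⁻¹ * (c i * sp * (c i)⁻¹) * (d i * (c i)⁻¹)⁻¹)
            (n j * (c j * sp * (c j)⁻¹) * (n j)⁻¹) =
          Pi.mulSingle j ((d j * sq * (d j)⁻¹)⁻¹ * (n j * (c j * sp * (c j)⁻¹) * (n j)⁻¹)) := by
        funext l
        rcases eq_or_ne l j with rfl | hlj
        · simp [pairElt_right hij]
        rcases eq_or_ne l i with rfl | hli
        · simp [pairElt_left hij, Pi.mulSingle_eq_of_ne hlj, mul_assoc]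
        · simp [pairElt, Pi.mulSingle_eq_of_ne hlj, Pi.mulSingle_eq_of_ne hli]
      rw [h5] at h4
      have h6 := inv_mul_eq_one.mp (htriv _ _ h4)
      have h7 := congrArg orderOf h6
      rw [show ∀ g s : S, orderOf (g * s * g⁻¹) = orderOf s from fun g s => (MulAut.conj g).orderOf_eq s,
        show n j * (c j * sp * (c j)⁻¹) * (n j)⁻¹ = (n j * c j) * sp * (n j * c j)⁻¹ by group,
        show ∀ g s : S, orderOf (g * s * g⁻¹) = orderOf s from fun g s => (MulAut.conj g).orderOf_eq s] at h7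
      exact hne h7.symm
    refine ⟨Pi.mulSingle i sp, Pi.mulSingle i sq, pairElt i j sp b, hsingle sp hsp1, hsingle sq hsq1,
      hb, fun φ => ⟨fun h => ?_, fun h => ?_, fun h => ?_⟩⟩
    · have := congrArg orderOf h
      rw [φ.orderOf_eq] at this
      change orderOf (MonoidHom.mulSingle (fun _ : Fin k => S) i sp) =
        orderOf (MonoidHom.mulSingle (fun _ : Fin k => S) i sq) at this
      rw [orderOf_injective _ (Pi.mulSingle_injective (M := fun _ : Fin k => S) i),
        orderOf_injective _ (Pi.mulSingle_injective (M := fun _ : Fin k => S) i)] at this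
      exact hne this
    · exact not_isSingle_pairElt hij hsp1 hb1 (h ▸ (isSingle_mulSingle i sp).map_aut hS φ)
    · exact not_isSingle_pairElt hij hsp1 hb1 (h ▸ (isSingle_mulSingle i sq).map_aut hS φ)
  · push Not at hfull
    obtain ⟨i, hi⟩ := hfull
    obtain ⟨j, hji⟩ : ∃ j : Fin k, j ≠ i := by
      haveI : Nontrivial (Fin k) := Fin.nontrivial_iff_two_le.mpr hk
      exact exists_ne i
    obtain ⟨s, hs⟩ := exists_no_conj_mem _ hi
    have hout : ∀ x : Fin k → S, x i = s → ∀ c, c * x * c⁻¹ ∉ P := fun x hx c hc =>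
      hs (c i) ⟨_, hc, by simp [hx]⟩
    have hs1 : s ≠ 1 := fun h => hs 1 (by simp [h])
    obtain ⟨t, ht, htne⟩ : ∃ t : S, (orderOf t).Prime ∧ orderOf t ≠ orderOf s := by
      by_cases h : orderOf sp = orderOf s
      · exact ⟨sq, hsq, h ▸ hne.symm⟩
      · exact ⟨sp, hsp, h⟩
    have ht1 : t ≠ 1 := fun h => ht.ne_one (by rw [h, orderOf_one])
    let C : (Fin k → S) → Prop := fun w => ∀ m : ℕ, IsSingle (w ^ m) → w ^ m = 1
    have hC : ∀ (φ : MulAut (Fin k → S)) w, C w → C (φ w) := fun φ w hw m hm => by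
      rw [← map_pow] at hm ⊢
      rw [hw m ((isSingle_aut_iff hS φ _).mp hm), map_one]
    have hpow : ∀ (a b : S) (m : ℕ), (pairElt i j a b) ^ m = pairElt i j (a ^ m) (b ^ m) := by
      intro a b m
      funext l
      rcases eq_or_ne l i with rfl | hli
      · simp [pairElt_left hji.symm]
      rcases eq_or_ne l j with rfl | hlj
      · simp [pairElt_right hji.symm]
      · simp [pairElt, Pi.mulSingle_eq_of_ne hlj, Pi.mulSingle_eq_of_ne hli]
    have hy : C (pairElt i j s s) := by
      intro m hm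
      rw [hpow] at hm ⊢
      by_cases h : s ^ m = 1
      · simp [h, pairElt]
      · exact absurd hm (not_isSingle_pairElt hji.symm h h)
    have hz : ¬ C (pairElt i j s t) := by
      intro hz
      by_cases hd : orderOf t ∣ orderOf s
      · have h1 := hz (orderOf t)
        rw [hpow, pow_orderOf_eq_one] at h1
        have h2 := h1 (by simp [pairElt, isSingle_mulSingle])
        have h3 := congrFun h2 i
        rw [pairElt_left hji.symm] at h3
        exact htne (Nat.dvd_antisymm hd (orderOf_dvd_of_pow_eq_one h3))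
      · have h1 := hz (orderOf s)
        rw [hpow, pow_orderOf_eq_one] at h1
        have h2 := h1 (by simp [pairElt, isSingle_mulSingle])
        have h3 := congrFun h2 j
        rw [pairElt_right hji.symm] at h3
        exact hd (orderOf_dvd_of_pow_eq_one h3)
    refine ⟨Pi.mulSingle i s, pairElt i j s s, pairElt i j s t,
      hout _ (by simp), hout _ (pairElt_left hji.symm s s),
      hout _ (pairElt_left hji.symm s t), fun φ => ⟨fun h => ?_, fun h => ?_, fun h => ?_⟩⟩
    · exact not_isSingle_pairElt hji.symm hs1 hs1 (h ▸ (isSingle_mulSingle i s).map_aut hS φ)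
    · exact not_isSingle_pairElt hji.symm hs1 ht1 (h ▸ (isSingle_mulSingle i s).map_aut hS φ)
    · exact hz (h ▸ hC φ _ hy)

end Simple

section Primitive

variable {G : Type*} [Group G] [Finite G] {Ω : Type*} [Fintype Ω] [MulAction G Ω] [FaithfulSMul G Ω]

theorem three_le_classes {x : Fin 3 → G} (hx : ∀ a, ∀ ω : Ω, x a • ω ≠ ω)
    (hne : ∀ a b, IsConj (x a) (x b) → a = b) :
    3 ≤ Nat.card {c : ConjClasses G // ∃ g : G, ConjClasses.mk g = c ∧ ∀ ω : Ω, g • ω ≠ ω} := by
  have hinj : Function.Injective (fun a => (⟨ConjClasses.mk (x a), x a, rfl, hx a⟩ :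
      {c : ConjClasses G // ∃ g : G, ConjClasses.mk g = c ∧ ∀ ω : Ω, g • ω ≠ ω})) := fun a b h =>
    hne a b (ConjClasses.mk_eq_mk_iff_isConj.mp (congrArg Subtype.val h))
  simpa using Nat.card_le_card_of_injective _ hinj

omit [Finite G] [Fintype Ω] in
/-- A non-trivial normal subgroup of a faithful primitive group is transitive. -/
theorem normal_transitive (hprim : IsPreprimitive G Ω) (N : Subgroup G) [N.Normal] (hN : N ≠ ⊥) :
    IsPretransitive N Ω := by
  haveI := hprim
  refine MulAction.IsQuasiPreprimitive.isPretransitive_of_normal fun h => hN ?_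
  rw [Subgroup.eq_bot_iff_forall]
  intro n hn
  refine eq_of_smul_eq_smul (α := Ω) fun ω => ?_
  rw [one_smul]
  have : ω ∈ fixedPoints N Ω := h ▸ Set.mem_univ ω
  exact this ⟨n, hn⟩

omit [Finite G] [Fintype Ω] in
/-- A subgroup commuting with a transitive subgroup is semiregular. -/
theorem semiregular_of_commute (N : Subgroup G) (hN : IsPretransitive N Ω) {c : G} (hc1 : c ≠ 1)
    (hc : ∀ n ∈ N, n * c = c * n) (ω : Ω) : c • ω ≠ ω := by
  intro h
  refine hc1 (eq_of_smul_eq_smul (α := Ω) fun v => ?_)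
  obtain ⟨n, rfl⟩ := hN.exists_smul_eq ω v
  rw [one_smul]
  change c • ((n : G) • ω) = (n : G) • ω
  rw [← mul_smul, ← hc n n.2, mul_smul, h]

/-- The core statement: at least three classes of derangements outside the affine and almost simple cases. -/
theorem three_le_derangement_classes [Nontrivial Ω] (hprim : IsPreprimitive G Ω)
    (hnas : ¬ ∃ T : Subgroup G, T.Normal ∧ IsSimpleGroup T ∧ ¬ IsMulCommutative T ∧
      Subgroup.centralizer (T : Set G) = ⊥)
    (hab : ∀ A : Subgroup G, A.Normal → IsMulCommutative A → A = ⊥) :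
    3 ≤ Nat.card {c : ConjClasses G // ∃ g : G, ConjClasses.mk g = c ∧ ∀ ω : Ω, g • ω ≠ ω} := by
  classical
  haveI := hprim
  haveI : Nontrivial G := by
    by_contra h
    rw [not_nontrivial_iff_subsingleton] at h
    obtain ⟨a, b, hne⟩ := exists_pair_ne Ω
    obtain ⟨g, hg⟩ := exists_smul_eq G a b
    rw [Subsingleton.elim g 1, one_smul] at hg
    exact hne hg
  obtain ⟨N, -, ⟨hNn, hN0⟩, hmin⟩ :=
    exists_minimal_le_of_wellFoundedLT (fun L : Subgroup G => L.Normal ∧ L ≠ ⊥) ⊤
      ⟨inferInstance, top_ne_bot⟩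
  haveI := hNn
  haveI : Nontrivial N := (Subgroup.nontrivial_iff_ne_bot N).mpr hN0
  have hNtr := normal_transitive (Ω := Ω) hprim N hN0
  have hNc : ¬ IsMulCommutative N := fun h => hN0 (hab N hNn h)
  have hchar : ∀ H : Subgroup N, H.Characteristic → H = ⊥ ∨ H = ⊤ := by
    intro H hH
    haveI := hH
    by_cases h0 : H.map N.subtype = ⊥
    · exact Or.inl ((Subgroup.map_eq_bot_iff_of_injective _ N.subtype_injective).mp h0)
    · refine Or.inr ?_
      have hle : H.map N.subtype ≤ N := Subgroup.map_subtype_le H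
      have heq : N ≤ H.map N.subtype := hmin ⟨inferInstance, h0⟩ hle
      exact top_le_iff.mp fun n _ => by
        obtain ⟨m, hm, hmn⟩ := heq n.2
        rwa [← Subtype.ext hmn]
  obtain ⟨S, _, hSsimple, k, hk, ⟨e⟩⟩ := CharSimple.exists_simple_mulEquiv_pi hchar
  haveI : Finite (Fin k → S) := Finite.of_equiv N e.toEquiv
  haveI : Finite S := Finite.of_injective (fun s => (Function.const (Fin k) s))
    (fun a b h => congrFun h ⟨0, hk⟩)
  have hS : ¬ IsMulCommutative S := fun h => hNc ⟨⟨fun a b => e.injective (by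
    rw [map_mul, map_mul]; funext i; exact h.is_comm.comm _ _)⟩⟩
  have hconjN : ∀ (g : G) (x y : N), g * x * g⁻¹ = (y : G) → MulAut.conjNormal g x = y := fun g x y h =>
    Subtype.ext (by rw [MulAut.conjNormal_apply, h])
  rcases eq_or_lt_of_le hk with hk1 | hk2
  · subst hk1
    let e' : N ≃* S := e.trans ⟨Equiv.funUnique (Fin 1) S, fun _ _ => rfl⟩
    haveI hNs : IsSimpleGroup N := MulEquiv.isSimpleGroup e'
    set C := Subgroup.centralizer (N : Set G) with hCdef
    haveI hCn : C.Normal := Subgroup.normal_centralizer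
    have hC0 : C ≠ ⊥ := fun h => hnas ⟨N, hNn, hNs, hNc, h⟩
    have hCtr := normal_transitive (Ω := Ω) hprim C hC0
    have hNC : N ⊓ C = ⊥ := hab _ inferInstance ⟨⟨fun a b => Subtype.ext (b.2.2 (a : G) a.2.1)⟩⟩
    obtain ⟨a, b, hap, hbq, hne⟩ := exists_two_prime_orders hNc
    have ha1 : (a : G) ≠ 1 := fun h => hap.ne_one (by rw [show a = 1 from Subtype.ext h, orderOf_one])
    have hb1 : (b : G) ≠ 1 := fun h => hbq.ne_one (by rw [show b = 1 from Subtype.ext h, orderOf_one])
    obtain ⟨z, hz, hz1⟩ : ∃ z ∈ C, z ≠ 1 := by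
      by_contra h
      push Not at h
      exact hC0 ((Subgroup.eq_bot_iff_forall C).mpr h)
    have hzN : z ∉ N := fun h => hz1 (Subgroup.mem_bot.mp (hNC ▸ ⟨h, hz⟩))
    refine three_le_classes (x := ![(a : G), (b : G), z]) (fun i ω => ?_) fun i j hij => ?_
    · fin_cases i
      · exact semiregular_of_commute C hCtr ha1 (fun c hc => (hc _ a.2).symm) ω
      · exact semiregular_of_commute C hCtr hb1 (fun c hc => (hc _ b.2).symm) ω
      · exact semiregular_of_commute N hNtr hz1 (fun n hn => hz n hn) ω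
    · obtain ⟨g, hg⟩ := isConj_iff.mp hij
      have h1 : ∀ x y : G, g * x * g⁻¹ = y → (x ∈ N ↔ y ∈ N) := fun x y h => by
        subst h
        refine ⟨fun hx => hNn.conj_mem x hx g, fun hx => ?_⟩
        simpa [mul_assoc] using hNn.conj_mem _ hx g⁻¹
      have h2 : ∀ x y : N, g * x * g⁻¹ = (y : G) → orderOf x = orderOf y := fun x y h => by
        rw [← (MulAut.conjNormal g : MulAut N).orderOf_eq x, hconjN g x y h]
      fin_cases i <;> fin_cases j <;> simp at hg ⊢
      all_goals first
        | exact hne (h2 _ _ hg)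
        | exact hne (h2 _ _ hg).symm
        | exact hzN ((h1 _ _ hg).mp a.2)
        | exact hzN ((h1 _ _ hg).mp b.2)
        | exact hzN ((h1 _ _ hg).mpr a.2)
        | exact hzN ((h1 _ _ hg).mpr b.2)
  · obtain ⟨α⟩ := (inferInstance : Nonempty Ω)
    let P : Subgroup (Fin k → S) := (stabilizer N α).map e.toMonoidHom
    have hP : ∀ L : Subgroup (Fin k → S), L.Normal → L ≤ P → L = ⊥ := by
      intro L hL hLP
      rw [Subgroup.eq_bot_iff_forall]
      intro l hl
      have hfix : ∀ ω : Ω, e.symm l • ω = ω := fun ω => by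
        obtain ⟨n, rfl⟩ := hNtr.exists_smul_eq α ω
        obtain ⟨m, hm, hme⟩ := hLP (hL.conj_mem l hl (e n⁻¹))
        have hm' : m = n⁻¹ * e.symm l * n := e.injective (by
          rw [map_mul, map_mul, e.apply_symm_apply]
          exact hme.trans (by rw [map_inv, inv_inv]))
        have : (n⁻¹ * e.symm l * n) • α = α := hm' ▸ hm
        rwa [mul_smul, mul_smul, inv_smul_eq_iff] at this
      have hone : e.symm l = 1 := Subtype.ext (eq_of_smul_eq_smul (α := Ω) fun ω => by
        rw [Subgroup.coe_one, one_smul]; exact hfix ω)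
      simpa using congrArg e hone
    obtain ⟨x, hout, hdist⟩ := exists_three_outside hS hk2 P hP
    refine three_le_classes (x := fun a => ((e.symm (x a) : N) : G)) (fun a ω hfix => ?_) fun a b hab' => ?_
    · obtain ⟨n, rfl⟩ := hNtr.exists_smul_eq α ω
      refine hout a (e n⁻¹) ⟨n⁻¹ * e.symm (x a) * n, ?_, ?_⟩
      · change (n⁻¹ * e.symm (x a) * n) • α = α
        rw [mul_smul, mul_smul, inv_smul_eq_iff]
        exact hfix
      · change e (n⁻¹ * e.symm (x a) * n) = _
        rw [map_mul, map_mul, e.apply_symm_apply, map_inv, inv_inv]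
    · obtain ⟨g, hg⟩ := isConj_iff.mp hab'
      let ψ : MulAut (Fin k → S) := (e.symm.trans (MulAut.conjNormal g : MulAut N)).trans e
      refine hdist ψ a b ?_
      change e (MulAut.conjNormal g (e.symm (x a))) = x b
      rw [hconjN g _ _ hg, e.apply_symm_apply]

end Primitive

end CfsgLib.Recog
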