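import Mathlib
import Cfsg.Agent.Lib.Recog.DerangementClasses

/-!
# Extremely primitive groups

In a non-regular primitive group whose point stabiliser is primitive on each of its orbits, the
stabiliser acts faithfully on each orbit other than the fixed point.
-/

set_option autoImplicit false

namespace CfsgLib.Recog

open MulAction Pointwise

section Prim

variable {H : Type*} [Group H] {X : Type*} [MulAction H X] [FaithfulSMul H X]

/-- A non-trivial abelian normal subgroup of a faithful primitive group is its own centraliser. -/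
theorem centralizer_eq_self (hprim : IsPreprimitive H X) (A : Subgroup H) [A.Normal]
    (hA : A ≠ ⊥) (hc : IsMulCommutative A) : Subgroup.centralizer (A : Set H) = A := by
  refine le_antisymm (fun c hcc => ?_) ?_
  · rcases isEmpty_or_nonempty X with hX | ⟨⟨x⟩⟩
    · exact absurd ((Subgroup.eq_bot_iff_forall A).mpr fun a _ => eq_of_smul_eq_smul (α := X) isEmptyElim) hA
    · have htr := normal_transitive (Ω := X) hprim A hA
      obtain ⟨a, ha⟩ := htr.exists_smul_eq x (c • x)
      have h1 : ((a : H)⁻¹ * c) • x = x := by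
        rw [mul_smul, ← ha]; exact inv_smul_smul (a : H) x
      by_contra hne
      refine semiregular_of_commute A htr (c := (a : H)⁻¹ * c) (fun h => hne ?_) (fun n hn => ?_) x h1
      · rw [← inv_mul_eq_one.mp h]; exact a.2
      · have hna : n * (a : H)⁻¹ = (a : H)⁻¹ * n := congrArg Subtype.val (hc.is_comm.comm ⟨n, hn⟩ a⁻¹)
        rw [← mul_assoc, hna, mul_assoc, hcc n hn, mul_assoc]
  · exact fun a ha b hb => congrArg Subtype.val (hc.is_comm.comm ⟨b, hb⟩ ⟨a, ha⟩)

/-- A faithful primitive group of non-prime order has trivial centre. -/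
theorem center_eq_bot_of_primitive [Finite H] [Nontrivial X] (hprim : IsPreprimitive H X)
    (hnp : ¬ (Nat.card H).Prime) : Subgroup.center H = ⊥ := by
  by_contra hZ
  haveI := hprim
  have h1 := centralizer_eq_self hprim (Subgroup.center H) hZ inferInstance
  have htop : Subgroup.center H = ⊤ := by
    rw [← h1, eq_top_iff]
    exact fun h _ z hz => ((Subgroup.mem_center_iff.mp hz) h).symm
  have hcomm : ∀ a b : H, a * b = b * a := fun a b =>
    Subgroup.mem_center_iff.mp (htop ▸ Subgroup.mem_top b) a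
  obtain ⟨x⟩ := (inferInstance : Nonempty X)
  have hstab : stabilizer H x = ⊥ := by
    rw [Subgroup.eq_bot_iff_forall]
    intro a ha
    refine eq_of_smul_eq_smul (α := X) fun y => ?_
    obtain ⟨b, rfl⟩ := exists_smul_eq H x y
    rw [one_smul, ← mul_smul, hcomm, mul_smul, show a • x = x from ha]
  have hco := IsPreprimitive.isCoatom_stabilizer_of_isPreprimitive H x
  rw [hstab] at hco
  have hne : Nat.card H ≠ 1 := fun h => hco.1 (Subgroup.eq_top_of_card_eq _ (by rw [h, Subgroup.card_bot]))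
  obtain ⟨p, hp, hpd⟩ := Nat.exists_prime_and_dvd hne
  haveI := Fact.mk hp
  obtain ⟨a, ha⟩ := exists_prime_orderOf_dvd_card' p hpd
  have hz : Subgroup.zpowers a = ⊤ := hco.2 _ (bot_lt_iff_ne_bot.mpr fun h => by
    rw [Subgroup.zpowers_eq_bot] at h
    rw [h, orderOf_one] at ha
    exact hp.ne_one ha.symm)
  rw [← Subgroup.card_top, ← hz, Nat.card_zpowers, ha] at hnp
  exact hnp hp

/-- An abelian normal subgroup of a faithful primitive finite group has prime exponent. -/
theorem abelian_normal_exponent [Finite H] (hprim : IsPreprimitive H X) (A : Subgroup H) [A.Normal]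
    (hA : A ≠ ⊥) (hc : IsMulCommutative A) :
    ∃ p : ℕ, p.Prime ∧ (∀ a ∈ A, a ^ p = 1) ∧ ∃ e, 0 < e ∧ Nat.card A = p ^ e := by
  obtain ⟨p, hp, hpd⟩ := Nat.exists_prime_and_dvd (fun h : Nat.card A = 1 => hA (Subgroup.card_eq_one.mp h))
  haveI := Fact.mk hp
  have hcomm : ∀ a ∈ A, ∀ b ∈ A, a * b = b * a := fun a ha b hb =>
    congrArg Subtype.val (hc.is_comm.comm ⟨a, ha⟩ ⟨b, hb⟩)
  let B : Subgroup H :=
    { carrier := {x | x ∈ A ∧ x ^ p = 1}
      one_mem' := ⟨A.one_mem, one_pow p⟩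
      mul_mem' := fun {a b} ha hb => ⟨A.mul_mem ha.1 hb.1, by
        rw [(show Commute a b from hcomm a ha.1 b hb.1).mul_pow, ha.2, hb.2, one_mul]⟩
      inv_mem' := fun {a} ha => ⟨A.inv_mem ha.1, by rw [inv_pow, ha.2, inv_one]⟩ }
  haveI : B.Normal := ⟨fun x hx g => ⟨Subgroup.Normal.conj_mem inferInstance x hx.1 g, by
    rw [conj_pow, hx.2]; simp⟩⟩
  have hB : B ≠ ⊥ := by
    obtain ⟨a, ha⟩ := exists_prime_orderOf_dvd_card' p hpd
    intro h
    have hm : (a : H) ∈ B := ⟨a.2, by rw [← ha, ← Subgroup.orderOf_coe, pow_orderOf_eq_one]⟩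
    rw [h, Subgroup.mem_bot] at hm
    rw [← Subgroup.orderOf_coe, hm, orderOf_one] at ha
    exact hp.ne_one ha.symm
  have hB' : IsMulCommutative B := ⟨⟨fun a b => Subtype.ext (hcomm _ a.2.1 _ b.2.1)⟩⟩
  have hle : A ≤ B := by
    rw [← centralizer_eq_self hprim B hB hB']
    exact fun a ha b hb => hcomm b hb.1 a ha
  refine ⟨p, hp, fun a ha => (hle ha).2, ?_⟩
  obtain ⟨e, he⟩ := (IsPGroup.iff_card (p := p) (G := A)).mp
    fun a => ⟨1, Subtype.ext (by rw [pow_one]; exact (hle a.2).2)⟩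
  refine ⟨e, Nat.pos_of_ne_zero ?_, he⟩
  rintro rfl
  exact hA (Subgroup.card_eq_one.mp he)

end Prim

section ExtPrim

variable {G : Type*} [Group G] [Finite G] {Ω : Type*} [Fintype Ω] [MulAction G Ω] [FaithfulSMul G Ω]

omit [Finite G] [Fintype Ω] in
theorem stabilizer_ne_of_ne (hprim : IsPreprimitive G Ω) {α ω : Ω} (hα : stabilizer G α ≠ ⊥)
    (hω : ω ≠ α) : stabilizer G ω ≠ stabilizer G α := by
  intro heq
  haveI := hprim
  haveI : Nontrivial Ω := ⟨⟨ω, α, hω⟩⟩
  obtain ⟨g, hg⟩ := exists_smul_eq G α ω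
  have hmax := IsPreprimitive.isCoatom_stabilizer_of_isPreprimitive G α
  have hgn : g ∈ Subgroup.normalizer (stabilizer G α : Set G) := by
    rw [Subgroup.mem_normalizer_iff]
    intro h
    have h1 : g * h * g⁻¹ ∈ stabilizer G ω ↔ h ∈ stabilizer G α := by
      rw [mem_stabilizer_iff, mem_stabilizer_iff, ← hg, mul_smul, mul_smul, inv_smul_smul, smul_left_cancel_iff]
    rw [heq] at h1
    exact h1.symm
  rcases hmax.le_iff.mp (Subgroup.le_normalizer (H := stabilizer G α)) with h | h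
  · haveI := Subgroup.normalizer_eq_top_iff.mp h
    refine hα ((Subgroup.eq_bot_iff_forall _).mpr fun x hx => eq_of_smul_eq_smul (α := Ω) fun v => ?_)
    obtain ⟨k, rfl⟩ := exists_smul_eq G α v
    have := Subgroup.Normal.conj_mem inferInstance x hx k⁻¹
    rw [mem_stabilizer_iff, mul_smul, mul_smul, inv_inv, inv_smul_eq_iff] at this
    rw [one_smul]; exact this
  · rw [h] at hgn
    exact hω (hg.symm.trans hgn)

omit [Finite G] [Fintype Ω] in
theorem exists_moved (hprim : IsPreprimitive G Ω) {α ω : Ω} (hα : stabilizer G α ≠ ⊥)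
    (hω : ω ≠ α) : ∃ h ∈ stabilizer G α, h • ω ≠ ω := by
  haveI := hprim
  haveI : Nontrivial Ω := ⟨⟨ω, α, hω⟩⟩
  by_contra h
  push Not at h
  have hle : stabilizer G α ≤ stabilizer G ω := fun x hx => h x hx
  rcases (IsPreprimitive.isCoatom_stabilizer_of_isPreprimitive G α).le_iff.mp hle with h' | h'
  · exact (IsPreprimitive.isCoatom_stabilizer_of_isPreprimitive G ω).1 h'
  · exact stabilizer_ne_of_ne hprim hα hω h'

omit [Finite G] [Fintype Ω] [FaithfulSMul G Ω] in
/-- A normalised subgroup of the stabiliser is trivial or transitive on each primitive suborbit. -/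
theorem transitive_on_suborbit {α : Ω} (hep : ∀ ω : Ω, IsPreprimitive (stabilizer G α) (orbit (stabilizer G α) ω))
    {K : Subgroup G} (hK : K ≤ stabilizer G α) (hn : stabilizer G α ≤ Subgroup.normalizer (K : Set G))
    {x : Ω} {k : G} (hk : k ∈ K) (hkx : k • x ≠ x) {y : Ω} (hy : y ∈ orbit (stabilizer G α) x) :
    ∃ k' ∈ K, k' • x = y := by
  haveI := hep x
  haveI : (K.subgroupOf (stabilizer G α)).Normal := Subgroup.normal_subgroupOf_of_le_normalizer hn
  have htr : IsPretransitive (K.subgroupOf (stabilizer G α)) (orbit (stabilizer G α) x) := by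
    refine MulAction.IsQuasiPreprimitive.isPretransitive_of_normal fun h => ?_
    have hx : (⟨x, mem_orbit_self x⟩ : orbit (stabilizer G α) x) ∈
        fixedPoints (K.subgroupOf (stabilizer G α)) (orbit (stabilizer G α) x) := h ▸ Set.mem_univ _
    exact hkx (congrArg Subtype.val (hx ⟨⟨k, hK hk⟩, hk⟩))
  obtain ⟨⟨k', hk'⟩, hk''⟩ := htr.exists_smul_eq ⟨x, mem_orbit_self x⟩ ⟨y, hy⟩
  exact ⟨k', hk', congrArg Subtype.val hk''⟩

omit [Fintype Ω] [FaithfulSMul G Ω] in
theorem card_suborbit_symm {x y : Ω} (hxy : Nat.card (stabilizer G x) = Nat.card (stabilizer G y)) :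
    (orbit (stabilizer G x) y).ncard = (orbit (stabilizer G y) x).ncard := by
  have key : ∀ u v : Ω, Nat.card ↥(stabilizer G u ⊓ stabilizer G v) * (orbit (stabilizer G u) v).ncard =
      Nat.card (stabilizer G u) := by
    intro u v
    rw [← index_stabilizer, show stabilizer (stabilizer G u) v = (stabilizer G v).subgroupOf (stabilizer G u) from rfl,
      ← Subgroup.card_mul_index ((stabilizer G v).subgroupOf (stabilizer G u))]
    congr 1
    rw [inf_comm]
    exact (Nat.card_congr (Subgroup.subgroupOfEquivOfLe inf_le_right).toEquiv).symm.trans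
      (by rw [Subgroup.inf_subgroupOf_right])
  have h1 := key x y
  have h2 := key y x
  rw [inf_comm, ← hxy, ← h1] at h2
  exact (Nat.eq_of_mul_eq_mul_left Nat.card_pos h2).symm

omit [Fintype Ω] [FaithfulSMul G Ω] in
theorem card_stabilizer_eq [IsPretransitive G Ω] (x y : Ω) :
    Nat.card (stabilizer G x) = Nat.card (stabilizer G y) := by
  obtain ⟨g, rfl⟩ := exists_smul_eq G x y
  rw [stabilizer_smul_eq_stabilizer_map_conj]
  exact (Subgroup.card_map_of_injective (MulAut.conj g).injective).symm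

/-- The stabiliser of an extremely primitive group is faithful on each non-trivial orbit. -/
theorem faithful_on_suborbit (hprim : IsPreprimitive G Ω) {α ω : Ω} (hα : stabilizer G α ≠ ⊥)
    (hep : ∀ v : Ω, IsPreprimitive (stabilizer G α) (orbit (stabilizer G α) v)) (hω : ω ≠ α)
    {h : G} (hh : h ∈ stabilizer G α) (hfix : ∀ x ∈ orbit (stabilizer G α) ω, h • x = x) : h = 1 := by
  classical
  haveI := hprim
  haveI : Nontrivial Ω := ⟨⟨ω, α, hω⟩⟩
  have hmax := IsPreprimitive.isCoatom_stabilizer_of_isPreprimitive G α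
  set O := orbit (stabilizer G α) ω with hO
  let K : Subgroup G := stabilizer G α ⊓ ⨅ x : O, stabilizer G (x : Ω)
  have hKmem : ∀ k, k ∈ K ↔ k ∈ stabilizer G α ∧ ∀ x ∈ O, k • x = x := fun k => by
    simp only [K, Subgroup.mem_inf, Subgroup.mem_iInf, mem_stabilizer_iff, Subtype.forall]
  have hKle : K ≤ stabilizer G α := inf_le_left
  have hOinv : ∀ a ∈ stabilizer G α, ∀ x ∈ O, a • x ∈ O := fun a ha x hx => by
    rw [hO, ← orbit_eq_iff.mpr hx]
    exact ⟨⟨a, ha⟩, rfl⟩
  have hKn : stabilizer G α ≤ Subgroup.normalizer (K : Set G) := by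
    intro a ha
    have key : ∀ b ∈ stabilizer G α, ∀ k ∈ K, b * k * b⁻¹ ∈ K := by
      intro b hb k hk
      obtain ⟨hk1, hk2⟩ := (hKmem k).mp hk
      refine (hKmem _).mpr ⟨mul_mem (mul_mem hb hk1) (inv_mem hb), fun x hx => ?_⟩
      rw [mul_smul, mul_smul, hk2 _ (hOinv _ (inv_mem hb) x hx), smul_inv_smul]
    rw [Subgroup.mem_normalizer_iff]
    exact fun k => ⟨key a ha k, fun hk => by simpa [mul_assoc] using key a⁻¹ (inv_mem ha) _ hk⟩
  have hKω : ∀ k ∈ K, k • ω = ω := fun k hk => ((hKmem k).mp hk).2 ω (mem_orbit_self ω)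
  obtain ⟨g, hg⟩ := exists_smul_eq G α ω
  have hgconj : ∀ u, u ∈ stabilizer G ω → g⁻¹ * u * g ∈ stabilizer G α := fun u hu => by
    rw [mem_stabilizer_iff, mul_smul, mul_smul, hg, show u • ω = ω from hu, ← hg, inv_smul_smul]
  have hgconj' : ∀ a, a ∈ stabilizer G α → g * a * g⁻¹ ∈ stabilizer G ω := fun a ha => by
    rw [mem_stabilizer_iff, ← hg, mul_smul, mul_smul, inv_smul_smul, show a • α = α from ha]
  have hgO : orbit (stabilizer G ω) (g • ω) = (g • ·) '' O := by
    ext z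
    constructor
    · rintro ⟨⟨u, hu⟩, rfl⟩
      refine ⟨(g⁻¹ * u * g) • ω, ⟨⟨_, hgconj u hu⟩, rfl⟩, ?_⟩
      change g • (g⁻¹ * u * g) • ω = u • g • ω
      simp [← mul_smul, mul_assoc]
    · rintro ⟨z, ⟨⟨a, ha⟩, rfl⟩, rfl⟩
      refine ⟨⟨_, hgconj' a ha⟩, ?_⟩
      change (g * a * g⁻¹) • g • ω = g • a • ω
      simp [← mul_smul, mul_assoc]
  -- `K` fixes `g • O` pointwise
  have hfixgO : ∀ δ ∈ orbit (stabilizer G ω) (g • ω), ∀ k ∈ K, k • δ = δ := by
    intro δ hδ k hk
    by_contra hmv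
    have hδα : δ ≠ α := fun h => hmv (by rw [h]; exact hKle hk)
    have hsub : ∀ y ∈ orbit (stabilizer G α) δ, y ∈ orbit (stabilizer G ω) δ := fun y hy => by
      obtain ⟨k', hk', rfl⟩ := transitive_on_suborbit hep hKle hKn hk hmv hy
      exact ⟨⟨k', hKω k' hk'⟩, rfl⟩
    have hOS : O ⊆ orbit (stabilizer G δ) ω := by
      rintro _ ⟨⟨a, ha⟩, rfl⟩
      obtain ⟨⟨u, hu⟩, hu'⟩ := hsub (a⁻¹ • δ) ⟨⟨a⁻¹, inv_mem ha⟩, rfl⟩
      change u • δ = a⁻¹ • δ at hu'
      refine ⟨⟨a * u, ?_⟩, ?_⟩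
      · rw [mem_stabilizer_iff, mul_smul, hu', smul_inv_smul]
      · change (a * u) • ω = a • ω
        rw [mul_smul, show u • ω = ω from hu]
    have hcard : (orbit (stabilizer G δ) ω).ncard ≤ O.ncard := by
      rw [← card_suborbit_symm (card_stabilizer_eq ω δ), orbit_eq_iff.mpr hδ, hgO,
        Set.ncard_image_of_injective _ (MulAction.injective g)]
    have hOeq : O = orbit (stabilizer G δ) ω := Set.eq_of_subset_of_ncard_le hOS hcard
    have h1 : stabilizer G α ≤ stabilizer G O := by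
      intro a ha
      rw [mem_stabilizer_iff, hO]
      exact MulAction.smul_orbit (⟨a, ha⟩ : stabilizer G α) ω
    have h2 : stabilizer G δ ≤ stabilizer G O := by
      intro a ha
      rw [mem_stabilizer_iff, hOeq]
      exact MulAction.smul_orbit (⟨a, ha⟩ : stabilizer G δ) ω
    have htop : stabilizer G O = ⊤ := by
      rcases hmax.le_iff.mp h1 with h | h
      · exact h
      · exfalso
        rcases (IsPreprimitive.isCoatom_stabilizer_of_isPreprimitive G δ).le_iff.mp (h ▸ h2) with h' | h'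
        · exact hmax.1 h'
        · exact stabilizer_ne_of_ne hprim hα hδα h'.symm
    have hgfix : g • O = O := mem_stabilizer_iff.mp (by rw [htop]; exact Subgroup.mem_top g)
    have hαO : α ∈ O := by
      have hinv : g⁻¹ • O = O := mem_stabilizer_iff.mp (by rw [htop]; exact Subgroup.mem_top g⁻¹)
      rw [← hinv]
      exact ⟨ω, mem_orbit_self ω, by simp [← hg]⟩
    obtain ⟨a, ha⟩ := hαO
    have : (a : G) • ω = α := ha
    exact hω (MulAction.injective (a : G) (this.trans a.2.symm))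
  -- hence `g` normalises `K`
  have hle : K.map (MulAut.conj g⁻¹).toMonoidHom ≤ K := by
    rintro _ ⟨k, hk, rfl⟩
    change g⁻¹ * k * g⁻¹⁻¹ ∈ K
    rw [inv_inv]
    refine (hKmem _).mpr ⟨hgconj k (hKω k hk), fun x hx => ?_⟩
    have : k • g • x = g • x := hfixgO _ (hgO ▸ ⟨x, hx, rfl⟩) k hk
    rw [mul_smul, mul_smul, this, inv_smul_smul]
  have heq : K.map (MulAut.conj g⁻¹).toMonoidHom = K :=
    Subgroup.eq_of_le_of_card_ge hle (by rw [Subgroup.card_map_of_injective (MulAut.conj g⁻¹).injective])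
  have hgN : g ∈ Subgroup.normalizer (K : Set G) := by
    refine inv_mem_iff.mp ?_
    rw [Subgroup.mem_normalizer_iff]
    intro k
    constructor
    · intro hk; exact heq ▸ ⟨k, hk, rfl⟩
    · intro hk
      rw [← heq] at hk
      obtain ⟨k', hk', he⟩ := hk
      change g⁻¹ * k' * g⁻¹⁻¹ = g⁻¹ * k * g⁻¹⁻¹ at he
      rwa [← mul_left_cancel (mul_right_cancel he)]
  rcases hmax.le_iff.mp hKn with h' | h'
  · haveI := Subgroup.normalizer_eq_top_iff.mp h'
    refine eq_of_smul_eq_smul (α := Ω) fun v => ?_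
    obtain ⟨c, rfl⟩ := exists_smul_eq G α v
    have hc := hKle (Subgroup.Normal.conj_mem (inferInstance : K.Normal) h ((hKmem h).mpr ⟨hh, hfix⟩) c⁻¹)
    rw [mem_stabilizer_iff, mul_smul, mul_smul, inv_inv, inv_smul_eq_iff] at hc
    rw [one_smul]; exact hc
  · rw [h'] at hgN
    exact absurd (hg.symm.trans hgN) hω

/-- Faithfulness as a class statement. -/
theorem faithfulSMul_suborbit (hprim : IsPreprimitive G Ω) {α ω : Ω} (hα : stabilizer G α ≠ ⊥)
    (hep : ∀ v : Ω, IsPreprimitive (stabilizer G α) (orbit (stabilizer G α) v)) (hω : ω ≠ α) :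
    FaithfulSMul (stabilizer G α) (orbit (stabilizer G α) ω) := by
  refine ⟨fun {a b} h => ?_⟩
  have h1 : ((b⁻¹ * a : stabilizer G α) : G) = 1 := by
    refine faithful_on_suborbit hprim hα hep hω (b⁻¹ * a).2 fun x hx => ?_
    have := congrArg Subtype.val (h ⟨x, hx⟩)
    change ((b : G)⁻¹ * a) • x = x
    rw [mul_smul, inv_smul_eq_iff]
    exact this
  exact (inv_mul_eq_one.mp (Subtype.ext h1 : b⁻¹ * a = 1)).symm

omit [Finite G] [Fintype Ω] [FaithfulSMul G Ω] in
theorem nontrivial_suborbit {α ω : Ω} {h : G} (hh : h ∈ stabilizer G α) (hmv : h • ω ≠ ω) :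
    Nontrivial (orbit (stabilizer G α) ω) :=
  ⟨⟨⟨h • ω, ⟨⟨h, hh⟩, rfl⟩⟩, ⟨ω, mem_orbit_self ω⟩, fun e => hmv (congrArg Subtype.val e)⟩⟩

/-- A non-trivial subgroup normalised by the stabiliser has the same orbits. -/
theorem orbit_eq_of_normalized (hprim : IsPreprimitive G Ω) {α : Ω} (hα : stabilizer G α ≠ ⊥)
    (hep : ∀ v : Ω, IsPreprimitive (stabilizer G α) (orbit (stabilizer G α) v))
    {M : Subgroup G} (hM : M ≠ ⊥) (hMle : M ≤ stabilizer G α)
    (hMn : stabilizer G α ≤ Subgroup.normalizer (M : Set G)) (ω : Ω) :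
    orbit M ω = orbit (stabilizer G α) ω := by
  ext y
  refine ⟨fun ⟨m, hm⟩ => ⟨⟨m, hMle m.2⟩, hm⟩, fun hy => ?_⟩
  by_cases hω : ω = α
  · subst hω
    obtain ⟨a, rfl⟩ := hy
    exact ⟨1, (one_smul M ω).trans a.2.symm⟩
  obtain ⟨m, hm, x, hx, hmx⟩ : ∃ m ∈ M, ∃ x ∈ orbit (stabilizer G α) ω, m • x ≠ x := by
    by_contra hc
    push Not at hc
    exact hM ((Subgroup.eq_bot_iff_forall M).mpr fun m hm =>
      faithful_on_suborbit hprim hα hep hω (hMle hm) (hc m hm))
  have hxo := orbit_eq_iff.mpr hx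
  obtain ⟨k₁, hk₁, h1⟩ := transitive_on_suborbit hep hMle hMn hm hmx (hxo ▸ mem_orbit_self ω)
  obtain ⟨k₂, hk₂, h2⟩ := transitive_on_suborbit hep hMle hMn hm hmx (hxo ▸ hy)
  refine ⟨⟨k₂ * k₁⁻¹, M.mul_mem hk₂ (M.inv_mem hk₁)⟩, ?_⟩
  change (k₂ * k₁⁻¹) • ω = y
  rw [mul_smul, inv_smul_eq_iff.mpr h1.symm, h2]

/-- An abelian normal subgroup of the stabiliser is semiregular away from the fixed point. -/
theorem abelian_normal_semiregular (hprim : IsPreprimitive G Ω) {α : Ω} (hα : stabilizer G α ≠ ⊥)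
    (hep : ∀ v : Ω, IsPreprimitive (stabilizer G α) (orbit (stabilizer G α) v))
    {A : Subgroup G} (hA : A ≠ ⊥) (hle : A ≤ stabilizer G α)
    (hn : stabilizer G α ≤ Subgroup.normalizer (A : Set G))
    (hc : ∀ a ∈ A, ∀ b ∈ A, a * b = b * a) {a : G} (ha : a ∈ A) (ha1 : a ≠ 1) {ω : Ω} (hω : ω ≠ α) :
    a • ω ≠ ω := by
  intro h
  refine ha1 (faithful_on_suborbit hprim hα hep hω (hle ha) fun x hx => ?_)
  rw [← orbit_eq_of_normalized hprim hα hep hA hle hn ω] at hx
  obtain ⟨⟨b, hb⟩, rfl⟩ := hx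
  change a • b • ω = b • ω
  rw [← mul_smul, hc a ha b hb, mul_smul, h]

end ExtPrim

end CfsgLib.Recog
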