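import Mathlib.GroupTheory.Sylow
import Mathlib.GroupTheory.Nilpotent
import Mathlib.GroupTheory.Subgroup.Centralizer
import Mathlib.GroupTheory.Abelianization.Defs
import Mathlib.Data.Nat.Prime.Basic
import Mathlib.Algebra.BigOperators.Group.Finset.Basic

/-! Coprime actions of Frobenius-like configurations on abelian groups. -/

set_option autoImplicit false

namespace CfsgLib.Recog

open Finset

/-- In a finite abelian group an element killed by a number coprime to the order is trivial. -/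
theorem eq_one_of_pow_coprime {V : Type*} [Group V] [Finite V] (v : V) {n : ℕ}
    (h : v ^ n = 1) (hc : n.Coprime (Nat.card V)) : v = 1 := by
  rw [← orderOf_eq_one_iff]
  exact Nat.eq_one_of_dvd_coprimes hc (orderOf_dvd_of_pow_eq_one h) (orderOf_dvd_natCard v)

/-- If `F` is normalised by `H`, no non-trivial element of `H` centralises a non-trivial element
of `F`, and `F` acts non-trivially and coprimely on an abelian group `V`, then some norm over `H`
is non-trivial. -/
theorem exists_norm_ne_one {E V : Type*} [Group E] [CommGroup V] [Finite V] (φ : E →* MulAut V)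
    (F H : Subgroup E) [Fintype F] [Fintype H]
    (hnorm : ∀ h ∈ H, ∀ f ∈ F, h * f * h⁻¹ ∈ F)
    (hfix : ∀ f ∈ F, ∀ h ∈ H, h ≠ 1 → h * f = f * h → f = 1)
    (hcop : (Nat.card F).Coprime (Nat.card V))
    (hnt : ∃ f ∈ F, ∃ v, φ f v ≠ v) :
    ∃ w : V, ∏ h : H, φ (h : E) w ≠ 1 := by
  classical
  obtain ⟨f₀, hf₀, v₀, hv₀⟩ := hnt
  by_contra hcon
  push Not at hcon
  set v := φ f₀ v₀ / v₀ with hv
  -- the `F`-norm kills `v`
  have hF0 : ∏ f : F, φ (f : E) v = 1 := by
    simp only [hv, map_div, prod_div_distrib]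
    rw [div_eq_one]
    refine Fintype.prod_equiv (Equiv.mulRight (⟨f₀, hf₀⟩ : F)) _ _ fun f => ?_
    simp [MulAut.mul_apply]
  have key : ∀ h : H, h ≠ 1 → ∏ f : F, φ ((f : E) * h * (f : E)⁻¹) v = φ (h : E) (∏ f : F, φ (f : E) v) := by
    intro h hh
    -- `f h f⁻¹ = h (h⁻¹ f h f⁻¹)`
    let g : F → F := fun f => ⟨(h : E)⁻¹ * f * h * (f : E)⁻¹, F.mul_mem (by
      have := hnorm _ (H.inv_mem h.2) _ f.2
      rwa [inv_inv] at this) (F.inv_mem f.2)⟩
    have hg : Function.Bijective g := by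
      refine Finite.injective_iff_bijective.1 fun a b hab => ?_
      have h1 : (h : E)⁻¹ * a * h * (a : E)⁻¹ = (h : E)⁻¹ * b * h * (b : E)⁻¹ := congrArg Subtype.val hab
      have h2 : (b : E)⁻¹ * a = 1 := by
        refine hfix _ (F.mul_mem (F.inv_mem b.2) a.2) h h.2 (fun e => hh (Subtype.ext e)) ?_
        have e : (a : E) * h * (a : E)⁻¹ = b * h * (b : E)⁻¹ := by
          have := congrArg ((h : E) * ·) h1
          simpa only [mul_assoc, mul_inv_cancel_left] using this
        calc (h : E) * ((b : E)⁻¹ * a) = (b : E)⁻¹ * ((b : E) * h * (b : E)⁻¹) * a := by group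
          _ = (b : E)⁻¹ * ((a : E) * h * (a : E)⁻¹) * a := by rw [e]
          _ = (b : E)⁻¹ * a * h := by group
      exact Subtype.ext (inv_mul_eq_one.1 h2).symm
    rw [map_prod]
    refine Fintype.prod_equiv (Equiv.ofBijective g hg) _ _ fun f => ?_
    rw [← MulAut.mul_apply, ← map_mul]
    simp only [Equiv.ofBijective_apply, g, mul_assoc, mul_inv_cancel_left]
  have hL : ∏ f : F, ∏ h : H, φ ((f : E) * h * (f : E)⁻¹) v = 1 := by
    refine prod_eq_one fun f _ => ?_
    have : ∀ h : H, φ ((f : E) * h * (f : E)⁻¹) v = φ (f : E) (φ (h : E) (φ (f : E)⁻¹ v)) := fun h => by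
      simp [MulAut.mul_apply]
    simp only [this, ← map_prod, hcon, map_one]
  rw [prod_comm, ← mul_prod_erase _ _ (mem_univ (1 : H))] at hL
  have h1 : ∀ h ∈ (univ : Finset H).erase 1, ∏ f : F, φ ((f : E) * h * (f : E)⁻¹) v = 1 :=
    fun h hh => by rw [key h (mem_erase.1 hh).1, hF0, map_one]
  rw [prod_eq_one h1] at hL
  simp only [OneMemClass.coe_one, mul_one, mul_inv_cancel, map_one, MulAut.one_apply, prod_const, card_univ] at hL
  have := eq_one_of_pow_coprime v hL (by rw [← Nat.card_eq_fintype_card]; exact hcop)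
  rw [hv, div_eq_one] at this
  exact hv₀ this

/-- A group with a partition into `k + 1` subgroups, none with a non-trivial fixed point on the
abelian group `V`, has `k` not coprime to `#V`, unless `V` is trivial. -/
theorem exists_fixed_of_partition {E V : Type*} [Group E] [Fintype E] [CommGroup V] [Finite V]
    [Nontrivial V] (φ : E →* MulAut V) (𝒜 : Finset (Subgroup E)) (hne : 𝒜.Nonempty)
    (hpart : ∀ a : E, a ≠ 1 → ∃! B, B ∈ 𝒜 ∧ a ∈ B) (hk : (𝒜.card - 1).Coprime (Nat.card V)) :
    ∃ B ∈ 𝒜, ∃ v : V, v ≠ 1 ∧ ∀ b ∈ B, φ b v = v := by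
  classical
  by_contra hcon
  push Not at hcon
  have hzero : ∀ B ∈ 𝒜, ∀ v, ∏ e ∈ univ.filter (· ∈ B), φ e v = 1 := by
    intro B hB v
    by_contra hw
    obtain ⟨b, hb, hne'⟩ := hcon B hB _ hw
    apply hne'
    rw [map_prod]
    refine prod_equiv (Equiv.mulLeft b) (fun e => ?_) (fun e _ => by simp [MulAut.mul_apply])
    simp [B.mul_mem_cancel_left hb]
  have hall : ∀ v, ∏ e : E, φ e v = 1 := by
    intro v
    obtain ⟨B, hB⟩ := hne
    by_contra hw
    obtain ⟨b, -, hne'⟩ := hcon B hB _ hw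
    apply hne'
    rw [map_prod]
    exact Fintype.prod_equiv (Equiv.mulLeft b) _ _ fun e => by simp [MulAut.mul_apply]
  obtain ⟨v, hv⟩ := exists_ne (1 : V)
  apply hv
  apply eq_one_of_pow_coprime v (n := 𝒜.card - 1) ?_ hk
  have h1 : ∏ B ∈ 𝒜, ∏ e ∈ univ.filter (· ∈ B), φ e v = (∏ e : E, φ e v) * v ^ (𝒜.card - 1) := by
    rw [prod_comm' (t' := (univ : Finset E)) (s' := fun e => 𝒜.filter (e ∈ ·)) (h := by simp)]
    simp only [prod_const]
    rw [← mul_prod_erase univ _ (mem_univ (1 : E)), ← mul_prod_erase univ (fun e => φ e v) (mem_univ (1 : E))]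
    have hc : ∀ e ∈ (univ : Finset E).erase 1, φ e v ^ (𝒜.filter (e ∈ ·)).card = φ e v := by
      intro e he
      obtain ⟨B, hB, hu⟩ := hpart e (mem_erase.1 he).1
      have : 𝒜.filter (e ∈ ·) = {B} := by
        ext C
        simp only [mem_filter, mem_singleton]
        exact ⟨fun h => hu C h, fun h => h ▸ hB⟩
      rw [this, card_singleton, pow_one]
    rw [prod_congr rfl hc, map_one, MulAut.one_apply]
    have : (𝒜.filter ((1 : E) ∈ ·)).card = 1 + (𝒜.card - 1) := by
      rw [filter_true_of_mem (fun B _ => B.one_mem)]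
      have := hne.card_pos
      omega
    rw [this, pow_add, pow_one, mul_right_comm]
  rw [prod_eq_one (fun B hB => hzero B hB v), hall, one_mul] at h1
  exact h1.symm

/-- Two commuting elements of distinct prime orders `p`, `q` give an element of order `p * q`. -/
theorem exists_orderOf_mul {G : Type*} [Group G] [Finite G] {p q : ℕ} (hp : p.Prime) (hq : q.Prime)
    (hne : p ≠ q) {a b : G} (ha : p ∣ orderOf a) (hb : q ∣ orderOf b) (hab : Commute a b) :
    ∃ g : G, orderOf g = p * q := by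
  refine ⟨a ^ (orderOf a / p) * b ^ (orderOf b / q), ?_⟩
  have e1 := orderOf_pow_orderOf_div (orderOf_pos a).ne' ha
  have e2 := orderOf_pow_orderOf_div (orderOf_pos b).ne' hb
  rw [(hab.pow_pow _ _).orderOf_mul_eq_mul_orderOf_of_coprime
    (by rw [e1, e2]; exact (Nat.coprime_primes hp hq).2 hne), e1, e2]

theorem prime_dvd_orderOf_of_isPGroup {G : Type*} [Group G] {p : ℕ} [Fact p.Prime] {P : Subgroup G}
    (hP : IsPGroup p P) {x : G} (hx : x ∈ P) (hx1 : x ≠ 1) : p ∣ orderOf x := by
  obtain ⟨k, hk⟩ := hP ⟨x, hx⟩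
  have hk' : x ^ p ^ k = 1 := congrArg Subtype.val hk
  obtain ⟨j, -, hj⟩ := (Nat.dvd_prime_pow Fact.out).1 (orderOf_dvd_of_pow_eq_one hk')
  rw [hj]
  refine dvd_pow_self p fun h => hx1 ?_
  rwa [h, pow_zero, orderOf_eq_one_iff] at hj

end CfsgLib.Recog
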