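import Mathlib.Data.ZMod.Basic
import Mathlib.Algebra.Module.ZMod
import Mathlib.Algebra.Module.Equiv.Basic
import Mathlib.Algebra.Field.ZMod
import Mathlib.Tactic.LinearCombination
import Mathlib.Tactic.Module
import Mathlib.Data.Fin.VecNotation

/-! A permutation agreeing on triples with affine maps is affine in odd characteristic. -/

namespace CfsgLib.Recog

variable {p : ℕ} [Fact p.Prime] {V : Type*} [AddCommGroup V] [Module (ZMod p) V]

/-- Affine combinations of two points are preserved. -/
theorem line_of_agree {σ : Equiv.Perm V}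
    (h : ∀ t : Fin 3 → V, ∃ (A : V ≃ₗ[ZMod p] V) (b : V), ∀ i, σ (t i) = A (t i) + b)
    (x y : V) (c : ZMod p) : σ (x + c • (y - x)) = σ x + c • (σ y - σ x) := by
  obtain ⟨A, b, hA⟩ := h ![x, y, x + c • (y - x)]
  have h0 : σ x = A x + b := hA 0
  have h1 : σ y = A y + b := hA 1
  have h2 : σ (x + c • (y - x)) = A (x + c • (y - x)) + b := hA 2
  rw [h0, h1, h2, map_add, map_smul, map_sub, add_sub_add_right_eq_sub]
  abel

/-- Agreement on triples with affine maps forces being affine, in odd characteristic. -/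
theorem affine_of_agree (hp : p ≠ 2) (σ : Equiv.Perm V)
    (h : ∀ t : Fin 3 → V, ∃ (A : V ≃ₗ[ZMod p] V) (b : V), ∀ i, σ (t i) = A (t i) + b) :
    ∃ (A : V ≃ₗ[ZMod p] V) (b : V), ∀ x, σ x = A x + b := by
  have h2 : (2 : ZMod p) ≠ 0 := fun h0 => by
    have : (p : ℕ) ∣ 2 := (ZMod.natCast_eq_zero_iff 2 p).mp (by exact_mod_cast h0)
    exact hp ((Nat.prime_dvd_prime_iff_eq Fact.out Nat.prime_two).mp this)
  have hσ : ∀ z, σ ((2 : ZMod p) • z) = (2 : ZMod p) • σ z - σ 0 := fun z => by
    have := line_of_agree h 0 z 2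
    rw [zero_add, sub_zero] at this
    rw [this]; module
  have hhalf : (2 : ZMod p) * 2⁻¹ = 1 := mul_inv_cancel₀ h2
  let f : V →+ V :=
    { toFun := fun x => σ x - σ 0
      map_zero' := sub_self _
      map_add' := fun x y => by
        have h3 := line_of_agree h x y 2⁻¹
        have h4 := hσ (x + (2 : ZMod p)⁻¹ • (y - x))
        have h5 : (2 : ZMod p) • (x + (2 : ZMod p)⁻¹ • (y - x)) = x + y := by
          rw [smul_add, smul_smul, hhalf, one_smul, two_smul]; abel
        rw [h5, h3, smul_add, smul_smul, hhalf, one_smul] at h4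
        rw [h4, two_smul]; abel }
  have hf : Function.Bijective (f.toZModLinearMap p) := by
    refine ⟨fun x y hxy => σ.injective ?_, fun y => ⟨σ.symm (y + σ 0), ?_⟩⟩
    · change σ x - σ 0 = σ y - σ 0 at hxy
      simpa using hxy
    · change σ (σ.symm (y + σ 0)) - σ 0 = y
      simp
  refine ⟨LinearEquiv.ofBijective (f.toZModLinearMap p) hf, σ 0, fun x => ?_⟩
  change σ x = (σ x - σ 0) + σ 0
  abel

end CfsgLib.Recog
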