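import Mathlib.GroupTheory.Perm.Sign
import Mathlib.GroupTheory.SpecificGroups.Alternating
import Mathlib.GroupTheory.Perm.Fin
import Mathlib.Tactic.NormNum.Prime

/-! Element orders in the alternating group of degree five. -/

namespace CfsgLib.Recog

open Equiv

set_option maxRecDepth 10000 in
theorem altFive_pow_cases : ∀ g : Perm (Fin 5), Perm.sign g = 1 → g ^ 2 = 1 ∨ g ^ 3 = 1 ∨ g ^ 5 = 1 := by
  decide +kernel

theorem altFive_orderOf (g : alternatingGroup (Fin 5)) :
    orderOf g = 1 ∨ orderOf g = 2 ∨ orderOf g = 3 ∨ orderOf g = 5 := by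
  rw [← Subgroup.orderOf_coe]
  rcases altFive_pow_cases g g.2 with h | h | h <;>
    rcases (Nat.dvd_prime (by norm_num)).mp (orderOf_dvd_of_pow_eq_one h) with h | h <;> tauto

theorem altFive_exists_orderOf {n : ℕ} (h : n = 1 ∨ n = 2 ∨ n = 3 ∨ n = 5) :
    ∃ g : alternatingGroup (Fin 5), orderOf g = n := by
  rcases h with rfl | rfl | rfl | rfl
  · exact ⟨1, orderOf_one⟩
  · haveI := Fact.mk Nat.prime_two
    exact ⟨⟨swap 0 1 * swap 2 3, Perm.mem_alternatingGroup.mpr (by decide)⟩,
      orderOf_eq_prime (Subtype.ext (by decide)) (fun h => absurd (congrArg Subtype.val h) (by decide))⟩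
  · haveI := Fact.mk Nat.prime_three
    exact ⟨⟨swap 0 1 * swap 1 2, Perm.mem_alternatingGroup.mpr (by decide)⟩,
      orderOf_eq_prime (Subtype.ext (by decide)) (fun h => absurd (congrArg Subtype.val h) (by decide))⟩
  · haveI := Fact.mk Nat.prime_five
    exact ⟨⟨finRotate 5, Perm.mem_alternatingGroup.mpr (by decide)⟩,
      orderOf_eq_prime (Subtype.ext (by decide)) (fun h => absurd (congrArg Subtype.val h) (by decide))⟩

end CfsgLib.Recog
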