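import Mathlib
import Cfsg.Prelude.Def_Solvable

/-!
Permutation groups containing the alternating group.
-/

set_option autoImplicit false
set_option linter.unusedSectionVars false
set_option linter.style.haveILetI false

namespace CfsgLib.Recog.BigPerm

open Equiv Subgroup

variable {α : Type*} [Fintype α] [DecidableEq α]

/-- A permutation group of index at most two. -/
def Big (H : Subgroup (Perm α)) : Prop := (Nat.card α).factorial ≤ 2 * Nat.card H

theorem big_iff_index {H : Subgroup (Perm α)} : Big H ↔ H.index ≤ 2 := by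
  have h := H.card_mul_index
  rw [Nat.card_perm] at h
  rw [Big, ← h, mul_comm 2]
  exact Nat.mul_le_mul_left_iff Nat.card_pos

theorem Big.alt_le {H : Subgroup (Perm α)} (h : Big H) : alternatingGroup α ≤ H :=
  Equiv.Perm.alternatingGroup_le_of_index_le_two (big_iff_index.mp h)

theorem big_of_alt_le {H : Subgroup (Perm α)} (h : alternatingGroup α ≤ H) : Big H := by
  rw [big_iff_index]
  rcases subsingleton_or_nontrivial α with hs | hn
  · have h1 := H.index_dvd_card
    rw [Nat.card_unique] at h1
    have := Nat.le_of_dvd one_pos h1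
    omega
  · have h1 := Subgroup.index_dvd_of_le h
    rw [alternatingGroup.index_eq_two] at h1
    exact Nat.le_of_dvd two_pos h1

theorem Big.mono {H J : Subgroup (Perm α)} (h : Big H) (hle : H ≤ J) : Big J :=
  big_of_alt_le (h.alt_le.trans hle)

theorem Big.eq_top_or_eq_alt {H : Subgroup (Perm α)} (h : Big H) :
    H = ⊤ ∨ H = alternatingGroup α := by
  have h2 := big_iff_index.mp h
  have h0 : H.index ≠ 0 := index_ne_zero_of_finite
  rcases Nat.lt_or_ge H.index 2 with h1 | h1
  · exact Or.inl (index_eq_one.mp (by omega))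
  · exact Or.inr (Equiv.Perm.eq_alternatingGroup_of_index_eq_two (by omega))

theorem alt_ne_bot (h5 : 5 ≤ Nat.card α) : alternatingGroup α ≠ ⊥ :=
  (Subgroup.nontrivial_iff_ne_bot _).mp
    (alternatingGroup.nontrivial_of_three_le_card (by omega))

theorem commutator_alt (h5 : 5 ≤ Nat.card α) :
    ⁅alternatingGroup α, alternatingGroup α⁆ = alternatingGroup α :=
  commutator_alternatingGroup_eq_self h5

theorem not_big_bot (h5 : 5 ≤ Nat.card α) : ¬ Big (⊥ : Subgroup (Perm α)) := fun h =>
  alt_ne_bot h5 (le_bot_iff.mp h.alt_le)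

theorem Big.commutator_eq (h5 : 5 ≤ Nat.card α) {H : Subgroup (Perm α)} (h : Big H) :
    ⁅H, H⁆ = alternatingGroup α := by
  refine le_antisymm ?_ ((commutator_alt h5).ge.trans (commutator_mono h.alt_le h.alt_le))
  calc ⁅H, H⁆ ≤ ⁅(⊤ : Subgroup (Perm α)), ⊤⁆ := commutator_mono le_top le_top
    _ = alternatingGroup α := alternatingGroup.commutator_perm_eq h5

theorem centralizer_alt (h5 : 5 ≤ Nat.card α) :
    centralizer (alternatingGroup α : Set (Perm α)) = ⊥ := by
  by_contra h
  have h1 := Equiv.Perm.alternatingGroup_le_of_normal h5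
    ((Subgroup.nontrivial_iff_ne_bot _).mpr h)
  rw [← commutator_eq_bot_iff_le_centralizer, commutator_alt h5] at h1
  exact alt_ne_bot h5 h1

/-- A nontrivial normal subgroup of a big group is big. -/
theorem Big.normal (h5 : 5 ≤ Nat.card α) {H N : Subgroup (Perm α)} (h : Big H) (hN : N ≤ H)
    (hn : H ≤ normalizer (N : Set (Perm α))) : N = ⊥ ∨ Big N := by
  have hA := h.alt_le
  haveI : ((N ⊓ alternatingGroup α).subgroupOf (alternatingGroup α)).Normal :=
    (normal_subgroupOf_iff_le_normalizer inf_le_right).mpr
      ((le_inf (hA.trans hn) Subgroup.le_normalizer).trans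
        Subgroup.inf_normalizer_le_normalizer_inf)
  rcases alternatingGroup.normal_subgroup_eq_bot_or_eq_top h5
    (N := (N ⊓ alternatingGroup α).subgroupOf (alternatingGroup α)) with hb | ht
  · left
    rw [subgroupOf_eq_bot] at hb
    have hd : N ⊓ alternatingGroup α = ⊥ :=
      le_bot_iff.mp ((disjoint_iff.mp hb) ▸ le_inf le_rfl inf_le_right)
    rw [eq_bot_iff, ← centralizer_alt h5, ← commutator_eq_bot_iff_le_centralizer, eq_bot_iff,
      ← hd]
    exact le_inf (le_normalizer_iff_commutator_le_left.mp (hA.trans hn))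
      (le_normalizer_iff_commutator_le_right.mp
        (fun x _ => by rw [normalizer_eq_top]; exact mem_top x))
  · exact Or.inr (big_of_alt_le ((subgroupOf_eq_top.mp ht).trans inf_le_left))

theorem not_nilpotent_of_big (h5 : 5 ≤ Nat.card α) {H : Subgroup (Perm α)} (h : Big H) :
    ¬ Group.IsNilpotent ↥H := by
  intro hn
  haveI := hn
  have hb : (alternatingGroup α).subgroupOf H ≠ ⊥ := fun hb => alt_ne_bot h5
    (le_bot_iff.mp ((disjoint_iff.mp (subgroupOf_eq_bot.mp hb)) ▸ le_inf le_rfl h.alt_le))
  refine (Group.IsSolvable.commutator_lt_of_ne_bot hb).ne ?_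
  refine Subgroup.map_injective H.subtype_injective ?_
  rw [map_commutator, map_subgroupOf_eq_of_le h.alt_le, commutator_alt h5]

/-- A group embedded as a big permutation group has trivial Fitting subgroup. -/
theorem fitting_eq_bot_of_big (h5 : 5 ≤ Nat.card α) {X : Type*} [Group X] (f : X →* Perm α)
    (hf : Function.Injective f) (h : Big f.range) : Cfsg.fittingSubgroup X = ⊥ := by
  refine le_bot_iff.mp (sSup_le ?_)
  rintro N ⟨hN, hnil⟩
  haveI := hN
  haveI := hnil
  rcases h.normal h5 (map_le_range f N) (by
    rintro _ ⟨x, rfl⟩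
    exact le_normalizer_map f ⟨x, (normalizer_eq_top (H := N)).symm ▸ mem_top x, rfl⟩) with
      hb | hB
  · exact ((map_eq_bot_iff_of_injective N hf).mp hb).le
  · exact absurd (Group.nilpotent_of_surjective (G := ↥N) (G' := ↥(N.map f)) (f.subgroupMap N)
      (f.subgroupMap_surjective N)) (not_nilpotent_of_big h5 hB)

theorem factorial_not_le (h5 : 5 ≤ Nat.card α) {k : ℕ} (hk : k < Nat.card α) :
    ¬ Nat.card (alternatingGroup α) ≤ k.factorial := by
  haveI : Nontrivial α := Finite.one_lt_card_iff_nontrivial.mp (by omega)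
  intro h
  have h1 := two_mul_nat_card_alternatingGroup (α := α)
  rw [Nat.card_perm] at h1
  obtain ⟨n, hn⟩ : ∃ n, Nat.card α = n + 1 := ⟨Nat.card α - 1, by omega⟩
  have h2 : k.factorial ≤ n.factorial := Nat.factorial_le (by omega)
  rw [hn, Nat.factorial_succ] at h1
  have h3 := Nat.factorial_pos n
  nlinarith

/-- A subgroup of a big group that is not big has index at least the degree. -/
theorem card_mul_le_of_not_big (h5 : 5 ≤ Nat.card α) {H L : Subgroup (Perm α)} (hL : Big L)
    (hle : H ≤ L) (h : ¬ Big H) : Nat.card H * Nat.card α ≤ Nat.card L := by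
  haveI : Nontrivial α := Finite.one_lt_card_iff_nontrivial.mp (by omega)
  set J := H.subgroupOf (alternatingGroup α) with hJ
  have hJtop : J ≠ ⊤ := fun ht => h (big_of_alt_le (subgroupOf_eq_top.mp ht))
  have hidx : Nat.card α ≤ J.index := by
    by_contra hlt
    push Not at hlt
    rcases alternatingGroup.normal_subgroup_eq_bot_or_eq_top h5 (N := J.normalCore) with hb | ht
    · have hinj : Function.Injective (MulAction.toPermHom (alternatingGroup α)
          (alternatingGroup α ⧸ J)) := by
        rw [← MonoidHom.ker_eq_bot_iff, ← normalCore_eq_ker, hb]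
      have h2 := Nat.card_le_card_of_injective _ hinj
      rw [Nat.card_perm, ← Subgroup.index_eq_card] at h2
      exact factorial_not_le h5 hlt h2
    · exact hJtop (top_le_iff.mp (ht ▸ J.normalCore_le))
  have hJcard : Nat.card J * Nat.card α ≤ Nat.card (alternatingGroup α) := by
    rw [← J.card_mul_index]
    exact Nat.mul_le_mul_left _ hidx
  have hHJ : Nat.card J = Nat.card ↥(H ⊓ alternatingGroup α) := by
    rw [hJ, ← inf_subgroupOf_right]
    exact Nat.card_congr (subgroupOfEquivOfLe inf_le_right).toEquiv
  have hrel : (alternatingGroup α).relIndex H * Nat.card J = Nat.card H := by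
    rw [hHJ, ← relIndex_bot_left, ← relIndex_bot_left, mul_comm, ← inf_relIndex_left H,
      relIndex_mul_relIndex _ _ _ bot_le inf_le_left]
  rcases hL.eq_top_or_eq_alt with hT | hA
  · have h2 : (alternatingGroup α).relIndex H ≤ 2 := by
      rw [← alternatingGroup.index_eq_two (α := α)]
      have := relIndex_le_of_le_right (H := alternatingGroup α) (le_top : H ≤ ⊤)
        (by rw [relIndex_top_right]; exact index_ne_zero_of_finite)
      rwa [relIndex_top_right] at this
    have h3 := two_mul_nat_card_alternatingGroup (α := α)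
    rw [hT, Subgroup.card_top, ← hrel, ← h3, mul_assoc]
    exact Nat.mul_le_mul h2 hJcard
  · rw [hA] at hle ⊢
    rw [relIndex_eq_one.mpr hle, one_mul] at hrel
    rw [← hrel]
    exact hJcard

/-- A big group is transitive. -/
theorem Big.exists_apply_eq (h3 : 3 ≤ Nat.card α) {H : Subgroup (Perm α)} (h : Big H) (p q : α) :
    ∃ x ∈ H, x p = q := by
  haveI := alternatingGroup.isPretransitive_of_three_le_card α h3
  obtain ⟨x, hx⟩ := MulAction.exists_smul_eq (alternatingGroup α) p q
  exact ⟨x, h.alt_le x.2, hx⟩

end CfsgLib.Recog.BigPerm
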