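import Mathlib
import Cfsg.Agent.Lib.Counting.Frobenius

/-!
Numbers of elements of given orders: divisibility and Sylow lemmas.
-/

set_option autoImplicit false

namespace CfsgLib.Recog.OrderCounts

open CfsgLib.Counting

variable {G : Type*} [Group G]

/-- The number of elements of order `m`. -/
noncomputable def cnt (G : Type*) [Group G] (m : ℕ) : ℕ := Nat.card {g : G // orderOf g = m}

theorem cnt_one : cnt G 1 = 1 := by
  rw [cnt, Nat.card_eq_one_iff_unique]
  exact ⟨⟨fun a b => Subtype.ext ((orderOf_eq_one_iff.mp a.2).trans (orderOf_eq_one_iff.mp b.2).symm)⟩,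
    ⟨⟨1, orderOf_one⟩⟩⟩

variable [Finite G]

theorem cnt_pos_iff {m : ℕ} : 0 < cnt G m ↔ ∃ g : G, orderOf g = m := by
  rw [cnt, Nat.card_pos_iff]
  exact ⟨fun h => h.1.elim fun g => ⟨g.1, g.2⟩, fun ⟨g, hg⟩ => ⟨⟨⟨g, hg⟩⟩, inferInstance⟩⟩

theorem cnt_eq_zero {m : ℕ} : cnt G m = 0 ↔ ∀ g : G, orderOf g ≠ m := by
  have := cnt_pos_iff (G := G) (m := m)
  constructor
  · intro h g hg
    have := this.mpr ⟨g, hg⟩
    omega
  · intro h
    by_contra hne
    obtain ⟨g, hg⟩ := this.mp (Nat.pos_of_ne_zero hne)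
    exact h g hg

theorem cnt_eq_zero_of_dvd {d m : ℕ} (hm : m ≠ 0) (hd : d ∣ m) (h : cnt G d = 0) : cnt G m = 0 := by
  rw [cnt_eq_zero] at h ⊢
  intro g hg
  refine h (g ^ (m / d)) ?_
  rw [← hg] at hm hd ⊢
  exact orderOf_pow_orderOf_div hm hd

theorem totient_dvd (m : ℕ) : Nat.totient m ∣ cnt G m := totient_dvd_card_orderOf m

theorem pow_eq_one_count {n : ℕ} (hn : n ≠ 0) :
    Nat.card {g : G // g ^ n = 1} = ∑ d ∈ n.divisors, cnt G d := by
  classical
  have := Fintype.ofFinite G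
  simp only [cnt, Nat.card_eq_fintype_card, Fintype.card_subtype]
  exact (sum_card_orderOf_eq_card_pow_eq_one hn).symm

theorem dvd_sum {n : ℕ} (hn : n ≠ 0) (h : n ∣ Nat.card G) : n ∣ ∑ d ∈ n.divisors, cnt G d := by
  have h' := frobenius_dvd (G := G) n
  rwa [Nat.gcd_eq_left h, pow_eq_one_count hn] at h'

theorem card_eq_sum : Nat.card G = ∑ d ∈ (Nat.card G).divisors, cnt G d := by
  rw [← pow_eq_one_count Nat.card_pos.ne']
  exact (Nat.card_congr (Equiv.subtypeUnivEquiv fun g => pow_card_eq_one')).symm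

theorem cnt_pos_of_prime_dvd {p : ℕ} (hp : p.Prime) (h : p ∣ Nat.card G) : 0 < cnt G p :=
  haveI := Fact.mk hp
  cnt_pos_iff.mpr (exists_prime_orderOf_dvd_card' p h)

theorem cnt_of_not_dvd {m : ℕ} (h : ¬ m ∣ Nat.card G) : cnt G m = 0 :=
  cnt_eq_zero.mpr fun g hg => h (hg ▸ orderOf_dvd_natCard g)

/-- If the Sylow `p`-subgroups have prime order, they are counted by the elements of order `p`. -/
theorem cnt_prime_eq {p : ℕ} [Fact p.Prime] (h1 : p ∣ Nat.card G) (h2 : ¬ p ^ 2 ∣ Nat.card G) :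
    cnt G p = Nat.card (Sylow p G) * (p - 1) := by
  classical
  have hp : p.Prime := Fact.out
  have hP : ∀ P : Sylow p G, Nat.card P = p := fun P => by
    obtain ⟨k, hk⟩ := P.2.exists_card_eq
    have hd : p ^ k ∣ Nat.card G := hk ▸ (P : Subgroup G).card_subgroup_dvd_card
    have h3 := P.pow_dvd_card_of_pow_dvd_card (n := 1) (by rwa [pow_one])
    rw [hk] at h3 ⊢
    rcases k with _ | _ | k
    · rw [pow_one, pow_zero, Nat.dvd_one] at h3; exact absurd h3 hp.ne_one
    · exact pow_one p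
    · exact absurd ((pow_dvd_pow p (by omega)).trans hd) h2
  letI := Fintype.ofFinite (Sylow p G)
  have hex : ∀ g : G, orderOf g = p → ∃ P : Sylow p G, g ∈ (P : Subgroup G) := fun g hg => by
    obtain ⟨P, hP⟩ := (IsPGroup.of_card (n := 1) (by rw [Nat.card_zpowers, hg, pow_one]) :
      IsPGroup p (Subgroup.zpowers g)).exists_le_sylow
    exact ⟨P, hP (Subgroup.mem_zpowers g)⟩
  choose f hf using hex
  have hgen : ∀ (g : G) (P : Sylow p G), orderOf g = p → g ∈ (P : Subgroup G) →
      Subgroup.zpowers g = (P : Subgroup G) := fun g P hg hm =>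
    Subgroup.eq_of_le_of_card_ge (Subgroup.zpowers_le.mpr hm) (by rw [Nat.card_zpowers, hg, hP])
  let e : {g : G // orderOf g = p} → Σ P : Sylow p G, {x : (P : Subgroup G) // x ≠ 1} := fun g =>
    ⟨f g g.2, ⟨g, hf g g.2⟩, fun h => hp.ne_one (g.2.symm.trans (by
      rw [show (g : G) = 1 from congrArg Subtype.val h, orderOf_one]))⟩
  have he : Function.Bijective e := by
    constructor
    · intro a b h
      exact Subtype.ext (congrArg (fun s : Σ P : Sylow p G, {x : (P : Subgroup G) // x ≠ 1} =>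
        ((s.2.1 : (s.1 : Subgroup G)) : G)) h)
    · rintro ⟨P, ⟨x, hx⟩, hx1⟩
      have ho : orderOf x = p := by
        have hd : orderOf x ∣ p := hP P ▸ Subgroup.orderOf_dvd_natCard _ hx
        exact ((Nat.dvd_prime hp).mp hd).resolve_left fun h =>
          hx1 (Subtype.ext (orderOf_eq_one_iff.mp h))
      have hPf : f x ho = P := Sylow.ext ((hgen x _ ho (hf x ho)).symm.trans (hgen x P ho hx))
      exact ⟨⟨x, ho⟩, by subst hPf; rfl⟩
  rw [cnt, Nat.card_congr (Equiv.ofBijective e he), Nat.card_sigma]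
  have : ∀ P : Sylow p G, Nat.card {x : (P : Subgroup G) // x ≠ 1} = p - 1 := fun P => by
    letI := Fintype.ofFinite (P : Subgroup G)
    rw [Nat.card_eq_fintype_card, Fintype.card_subtype_compl, Fintype.card_subtype_eq,
      ← Nat.card_eq_fintype_card, hP]
  rw [Finset.sum_congr rfl fun P _ => this P, Finset.sum_const, Finset.card_univ, smul_eq_mul,
    ← Nat.card_eq_fintype_card]

/-- With Sylow `p`-subgroups of prime order, a commuting pair of orders `p`, `q` gives many elements of order `pq`. -/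
theorem cnt_mul_ge {p q : ℕ} [Fact p.Prime] (hq : q.Prime) (hpq : p ≠ q) (h2 : ¬ p ^ 2 ∣ Nat.card G)
    {x y : G} (hx : orderOf x = p) (hy : orderOf y = q) (hxy : Commute x y) :
    cnt G p * (q - 1) ≤ cnt G (p * q) := by
  classical
  have hp : p.Prime := Fact.out
  have h1 : p ∣ Nat.card G := hx ▸ orderOf_dvd_natCard x
  have key : ∀ g : G, orderOf g = p → ∃ y' : G, orderOf y' = q ∧ Commute g y' := by
    intro g hg
    have hz : ∀ a : G, orderOf a = p → Nat.card (Subgroup.zpowers a) = p ^ (Nat.card G).factorization p := by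
      intro a ha
      have hf1 : (Nat.card G).factorization p = 1 := by
        refine le_antisymm ?_ ((hp.dvd_iff_one_le_factorization Nat.card_pos.ne').mp h1)
        by_contra hlt
        exact h2 ((pow_dvd_pow p (by omega)).trans (Nat.ordProj_dvd (Nat.card G) p))
      rw [Nat.card_zpowers, ha, hf1, pow_one]
    obtain ⟨k, hk⟩ := MulAction.exists_smul_eq G (Sylow.ofCard (Subgroup.zpowers x) (hz x hx))
      (Sylow.ofCard (Subgroup.zpowers g) (hz g hg))
    have hg' : g ∈ ((k • Sylow.ofCard (Subgroup.zpowers x) (hz x hx) : Sylow p G) : Subgroup G) := by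
      rw [hk]; exact Subgroup.mem_zpowers g
    rw [Sylow.coe_subgroup_smul] at hg'
    obtain ⟨z, hz', rfl⟩ := hg'
    obtain ⟨j, rfl⟩ := Subgroup.mem_zpowers_iff.mp hz'
    refine ⟨MulAut.conj k y, by rw [MulEquiv.orderOf_eq, hy], ?_⟩
    exact (hxy.zpow_left j).map (MulAut.conj k).toMonoidHom
  choose y' hy' hc using key
  let F : {g : G // orderOf g = p} × Fin (q - 1) → {g : G // orderOf g = p * q} := fun a =>
    ⟨a.1.1 * y' a.1.1 a.1.2 ^ (a.2.val + 1), by
      have hcop : (a.2.val + 1).Coprime q :=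
        Nat.coprime_comm.mp (hq.coprime_iff_not_dvd.mpr
          (Nat.not_dvd_of_pos_of_lt (by omega) (by have := a.2.isLt; omega)))
      have ho : orderOf (y' a.1.1 a.1.2 ^ (a.2.val + 1)) = q := by
        rw [Nat.Coprime.orderOf_pow (by rw [hy']; exact hcop.symm), hy']
      rw [((hc a.1.1 a.1.2).pow_right _).orderOf_mul_eq_mul_orderOf_of_coprime, a.1.2, ho]
      rw [a.1.2, ho]
      exact (Nat.coprime_primes hp hq).mpr hpq⟩
  have hF : Function.Injective F := by
    rintro ⟨⟨g, hg⟩, i⟩ ⟨⟨g', hg'⟩, i'⟩ h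
    have h' : g * y' g hg ^ (i.val + 1) = g' * y' g' hg' ^ (i'.val + 1) := congrArg Subtype.val h
    obtain ⟨e, he1, he2⟩ := Nat.chineseRemainder ((Nat.coprime_primes hp hq).mpr hpq) 1 0
    have hproj : ∀ (a b : G), orderOf a = p → orderOf b = q → Commute a b → ∀ n : ℕ, (a * b ^ n) ^ e = a := by
      intro a b ha hb hab n
      rw [(hab.pow_right n).mul_pow, ← pow_mul, ← pow_mod_orderOf a, ha, he1, ← ha, pow_mod_orderOf,
        pow_one, mul_comm n, pow_mul, ← pow_mod_orderOf b, hb, he2, Nat.zero_mod, pow_zero, one_pow,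
        mul_one]
    have hgg : g = g' := by
      rw [← hproj g _ hg (hy' g hg) (hc g hg) (i.val + 1), h',
        hproj g' _ hg' (hy' g' hg') (hc g' hg')]
    subst hgg
    have h'' := mul_left_cancel h'
    rw [pow_inj_mod, hy', Nat.mod_eq_of_lt (by have := i.isLt; omega),
      Nat.mod_eq_of_lt (by have := i'.isLt; omega)] at h''
    exact Prod.ext rfl (Fin.ext (by simpa using h''))
  have h := Nat.card_le_card_of_injective F hF
  rwa [Nat.card_prod, Nat.card_eq_fintype_card (α := Fin (q - 1)), Fintype.card_fin] at h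

/-- Cyclic Sylow subgroups: many elements of the top order. -/
theorem cnt_cyclic_le {p k : ℕ} [Fact p.Prime] (hk : (Nat.card G).factorization p = k + 1)
    {y : G} (hy : orderOf y = p ^ (k + 1)) :
    cnt G p * p ^ k ≤ cnt G (p ^ (k + 1)) := by
  classical
  have hp : p.Prime := Fact.out
  have key : ∀ g : G, orderOf g = p → ∃ r : G, orderOf r = p ^ (k + 1) ∧ r ^ p ^ k = g := by
    intro g hg
    obtain ⟨R, hR⟩ := (IsPGroup.of_card (n := 1) (by rw [Nat.card_zpowers, hg, pow_one]) :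
      IsPGroup p (Subgroup.zpowers g)).exists_le_sylow
    obtain ⟨c, hc⟩ := MulAction.exists_smul_eq G
      (Sylow.ofCard (Subgroup.zpowers y) (by rw [Nat.card_zpowers, hy, hk]) : Sylow p G) R
    have hgR : g ∈ (R : Subgroup G) := hR (Subgroup.mem_zpowers g)
    rw [← hc, Sylow.coe_subgroup_smul] at hgR
    obtain ⟨z, hz, rfl⟩ := hgR
    have hoz : orderOf z = p := by
      rw [← MulEquiv.orderOf_eq (MulAut.conj c)]; exact hg
    obtain ⟨j, rfl⟩ := (mem_powers_iff_mem_zpowers.mpr hz)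
    have hdvd : p ^ k ∣ j := by
      have h1 := pow_orderOf_eq_one (y ^ j)
      rw [hoz, ← pow_mul, ← orderOf_dvd_iff_pow_eq_one, hy, pow_succ] at h1
      exact Nat.dvd_of_mul_dvd_mul_right hp.pos h1
    obtain ⟨i, rfl⟩ := hdvd
    have hi : i.Coprime p := by
      rw [Nat.coprime_comm, hp.coprime_iff_not_dvd]
      rintro ⟨i', rfl⟩
      have : y ^ (p ^ k * (p * i')) = 1 := by
        rw [← mul_assoc, ← pow_succ, ← hy, pow_mul, pow_orderOf_eq_one, one_pow]
      have hoz' : orderOf (y ^ (p ^ k * (p * i'))) = p := hoz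
      rw [this, orderOf_one] at hoz'
      exact hp.ne_one hoz'.symm
    refine ⟨MulAut.conj c (y ^ i), ?_, ?_⟩
    · rw [MulEquiv.orderOf_eq, Nat.Coprime.orderOf_pow (by rw [hy]; exact hi.symm.pow_left _), hy]
    · rw [← map_pow, ← pow_mul, mul_comm i]
      rfl
  choose r hr hrp using key
  let F : {g : G // orderOf g = p} × Fin (p ^ k) → {g : G // orderOf g = p ^ (k + 1)} := fun a =>
    ⟨r a.1.1 a.1.2 ^ (1 + p * a.2.val), by
      rw [Nat.Coprime.orderOf_pow, hr]
      rw [hr]
      exact (by simp : p.Coprime (1 + p * a.2.val)).pow_left _⟩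
  have hF : Function.Injective F := by
    rintro ⟨⟨g, hg⟩, i⟩ ⟨⟨g', hg'⟩, i'⟩ h
    have h' : r g hg ^ (1 + p * i.val) = r g' hg' ^ (1 + p * i'.val) := congrArg Subtype.val h
    have hgg : g = g' := by
      have e : ∀ (a : G) (ha : orderOf a = p) (n : ℕ), (r a ha ^ (1 + p * n)) ^ p ^ k = a := by
        intro a ha n
        rw [← pow_mul, mul_comm, pow_mul, hrp, pow_add, pow_one, pow_mul, ← ha, pow_orderOf_eq_one,
          one_pow, mul_one]
      rw [← e g hg i.val, h', e g' hg' i'.val]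
    subst hgg
    have hlt : ∀ j : Fin (p ^ k), 1 + p * j.val < p ^ (k + 1) := fun j => by
      have := j.isLt
      have h2 := hp.two_le
      have : p * (j.val + 1) ≤ p * p ^ k := Nat.mul_le_mul_left p this
      rw [mul_add, mul_one] at this
      rw [pow_succ']
      omega
    rw [pow_inj_mod, hr, Nat.mod_eq_of_lt (hlt i), Nat.mod_eq_of_lt (hlt i')] at h'
    exact Prod.ext rfl (Fin.ext (Nat.eq_of_mul_eq_mul_left hp.pos (by simpa using h')))
  have h := Nat.card_le_card_of_injective F hF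
  rwa [Nat.card_prod, Nat.card_eq_fintype_card (α := Fin (p ^ k)), Fintype.card_fin] at h

theorem cnt_eq_card_filter {α : Type*} [Group α] [Fintype α] [DecidableEq α] {m : ℕ} (hm : 0 < m) :
    cnt α m = (Finset.univ.filter fun g : α =>
      g ^ m = 1 ∧ ∀ k : Fin m, 0 < k.val → g ^ k.val ≠ 1).card := by
  rw [cnt, Nat.card_eq_fintype_card, Fintype.card_subtype]
  refine congrArg Finset.card (Finset.filter_congr fun g _ => ?_)
  rw [orderOf_eq_iff hm]
  exact ⟨fun h => ⟨h.1, fun k hk => h.2 k k.2 hk⟩, fun h => ⟨h.1, fun k h1 h2 => h.2 ⟨k, h1⟩ h2⟩⟩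

end CfsgLib.Recog.OrderCounts
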