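import Mathlib
import Cfsg.Agent.Lib.Recog.OrderCounts
import Cfsg.Agent.Lib.Recog.OrderThreeSixty
import Cfsg.Agent.S0494
import Cfsg.Agent.Lib.Solvable.Basic

/-!
Groups with the same numbers of elements of each order as `A₄`, `A₅`, `A₆`.
-/

set_option autoImplicit false

namespace CfsgLib.Recog.CountsAlt

open CfsgLib.Recog.OrderCounts

variable {G : Type*} [Group G] [Finite G]

theorem even_cnt {m : ℕ} (hm : 2 < m) : 2 ∣ cnt G m :=
  (Nat.totient_even hm).two_dvd.trans (totient_dvd m)

theorem dvd_sum_of (n : ℕ) (h : n ∣ Nat.card G) {s : Finset ℕ} (hs : n.divisors = s) (hn : n ≠ 0) :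
    n ∣ ∑ d ∈ s, cnt G d := hs ▸ dvd_sum hn h

theorem dvd_prime_sum {p : ℕ} (hp : p.Prime) (h : p ∣ Nat.card G) : p ∣ 1 + cnt G p := by
  have := dvd_sum hp.ne_zero h
  rwa [hp.divisors, Finset.sum_pair hp.one_lt.ne, cnt_one] at this

theorem orderOf_dvd_of {n : ℕ} (g : G)
    (h : ∀ p k : ℕ, p.Prime → 1 ≤ k → p ^ k ∣ Nat.card G → 0 < cnt G (p ^ k) → p ^ k ∣ n) :
    orderOf g ∣ n := by
  rw [Nat.dvd_iff_prime_pow_dvd_dvd]
  intro p k hp hk
  rcases Nat.eq_zero_or_pos k with rfl | hk1
  · simp
  · exact h p k hp hk1 (hk.trans (orderOf_dvd_natCard g))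
      (cnt_pos_iff.mpr ⟨_, orderOf_pow_orderOf_div (orderOf_pos g).ne' hk⟩)

theorem card_eq_sum_of {n : ℕ} (hn : n ≠ 0) (h : ∀ g : G, orderOf g ∣ n) :
    Nat.card G = ∑ d ∈ n.divisors, cnt G d := by
  rw [← pow_eq_one_count hn]
  exact (Nat.card_congr (Equiv.subtypeUnivEquiv fun g => orderOf_dvd_iff_pow_eq_one.mp (h g))).symm

/-- An element of prime order normalising a subgroup of order not `1 mod p` centralises part of it. -/
theorem exists_commute {p : ℕ} [Fact p.Prime] {y : G} (hy : orderOf y = p) (Q : Subgroup G)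
    (hyQ : y ∈ Subgroup.normalizer (Q : Set G)) (hQ : ¬ Nat.card Q ≡ 1 [MOD p]) :
    ∃ x ∈ Q, x ≠ 1 ∧ Commute y x := by
  have hle : Subgroup.zpowers y ≤ Subgroup.normalizer (Q : Set G) := Subgroup.zpowers_le.mpr hyQ
  letI : MulAction (Subgroup.zpowers y) Q :=
    MulAction.compHom Q ((Subgroup.normalizerMonoidHom Q).comp (Subgroup.inclusion hle))
  have hpg : IsPGroup p (Subgroup.zpowers y) :=
    IsPGroup.of_card (n := 1) (by rw [Nat.card_zpowers, hy, pow_one])
  have hmod := hpg.card_modEq_card_fixedPoints Q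
  have h1 : (1 : Q) ∈ MulAction.fixedPoints (Subgroup.zpowers y) Q := fun a =>
    map_one ((Subgroup.normalizerMonoidHom Q).comp (Subgroup.inclusion hle) a)
  by_contra hcon
  push Not at hcon
  refine hQ (hmod.trans (congrArg (· % p) ?_))
  rw [Nat.card_eq_one_iff_unique]
  refine ⟨⟨fun a b => ?_⟩, ⟨⟨1, h1⟩⟩⟩
  suffices ∀ c : MulAction.fixedPoints (Subgroup.zpowers y) Q, ((c : Q) : G) = 1 from
    Subtype.ext (Subtype.ext ((this a).trans (this b).symm))
  intro c
  by_contra hc
  refine hcon _ (c : Q).2 hc ?_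
  have h : y * ((c : Q) : G) * y⁻¹ = ((c : Q) : G) :=
    congrArg Subtype.val (c.2 ⟨y, Subgroup.mem_zpowers y⟩)
  exact mul_inv_eq_iff_eq_mul.mp h

theorem mem_normal_of_order {p : ℕ} [Fact p.Prime] (h2 : ¬ p ^ 2 ∣ Nat.card G) (N : Subgroup G)
    [N.Normal] (hN : p ∣ Nat.card N) {g : G} (hg : orderOf g = p) : g ∈ N := by
  have hp : p.Prime := Fact.out
  obtain ⟨x, hx⟩ := exists_prime_orderOf_dvd_card' p hN
  have hx' : orderOf (x : G) = p := by rw [Subgroup.orderOf_coe, hx]
  have hf : p ^ (Nat.card G).factorization p = p := by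
    have h1 : p ∣ Nat.card G := hg ▸ orderOf_dvd_natCard g
    have : (Nat.card G).factorization p = 1 := by
      refine le_antisymm ?_ ((hp.dvd_iff_one_le_factorization Nat.card_pos.ne').mp h1)
      by_contra hlt
      exact h2 ((pow_dvd_pow p (by omega)).trans (Nat.ordProj_dvd (Nat.card G) p))
    rw [this, pow_one]
  obtain ⟨k, hk⟩ := MulAction.exists_smul_eq G
    (Sylow.ofCard (Subgroup.zpowers (x : G)) (by rw [Nat.card_zpowers, hx', hf]))
    (Sylow.ofCard (Subgroup.zpowers g) (by rw [Nat.card_zpowers, hg, hf]) : Sylow p G)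
  have hg' : g ∈ ((k • Sylow.ofCard (Subgroup.zpowers (x : G)) (by rw [Nat.card_zpowers, hx', hf]) :
      Sylow p G) : Subgroup G) := by
    rw [hk]; exact Subgroup.mem_zpowers g
  rw [Sylow.coe_subgroup_smul] at hg'
  obtain ⟨z, hz, rfl⟩ := hg'
  exact ‹N.Normal›.conj_mem _ (Subgroup.zpowers_le.mpr x.2 hz) k

theorem cnt_le_card_normal {p : ℕ} [Fact p.Prime] (h2 : ¬ p ^ 2 ∣ Nat.card G) (N : Subgroup G)
    [N.Normal] (hN : p ∣ Nat.card N) : cnt G p ≤ cnt N p := by
  refine Nat.card_le_card_of_injective
    (fun g : {g : G // orderOf g = p} => (⟨⟨g.1, mem_normal_of_order h2 N hN g.2⟩,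
      by rw [← Subgroup.orderOf_coe]; exact g.2⟩ : {x : N // orderOf x = p})) ?_
  intro a b h
  exact Subtype.ext (congrArg (fun x : {x : N // orderOf x = p} => ((x : N) : G)) h)

theorem sum_le_card {s : Finset ℕ} : ∑ d ∈ s, cnt G d ≤ Nat.card G := by
  classical
  have := Fintype.ofFinite G
  simp only [cnt, Nat.card_eq_fintype_card, Fintype.card_subtype]
  rw [← Finset.card_biUnion (fun a _ b _ hab => Finset.disjoint_left.mpr fun g ha hb => hab
    ((Finset.mem_filter.mp ha).2.symm.trans (Finset.mem_filter.mp hb).2))]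
  exact Finset.card_le_univ _

/-- Groups counting like `A₄`. -/
theorem iso_four (hV : ∀ m, cnt G m = 0 ∨ cnt G m = 1 ∨ cnt G m = 3 ∨ cnt G m = 8)
    (h3 : ∃ m, cnt G m = 3) (h8 : ∃ m, cnt G m = 8) :
    Nonempty (G ≃* alternatingGroup (Fin 4)) := by
  classical
  haveI : Fact (Nat.Prime 3) := ⟨Nat.prime_three⟩
  have hc2 : cnt G 2 = 3 := by
    obtain ⟨m, hm⟩ := h3
    rcases lt_trichotomy m 2 with h | h | h
    · interval_cases m
      · have := cnt_eq_zero (G := G) (m := 0) |>.mpr fun g => (orderOf_pos g).ne'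
        omega
      · rw [cnt_one] at hm; omega
    · exact h ▸ hm
    · have := even_cnt (G := G) h; omega
  have h2G : 2 ∣ Nat.card G := by
    by_contra h
    rw [cnt_of_not_dvd h] at hc2; omega
  have hprime : ∀ p, p.Prime → p ∣ Nat.card G → p = 2 ∨ (p = 3 ∧ cnt G 3 = 8) := by
    intro p hp hd
    by_cases h : p = 2
    · exact Or.inl h
    have := hp.two_le
    have h0 := cnt_pos_of_prime_dvd hp hd
    have he := even_cnt (G := G) (show 2 < p by omega)
    have h1 := dvd_prime_sum hp hd
    have h8 : cnt G p = 8 := by rcases hV p with e | e | e | e <;> omega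
    rw [h8, show (1 + 8 : ℕ) = 3 ^ 2 by norm_num] at h1
    have hp3 := (Nat.prime_dvd_prime_iff_eq hp Nat.prime_three).mp (hp.dvd_of_dvd_pow h1)
    exact Or.inr ⟨hp3, hp3 ▸ h8⟩
  have v4 := hV 4
  have e4 := even_cnt (G := G) (show 2 < 4 by norm_num)
  have h8G : ¬ 8 ∣ Nat.card G := by
    intro h
    have := dvd_sum_of (G := G) 8 h (s := {1, 2, 4, 8}) (by decide) (by norm_num)
    simp [Finset.sum_insert, cnt_one, hc2] at this
    have v8 := hV 8
    have := even_cnt (G := G) (show 2 < 8 by norm_num)
    omega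
  have c9 : cnt G 9 = 0 := by
    have h := totient_dvd (G := G) 9
    rw [show Nat.totient 9 = 6 by decide] at h
    rcases hV 9 with e | e | e | e <;> omega
  have h27 : ¬ 27 ∣ Nat.card G := by
    intro h
    have := dvd_sum_of (G := G) 27 h (s := {1, 3, 9, 27}) (by decide) (by norm_num)
    simp [Finset.sum_insert, cnt_one, c9, cnt_eq_zero_of_dvd (by norm_num : 27 ≠ 0) (by norm_num) c9] at this
    have := hV 3
    omega
  have hdvd : Nat.card G ∣ 36 := by
    rw [Nat.dvd_iff_prime_pow_dvd_dvd]
    intro p k hp hk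
    rcases Nat.eq_zero_or_pos k with rfl | hk1
    · simp
    rcases hprime p hp ((dvd_pow_self p (by omega)).trans hk) with rfl | ⟨rfl, -⟩
    · have : k ≤ 2 := by
        by_contra hlt
        exact h8G ((pow_dvd_pow 2 (show 3 ≤ k by omega)).trans hk)
      interval_cases k <;> norm_num
    · have : k ≤ 2 := by
        by_contra hlt
        exact h27 ((pow_dvd_pow 3 (show 3 ≤ k by omega)).trans hk)
      interval_cases k <;> norm_num
  have h3G : 3 ∣ Nat.card G := by
    by_contra h
    obtain ⟨m, hm⟩ := h8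
    have hsum := sum_le_card (G := G) (s := {m})
    rw [Finset.sum_singleton, hm] at hsum
    have hmem : Nat.card G ∈ Nat.divisors 36 := Nat.mem_divisors.mpr ⟨hdvd, by norm_num⟩
    rw [show Nat.divisors 36 = {1, 2, 3, 4, 6, 9, 12, 18, 36} by decide] at hmem
    simp only [Finset.mem_insert, Finset.mem_singleton] at hmem
    omega
  have hc3 : cnt G 3 = 8 := ((hprime 3 Nat.prime_three h3G).resolve_left (by norm_num)).2
  have c6 : cnt G 6 = 0 := by
    have := dvd_sum_of (G := G) 6 (Nat.Coprime.mul_dvd_of_dvd_of_dvd (by norm_num) h2G h3G)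
      (s := {1, 2, 3, 6}) (by decide) (by norm_num)
    simp [Finset.sum_insert, cnt_one, hc2, hc3] at this
    have := hV 6
    omega
  have hsum := card_eq_sum_of (G := G) (n := 36) (by norm_num) fun g =>
    (orderOf_dvd_natCard g).trans hdvd
  rw [show Nat.divisors 36 = {1, 2, 3, 4, 6, 9, 12, 18, 36} by decide] at hsum
  simp [Finset.sum_insert, cnt_one, hc2, hc3, c6, c9,
    cnt_eq_zero_of_dvd (G := G) (by norm_num : 12 ≠ 0) (by norm_num : 6 ∣ 12) c6,
    cnt_eq_zero_of_dvd (G := G) (by norm_num : 18 ≠ 0) (by norm_num : 9 ∣ 18) c9,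
    cnt_eq_zero_of_dvd (G := G) (by norm_num : 36 ≠ 0) (by norm_num : 9 ∣ 36) c9] at hsum
  have hc : Nat.card G = 12 := by
    have hmem : Nat.card G ∈ Nat.divisors 36 := Nat.mem_divisors.mpr ⟨hdvd, by norm_num⟩
    rw [show Nat.divisors 36 = {1, 2, 3, 4, 6, 9, 12, 18, 36} by decide] at hmem
    simp only [Finset.mem_insert, Finset.mem_singleton] at hmem
    omega
  have hn : Nat.card (Sylow 3 G) = 4 := by
    have := cnt_prime_eq (G := G) (p := 3) h3G (by rw [hc]; norm_num)
    omega
  obtain ⟨e⟩ : Nonempty (Sylow 3 G ≃ Fin 4) := ⟨Finite.equivFinOfCardEq hn⟩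
  let f : G →* Equiv.Perm (Fin 4) := e.permCongrHom.toMonoidHom.comp (MulAction.toPermHom G (Sylow 3 G))
  have hcardP : ∀ P : Sylow 3 G, Nat.card (Subgroup.normalizer (P : Set G)) = 3 := fun P => by
    have h := (Subgroup.normalizer (P : Set G)).card_mul_index
    rw [← P.card_eq_index_normalizer, hn, hc] at h
    omega
  have hP : ∀ P : Sylow 3 G, Subgroup.normalizer (P : Set G) = (P : Subgroup G) := fun P => by
    refine (Subgroup.eq_of_le_of_card_ge Subgroup.le_normalizer ?_).symm
    have := Nat.le_of_dvd Nat.card_pos (P.dvd_card_of_dvd_card h3G)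
    exact (hcardP P).le.trans this
  have hinj : Function.Injective f := by
    rw [injective_iff_map_eq_one]
    intro g hg
    haveI : Nontrivial (Sylow 3 G) := Finite.one_lt_card_iff_nontrivial.mp (by omega)
    obtain ⟨P, Q, hPQ⟩ := exists_pair_ne (Sylow 3 G)
    have hg' : MulAction.toPermHom G (Sylow 3 G) g = 1 :=
      e.permCongrHom.injective (hg.trans (map_one _).symm)
    have hm : ∀ R : Sylow 3 G, g ∈ (R : Subgroup G) := fun R => by
      rw [← hP R]
      exact Sylow.smul_eq_iff_mem_normalizer.mp (DFunLike.congr_fun hg' R)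
    by_contra hg1
    have key : ∀ R : Sylow 3 G, Subgroup.zpowers g = (R : Subgroup G) := fun R => by
      refine Subgroup.eq_of_le_of_card_ge (Subgroup.zpowers_le.mpr (hm R)) ?_
      have h3 : Nat.card (R : Subgroup G) = 3 := (congrArg (fun K : Subgroup G => Nat.card K) (hP R)).symm.trans (hcardP R)
      have hd := Subgroup.orderOf_dvd_natCard _ (hm R)
      rw [h3] at hd
      rw [h3, Nat.card_zpowers, ((Nat.dvd_prime Nat.prime_three).mp hd).resolve_left
        fun h => hg1 (orderOf_eq_one_iff.mp h)]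
    exact hPQ (Sylow.ext ((key P).symm.trans (key Q)))
  have hidx : f.range.index = 2 := by
    have h := f.range.card_mul_index
    rw [← Nat.card_congr (MonoidHom.ofInjective hinj).toEquiv, hc, Nat.card_perm, Nat.card_fin] at h
    norm_num [Nat.factorial] at h
    omega
  exact ⟨(MonoidHom.ofInjective hinj).trans
    (MulEquiv.subgroupCongr (Equiv.Perm.eq_alternatingGroup_of_index_eq_two hidx))⟩

set_option maxHeartbeats 1600000 in
/-- Groups counting like `A₅`. -/
theorem iso_five (hV : ∀ m, cnt G m = 0 ∨ cnt G m = 1 ∨ cnt G m = 15 ∨ cnt G m = 20 ∨ cnt G m = 24)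
    (h15 : ∃ m, cnt G m = 15) (h20 : ∃ m, cnt G m = 20) (h24 : ∃ m, cnt G m = 24) :
    Nonempty (G ≃* alternatingGroup (Fin 5)) := by
  classical
  haveI : Fact (Nat.Prime 2) := ⟨Nat.prime_two⟩
  haveI : Fact (Nat.Prime 3) := ⟨Nat.prime_three⟩
  haveI : Fact (Nat.Prime 5) := ⟨Nat.prime_five⟩
  have hc2 : cnt G 2 = 15 := by
    obtain ⟨m, hm⟩ := h15
    rcases lt_trichotomy m 2 with h | h | h
    · interval_cases m
      · have := cnt_eq_zero (G := G) (m := 0) |>.mpr fun g => (orderOf_pos g).ne'
        omega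
      · rw [cnt_one] at hm; omega
    · exact h ▸ hm
    · have := even_cnt (G := G) h; omega
  have hbig : ∀ m, 2 < m → cnt G m = 0 ∨ cnt G m = 20 ∨ cnt G m = 24 := fun m hm => by
    have := even_cnt (G := G) hm
    have := hV m
    omega
  have tot : ∀ m t, Nat.totient m = t → t ∣ cnt G m := fun m t h => h ▸ totient_dvd m
  have hprime : ∀ p, p.Prime → p ∣ Nat.card G → p = 2 ∨ (p = 3 ∧ cnt G 3 = 20) ∨ (p = 5 ∧ cnt G 5 = 24) := by
    intro p hp hd
    by_cases h : p = 2
    · exact Or.inl h
    have := hp.two_le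
    have h0 := cnt_pos_of_prime_dvd hp hd
    have h1 := dvd_prime_sum hp hd
    have h2 := tot p (p - 1) (Nat.totient_prime hp)
    rcases hbig p (by omega) with e | e | e
    · omega
    · rw [e] at h1 h2
      have hmem : p ∈ Nat.divisors 21 := Nat.mem_divisors.mpr ⟨h1, by norm_num⟩
      rw [show Nat.divisors 21 = {1, 3, 7, 21} by decide] at hmem
      simp only [Finset.mem_insert, Finset.mem_singleton] at hmem
      rcases hmem with rfl | rfl | rfl | rfl
      · exact absurd hp (by norm_num)
      · exact Or.inr (Or.inl ⟨rfl, e⟩)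
      · norm_num at h2
      · exact absurd hp (by norm_num)
    · rw [e] at h1
      rw [show (1 + 24 : ℕ) = 5 ^ 2 by norm_num] at h1
      have hp5 := (Nat.prime_dvd_prime_iff_eq hp Nat.prime_five).mp (hp.dvd_of_dvd_pow h1)
      exact Or.inr (Or.inr ⟨hp5, hp5 ▸ e⟩)
  have c3 : 3 ∣ Nat.card G → cnt G 3 = 20 := fun h => by
    rcases hprime 3 Nat.prime_three h with h | h | h
    exacts [absurd h (by norm_num), h.2, absurd h.1 (by norm_num)]
  have c5 : 5 ∣ Nat.card G → cnt G 5 = 24 := fun h => by
    rcases hprime 5 Nat.prime_five h with h | h | h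
    exacts [absurd h (by norm_num), absurd h.1 (by norm_num), h.2]
  have v4 := hbig 4 (by norm_num)
  have v8 := hbig 8 (by norm_num)
  have v6 := hbig 6 (by norm_num)
  have v10 := hbig 10 (by norm_num)
  have v12 := hbig 12 (by norm_num)
  have v16 : cnt G 16 = 0 ∨ cnt G 16 = 24 := by
    have := hbig 16 (by norm_num); have := tot 16 8 (by decide); omega
  have v20 : cnt G 20 = 0 ∨ cnt G 20 = 24 := by
    have := hbig 20 (by norm_num); have := tot 20 8 (by decide); omega
  have v24 : cnt G 24 = 0 ∨ cnt G 24 = 24 := by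
    have := hbig 24 (by norm_num); have := tot 24 8 (by decide); omega
  have c32 : cnt G 32 = 0 := by
    have := hbig 32 (by norm_num); have := tot 32 16 (by decide); omega
  have c40 : cnt G 40 = 0 := by
    have := hbig 40 (by norm_num); have := tot 40 16 (by decide); omega
  have c48 : cnt G 48 = 0 := by
    have := hbig 48 (by norm_num); have := tot 48 16 (by decide); omega
  have c9 : cnt G 9 = 0 ∧ ¬ 9 ∣ Nat.card G := by
    have v9 : cnt G 9 = 0 ∨ cnt G 9 = 24 := by
      have := hbig 9 (by norm_num); have := tot 9 6 (by decide); omega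
    have c27 : cnt G 27 = 0 := by
      have := hbig 27 (by norm_num); have := tot 27 18 (by decide); omega
    by_cases h9 : 9 ∣ Nat.card G
    · exfalso
      have h3 := c3 ((by norm_num : 3 ∣ 9).trans h9)
      have hs := dvd_sum_of (G := G) 9 h9 (s := {1, 3, 9}) (by decide) (by norm_num)
      simp [Finset.sum_insert, cnt_one, h3] at hs
      by_cases h27 : 27 ∣ Nat.card G
      · have hs2 := dvd_sum_of (G := G) 27 h27 (s := {1, 3, 9, 27}) (by decide) (by norm_num)
        simp [Finset.sum_insert, cnt_one, h3, c27] at hs2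
        omega
      · obtain ⟨y, hy⟩ := (cnt_pos_iff (G := G) (m := 9)).mp (by omega)
        have hf : (Nat.card G).factorization 3 = 1 + 1 := by
          refine le_antisymm ?_ ((Nat.Prime.pow_dvd_iff_le_factorization Nat.prime_three Nat.card_pos.ne').mp h9)
          by_contra hlt
          exact h27 ((pow_dvd_pow 3 (show 3 ≤ _ by omega)).trans (Nat.ordProj_dvd (Nat.card G) 3))
        have := cnt_cyclic_le (G := G) (p := 3) (k := 1) hf (y := y) (by rw [hy]; norm_num)
        norm_num [h3] at this
        omega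
    · exact ⟨cnt_of_not_dvd h9, h9⟩
  have c25 : cnt G 25 = 0 := by
    by_cases h : 25 ∣ Nat.card G
    · have hs := dvd_sum_of (G := G) 25 h (s := {1, 5, 25}) (by decide) (by norm_num)
      simp [Finset.sum_insert, cnt_one, c5 ((by norm_num : 5 ∣ 25).trans h)] at hs
      have := hbig 25 (by norm_num)
      omega
    · exact cnt_of_not_dvd h
  have h125 : ¬ 125 ∣ Nat.card G := fun h => by
    have hs := dvd_sum_of (G := G) 125 h (s := {1, 5, 25, 125}) (by decide) (by norm_num)
    simp [Finset.sum_insert, cnt_one, c5 ((by norm_num : 5 ∣ 125).trans h), c25,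
      cnt_eq_zero_of_dvd (G := G) (by norm_num : 125 ≠ 0) (by norm_num : 25 ∣ 125) c25] at hs
  have c15 : cnt G 15 = 0 := by
    by_cases h : 15 ∣ Nat.card G
    · have hs := dvd_sum_of (G := G) 15 h (s := {1, 3, 5, 15}) (by decide) (by norm_num)
      simp [Finset.sum_insert, cnt_one, c5 ((by norm_num : 5 ∣ 15).trans h),
        c3 ((by norm_num : 3 ∣ 15).trans h)] at hs
      have := hbig 15 (by norm_num); have := tot 15 8 (by decide)
      omega
    · exact cnt_of_not_dvd h
  have c10' : cnt G 10 = 0 ∨ cnt G 10 = 20 := by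
    by_cases h : 10 ∣ Nat.card G
    · have hs := dvd_sum_of (G := G) 10 h (s := {1, 2, 5, 10}) (by decide) (by norm_num)
      simp [Finset.sum_insert, cnt_one, hc2, c5 ((by norm_num : 5 ∣ 10).trans h)] at hs
      omega
    · exact Or.inl (cnt_of_not_dvd h)
  obtain ⟨a, i, j, hi, hj, hG⟩ : ∃ a i j, i ≤ 1 ∧ j ≤ 2 ∧ Nat.card G = 2 ^ a * 3 ^ i * 5 ^ j := by
    refine ⟨(Nat.card G).factorization 2, (Nat.card G).factorization 3, (Nat.card G).factorization 5,
      ?_, ?_, ?_⟩
    · by_contra hlt
      exact c9.2 ((pow_dvd_pow 3 (show 2 ≤ _ by omega)).trans (Nat.ordProj_dvd (Nat.card G) 3))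
    · by_contra hlt
      exact h125 ((pow_dvd_pow 5 (show 3 ≤ _ by omega)).trans (Nat.ordProj_dvd (Nat.card G) 5))
    · conv_lhs => rw [← Nat.prod_factorization_pow_eq_self (Nat.card_pos (α := G)).ne']
      rw [Finsupp.prod_of_support_subset _ (s := {2, 3, 5}) ?_ _ (by simp)]
      · simp [Finset.prod_insert, mul_assoc]
      · intro p hp
        rw [Nat.support_factorization, Nat.mem_primeFactors] at hp
        rcases hprime p hp.1 hp.2.1 with h | h | h <;> simp [h]
  have c64 : cnt G 64 = 0 := cnt_eq_zero_of_dvd (by norm_num) (by norm_num : 32 ∣ 64) c32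
  have hexp : ∀ g : G, orderOf g ∣ 16 * 3 * 5 := fun g => orderOf_dvd_of g fun p k hp hk hd hpos => by
    rcases hprime p hp ((dvd_pow_self p (by omega)).trans hd) with rfl | ⟨rfl, -⟩ | ⟨rfl, -⟩
    · have : k ≤ 4 := by
        by_contra hlt
        have := cnt_eq_zero_of_dvd (G := G) (pow_ne_zero k two_ne_zero) (pow_dvd_pow 2 (show 5 ≤ k by omega)) c32
        omega
      interval_cases k <;> norm_num
    · have : k ≤ 1 := by
        by_contra hlt
        exact c9.2 ((pow_dvd_pow 3 (show 2 ≤ k by omega)).trans hd)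
      interval_cases k; norm_num
    · have : k ≤ 1 := by
        by_contra hlt
        have := cnt_eq_zero_of_dvd (G := G) (pow_ne_zero k (by norm_num : (5 : ℕ) ≠ 0))
          (pow_dvd_pow 5 (show 2 ≤ k by omega)) (by norm_num; exact c25)
        omega
      interval_cases k; norm_num
  have hsum := card_eq_sum_of (G := G) (n := 16 * 3 * 5) (by norm_num) hexp
  rw [show Nat.divisors (16 * 3 * 5) =
    {1, 2, 3, 4, 5, 6, 8, 10, 12, 15, 16, 20, 24, 30, 40, 48, 60, 80, 120, 240} by decide +kernel] at hsum
  simp [Finset.sum_insert, cnt_one, hc2, c15, c40, c48,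
    cnt_eq_zero_of_dvd (G := G) (by norm_num : 30 ≠ 0) (by norm_num : 15 ∣ 30) c15,
    cnt_eq_zero_of_dvd (G := G) (by norm_num : 60 ≠ 0) (by norm_num : 15 ∣ 60) c15,
    cnt_eq_zero_of_dvd (G := G) (by norm_num : 80 ≠ 0) (by norm_num : 40 ∣ 80) c40,
    cnt_eq_zero_of_dvd (G := G) (by norm_num : 120 ≠ 0) (by norm_num : 15 ∣ 120) c15,
    cnt_eq_zero_of_dvd (G := G) (by norm_num : 240 ≠ 0) (by norm_num : 15 ∣ 240) c15] at hsum
  have z : ∀ m, ¬ m ∣ Nat.card G → cnt G m = 0 := fun m h => cnt_of_not_dvd h
  have hj1 : ¬ 25 ∣ Nat.card G := by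
    intro h25
    have hj2 : j = 2 := by
      by_contra hne
      have : Nat.card G ∣ 2 ^ a * 3 ^ i * 5 := hG ▸ Nat.mul_dvd_mul_left _
        ((pow_dvd_pow 5 (show j ≤ 1 by omega)).trans (by norm_num))
      have h55 : 5 * 5 ∣ 2 ^ a * 3 ^ i * 5 := h25.trans this
      have h5 := Nat.dvd_of_mul_dvd_mul_right (by norm_num : 0 < 5) h55
      rcases (Nat.Prime.dvd_mul Nat.prime_five).mp h5 with h | h <;>
        have := Nat.prime_five.dvd_of_dvd_pow h <;> norm_num at this
    subst hj2
    have h5 := c5 ((by norm_num : 5 ∣ 25).trans h25)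
    interval_cases i
    · have := z 3 (by rw [hG]; intro h; have := Nat.prime_three.dvd_of_dvd_pow ((Nat.Coprime.dvd_of_dvd_mul_right (by norm_num) (show 3 ∣ 2 ^ a * 25 by simpa using h))); norm_num at this)
      have := cnt_eq_zero_of_dvd (G := G) (by norm_num : 6 ≠ 0) (by norm_num : 3 ∣ 6) this
      have := cnt_eq_zero_of_dvd (G := G) (by norm_num : 12 ≠ 0) (by norm_num : 3 ∣ 12) (z 3 (by rw [hG]; intro h; have := Nat.prime_three.dvd_of_dvd_pow ((Nat.Coprime.dvd_of_dvd_mul_right (by norm_num) (show 3 ∣ 2 ^ a * 25 by simpa using h))); norm_num at this))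
      have := cnt_eq_zero_of_dvd (G := G) (by norm_num : 24 ≠ 0) (by norm_num : 6 ∣ 24) ‹cnt G 6 = 0›
      have : a ≤ 2 := by
        by_contra hlt
        have : 2 ^ 3 ≤ 2 ^ a := Nat.pow_le_pow_right (by norm_num) (by omega)
        norm_num at hG this
        omega
      interval_cases a <;> norm_num at hG
      · omega
      · have := z 4 (by rw [hG]; norm_num); have := z 8 (by rw [hG]; norm_num)
        have := z 16 (by rw [hG]; norm_num); have := z 20 (by rw [hG]; norm_num)
        omega
      · have := z 8 (by rw [hG]; norm_num); have := z 16 (by rw [hG]; norm_num)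
        omega
    · have h3 := c3 (hG ▸ Dvd.intro_left _ (show 2 ^ a * 5 ^ 2 * 3 = 2 ^ a * 3 ^ 1 * 5 ^ 2 by ring) : 3 ∣ Nat.card G)
      have : a ≤ 1 := by
        by_contra hlt
        have : 2 ^ 2 ≤ 2 ^ a := Nat.pow_le_pow_right (by norm_num) (by omega)
        norm_num at hG this
        omega
      interval_cases a <;> norm_num at hG
      · omega
      · have := z 4 (by rw [hG]; norm_num); have := z 8 (by rw [hG]; norm_num)
        have := z 16 (by rw [hG]; norm_num); have := z 12 (by rw [hG]; norm_num)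
        have := z 20 (by rw [hG]; norm_num); have := z 24 (by rw [hG]; norm_num)
        omega
  have hn3 : 3 ∣ Nat.card G → Nat.card (Sylow 3 G) = 10 ∧ 5 ∣ Nat.card G := fun h => by
    have he := cnt_prime_eq (G := G) (p := 3) h (fun hh => c9.2 hh)
    rw [c3 h] at he
    have h10 : Nat.card (Sylow 3 G) = 10 := by omega
    obtain ⟨P⟩ : Nonempty (Sylow 3 G) := inferInstance
    exact ⟨h10, (by norm_num : 5 ∣ 10).trans (h10 ▸ (P.card_dvd_index).trans (P : Subgroup G).index_dvd_card)⟩
  have hn5 : 5 ∣ Nat.card G → 3 ∣ Nat.card G := fun h => by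
    have he := cnt_prime_eq (G := G) (p := 5) h (fun hh => hj1 hh)
    rw [c5 h] at he
    have h6 : Nat.card (Sylow 5 G) = 6 := by omega
    obtain ⟨P⟩ : Nonempty (Sylow 5 G) := inferInstance
    exact (by norm_num : 3 ∣ 6).trans (h6 ▸ (P.card_dvd_index).trans (P : Subgroup G).index_dvd_card)
  by_cases h5 : 5 ∣ Nat.card G
  swap
  · -- a 2-group
    exfalso
    have h3 : ¬ 3 ∣ Nat.card G := fun h => h5 (hn3 h).2
    have z5 := z 5 h5
    have z3 := z 3 h3
    have := cnt_eq_zero_of_dvd (G := G) (by norm_num : 6 ≠ 0) (by norm_num : 3 ∣ 6) z3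
    have := cnt_eq_zero_of_dvd (G := G) (by norm_num : 12 ≠ 0) (by norm_num : 3 ∣ 12) z3
    have := cnt_eq_zero_of_dvd (G := G) (by norm_num : 24 ≠ 0) (by norm_num : 3 ∣ 24) z3
    have := cnt_eq_zero_of_dvd (G := G) (by norm_num : 10 ≠ 0) (by norm_num : 5 ∣ 10) z5
    have := cnt_eq_zero_of_dvd (G := G) (by norm_num : 20 ≠ 0) (by norm_num : 5 ∣ 20) z5
    have hi0 : i = 0 := by
      by_contra hne
      exact h3 (hG ▸ Dvd.dvd.mul_right (Dvd.dvd.mul_left (dvd_pow_self 3 hne) _) _)
    have hj0 : j = 0 := by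
      by_contra hne
      exact h5 (hG ▸ Dvd.dvd.mul_left (dvd_pow_self 5 hne) _)
    subst hi0 hj0
    simp at hG
    have hmem : ∀ m v, cnt G m = v → 15 < v → v ≤ 24 → m = 4 ∨ m = 8 ∨ m = 16 := by
      intro m v hm hv1 hv2
      obtain ⟨g, hg⟩ := (cnt_pos_iff (G := G) (m := m)).mp (by omega)
      have hmd : m ∈ Nat.divisors 16 := Nat.mem_divisors.mpr ⟨?_, by norm_num⟩
      · rw [show Nat.divisors 16 = {1, 2, 4, 8, 16} by decide] at hmd
        simp only [Finset.mem_insert, Finset.mem_singleton] at hmd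
        rcases hmd with rfl | rfl | rfl | rfl | rfl
        · rw [cnt_one] at hm; omega
        · omega
        all_goals omega
      · refine hg ▸ orderOf_dvd_of g fun p k hp hk hd _ => ?_
        have hp2 : p = 2 := by
          rcases hprime p hp ((dvd_pow_self p (by omega)).trans hd) with h | ⟨h, -⟩ | ⟨h, -⟩
          exacts [h, absurd (h ▸ (dvd_pow_self p (by omega)).trans hd) h3,
            absurd (h ▸ (dvd_pow_self p (by omega)).trans hd) h5]
        subst hp2
        have : k ≤ 4 := by
          by_contra hlt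
          have := cnt_eq_zero_of_dvd (G := G) (pow_ne_zero k two_ne_zero) (pow_dvd_pow 2 (show 5 ≤ k by omega)) c32
          omega
        interval_cases k <;> norm_num
    obtain ⟨m1, hm1⟩ := h20
    obtain ⟨m2, hm2⟩ := h24
    have hle : a ≤ 6 := by
      by_contra hlt
      have : 2 ^ 7 ≤ 2 ^ a := Nat.pow_le_pow_right (by norm_num) (by omega)
      omega
    rcases hmem m1 20 hm1 (by norm_num) (by norm_num) with rfl | rfl | rfl <;>
      rcases hmem m2 24 hm2 (by norm_num) le_rfl with rfl | rfl | rfl <;>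
      interval_cases a <;> omega
  have h3 := hn5 h5
  have e3 := c3 h3
  have e5 := c5 h5
  have c10 : cnt G 10 = 0 := by
    by_contra hne
    obtain ⟨g, hg⟩ := (cnt_pos_iff (G := G) (m := 10)).mp (Nat.pos_of_ne_zero hne)
    have := cnt_mul_ge (G := G) (p := 5) (q := 2) Nat.prime_two (by norm_num) (fun hh => hj1 hh)
      (x := g ^ 2) (y := g ^ 5)
      (by rw [orderOf_pow' g (by norm_num), hg]; rfl) (by rw [orderOf_pow' g (by norm_num), hg]; rfl)
      ((Commute.refl g).pow_pow 2 5)
    norm_num [e5] at this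
    omega
  have c20 := cnt_eq_zero_of_dvd (G := G) (by norm_num : 20 ≠ 0) (by norm_num : 10 ∣ 20) c10
  have hij : i = 1 ∧ j = 1 := by
    refine ⟨?_, ?_⟩
    · by_contra hne
      have : i = 0 := by omega
      subst this
      rw [hG, pow_zero, mul_one] at h3
      rcases (Nat.Prime.dvd_mul Nat.prime_three).mp h3 with h | h <;>
        have := Nat.prime_three.dvd_of_dvd_pow h <;> norm_num at this
    · rcases Nat.lt_trichotomy j 1 with h | h | h
      · exfalso
        have : j = 0 := by omega
        subst this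
        rw [hG, pow_zero, mul_one] at h5
        rcases (Nat.Prime.dvd_mul Nat.prime_five).mp h5 with h | h <;>
          have := Nat.prime_five.dvd_of_dvd_pow h <;> norm_num at this
      · exact h
      · exact absurd (hG ▸ Dvd.dvd.mul_left (pow_dvd_pow 5 (show 2 ≤ j by omega)) _) hj1
  obtain ⟨rfl, rfl⟩ := hij
  have ha : a = 2 := by
    have : a ≤ 3 := by
      by_contra hlt
      have : 2 ^ 4 ≤ 2 ^ a := Nat.pow_le_pow_right (by norm_num) (by omega)
      have b4 : cnt G 4 ≤ 24 := by clear * - v4; omega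
      have b6 : cnt G 6 ≤ 24 := by clear * - v6; omega
      have b8 : cnt G 8 ≤ 24 := by clear * - v8; omega
      have b12 : cnt G 12 ≤ 24 := by clear * - v12; omega
      have b16 : cnt G 16 ≤ 24 := by clear * - v16; omega
      have b24 : cnt G 24 ≤ 24 := by clear * - v24; omega
      norm_num at hG this
      clear * - hG this hsum e3 e5 c10 c20 b4 b6 b8 b12 b16 b24
      omega
    interval_cases a <;> norm_num at hG ⊢
    · clear * - hG hsum e3 e5
      omega
    · clear * - hG hsum e3 e5
      omega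
    · exfalso
      have c16 := z 16 (by rw [hG]; norm_num)
      have c8 : cnt G 8 = 0 := by
        by_contra hne
        obtain ⟨y, hy⟩ := (cnt_pos_iff (G := G) (m := 8)).mp (Nat.pos_of_ne_zero hne)
        have hf : (Nat.card G).factorization 2 = 2 + 1 := by
          rw [hG, show (120 : ℕ) = 2 ^ 3 * 15 by norm_num, Nat.factorization_mul (by norm_num) (by norm_num),
            Finsupp.add_apply, Nat.Prime.factorization_pow Nat.prime_two, Finsupp.single_eq_same,
            Nat.factorization_eq_zero_of_not_dvd (show ¬ 2 ∣ 15 by norm_num)]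
        have := cnt_cyclic_le (G := G) (p := 2) (k := 2) hf (y := y) (by rw [hy]; norm_num)
        norm_num [hc2] at this
        clear * - this v8
        omega
      have c24 := cnt_eq_zero_of_dvd (G := G) (by norm_num : 24 ≠ 0) (by norm_num : 8 ∣ 24) c8
      have hs4 := dvd_sum_of (G := G) 8 (by rw [hG]; norm_num) (s := {1, 2, 4, 8}) (by decide) (by norm_num)
      simp [Finset.sum_insert, cnt_one, hc2, c8] at hs4
      have hs6 := dvd_sum_of (G := G) 6 (by rw [hG]; norm_num) (s := {1, 2, 3, 6}) (by decide) (by norm_num)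
      simp [Finset.sum_insert, cnt_one, hc2, e3] at hs6
      clear * - hG hsum e3 e5 c8 c10 c16 c20 c24 hs4 hs6 v4 v6 v12
      omega
  subst ha
  norm_num at hG
  haveI : IsSimpleGroup G := by
    haveI : Nontrivial G := Finite.one_lt_card_iff_nontrivial.mp (by omega)
    refine ⟨fun N hN => ?_⟩
    by_contra hcon
    push Not at hcon
    obtain ⟨hb, ht⟩ := hcon
    haveI := hN
    have hd := N.card_subgroup_dvd_card
    rw [hG] at hd
    have h1 : Nat.card N ≠ 1 := fun e => hb (Subgroup.card_eq_one.mp e)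
    have h60 : Nat.card N ≠ 60 := fun e => ht (Subgroup.eq_top_of_card_eq N (e.trans hG.symm))
    have hmem : Nat.card N ∈ Nat.divisors 60 := Nat.mem_divisors.mpr ⟨hd, by norm_num⟩
    rw [show Nat.divisors 60 = {1, 2, 3, 4, 5, 6, 10, 12, 15, 20, 30, 60} by decide +kernel] at hmem
    simp only [Finset.mem_insert, Finset.mem_singleton] at hmem
    have k3 : 3 ∣ Nat.card N → 20 ≤ cnt N 3 := fun h => e3 ▸ cnt_le_card_normal (fun hh => c9.2 hh) N h
    have k5 : 5 ∣ Nat.card N → 24 ≤ cnt N 5 := fun h => e5 ▸ cnt_le_card_normal (fun hh => hj1 hh) N h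
    have hs := sum_le_card (G := N) (s := {1, 3, 5})
    simp [Finset.sum_insert, cnt_one] at hs
    by_cases hdiv : 3 ∣ Nat.card N ∨ 5 ∣ Nat.card N
    · have : Nat.card N = 30 := by
        rcases hdiv with h | h
        · have := k3 h; omega
        · have := k5 h; omega
      have := k3 (by rw [this]; norm_num)
      have := k5 (by omega)
      omega
    · push Not at hdiv
      obtain ⟨y, hy⟩ := exists_prime_orderOf_dvd_card' (G := G) 5 h5
      have hyn : y ∈ Subgroup.normalizer (N : Set G) := by
        rw [Subgroup.normalizer_eq_top_iff.mpr hN]; exact Subgroup.mem_top y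
      have h24 : Nat.card N = 2 ∨ Nat.card N = 4 := by omega
      obtain ⟨x, hxN, hx1, hxy⟩ := exists_commute hy N hyn (by
        rcases h24 with e | e <;> rw [e] <;> decide)
      have hox : orderOf x ∣ 4 := (Subgroup.orderOf_dvd_natCard _ hxN).trans (by rcases h24 with e | e <;> rw [e] <;> norm_num)
      have hoy : orderOf (x * y) = orderOf x * 5 := by
        rw [hxy.symm.orderOf_mul_eq_mul_orderOf_of_coprime (by rw [hy]; exact Nat.Coprime.coprime_dvd_left hox (by norm_num)), hy]
      have hmem : orderOf x = 2 ∨ orderOf x = 4 := by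
        have := Nat.le_of_dvd (by norm_num) hox
        have := orderOf_pos x
        have h1 : orderOf x ≠ 1 := fun e => hx1 (orderOf_eq_one_iff.mp e)
        have h3 : orderOf x ≠ 3 := fun e => by rw [e] at hox; norm_num at hox
        omega
      have := (cnt_pos_iff (G := G) (m := orderOf x * 5)).mpr ⟨_, hoy⟩
      rcases hmem with e | e <;> rw [e] at this <;> norm_num at this <;> omega
  exact Cfsg.Agent.S0494.result hG

set_option maxHeartbeats 1600000 in
/-- Groups counting like `A₆`. -/
theorem iso_six (hV : ∀ m, cnt G m = 0 ∨ cnt G m = 1 ∨ cnt G m = 45 ∨ cnt G m = 80 ∨ cnt G m = 90 ∨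
      cnt G m = 144) (h45 : ∃ m, cnt G m = 45) (h144 : ∃ m, cnt G m = 144) :
    Nonempty (G ≃* alternatingGroup (Fin 6)) := by
  classical
  haveI : Fact (Nat.Prime 2) := ⟨Nat.prime_two⟩
  haveI : Fact (Nat.Prime 3) := ⟨Nat.prime_three⟩
  haveI : Fact (Nat.Prime 5) := ⟨Nat.prime_five⟩
  haveI : Fact (Nat.Prime 7) := ⟨by norm_num⟩
  have hc2 : cnt G 2 = 45 := by
    obtain ⟨m, hm⟩ := h45
    rcases lt_trichotomy m 2 with h | h | h
    · interval_cases m
      · have := cnt_eq_zero (G := G) (m := 0) |>.mpr fun g => (orderOf_pos g).ne'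
        omega
      · rw [cnt_one] at hm; omega
    · exact h ▸ hm
    · have := even_cnt (G := G) h; omega
  have h2G : 2 ∣ Nat.card G := by
    by_contra h
    rw [cnt_of_not_dvd h] at hc2; omega
  have hbig : ∀ m, 2 < m → cnt G m = 0 ∨ cnt G m = 80 ∨ cnt G m = 90 ∨ cnt G m = 144 := fun m hm => by
    have := even_cnt (G := G) hm
    have := hV m
    omega
  have tot : ∀ m t, Nat.totient m = t → t ∣ cnt G m := fun m t h => h ▸ totient_dvd m
  have hprime : ∀ p, p.Prime → p ∣ Nat.card G →
      p = 2 ∨ (p = 3 ∧ cnt G 3 = 80) ∨ (p = 5 ∧ cnt G 5 = 144) ∨ (p = 7 ∧ cnt G 7 = 90) := by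
    intro p hp hd
    by_cases h : p = 2
    · exact Or.inl h
    have := hp.two_le
    have h0 := cnt_pos_of_prime_dvd hp hd
    have h1 := dvd_prime_sum hp hd
    have h2 := tot p (p - 1) (Nat.totient_prime hp)
    rcases hbig p (by omega) with e | e | e | e
    · omega
    · rw [e, show (1 + 80 : ℕ) = 3 ^ 4 by norm_num] at h1
      have hp3 := (Nat.prime_dvd_prime_iff_eq hp Nat.prime_three).mp (hp.dvd_of_dvd_pow h1)
      exact Or.inr (Or.inl ⟨hp3, hp3 ▸ e⟩)
    · rw [e] at h1 h2
      have hmem : p ∈ Nat.divisors 91 := Nat.mem_divisors.mpr ⟨h1, by norm_num⟩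
      rw [show Nat.divisors 91 = {1, 7, 13, 91} by decide] at hmem
      simp only [Finset.mem_insert, Finset.mem_singleton] at hmem
      rcases hmem with rfl | rfl | rfl | rfl
      · exact absurd hp (by norm_num)
      · exact Or.inr (Or.inr (Or.inr ⟨rfl, e⟩))
      · norm_num at h2
      · exact absurd hp (by norm_num)
    · rw [e] at h1 h2
      have hmem : p ∈ Nat.divisors 145 := Nat.mem_divisors.mpr ⟨h1, by norm_num⟩
      rw [show Nat.divisors 145 = {1, 5, 29, 145} by decide] at hmem
      simp only [Finset.mem_insert, Finset.mem_singleton] at hmem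
      rcases hmem with rfl | rfl | rfl | rfl
      · exact absurd hp (by norm_num)
      · exact Or.inr (Or.inr (Or.inl ⟨rfl, e⟩))
      · norm_num at h2
      · exact absurd hp (by norm_num)
  have c3 : 3 ∣ Nat.card G → cnt G 3 = 80 := fun h => by
    rcases hprime 3 Nat.prime_three h with h | h | h | h
    exacts [absurd h (by norm_num), h.2, absurd h.1 (by norm_num), absurd h.1 (by norm_num)]
  have c5 : 5 ∣ Nat.card G → cnt G 5 = 144 := fun h => by
    rcases hprime 5 Nat.prime_five h with h | h | h | h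
    exacts [absurd h (by norm_num), absurd h.1 (by norm_num), h.2, absurd h.1 (by norm_num)]
  have c7 : 7 ∣ Nat.card G → cnt G 7 = 90 := fun h => by
    rcases hprime 7 (by norm_num) h with h | h | h | h
    exacts [absurd h (by norm_num), absurd h.1 (by norm_num), absurd h.1 (by norm_num), h.2]
  have c9 : cnt G 9 = 0 := by
    by_contra hne
    obtain ⟨y, hy⟩ := (cnt_pos_iff (G := G) (m := 9)).mp (Nat.pos_of_ne_zero hne)
    have h9 : 9 ∣ Nat.card G := hy ▸ orderOf_dvd_natCard y
    have h3 := c3 ((by norm_num : 3 ∣ 9).trans h9)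
    have v9 := hbig 9 (by norm_num)
    have t9 := tot 9 6 (by decide)
    by_cases h27 : 27 ∣ Nat.card G
    · have hs2 := dvd_sum_of (G := G) 27 h27 (s := {1, 3, 9, 27}) (by decide) (by norm_num)
      simp [Finset.sum_insert, cnt_one, h3] at hs2
      have := hbig 27 (by norm_num)
      have := tot 27 18 (by decide)
      omega
    · have hf : (Nat.card G).factorization 3 = 1 + 1 := by
        refine le_antisymm ?_ ((Nat.Prime.pow_dvd_iff_le_factorization Nat.prime_three Nat.card_pos.ne').mp h9)
        by_contra hlt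
        exact h27 ((pow_dvd_pow 3 (show 3 ≤ _ by omega)).trans (Nat.ordProj_dvd (Nat.card G) 3))
      have := cnt_cyclic_le (G := G) (p := 3) (k := 1) hf (y := y) (by rw [hy]; norm_num)
      norm_num [h3] at this
      omega
  have h243 : ¬ 243 ∣ Nat.card G := fun h => by
    have hs := dvd_sum_of (G := G) 243 h (s := {1, 3, 9, 27, 81, 243}) (by decide +kernel) (by norm_num)
    simp [Finset.sum_insert, cnt_one, c3 ((by norm_num : 3 ∣ 243).trans h), c9,
      cnt_eq_zero_of_dvd (G := G) (by norm_num : 27 ≠ 0) (by norm_num : 9 ∣ 27) c9,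
      cnt_eq_zero_of_dvd (G := G) (by norm_num : 81 ≠ 0) (by norm_num : 9 ∣ 81) c9,
      cnt_eq_zero_of_dvd (G := G) (by norm_num : 243 ≠ 0) (by norm_num : 9 ∣ 243) c9] at hs
  have h25 : ¬ 25 ∣ Nat.card G := fun h => by
    have h5 := c5 ((by norm_num : 5 ∣ 25).trans h)
    have hs := dvd_sum_of (G := G) 25 h (s := {1, 5, 25}) (by decide) (by norm_num)
    simp [Finset.sum_insert, cnt_one, h5] at hs
    have := hbig 25 (by norm_num)
    have := tot 25 20 (by decide)
    obtain ⟨y, hy⟩ := (cnt_pos_iff (G := G) (m := 25)).mp (by omega)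
    by_cases h125 : 125 ∣ Nat.card G
    · have hs2 := dvd_sum_of (G := G) 125 h125 (s := {1, 5, 25, 125}) (by decide) (by norm_num)
      simp [Finset.sum_insert, cnt_one, h5] at hs2
      have := hbig 125 (by norm_num)
      have := tot 125 100 (by decide +kernel)
      omega
    · have hf : (Nat.card G).factorization 5 = 1 + 1 := by
        refine le_antisymm ?_ ((Nat.Prime.pow_dvd_iff_le_factorization Nat.prime_five Nat.card_pos.ne').mp h)
        by_contra hlt
        exact h125 ((pow_dvd_pow 5 (show 3 ≤ _ by omega)).trans (Nat.ordProj_dvd (Nat.card G) 5))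
      have := cnt_cyclic_le (G := G) (p := 5) (k := 1) hf (y := y) (by rw [hy]; norm_num)
      norm_num [h5] at this
      omega
  have hsyl5 : 5 ∣ Nat.card G → Nat.card (Sylow 5 G) = 36 := fun h => by
    have he := cnt_prime_eq (G := G) (p := 5) h (fun hh => h25 hh)
    rw [c5 h] at he
    omega
  have h7 : ¬ 7 ∣ Nat.card G := by
    intro h
    have h49 : ¬ 7 ^ 2 ∣ Nat.card G := fun hh => by
      have hs := dvd_sum_of (G := G) 49 hh (s := {1, 7, 49}) (by decide) (by norm_num)
      simp [Finset.sum_insert, cnt_one, c7 h] at hs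
      have := hbig 49 (by norm_num)
      have := tot 49 42 (by decide +kernel)
      omega
    have he := cnt_prime_eq (G := G) (p := 7) h h49
    rw [c7 h] at he
    have h15 : Nat.card (Sylow 7 G) = 15 := by omega
    obtain ⟨R⟩ : Nonempty (Sylow 7 G) := inferInstance
    have h5 : 5 ∣ Nat.card G :=
      (by norm_num : 5 ∣ 15).trans (h15 ▸ (R.card_dvd_index).trans (R : Subgroup G).index_dvd_card)
    obtain ⟨y, hy⟩ := exists_prime_orderOf_dvd_card' (G := G) 7 h
    have hpg : IsPGroup 7 (Subgroup.zpowers y) :=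
      IsPGroup.of_card (n := 1) (by rw [Nat.card_zpowers, hy, pow_one])
    obtain ⟨P, hP⟩ := IsPGroup.nonempty_fixed_point_of_prime_not_dvd_card hpg (Sylow 5 G)
      (by rw [hsyl5 h5]; norm_num)
    have hyP : y ∈ Subgroup.normalizer (P : Set G) :=
      Sylow.smul_eq_iff_mem_normalizer.mp (hP ⟨y, Subgroup.mem_zpowers y⟩)
    have hPc : Nat.card P = 5 := by
      obtain ⟨k, hk⟩ := P.2.exists_card_eq
      have h1 := Nat.le_of_dvd Nat.card_pos (P.dvd_card_of_dvd_card h5)
      rcases k with _ | _ | k
      · omega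
      · exact hk
      · exact absurd ((pow_dvd_pow 5 (show 2 ≤ k + 2 by omega)).trans
          (hk ▸ (P : Subgroup G).card_subgroup_dvd_card)) h25
    obtain ⟨x, hxP, hx1, hxy⟩ := exists_commute hy (P : Subgroup G) hyP (by rw [hPc]; decide)
    have hox : orderOf x = 5 := by
      have := Subgroup.orderOf_dvd_natCard _ hxP
      rw [hPc] at this
      exact ((Nat.dvd_prime Nat.prime_five).mp this).resolve_left fun e => hx1 (orderOf_eq_one_iff.mp e)
    have := cnt_mul_ge (G := G) (p := 5) (q := 7) (by norm_num) (by norm_num) (fun hh => h25 hh)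
      hox hy hxy.symm
    norm_num [c5 h5] at this
    have := hbig 35 (by norm_num)
    omega
  have v4 := hbig 4 (by norm_num)
  have v8 : cnt G 8 = 0 ∨ cnt G 8 = 80 ∨ cnt G 8 = 144 := by
    have := hbig 8 (by norm_num); have := tot 8 4 (by decide); omega
  have c4 : 4 ∣ Nat.card G → cnt G 4 = 90 := fun h => by
    have hs := dvd_sum_of (G := G) 4 h (s := {1, 2, 4}) (by decide) (by norm_num)
    simp [Finset.sum_insert, cnt_one, hc2] at hs
    omega
  have h16 : ¬ 16 ∣ Nat.card G := fun h => by
    have hs := dvd_sum_of (G := G) 16 h (s := {1, 2, 4, 8, 16}) (by decide) (by norm_num)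
    simp [Finset.sum_insert, cnt_one, hc2, c4 ((by norm_num : 4 ∣ 16).trans h)] at hs
    have := hbig 16 (by norm_num)
    have := tot 16 8 (by decide)
    omega
  have c8 : cnt G 8 = 0 := by
    by_contra hne
    obtain ⟨y, hy⟩ := (cnt_pos_iff (G := G) (m := 8)).mp (Nat.pos_of_ne_zero hne)
    have h8 : 8 ∣ Nat.card G := hy ▸ orderOf_dvd_natCard y
    have hf : (Nat.card G).factorization 2 = 2 + 1 := by
      refine le_antisymm ?_ ((Nat.Prime.pow_dvd_iff_le_factorization Nat.prime_two Nat.card_pos.ne').mp h8)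
      by_contra hlt
      exact h16 ((pow_dvd_pow 2 (show 4 ≤ _ by omega)).trans (Nat.ordProj_dvd (Nat.card G) 2))
    have := cnt_cyclic_le (G := G) (p := 2) (k := 2) hf (y := y) (by rw [hy]; norm_num)
    norm_num [hc2] at this
    omega
  obtain ⟨a, b, c, ha, hb, hcb, hG⟩ : ∃ a b c, a ≤ 3 ∧ b ≤ 4 ∧ c ≤ 1 ∧ Nat.card G = 2 ^ a * 3 ^ b * 5 ^ c := by
    refine ⟨(Nat.card G).factorization 2, (Nat.card G).factorization 3, (Nat.card G).factorization 5,
      ?_, ?_, ?_, ?_⟩
    · by_contra hlt
      exact h16 ((pow_dvd_pow 2 (show 4 ≤ _ by omega)).trans (Nat.ordProj_dvd (Nat.card G) 2))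
    · by_contra hlt
      exact h243 ((pow_dvd_pow 3 (show 5 ≤ _ by omega)).trans (Nat.ordProj_dvd (Nat.card G) 3))
    · by_contra hlt
      exact h25 ((pow_dvd_pow 5 (show 2 ≤ _ by omega)).trans (Nat.ordProj_dvd (Nat.card G) 5))
    · conv_lhs => rw [← Nat.prod_factorization_pow_eq_self (Nat.card_pos (α := G)).ne']
      rw [Finsupp.prod_of_support_subset _ (s := {2, 3, 5}) ?_ _ (by simp)]
      · simp [Finset.prod_insert, mul_assoc]
      · intro p hp
        rw [Nat.support_factorization, Nat.mem_primeFactors] at hp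
        rcases hprime p hp.1 hp.2.1 with h | h | h | ⟨rfl, -⟩
        · simp [h]
        · simp [h.1]
        · simp [h.1]
        · exact absurd hp.2.1 h7
  have hexp : ∀ g : G, orderOf g ∣ 4 * 3 * 5 := fun g => orderOf_dvd_of g fun p k hp hk hd hpos => by
    rcases hprime p hp ((dvd_pow_self p (by omega)).trans hd) with rfl | ⟨rfl, -⟩ | ⟨rfl, -⟩ | ⟨rfl, -⟩
    · have : k ≤ 2 := by
        by_contra hlt
        have := cnt_eq_zero_of_dvd (G := G) (pow_ne_zero k two_ne_zero)
          (pow_dvd_pow 2 (show 3 ≤ k by omega)) (by norm_num; exact c8)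
        omega
      interval_cases k <;> norm_num
    · have : k ≤ 1 := by
        by_contra hlt
        have := cnt_eq_zero_of_dvd (G := G) (pow_ne_zero k (by norm_num : (3 : ℕ) ≠ 0))
          (pow_dvd_pow 3 (show 2 ≤ k by omega)) (by norm_num; exact c9)
        omega
      interval_cases k; norm_num
    · have : k ≤ 1 := by
        by_contra hlt
        exact h25 ((pow_dvd_pow 5 (show 2 ≤ k by omega)).trans hd)
      interval_cases k; norm_num
    · exact absurd ((dvd_pow_self 7 (by omega)).trans hd) h7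
  have z : ∀ m, ¬ m ∣ Nat.card G → cnt G m = 0 := fun m h => cnt_of_not_dvd h
  have h5 : 5 ∣ Nat.card G := by
    by_contra h5
    have hc0 : c = 0 := by
      by_contra hne
      exact h5 (hG ▸ Dvd.dvd.mul_left (dvd_pow_self 5 hne) _)
    subst hc0
    have hexp' : ∀ g : G, orderOf g ∣ 12 := fun g => by
      have h1 := hexp g
      have h2 : (orderOf g).Coprime 5 := by
        rw [Nat.coprime_comm, Nat.prime_five.coprime_iff_not_dvd]
        exact fun h => h5 (h.trans (orderOf_dvd_natCard g))
      exact h2.dvd_of_dvd_mul_right h1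
    have hsum := card_eq_sum_of (G := G) (n := 12) (by norm_num) hexp'
    rw [show Nat.divisors 12 = {1, 2, 3, 4, 6, 12} by decide] at hsum
    simp [Finset.sum_insert, cnt_one, hc2] at hsum
    obtain ⟨m, hm⟩ := h144
    obtain ⟨g, hg⟩ := (cnt_pos_iff (G := G) (m := m)).mp (by omega)
    have hmd : m ∈ Nat.divisors 12 := Nat.mem_divisors.mpr ⟨hg ▸ hexp' g, by norm_num⟩
    rw [show Nat.divisors 12 = {1, 2, 3, 4, 6, 12} by decide] at hmd
    simp only [Finset.mem_insert, Finset.mem_singleton] at hmd
    simp only [pow_zero, mul_one] at hG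
    have h3 : 3 ∣ Nat.card G := by
      by_contra h3
      have := z 3 h3
      have := cnt_eq_zero_of_dvd (G := G) (by norm_num : 6 ≠ 0) (by norm_num : 3 ∣ 6) this
      have := cnt_eq_zero_of_dvd (G := G) (by norm_num : 12 ≠ 0) (by norm_num : 3 ∣ 12) ‹cnt G 3 = 0›
      rcases hmd with rfl | rfl | rfl | rfl | rfl | rfl
      · rw [cnt_one] at hm; omega
      all_goals first
        | omega
        | (by_cases h4 : 4 ∣ Nat.card G
           · have := c4 h4; omega
           · have := z 4 h4; omega)
    have e3 := c3 h3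
    have hs6 := dvd_sum_of (G := G) 6 (Nat.Coprime.mul_dvd_of_dvd_of_dvd (by norm_num) h2G h3)
      (s := {1, 2, 3, 6}) (by decide) (by norm_num)
    simp [Finset.sum_insert, cnt_one, hc2, e3] at hs6
    have v6 := hbig 6 (by norm_num)
    have v12 := hbig 12 (by norm_num)
    have t12 := tot 12 4 (by decide)
    by_cases h4 : 4 ∣ Nat.card G
    · have := c4 h4
      have hs12 := dvd_sum_of (G := G) 12 (Nat.Coprime.mul_dvd_of_dvd_of_dvd (by norm_num) h4 h3)
        (s := {1, 2, 3, 4, 6, 12}) (by decide) (by norm_num)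
      simp [Finset.sum_insert, cnt_one, hc2, e3] at hs12
      rcases hmd with rfl | rfl | rfl | rfl | rfl | rfl
      · rw [cnt_one] at hm; omega
      all_goals interval_cases a <;> interval_cases b <;> omega
    · have := z 4 h4
      have := cnt_eq_zero_of_dvd (G := G) (by norm_num : 12 ≠ 0) (by norm_num : 4 ∣ 12) this
      rcases hmd with rfl | rfl | rfl | rfl | rfl | rfl
      · rw [cnt_one] at hm; omega
      all_goals interval_cases a <;> interval_cases b <;> omega
  have e5 := c5 h5
  have n5 := hsyl5 h5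
  obtain ⟨P⟩ : Nonempty (Sylow 5 G) := inferInstance
  have h36 : 36 ∣ Nat.card G := n5 ▸ (P.card_dvd_index).trans (P : Subgroup G).index_dvd_card
  have e3 := c3 ((by norm_num : 3 ∣ 36).trans h36)
  have hPc : ∀ P : Sylow 5 G, Nat.card P = 5 := fun P => by
    obtain ⟨k, hk⟩ := P.2.exists_card_eq
    have h1 := Nat.le_of_dvd Nat.card_pos (P.dvd_card_of_dvd_card h5)
    rcases k with _ | _ | k
    · omega
    · exact hk
    · exact absurd ((pow_dvd_pow 5 (show 2 ≤ k + 2 by omega)).trans
        (hk ▸ (P : Subgroup G).card_subgroup_dvd_card)) h25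
  -- no elements of orders 10, 15
  have hno : ∀ x y : G, orderOf x = 5 → (orderOf y = 2 ∨ orderOf y = 3) → ¬ Commute x y := by
    intro x y hx hy hxy
    rcases hy with hy | hy
    · have := cnt_mul_ge (G := G) (p := 5) Nat.prime_two (by norm_num) (fun hh => h25 hh) hx hy hxy
      norm_num [e5] at this
      have hs := dvd_sum_of (G := G) 10 (Nat.Coprime.mul_dvd_of_dvd_of_dvd (by norm_num) h2G h5)
        (s := {1, 2, 5, 10}) (by decide) (by norm_num)
      simp [Finset.sum_insert, cnt_one, hc2, e5] at hs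
      have := hbig 10 (by norm_num)
      omega
    · have := cnt_mul_ge (G := G) (p := 5) Nat.prime_three (by norm_num) (fun hh => h25 hh) hx hy hxy
      norm_num [e5] at this
      have := hbig 15 (by norm_num)
      omega
  have hC : Subgroup.centralizer (P : Set G) ≤ (P : Subgroup G) := by
    obtain ⟨x, hx⟩ := exists_prime_orderOf_dvd_card' (G := (P : Subgroup G)) 5 (by rw [hPc])
    have hx' : orderOf (x : G) = 5 := by rw [Subgroup.orderOf_coe, hx]
    intro g hg
    have hgx : Commute (x : G) g := (Subgroup.mem_centralizer_iff.mp hg x x.2)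
    have hd60 : orderOf g ∈ Nat.divisors 60 := Nat.mem_divisors.mpr ⟨by simpa using hexp g, by norm_num⟩
    have hq : ∀ q, (q = 2 ∨ q = 3) → ¬ q ∣ orderOf g := by
      intro q hq hd
      refine hno (x : G) (g ^ (orderOf g / q)) hx' ?_ (hgx.pow_right _)
      rw [orderOf_pow_orderOf_div (orderOf_pos g).ne' hd]
      exact hq
    have q2 := hq 2 (Or.inl rfl)
    have q3 := hq 3 (Or.inr rfl)
    have hg5 : orderOf g ∣ 5 := by
      rw [show Nat.divisors 60 = {1, 2, 3, 4, 5, 6, 10, 12, 15, 20, 30, 60} by decide +kernel] at hd60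
      simp only [Finset.mem_insert, Finset.mem_singleton] at hd60
      rcases hd60 with e | e | e | e | e | e | e | e | e | e | e | e <;>
        rw [e] at q2 q3 ⊢ <;> first
          | omega
          | norm_num
    have hsup : IsPGroup 5 (Subgroup.zpowers g ⊔ (P : Subgroup G) : Subgroup G) := by
      refine IsPGroup.to_sup_of_normal_right' ?_ P.2 (Subgroup.zpowers_le.mpr ?_)
      · rcases (Nat.dvd_prime Nat.prime_five).mp hg5 with h | h
        · exact IsPGroup.of_card (n := 0) (by rw [Nat.card_zpowers, h, pow_zero])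
        · exact IsPGroup.of_card (n := 1) (by rw [Nat.card_zpowers, h, pow_one])
      · exact Subgroup.centralizer_le_normalizer _ hg
    exact P.3 hsup le_sup_right ▸ le_sup_left (b := (P : Subgroup G)) (Subgroup.mem_zpowers g)
  have hNmul : ∀ P : Sylow 5 G, 36 * Nat.card (Subgroup.normalizer (P : Set G)) = Nat.card G := fun P => by
    have h := (Subgroup.normalizer (P : Set G)).card_mul_index
    rw [← P.card_eq_index_normalizer, n5] at h
    omega
  have hN : Nat.card (Subgroup.normalizer (P : Set G)) ∣ 20 := by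
    have key := Subgroup.card_dvd_of_injective _
      (QuotientGroup.kerLift_injective (Subgroup.normalizerMonoidHom (P : Subgroup G)))
    have hcyc : IsCyclic (P : Subgroup G) := isCyclic_of_prime_card (hPc P)
    rw [Subgroup.normalizerMonoidHom_ker, hcyc.card_mulAut, hPc P,
      show Nat.totient 5 = 4 by decide] at key
    set K := (Subgroup.centralizer (P : Set G)).subgroupOf (Subgroup.normalizer (P : Set G)) with hK
    have hKc : Nat.card K ∣ 5 := by
      have h1 := Subgroup.card_dvd_of_le hC
      rw [hPc P] at h1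
      refine dvd_trans ?_ h1
      exact dvd_of_eq (Nat.card_congr (Subgroup.subgroupOfEquivOfLe (Subgroup.centralizer_le_normalizer _)).toEquiv)
    have hm := K.card_mul_index
    rw [← hm]
    exact Nat.mul_dvd_mul hKc key
  have h180 : ∀ M : Subgroup G, Nat.card M = 180 → False := by
    intro M hM
    obtain ⟨R⟩ : Nonempty (Sylow 5 M) := inferInstance
    have h5M : 5 ∣ Nat.card M := by rw [hM]; norm_num
    obtain ⟨kR, hkR⟩ := R.2.exists_card_eq
    have hRc : Nat.card R = 5 := by
      have h1 := Nat.le_of_dvd Nat.card_pos (R.dvd_card_of_dvd_card h5M)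
      have h2 := (R : Subgroup M).card_subgroup_dvd_card
      rw [hM, hkR] at h2
      rcases kR with _ | _ | k
      · omega
      · exact hkR
      · have := (pow_dvd_pow 5 (show 2 ≤ k + 2 by omega)).trans h2
        norm_num at this
    -- normalisers in `M` are small
    have hRG : IsPGroup 5 ((R : Subgroup M).map M.subtype) := R.2.map _
    obtain ⟨S, hS⟩ := hRG.exists_le_sylow
    have hmapc : Nat.card ((R : Subgroup M).map M.subtype) = 5 :=
      (Subgroup.card_map_of_injective M.subtype_injective).trans hRc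
    have hSeq : (R : Subgroup M).map M.subtype = (S : Subgroup G) :=
      Subgroup.eq_of_le_of_card_ge hS (by rw [hmapc, hPc S])
    have hle := Subgroup.le_normalizer_map M.subtype (H := (R : Subgroup M))
    rw [hSeq] at hle
    have hNS : Nat.card (Subgroup.normalizer (S : Set G)) ≤ 20 := by
      have h1 := hNmul S
      have h2 := hNmul P
      have := Nat.le_of_dvd (by norm_num) hN
      omega
    have hNR : Nat.card (Subgroup.normalizer (R : Set M)) ≤ 20 := by
      refine le_trans ?_ hNS
      refine le_trans (le_of_eq ?_) (Nat.le_of_dvd Nat.card_pos (Subgroup.card_dvd_of_le hle))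
      exact (Subgroup.card_map_of_injective M.subtype_injective).symm
    have hn := (Subgroup.normalizer (R : Set M)).card_mul_index
    rw [← R.card_eq_index_normalizer, hM] at hn
    have hmod : Nat.card (Sylow 5 M) % 5 = 1 := card_sylow_modEq_one 5 M
    have hdv : Nat.card (Sylow 5 M) ∣ 36 := by
      have hi := (R : Subgroup M).card_mul_index
      rw [hM, hRc] at hi
      exact (show (R : Subgroup M).index = 36 by omega) ▸ R.card_dvd_index
    have h36' : Nat.card (Sylow 5 M) = 36 := by
      have hmem : Nat.card (Sylow 5 M) ∈ Nat.divisors 36 := Nat.mem_divisors.mpr ⟨hdv, by norm_num⟩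
      rw [show Nat.divisors 36 = {1, 2, 3, 4, 6, 9, 12, 18, 36} by decide] at hmem
      simp only [Finset.mem_insert, Finset.mem_singleton] at hmem
      rcases hmem with e | e | e | e | e | e | e | e | e <;> rw [e] at hn hmod <;> omega
    have hN5 : Nat.card (Subgroup.normalizer (R : Set M)) = 5 := by rw [h36'] at hn; omega
    haveI : IsMulCommutative (R : Subgroup M) := (isCyclic_of_prime_card hRc).isMulCommutative
    have hleC : Subgroup.normalizer (R : Set M) ≤ Subgroup.centralizer (R : Set M) := by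
      have : (R : Subgroup M) = Subgroup.normalizer (R : Set M) :=
        Subgroup.eq_of_le_of_card_ge Subgroup.le_normalizer (le_of_eq (hN5.trans hRc.symm))
      exact this ▸ Subgroup.le_centralizer (R : Subgroup M)
    have hcompl := MonoidHom.ker_transferSylow_isComplement' R hleC
    set f := MonoidHom.transferSylow R hleC with hf
    have hK : Nat.card f.ker = 36 := by
      have h := hcompl.card_mul
      rw [hM, hRc] at h
      omega
    have hQK : ∀ Q : Sylow 3 M, (Q : Subgroup M) ≤ f.ker := fun Q x hx => by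
      refine MonoidHom.mem_ker.mpr (orderOf_eq_one_iff.mp ?_)
      have h1 := (orderOf_map_dvd f x).trans (Subgroup.orderOf_dvd_natCard _ hx)
      have h2 := orderOf_dvd_natCard (f x)
      rw [hRc] at h2
      obtain ⟨k, hk⟩ := Q.2.exists_card_eq
      rw [hk] at h1
      exact Nat.eq_one_of_dvd_coprimes (Nat.Coprime.pow_left k (by norm_num : Nat.Coprime 3 5)) h1 h2
    have hinj : Function.Injective (fun Q : Sylow 3 M => Q.subtype (hQK Q)) := fun a b h =>
      Sylow.subtype_injective h
    have hle' := Nat.card_le_card_of_injective _ hinj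
    obtain ⟨W⟩ : Nonempty (Sylow 3 f.ker) := inferInstance
    have hW := W.card_dvd_index
    obtain ⟨Q⟩ : Nonempty (Sylow 3 M) := inferInstance
    have hQd := Q.card_dvd_index
    have hQm : Nat.card (Sylow 3 M) % 3 = 1 := card_sylow_modEq_one 3 M
    have h9 : Nat.card Q = 9 := by
      rw [Q.card_eq_multiplicity, hM, show (180 : ℕ) = 3 ^ 2 * 20 by norm_num,
        Nat.factorization_mul (by norm_num) (by norm_num), Finsupp.add_apply,
        Nat.Prime.factorization_pow Nat.prime_three, Finsupp.single_eq_same,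
        Nat.factorization_eq_zero_of_not_dvd (show ¬ 3 ∣ 20 by norm_num)]
      norm_num
    have hW9 : Nat.card W = 9 := by
      rw [W.card_eq_multiplicity, hK, show (36 : ℕ) = 3 ^ 2 * 4 by norm_num,
        Nat.factorization_mul (by norm_num) (by norm_num), Finsupp.add_apply,
        Nat.Prime.factorization_pow Nat.prime_three, Finsupp.single_eq_same,
        Nat.factorization_eq_zero_of_not_dvd (show ¬ 3 ∣ 4 by norm_num)]
      norm_num
    have hQi := (Q : Subgroup M).card_mul_index
    rw [h9, hM] at hQi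
    rw [show (Q : Subgroup M).index = 20 by omega] at hQd
    have hWi := (W : Subgroup f.ker).card_mul_index
    rw [hW9, hK] at hWi
    rw [show (W : Subgroup f.ker).index = 4 by omega] at hW
    have hW4 := Nat.le_of_dvd (by norm_num) hW
    have hnQ : Nat.card (Sylow 3 M) = 1 ∨ Nat.card (Sylow 3 M) = 4 := by
      have := Nat.card_pos (α := Sylow 3 M)
      omega
    have hNQ := (Subgroup.normalizer (Q : Set M)).card_mul_index
    rw [← Q.card_eq_index_normalizer, hM] at hNQ
    have h5N : 5 ∣ Nat.card (Subgroup.normalizer (Q : Set M)) := by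
      rcases hnQ with e | e <;> rw [e] at hNQ <;> omega
    obtain ⟨y, hy⟩ := exists_prime_orderOf_dvd_card' (G := Subgroup.normalizer (Q : Set M)) 5 h5N
    have hy' : orderOf (y : M) = 5 := by rw [Subgroup.orderOf_coe, hy]
    obtain ⟨x, hxQ, hx1, hxy⟩ := exists_commute hy' (Q : Subgroup M) y.2 (by rw [h9]; decide)
    have hx9 := Subgroup.orderOf_dvd_natCard _ hxQ
    rw [h9] at hx9
    have hx3 : orderOf x = 3 := by
      have hmem : orderOf x ∈ Nat.divisors 9 := Nat.mem_divisors.mpr ⟨hx9, by norm_num⟩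
      rw [show Nat.divisors 9 = {1, 3, 9} by decide] at hmem
      simp only [Finset.mem_insert, Finset.mem_singleton] at hmem
      rcases hmem with e | e | e
      · exact absurd (orderOf_eq_one_iff.mp e) hx1
      · exact e
      · exact absurd (cnt_pos_iff.mpr ⟨(x : G), by rw [Subgroup.orderOf_coe, e]⟩) (by rw [c9]; norm_num)
    refine hno ((y : M) : G) (x : G) ?_ (Or.inr ?_) (hxy.map M.subtype)
    · rw [Subgroup.orderOf_coe, hy']
    · rw [Subgroup.orderOf_coe, hx3]
  have h360 : Nat.card G = 360 := by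
    have h1 := hNmul P
    have hmem : Nat.card (Subgroup.normalizer (P : Set G)) ∈ Nat.divisors 20 :=
      Nat.mem_divisors.mpr ⟨hN, by norm_num⟩
    rw [show Nat.divisors 20 = {1, 2, 4, 5, 10, 20} by decide] at hmem
    simp only [Finset.mem_insert, Finset.mem_singleton] at hmem
    rcases hmem with e | e | e | e | e | e <;> rw [e] at h1
    · rw [← h1] at h5; norm_num at h5
    · rw [← h1] at h5; norm_num at h5
    · rw [← h1] at h5; norm_num at h5
    · exact (h180 ⊤ (Subgroup.card_top.trans h1.symm)).elim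
    · omega
    · exact absurd (h1 ▸ (by norm_num : 16 ∣ 36 * 20)) h16
  haveI : IsSimpleGroup G := by
    haveI : Nontrivial G := Finite.one_lt_card_iff_nontrivial.mp (by omega)
    refine ⟨fun N hN' => ?_⟩
    by_contra hcon
    push Not at hcon
    obtain ⟨hbot, htop⟩ := hcon
    haveI := hN'
    have hd := N.card_subgroup_dvd_card
    rw [h360] at hd
    have h1 : Nat.card N ≠ 1 := fun e => hbot (Subgroup.card_eq_one.mp e)
    have h60 : Nat.card N ≠ 360 := fun e => htop (Subgroup.eq_top_of_card_eq N (e.trans h360.symm))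
    by_cases h5N : 5 ∣ Nat.card N
    · have := e5 ▸ cnt_le_card_normal (fun hh => h25 hh) N h5N
      have hs := sum_le_card (G := N) (s := {1, 5})
      simp [Finset.sum_insert, cnt_one] at hs
      refine h180 N ?_
      obtain ⟨k, hk⟩ := hd
      have : k ≤ 2 := by
        by_contra hlt
        nlinarith
      interval_cases k <;> omega
    · obtain ⟨y, hy⟩ := exists_prime_orderOf_dvd_card' (G := G) 5 h5
      have hyn : ∀ Q : Subgroup G, Q.Normal → y ∈ Subgroup.normalizer (Q : Set G) := fun Q hQ => by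
        rw [Subgroup.normalizer_eq_top_iff.mpr hQ]; exact Subgroup.mem_top y
      have hfix : ∀ Q : Subgroup G, Q.Normal → Nat.card Q ∣ 72 → ¬ Nat.card Q % 5 = 1 → False := by
        intro Q hQ hQd hQ1
        obtain ⟨x, hxQ, hx1, hxy⟩ := exists_commute hy Q (hyn Q hQ) hQ1
        have hox := (Subgroup.orderOf_dvd_natCard _ hxQ).trans hQd
        have hpos := orderOf_pos x
        have h11 : orderOf x ≠ 1 := fun e => hx1 (orderOf_eq_one_iff.mp e)
        have hq : 2 ∣ orderOf x ∨ 3 ∣ orderOf x := by
          have hmem : orderOf x ∈ Nat.divisors 72 := Nat.mem_divisors.mpr ⟨hox, by norm_num⟩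
          rw [show Nat.divisors 72 = {1, 2, 3, 4, 6, 8, 9, 12, 18, 24, 36, 72} by decide +kernel] at hmem
          simp only [Finset.mem_insert, Finset.mem_singleton] at hmem
          omega
        rcases hq with hq | hq
        · exact hno y (x ^ (orderOf x / 2)) hy (Or.inl (orderOf_pow_orderOf_div hpos.ne' hq)) (hxy.pow_right _)
        · exact hno y (x ^ (orderOf x / 3)) hy (Or.inr (orderOf_pow_orderOf_div hpos.ne' hq)) (hxy.pow_right _)
      have h72 : Nat.card N ∣ 72 := by
        have : (Nat.card N).Coprime 5 := (Nat.Coprime.symm (Nat.prime_five.coprime_iff_not_dvd.mpr h5N))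
        exact this.dvd_of_dvd_mul_right (show Nat.card N ∣ 72 * 5 by simpa using hd)
      have hmod : Nat.card N % 5 = 1 := by
        by_contra h
        exact hfix N hN' h72 h
      have hcases : Nat.card N = 6 ∨ Nat.card N = 36 := by
        have hmem : Nat.card N ∈ Nat.divisors 72 := Nat.mem_divisors.mpr ⟨h72, by norm_num⟩
        rw [show Nat.divisors 72 = {1, 2, 3, 4, 6, 8, 9, 12, 18, 24, 36, 72} by decide +kernel] at hmem
        simp only [Finset.mem_insert, Finset.mem_singleton] at hmem
        omega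
      rcases hcases with e | e
      · obtain ⟨W⟩ : Nonempty (Sylow 3 N) := inferInstance
        have hW3 : Nat.card W = 3 := by
          rw [W.card_eq_multiplicity, e, show (6 : ℕ) = 3 ^ 1 * 2 by norm_num,
            Nat.factorization_mul (by norm_num) (by norm_num), Finsupp.add_apply,
            Nat.Prime.factorization_pow Nat.prime_three, Finsupp.single_eq_same,
            Nat.factorization_eq_zero_of_not_dvd (show ¬ 3 ∣ 2 by norm_num)]
          norm_num
        haveI hWn : (W : Subgroup N).Normal := by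
          refine Subgroup.normal_of_index_eq_two ?_
          have h := (W : Subgroup N).card_mul_index
          rw [hW3, e] at h
          omega
        haveI : (W : Subgroup N).Characteristic := W.characteristic_of_normal hWn
        exact hfix ((W : Subgroup N).map N.subtype) inferInstance
          (by rw [Subgroup.card_map_of_injective N.subtype_injective, hW3]; norm_num)
          (by rw [Subgroup.card_map_of_injective N.subtype_injective, hW3]; norm_num)
      · -- `N` with an element of order five gives a subgroup of order 180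
        refine h180 (N ⊔ Subgroup.zpowers y) ?_
        have hdisj : Disjoint N (Subgroup.zpowers y) := disjoint_iff.mpr
          (Subgroup.inf_eq_bot_of_coprime (by rw [e, Nat.card_zpowers, hy]; norm_num))
        rw [CfsgLib.Solvable.card_sup_of_disjoint (Subgroup.zpowers_le.mpr (hyn N hN')) hdisj, e,
          Nat.card_zpowers, hy]
  exact CfsgLib.Recog.ThreeSixty.iso_alternating_six h360

end CfsgLib.Recog.CountsAlt
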