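import Mathlib
import Cfsg.Agent.Lib.Recog.DerangementClasses

/-! Derangements in primitive groups with an abelian normal subgroup. -/

set_option autoImplicit false

namespace CfsgLib.Recog

open MulAction

variable {G : Type*} [Group G] [Finite G] {Ω : Type*} [Fintype Ω] [MulAction G Ω] [FaithfulSMul G Ω]

omit [Finite G] [Fintype Ω] in
theorem abelian_regular (hprim : IsPreprimitive G Ω) (A : Subgroup G) [A.Normal]
    (hA : A ≠ ⊥) (hc : IsMulCommutative A) :
    IsPretransitive A Ω ∧ ∀ ω : Ω, stabilizer A ω = ⊥ := by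
  have htr := normal_transitive (Ω := Ω) hprim A hA
  refine ⟨htr, fun ω => (Subgroup.eq_bot_iff_forall _).mpr fun a ha => ?_⟩
  by_contra h
  exact semiregular_of_commute A htr (c := (a : G)) (fun h' => h (Subtype.ext h'))
    (fun n hn => congrArg Subtype.val (hc.is_comm.comm ⟨n, hn⟩ a)) ω ha

omit [Finite G] [Fintype Ω] [FaithfulSMul G Ω] in
theorem regular_derangement {A : Subgroup G} (hreg : ∀ ω : Ω, stabilizer A ω = ⊥) {a : G}
    (ha : a ∈ A) (ha1 : a ≠ 1) (ω : Ω) : a • ω ≠ ω := by
  intro h
  have : (⟨a, ha⟩ : A) ∈ stabilizer A ω := h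
  rw [hreg, Subgroup.mem_bot] at this
  exact ha1 (congrArg Subtype.val this)

omit [Finite G] [FaithfulSMul G Ω] in
theorem regular_card {A : Subgroup G} [Nonempty Ω] (htr : IsPretransitive A Ω)
    (hreg : ∀ ω : Ω, stabilizer A ω = ⊥) : Nat.card A = Fintype.card Ω := by
  obtain ⟨α⟩ := (inferInstance : Nonempty Ω)
  rw [← Nat.card_eq_fintype_card, ← index_stabilizer_of_transitive A α, hreg, Subgroup.index_bot]

omit [FaithfulSMul G Ω] in
/-- Outside a regular normal subgroup: if nobody is a derangement, each fixes exactly one point. -/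
theorem fix_eq_one_outside [Nonempty Ω] (A : Subgroup G) (htr : IsPretransitive A Ω)
    (hreg : ∀ ω : Ω, stabilizer A ω = ⊥) (h : ∀ g : G, g ∉ A → 1 ≤ Nat.card (fixedBy Ω g)) :
    ∀ g : G, g ∉ A → Nat.card (fixedBy Ω g) = 1 := by
  classical
  haveI : Fintype G := Fintype.ofFinite G
  haveI := htr
  haveI : IsPretransitive G Ω := ⟨fun x y => by
    obtain ⟨a, ha⟩ := exists_smul_eq A x y
    exact ⟨a, ha⟩⟩
  have hsum := PermDerange.sum_card_fixedBy_transitive (G := G) (Ω := Ω)
  rw [← Finset.sum_filter_add_sum_filter_not Finset.univ (· ∈ A)] at hsum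
  have h1 : ∑ g ∈ Finset.univ.filter (· ∈ A), Nat.card (fixedBy Ω g) = Fintype.card Ω := by
    rw [Finset.sum_eq_single 1]
    · rw [show fixedBy Ω (1 : G) = Set.univ from Set.eq_univ_of_forall fun x => one_smul G x,
        Nat.card_congr (Equiv.Set.univ Ω), Nat.card_eq_fintype_card]
    · intro g hg hg1
      simp only [Finset.mem_filter, Finset.mem_univ, true_and] at hg
      rw [PermDerange.card_fixedBy_eq_zero_iff]
      exact regular_derangement hreg hg hg1
    · simp
  have h2 : (Finset.univ.filter (fun g : G => g ∈ A)).card = Fintype.card Ω := by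
    rw [← regular_card htr hreg, Nat.card_eq_fintype_card, Fintype.card_subtype]
  have h3 := Finset.card_filter_add_card_filter_not (s := (Finset.univ : Finset G)) (· ∈ A)
  rw [h2, Finset.card_univ, ← Nat.card_eq_fintype_card (α := G)] at h3
  rw [h1] at hsum
  have h4 : ∑ g ∈ Finset.univ.filter (fun g : G => g ∉ A), Nat.card (fixedBy Ω g) =
      ∑ g ∈ Finset.univ.filter (fun g : G => g ∉ A), 1 := by
    rw [Finset.sum_const, smul_eq_mul, mul_one]
    omega
  intro g hg
  exact ((Finset.sum_eq_sum_iff_of_le (fun x hx => h x (Finset.mem_filter.mp hx).2)).mp h4.symm g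
    (Finset.mem_filter.mpr ⟨Finset.mem_univ g, hg⟩)).symm

omit [FaithfulSMul G Ω] in
/-- A derangement outside a regular normal subgroup forces an element outside with two fixed points. -/
theorem exists_two_fix_outside [Nonempty Ω] (A : Subgroup G) (htr : IsPretransitive A Ω)
    (hreg : ∀ ω : Ω, stabilizer A ω = ⊥) {d : G} (hdA : d ∉ A) (hd : ∀ ω : Ω, d • ω ≠ ω) :
    ∃ g : G, g ≠ 1 ∧ 2 ≤ Nat.card (fixedBy Ω g) := by
  classical
  by_contra hcon
  push Not at hcon
  haveI : Fintype G := Fintype.ofFinite G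
  haveI := htr
  haveI : IsPretransitive G Ω := ⟨fun x y => by
    obtain ⟨a, ha⟩ := exists_smul_eq A x y
    exact ⟨a, ha⟩⟩
  have hsum := PermDerange.sum_card_fixedBy_transitive (G := G) (Ω := Ω)
  rw [← Finset.sum_filter_add_sum_filter_not Finset.univ (· ∈ A)] at hsum
  have h1 : ∑ g ∈ Finset.univ.filter (· ∈ A), Nat.card (fixedBy Ω g) = Fintype.card Ω := by
    rw [Finset.sum_eq_single 1]
    · rw [show fixedBy Ω (1 : G) = Set.univ from Set.eq_univ_of_forall fun x => one_smul G x,
        Nat.card_congr (Equiv.Set.univ Ω), Nat.card_eq_fintype_card]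
    · intro g hg hg1
      simp only [Finset.mem_filter, Finset.mem_univ, true_and] at hg
      rw [PermDerange.card_fixedBy_eq_zero_iff]
      exact regular_derangement hreg hg hg1
    · simp
  have h2 : (Finset.univ.filter (fun g : G => g ∈ A)).card = Fintype.card Ω := by
    rw [← regular_card htr hreg, Nat.card_eq_fintype_card, Fintype.card_subtype]
  have h3 := Finset.card_filter_add_card_filter_not (s := (Finset.univ : Finset G)) (· ∈ A)
  rw [h2, Finset.card_univ, ← Nat.card_eq_fintype_card (α := G)] at h3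
  rw [h1] at hsum
  have h4 : ∑ g ∈ Finset.univ.filter (fun g : G => g ∉ A), Nat.card (fixedBy Ω g) <
      ∑ g ∈ Finset.univ.filter (fun g : G => g ∉ A), 1 := by
    refine Finset.sum_lt_sum (fun g hg => ?_) ⟨d, Finset.mem_filter.mpr ⟨Finset.mem_univ d, hdA⟩, ?_⟩
    · have := hcon g (fun h => (Finset.mem_filter.mp hg).2 (h ▸ A.one_mem))
      omega
    · rw [(PermDerange.card_fixedBy_eq_zero_iff d).mpr hd]; norm_num
  rw [Finset.sum_const, smul_eq_mul, mul_one] at h4
  omega

omit [Finite G] [Fintype Ω] in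
/-- If the non-identity elements of a regular abelian normal subgroup are conjugate, the group is two-transitive. -/
theorem two_pretransitive_of_conj (A : Subgroup G) [A.Normal] (hc : IsMulCommutative A)
    (htr : IsPretransitive A Ω) (hconj : ∀ a ∈ A, ∀ b ∈ A, a ≠ 1 → b ≠ 1 → IsConj a b) :
    IsMultiplyPretransitive G Ω 2 := by
  rw [is_two_pretransitive_iff]
  intro a b c d hab hcd
  obtain ⟨x, hx⟩ := htr.exists_smul_eq a b
  obtain ⟨y, hy⟩ := htr.exists_smul_eq c d
  have hx1 : (x : G) ≠ 1 := fun h => hab (by rw [← hx, show x = 1 from Subtype.ext h, one_smul])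
  have hy1 : (y : G) ≠ 1 := fun h => hcd (by rw [← hy, show y = 1 from Subtype.ext h, one_smul])
  obtain ⟨g, hg⟩ := isConj_iff.mp (hconj x x.2 y y.2 hx1 hy1)
  obtain ⟨n, hn⟩ := htr.exists_smul_eq (g • a) c
  have hn' : ((n : G) * g) • a = c := by rw [mul_smul]; exact hn
  refine ⟨n * g, hn', ?_⟩
  have hcomm : (n : G) * y = y * n := congrArg Subtype.val (hc.is_comm.comm n y)
  have key : ((n : G) * g) * x = y * ((n : G) * g) := by
    rw [← hg] at hcomm ⊢
    calc (n : G) * g * x = n * (g * x * g⁻¹) * g := by group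
      _ = g * x * g⁻¹ * n * g := by rw [hcomm]
      _ = g * x * g⁻¹ * (n * g) := by group
  rw [← hx, ← hy, show (x • a : Ω) = (x : G) • a from rfl, ← mul_smul, key, mul_smul, hn']
  rfl

end CfsgLib.Recog
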