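import Mathlib.GroupTheory.SemidirectProduct
import Mathlib.GroupTheory.PGroup
import Mathlib.GroupTheory.Perm.Cycle.Type
import Mathlib.Algebra.Group.TransferInstance
import Mathlib.Data.Fintype.EquivFin

/-! Prime graphs of semidirect products by modules without fixed points. -/

set_option autoImplicit false

namespace CfsgLib.Recog

/-- `G` and `H` have the same prime graph: the same prime divisors of the order and, for distinct
primes `p`, `q`, an element of order `p * q` in both or in neither. -/
def SamePrimeGraph (G H : Type*) [Group G] [Group H] : Prop :=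
  (∀ p : ℕ, p.Prime → (p ∣ Nat.card G ↔ p ∣ Nat.card H)) ∧
    (∀ p q : ℕ, p.Prime → q.Prime → p ≠ q →
      ((∃ g : G, orderOf g = p * q) ↔ (∃ g : H, orderOf g = p * q)))

theorem SamePrimeGraph.trans {G H K : Type*} [Group G] [Group H] [Group K]
    (h₁ : SamePrimeGraph G H) (h₂ : SamePrimeGraph H K) : SamePrimeGraph G K :=
  ⟨fun p hp => (h₁.1 p hp).trans (h₂.1 p hp),
    fun p q hp hq hne => (h₁.2 p q hp hq hne).trans (h₂.2 p q hp hq hne)⟩

theorem SamePrimeGraph.of_mulEquiv {G H : Type*} [Group G] [Group H] (e : G ≃* H) :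
    SamePrimeGraph G H :=
  ⟨fun p _ => by rw [Nat.card_congr e.toEquiv],
    fun p q _ _ _ => ⟨fun ⟨g, hg⟩ => ⟨e g, by rw [MulEquiv.orderOf_eq, hg]⟩,
      fun ⟨g, hg⟩ => ⟨e.symm g, by rw [MulEquiv.orderOf_eq, hg]⟩⟩⟩

/-- Elements of a semidirect product `V ⋊ L`, `V` a `p`-group on which no element of prime order
`≠ p` not adjacent to `p` has a fixed point, have orders `r * s` only when `L` has. -/
theorem samePrimeGraph_semidirect_of_nonadjacent {V L : Type*} [CommGroup V] [Finite V] [Group L] [Finite L]
    {p : ℕ} [Fact p.Prime] (hV : IsPGroup p V) (hpL : p ∣ Nat.card L) (φ : L →* MulAut V)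
    (hfix : ∀ g : L, ∀ s : ℕ, s.Prime → s ≠ p → (¬ ∃ x : L, orderOf x = p * s) → orderOf g = s →
      ∀ v : V, φ g v = v → v = 1) :
    SamePrimeGraph L (SemidirectProduct V L φ) := by
  refine ⟨fun r hr => ?_, fun r s hr hs hne => ?_⟩
  · rw [SemidirectProduct.card]
    refine ⟨fun h => h.mul_left _, fun h => ?_⟩
    rcases hr.dvd_mul.1 h with h | h
    · obtain ⟨k, hk⟩ := IsPGroup.iff_card.1 hV
      rw [hk] at h
      rwa [(Nat.prime_dvd_prime_iff_eq hr Fact.out).1 (hr.dvd_of_dvd_pow h)]
    · exact h
  · constructor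
    · rintro ⟨g, hg⟩
      exact ⟨SemidirectProduct.inr g, (orderOf_injective _ SemidirectProduct.inr_injective g).trans hg⟩
    rintro ⟨y, hy⟩
    set π : SemidirectProduct V L φ →* L := SemidirectProduct.rightHom
    set d := orderOf (π y) with hd
    -- an element outside the image order produces a fixed point
    have key : ∀ a b : ℕ, a.Prime → b.Prime → a ≠ b → (¬ ∃ x : L, orderOf x = a * b) →
        orderOf y = a * b → ¬ d ∣ b := by
      intro a b ha hb hab hnone hyo hdb
      have hmem : ∀ x, π x = 1 → ∃ v : V, SemidirectProduct.inl v = x := fun x hx =>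
        ⟨x.left, by
          apply SemidirectProduct.ext
          · simp
          · exact (SemidirectProduct.right_inl (φ := φ) x.left).trans hx.symm⟩
      have hyb : π (y ^ b) = 1 := by
        rw [map_pow]
        exact orderOf_dvd_iff_pow_eq_one.1 hdb
      obtain ⟨v, hv⟩ := hmem _ hyb
      have hva : orderOf v = a := by
        rw [← orderOf_injective _ (SemidirectProduct.inl_injective (φ := φ)) v, hv,
          orderOf_pow' _ hb.ne_zero, hyo, Nat.gcd_eq_right (dvd_mul_left _ _), Nat.mul_div_cancel _ hb.pos]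
      have hap : a = p := by
        obtain ⟨k, hk⟩ := hV v
        have h1 := orderOf_dvd_of_pow_eq_one hk
        rw [hva] at h1
        exact (Nat.prime_dvd_prime_iff_eq ha Fact.out).1 (ha.dvd_of_dvd_pow h1)
      have hza : orderOf (y ^ a) = b := by
        rw [orderOf_pow' _ ha.ne_zero, hyo, Nat.gcd_eq_right (dvd_mul_right _ _), Nat.mul_div_cancel_left _ ha.pos]
      have hgb : orderOf (π (y ^ a)) = b := by
        have hdvd : orderOf (π (y ^ a)) ∣ b := hza ▸ orderOf_map_dvd π (y ^ a)
        rcases (Nat.dvd_prime hb).1 hdvd with h | h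
        · obtain ⟨u, hu⟩ := hmem _ (orderOf_eq_one_iff.1 h)
          obtain ⟨k, hk⟩ := hV u
          have h1 := orderOf_dvd_of_pow_eq_one hk
          rw [← orderOf_injective _ (SemidirectProduct.inl_injective (φ := φ)) u, hu, hza] at h1
          exact absurd (((Nat.prime_dvd_prime_iff_eq hb Fact.out).1 (hb.dvd_of_dvd_pow h1)).trans hap.symm) hab.symm
        · exact h
      have hcomm : (y ^ a) * SemidirectProduct.inl v = SemidirectProduct.inl v * y ^ a := by
        rw [hv]
        exact ((Commute.refl y).pow_pow a b).eq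
      have hfixv : φ (π (y ^ a)) v = v := by
        have h1 := congrArg SemidirectProduct.left hcomm
        simp only [SemidirectProduct.mul_left, SemidirectProduct.left_inl, SemidirectProduct.right_inl,
          map_one, MulAut.one_apply] at h1
        rw [mul_comm] at h1
        exact mul_right_cancel h1
      have := hfix _ b hb (fun e => hab (hap.trans e.symm)) (hap ▸ hnone) hgb v hfixv
      rw [this, orderOf_one] at hva
      exact ha.one_lt.ne hva
    have hdvd : d ∣ r * s := hy ▸ orderOf_map_dvd π y
    by_contra hnone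
    by_cases hr' : r ∣ d
    · by_cases hs' : s ∣ d
      · exact hnone ⟨π y, Nat.dvd_antisymm hdvd (((Nat.coprime_primes hr hs).2 hne).mul_dvd_of_dvd_of_dvd hr' hs')⟩
      · exact absurd (((hs.coprime_iff_not_dvd.2 hs').symm).dvd_of_dvd_mul_right hdvd)
          (key s r hs hr hne.symm (by rwa [mul_comm]) (hy.trans (mul_comm _ _)))
    · exact absurd (((hr.coprime_iff_not_dvd.2 hr').symm).dvd_of_dvd_mul_left hdvd) (key r s hr hs hne hnone hy)

/-- Elements of a semidirect product `V ⋊ L`, `V` a `p`-group on which no element of prime order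
`≠ p` has a fixed point, have orders `r * s` only when `L` has. -/
theorem samePrimeGraph_semidirect {V L : Type*} [CommGroup V] [Finite V] [Group L] [Finite L]
    {p : ℕ} [Fact p.Prime] (hV : IsPGroup p V) (hpL : p ∣ Nat.card L) (φ : L →* MulAut V)
    (hfix : ∀ g : L, ∀ s : ℕ, s.Prime → s ≠ p → orderOf g = s → ∀ v : V, φ g v = v → v = 1) :
    SamePrimeGraph L (SemidirectProduct V L φ) :=
  samePrimeGraph_semidirect_of_nonadjacent hV hpL φ fun g s hs hsp _ => hfix g s hs hsp

/-- Every finite group is isomorphic to one in `Type`. -/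
theorem exists_type_model (G : Type*) [Group G] [Finite G] :
    ∃ (H : Type) (_ : Group H) (_ : Fintype H), Nonempty (G ≃* H) := by
  let e := (Finite.equivFin G).symm
  exact ⟨Fin (Nat.card G), e.group, inferInstance, ⟨(@MulEquiv.symm _ _ e.group.toMul _ (@Equiv.mulEquiv _ _ e _))⟩⟩

/-- A faithful-enough module gives groups of arbitrarily large order with the same prime graph. -/
theorem exists_large_of_nonadjacent {W L : Type*} [CommGroup W] [Finite W] [Nontrivial W] [Group L]
    [Finite L] {p : ℕ} [Fact p.Prime] (hW : IsPGroup p W) (hpL : p ∣ Nat.card L) (φ : L →* MulAut W)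
    (hfix : ∀ g : L, ∀ s : ℕ, s.Prime → s ≠ p → (¬ ∃ x : L, orderOf x = p * s) → orderOf g = s →
      ∀ v : W, φ g v = v → v = 1) (N : ℕ) :
    ∃ (H : Type) (_ : Group H) (_ : Fintype H), N < Nat.card H ∧ SamePrimeGraph L H := by
  let ψ : L →* MulAut (Fin (N + 1) → W) :=
    { toFun := fun g => MulEquiv.piCongrRight fun _ => φ g
      map_one' := by ext v i; simp
      map_mul' := fun a b => by ext v i; simp }
  have hψ : IsPGroup p (Fin (N + 1) → W) := by
    obtain ⟨k, hk⟩ := IsPGroup.iff_card.1 hW
    exact IsPGroup.of_card (n := k * (N + 1)) (by rw [Nat.card_fun, hk, pow_mul, Nat.card_fin])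
  haveI : Finite (SemidirectProduct (Fin (N + 1) → W) L ψ) :=
    Finite.of_equiv _ SemidirectProduct.equivProd.symm
  have h := samePrimeGraph_semidirect_of_nonadjacent hψ hpL ψ fun g s hs hsp hn hg v hv =>
    funext fun i => hfix g s hs hsp hn hg (v i) (congrFun hv i)
  obtain ⟨H, iH, iF, ⟨e⟩⟩ := exists_type_model (SemidirectProduct (Fin (N + 1) → W) L ψ)
  refine ⟨H, iH, iF, ?_, h.trans (SamePrimeGraph.of_mulEquiv e)⟩
  rw [← Nat.card_congr e.toEquiv, SemidirectProduct.card, Nat.card_fun, Nat.card_fin]
  have h1 : N + 1 < Nat.card W ^ (N + 1) := Nat.lt_pow_self Finite.one_lt_card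
  calc N < Nat.card W ^ (N + 1) := by omega
    _ ≤ _ := Nat.le_mul_of_pos_right _ Nat.card_pos

/-- A faithful-enough module gives groups of arbitrarily large order with the same prime graph. -/
theorem exists_large_samePrimeGraph {W L : Type*} [CommGroup W] [Finite W] [Nontrivial W] [Group L]
    [Finite L] {p : ℕ} [Fact p.Prime] (hW : IsPGroup p W) (hpL : p ∣ Nat.card L) (φ : L →* MulAut W)
    (hfix : ∀ g : L, ∀ s : ℕ, s.Prime → s ≠ p → orderOf g = s → ∀ v : W, φ g v = v → v = 1) (N : ℕ) :
    ∃ (H : Type) (_ : Group H) (_ : Fintype H), N < Nat.card H ∧ SamePrimeGraph L H :=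
  exists_large_of_nonadjacent hW hpL φ (fun g s hs hsp _ => hfix g s hs hsp) N

end CfsgLib.Recog
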