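import Cfsg.Agent.Lib.Recog.G2FourNat
import Cfsg.Agent.Lib.Recog.PrimeGraph

/-!
Groups of arbitrarily large order with the prime graph of `G₂(4)`: elements of order 7 and 13 fix
only `0` on the natural module.
-/

set_option autoImplicit false

namespace CfsgLib.Recog.GF4

open Matrix Cfsg.Lie

/-- The group. -/
abbrev G24 : Type := ↥(chevG2.group K4)

/-- Powers, by repeated multiplication on lists of entries. -/
def pw (a : Matrix (Fin 6) (Fin 6) K4) : ℕ → Matrix (Fin 6) (Fin 6) K4
  | 0 => 1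
  | n + 1 => pw a n * a

theorem pw_eq (a : Matrix (Fin 6) (Fin 6) K4) (n : ℕ) : pw a n = a ^ n := by
  induction n with
  | zero => exact (pow_zero a).symm
  | succ n ih => rw [pw, ih, pow_succ]

/-- A matrix with its entries evaluated. -/
def wordY (w : List (Fin 12 × K4)) : Matrix (Fin 6) (Fin 6) K4 :=
  w.foldl (fun m q => m * yMat q.1 q.2) 1

theorem foldl_mul (w : List (Fin 12 × K4)) (m : Matrix (Fin 6) (Fin 6) K4) :
    w.foldl (fun m q => m * yMat q.1 q.2) m =
      m * ((w.map fun q => yU q.1 q.2).prod : GL (Fin 6) K4) := by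
  induction w generalizing m with
  | nil => simp
  | cons q w ih =>
    rw [List.foldl_cons, ih, List.map_cons, List.prod_cons, Units.val_mul, Matrix.mul_assoc]
    rfl

theorem natRep_coe (w : List (Fin 12 × K4)) :
    ((natRep (wordG w) : GL (Fin 6) K4) : Matrix (Fin 6) (Fin 6) K4) = wordY w := by
  rw [natRep_wordG, wordY, foldl_mul, Matrix.one_mul]

theorem natRep_pow_coe (w : List (Fin 12 × K4)) (n : ℕ) :
    ((natRep (wordG w ^ n) : GL (Fin 6) K4) : Matrix (Fin 6) (Fin 6) K4) = pw (wordY w) n := by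
  rw [map_pow, Units.val_pow_eq_pow_val, natRep_coe, pw_eq]

theorem orderOf_wordG (w : List (Fin 12 × K4)) {n : ℕ} (hn : 0 < n) (h1 : pw (wordY w) n = 1)
    (h2 : ∀ m : Fin n, (m : ℕ) ≠ 0 → pw (wordY w) m ≠ 1) : orderOf (wordG w) = n := by
  refine (orderOf_eq_iff hn).2 ⟨?_, fun m hm hm0 e => h2 ⟨m, hm⟩ hm0.ne' ?_⟩
  · apply natRep_injective
    rw [map_one]
    exact Units.ext ((natRep_pow_coe w n).trans h1)
  · show pw (wordY w) m = 1
    rw [← natRep_pow_coe, e, map_one, Units.val_one]

/-- Elements of orders 6, 10, 7 and 13. -/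
def w6 : List (Fin 12 × K4) := [(1, ⟨1⟩), (4, ⟨2⟩), (10, ⟨1⟩)]
/-- An element of order 10. -/
def w10 : List (Fin 12 × K4) := [(2, ⟨3⟩), (9, ⟨3⟩), (1, ⟨3⟩)]
/-- An element of order 7. -/
def w7 : List (Fin 12 × K4) := [(5, ⟨1⟩), (4, ⟨2⟩), (9, ⟨2⟩)]
/-- An element of order 13. -/
def w13 : List (Fin 12 × K4) := [(9, ⟨2⟩), (11, ⟨2⟩), (4, ⟨1⟩), (0, ⟨3⟩)]

theorem orderOf_w6 : orderOf (wordG w6) = 2 * 3 :=
  orderOf_wordG w6 (by norm_num) (by decide +kernel) (by decide +kernel)

theorem orderOf_w10 : orderOf (wordG w10) = 2 * 5 :=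
  orderOf_wordG w10 (by norm_num) (by decide +kernel) (by decide +kernel)

theorem orderOf_w7 : orderOf (wordG w7) = 7 :=
  orderOf_wordG w7 (by norm_num) (by decide +kernel) (by decide +kernel)

theorem orderOf_w13 : orderOf (wordG w13) = 13 :=
  orderOf_wordG w13 (by norm_num) (by decide +kernel) (by decide +kernel)

theorem sum_pow_w7 : (Finset.range 7).sum (pw (wordY w7)) = 0 := by decide +kernel

theorem sum_pow_w13 : (Finset.range 13).sum (pw (wordY w13)) = 0 := by decide +kernel

/-- A fixed vector of an element whose powers sum to `0` over an odd range is `0`. -/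
theorem fixed_eq_zero {a : Matrix (Fin 6) (Fin 6) K4} {n : ℕ} (hodd : (n : K4) = 1)
    (hsum : (Finset.range n).sum (pw a) = 0) {v : Fin 6 → K4} (hv : a *ᵥ v = v) : v = 0 := by
  have h1 : ∀ i, pw a i *ᵥ v = v := fun i => by
    induction i with
    | zero => exact Matrix.one_mulVec v
    | succ i ih => rw [pw, ← Matrix.mulVec_mulVec, hv, ih]
  have h2 : ((Finset.range n).sum (pw a)) *ᵥ v = (n : K4) • v := by
    rw [Matrix.sum_mulVec, Finset.sum_congr rfl (fun i _ => h1 i), Finset.sum_const,
      Finset.card_range, Nat.cast_smul_eq_nsmul]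
  rw [hsum, Matrix.zero_mulVec, hodd, one_smul] at h2
  exact h2.symm

/-- The natural module as a multiplicative group with its action. -/
noncomputable def natAction : G24 →* MulAut (Multiplicative (Fin 6 → K4)) where
  toFun g := AddEquiv.toMultiplicative
    { toFun := fun v => (natRep g : Matrix (Fin 6) (Fin 6) K4) *ᵥ v
      invFun := fun v => ((natRep g)⁻¹ : GL (Fin 6) K4).val *ᵥ v
      left_inv := fun v => by
        show ((natRep g)⁻¹ : GL (Fin 6) K4).val *ᵥ ((natRep g).val *ᵥ v) = v
        rw [Matrix.mulVec_mulVec, ← Units.val_mul, inv_mul_cancel, Units.val_one, Matrix.one_mulVec]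
      right_inv := fun v => by
        show (natRep g).val *ᵥ (((natRep g)⁻¹ : GL (Fin 6) K4).val *ᵥ v) = v
        rw [Matrix.mulVec_mulVec, ← Units.val_mul, mul_inv_cancel, Units.val_one, Matrix.one_mulVec]
      map_add' := fun u v => Matrix.mulVec_add _ u v }
  map_one' := by
    apply MulEquiv.ext
    intro v
    apply Multiplicative.toAdd.injective
    show (natRep (1 : G24)).val *ᵥ (Multiplicative.toAdd v) = Multiplicative.toAdd v
    rw [map_one, Units.val_one, Matrix.one_mulVec]
  map_mul' a b := by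
    apply MulEquiv.ext
    intro v
    apply Multiplicative.toAdd.injective
    show (natRep (a * b)).val *ᵥ (Multiplicative.toAdd v) =
      (natRep a).val *ᵥ ((natRep b).val *ᵥ (Multiplicative.toAdd v))
    rw [map_mul, Units.val_mul, Matrix.mulVec_mulVec]

/-- Elements of a prime order `p` whose square does not divide the order are conjugate into each
other's cyclic groups. -/
theorem exists_conj_zpowers {G : Type*} [Group G] [Finite G] {p : ℕ} [Fact p.Prime]
    (hp : (Nat.card G).factorization p = 1) {t g : G} (ht : orderOf t = p) (hg : orderOf g = p) :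
    ∃ c : G, c * t * c⁻¹ ∈ Subgroup.zpowers g := by
  have hc : ∀ a : G, orderOf a = p →
      Nat.card ↥(Subgroup.zpowers a) = p ^ (Nat.card G).factorization p := fun a ha => by
    rw [Nat.card_zpowers, ha, hp, pow_one]
  obtain ⟨c, hcc⟩ := MulAction.exists_smul_eq G (Sylow.ofCard _ (hc t ht))
    (Sylow.ofCard _ (hc g hg))
  refine ⟨c, ?_⟩
  have h1 : c * t * c⁻¹ ∈ (c • Sylow.ofCard _ (hc t ht) : Sylow p G) :=
    ⟨t, Subgroup.mem_zpowers t, rfl⟩
  rw [hcc] at h1
  exact h1

theorem fixed_of_conj {g : G24} {w : List (Fin 12 × K4)} {c : G24}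
    (hc : c * wordG w * c⁻¹ ∈ Subgroup.zpowers g) {n : ℕ} (hodd : (n : K4) = 1)
    (hsum : (Finset.range n).sum (pw (wordY w)) = 0) {v : Multiplicative (Fin 6 → K4)}
    (hv : natAction g v = v) : v = 1 := by
  have h1 : natAction (c * wordG w * c⁻¹) v = v :=
    (Subgroup.zpowers_le.2 (show g ∈ (MulAction.stabilizer (MulAut (Multiplicative (Fin 6 → K4)))
      v).comap natAction from hv)) hc
  have h2 : natAction (wordG w) (natAction c⁻¹ v) = natAction c⁻¹ v := by
    have e := congrArg (natAction c⁻¹) h1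
    rwa [← MulAut.mul_apply, ← map_mul,
      show c⁻¹ * (c * wordG w * c⁻¹) = wordG w * c⁻¹ by group, map_mul, MulAut.mul_apply] at e
  have h3 : Multiplicative.toAdd (natAction c⁻¹ v) = 0 := by
    refine fixed_eq_zero hodd hsum ?_
    have e : (natRep (wordG w)).val *ᵥ Multiplicative.toAdd (natAction c⁻¹ v) =
        Multiplicative.toAdd (natAction c⁻¹ v) := congrArg Multiplicative.toAdd h2
    rwa [natRep_coe] at e
  exact (natAction c⁻¹).injective ((Multiplicative.toAdd.injective h3).trans (map_one _).symm)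

/-- Groups of arbitrarily large order with the prime graph of `G₂(4)`. -/
theorem exists_large (hcard : Nat.card G24 = 4 ^ 6 * (4 ^ 2 - 1) * (4 ^ 6 - 1)) (N : ℕ) :
    ∃ (H : Type) (_ : Group H) (_ : Fintype H), N < Nat.card H ∧ SamePrimeGraph G24 H := by
  haveI : Fact (Nat.Prime 2) := ⟨Nat.prime_two⟩
  have hW : IsPGroup 2 (Multiplicative (Fin 6 → K4)) := by
    refine IsPGroup.of_card (n := 12) ?_
    rw [Nat.card_eq_fintype_card, Fintype.card_multiplicative, Fintype.card_fun, Fintype.card_fin,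
      card_K4]
    norm_num
  have hn : Nat.card G24 = 2 ^ 12 * 3 ^ 3 * 5 ^ 2 * 7 * 13 := by rw [hcard]; norm_num
  refine exists_large_of_nonadjacent hW (by rw [hn]; norm_num) natAction
    (fun g s hs hs2 hna hg v hv => ?_) N
  have hdvd : s ∣ 2 ^ 12 * 3 ^ 3 * 5 ^ 2 * 7 * 13 := by
    have := orderOf_dvd_natCard g
    rwa [hg, hn] at this
  rcases hs.dvd_mul.1 hdvd with h | h
  · rcases hs.dvd_mul.1 h with h | h
    · rcases hs.dvd_mul.1 h with h | h
      · rcases hs.dvd_mul.1 h with h | h
        · exact absurd ((Nat.prime_dvd_prime_iff_eq hs Nat.prime_two).1 (hs.dvd_of_dvd_pow h)) hs2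
        · obtain rfl := (Nat.prime_dvd_prime_iff_eq hs Nat.prime_three).1 (hs.dvd_of_dvd_pow h)
          exact absurd ⟨_, orderOf_w6⟩ hna
      · obtain rfl := (Nat.prime_dvd_prime_iff_eq hs (by norm_num)).1 (hs.dvd_of_dvd_pow h)
        exact absurd ⟨_, orderOf_w10⟩ hna
    · obtain rfl := (Nat.prime_dvd_prime_iff_eq hs (by norm_num)).1 h
      haveI : Fact (Nat.Prime 7) := ⟨by norm_num⟩
      have hf : (Nat.card G24).factorization 7 = 1 := by
        rw [hn, show (2 : ℕ) ^ 12 * 3 ^ 3 * 5 ^ 2 * 7 * 13 = 7 ^ 1 * 35942400 by norm_num,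
          Nat.factorization_mul (by norm_num) (by norm_num), Finsupp.add_apply,
          Nat.Prime.factorization_pow (by norm_num), Finsupp.single_eq_same,
          Nat.factorization_eq_zero_of_not_dvd (by norm_num)]
      obtain ⟨c, hc⟩ := exists_conj_zpowers hf orderOf_w7 hg
      exact fixed_of_conj hc (n := 7) (by decide +kernel) sum_pow_w7 hv
  · obtain rfl := (Nat.prime_dvd_prime_iff_eq hs (by norm_num)).1 h
    haveI : Fact (Nat.Prime 13) := ⟨by norm_num⟩
    have hf : (Nat.card G24).factorization 13 = 1 := by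
      rw [hn, show (2 : ℕ) ^ 12 * 3 ^ 3 * 5 ^ 2 * 7 * 13 = 13 ^ 1 * 19353600 by norm_num,
        Nat.factorization_mul (by norm_num) (by norm_num), Finsupp.add_apply,
        Nat.Prime.factorization_pow (by norm_num), Finsupp.single_eq_same,
        Nat.factorization_eq_zero_of_not_dvd (by norm_num)]
    obtain ⟨c, hc⟩ := exists_conj_zpowers hf orderOf_w13 hg
    exact fixed_of_conj hc (n := 13) (by decide +kernel) sum_pow_w13 hv

end CfsgLib.Recog.GF4
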