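import Cfsg.Prelude.Def_ChevG2
import Cfsg.Agent.Lib.Recog.GF4
import Mathlib

/-!
The natural 6-dimensional module of `G₂(4)`: the Chevalley group over `K4` (on the 14-dimensional
adjoint module) is the image of a subgroup of `GL₆` under `A ↦ Λ²A` modulo an invariant line.
-/

set_option autoImplicit false
set_option maxHeartbeats 1000000

namespace CfsgLib.Recog.GF4

open Matrix Cfsg.Lie

/-- The six short roots, as root indices. -/
def shortRoot : Fin 6 → Fin 12 := ![2, 3, 4, 7, 8, 9]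

/-- Coordinates of the roots. -/
def rootCoord : Fin 12 → ℤ × ℤ :=
  ![(-3, -2), (-3, -1), (-2, -1), (-1, -1), (-1, 0), (0, -1), (0, 1), (1, 0), (1, 1), (2, 1),
    (3, 1), (3, 2)]

/-- The root element on the natural module. -/
def yMat (r : Fin 12) (t : K4) : Matrix (Fin 6) (Fin 6) K4 := fun i j =>
  if i = j then 1
  else if shortRoot i = r ∧ rootCoord (shortRoot j) = -(rootCoord r) then t * t
  else if rootCoord (shortRoot i) = rootCoord (shortRoot j) + rootCoord r then t
  else 0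

/-- Row index of the adjoint module. -/
abbrev Idx : Type := chevG2.Idx

/-- The pairs `{i, j}` in each row of the projection `Λ² → adjoint`. -/
def pairsH : Fin 2 → List (Fin 6 × Fin 6) :=
  ![[(1, 4), (2, 3), (4, 1), (3, 2)], [(0, 5), (1, 4), (5, 0), (4, 1)]]

/-- The pairs in the root rows. -/
def pairsE : Fin 12 → Fin 6 × Fin 6 :=
  ![(0, 1), (0, 2), (1, 2), (0, 3), (0, 4), (1, 3), (2, 4), (1, 5), (2, 5), (3, 4), (3, 5), (4, 5)]

/-- The support of a row of the projection. -/
def rowList : Idx → List (Fin 6 × Fin 6)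
  | Sum.inl h => pairsH h
  | Sum.inr (e : Fin 12) => [pairsE e, ((pairsE e).2, (pairsE e).1)]

/-- All row indices. -/
def allIdx : List Idx :=
  List.append ((List.finRange 2).map fun h => (Sum.inl h : Idx))
    ((List.finRange 12).map fun e => (Sum.inr e : Idx))

theorem mem_allIdx (p : Idx) : p ∈ allIdx := by
  rcases p with h | e
  · exact List.mem_append_left _ (List.mem_map.2 ⟨h, List.mem_finRange _, rfl⟩)
  · exact List.mem_append_right _ (List.mem_map.2 ⟨e, List.mem_finRange _, rfl⟩)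

/-- The support of a column of the projection. -/
def colList (kl : Fin 6 × Fin 6) : List Idx :=
  allIdx.filter
    fun p => decide (kl ∈ rowList p)

/-- The projection from the tensor square onto the adjoint module. -/
def proj : Matrix Idx (Fin 6 × Fin 6) K4 :=
  Matrix.of fun p ij => if ij ∈ rowList p then 1 else 0

theorem rowList_nodup : ∀ p : Idx, (rowList p).Nodup := by
  decide +kernel

theorem colList_nodup : ∀ kl : Fin 6 × Fin 6, (colList kl).Nodup := by
  decide +kernel

theorem colList_spec (kl : Fin 6 × Fin 6) :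
    (colList kl).Nodup ∧ ∀ p : Idx, p ∈ colList kl ↔ kl ∈ rowList p :=
  ⟨colList_nodup kl, fun p => by simp [colList, mem_allIdx]⟩

theorem sum_ite_list {α : Type} [Fintype α] [DecidableEq α] {l : List α} (hl : l.Nodup)
    (f : α → K4) : (∑ a, if a ∈ l then f a else 0) = (l.map f).sum := by
  rw [← List.sum_toFinset f hl, Finset.sum_ite, Finset.sum_const_zero, add_zero]
  exact Finset.sum_congr (by ext; simp) fun _ _ => rfl

theorem proj_mul_apply (M : Matrix (Fin 6 × Fin 6) (Fin 6 × Fin 6) K4) (p : Idx)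
    (kl : Fin 6 × Fin 6) : (proj * M) p kl = ((rowList p).map fun ij => M ij kl).sum := by
  rw [Matrix.mul_apply, ← sum_ite_list (rowList_nodup p) fun ij => M ij kl]
  exact Finset.sum_congr rfl fun ij _ => by simp [proj, ite_mul]

theorem mul_proj_apply (M : Matrix Idx Idx K4) (p : Idx) (kl : Fin 6 × Fin 6) :
    (M * proj) p kl = ((colList kl).map fun q => M p q).sum := by
  rw [Matrix.mul_apply, ← sum_ite_list (colList_spec kl).1 fun q => M p q]
  exact Finset.sum_congr rfl fun q _ => by simp [proj, (colList_spec kl).2 q, mul_ite]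

/-- A section of the projection. -/
def sect : Matrix (Fin 6 × Fin 6) Idx K4 := Matrix.of fun ij p =>
  match p with
  | Sum.inl h => if ij = ![((2 : Fin 6), (3 : Fin 6)), ((0 : Fin 6), (5 : Fin 6))] h then 1 else 0
  | Sum.inr (e : Fin 12) => if ij = pairsE e then 1 else 0

theorem proj_mul_sect : proj * sect = 1 := by
  decide +kernel

/-- The tensor square. -/
def sq2 (a : Matrix (Fin 6) (Fin 6) K4) : Matrix (Fin 6 × Fin 6) (Fin 6 × Fin 6) K4 :=
  Matrix.of fun ij kl => a ij.1 kl.1 * a ij.2 kl.2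

theorem sq2_eq (a : Matrix (Fin 6) (Fin 6) K4) : sq2 a = Matrix.kronecker a a := rfl

theorem sq2_mul (a b : Matrix (Fin 6) (Fin 6) K4) : sq2 (a * b) = sq2 a * sq2 b := by
  rw [sq2_eq, sq2_eq, sq2_eq]
  exact Matrix.mul_kronecker_mul a b a b

theorem sq2_one : sq2 (1 : Matrix (Fin 6) (Fin 6) K4) = 1 := by
  rw [sq2_eq]
  exact Matrix.one_kronecker_one

/-- The check of the intertwining relation at a root element. -/
def checkGen (r : Fin 12) (t : Fin 4) : Bool :=
  allIdx.all
    fun p => (List.finRange 6).all fun k => (List.finRange 6).all fun l =>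
      decide (((rowList p).map fun ij => sq2 (yMat r ⟨t⟩) ij (k, l)).sum =
        ((colList (k, l)).map fun q => chevG2.xMat K4 r ⟨t⟩ p q).sum)

theorem checkGen_all : ((List.finRange 12).all fun r => (List.finRange 4).all fun t => checkGen r t)
    = true := by
  decide +kernel

theorem yMat_sq : ∀ (r : Fin 12) (t : Fin 4),
    yMat r ⟨t⟩ * yMat r ⟨t⟩ = (1 : Matrix (Fin 6) (Fin 6) K4) := by
  decide +kernel

theorem rel_gen (r : Fin 12) (t : Fin 4) :
    proj * sq2 (yMat r ⟨t⟩) = chevG2.xMat K4 r ⟨t⟩ * proj ∧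
      yMat r ⟨t⟩ * yMat r ⟨t⟩ = (1 : Matrix (Fin 6) (Fin 6) K4) ∧
      chevG2.xMat K4 r ⟨t⟩ * chevG2.xMat K4 r ⟨t⟩ = (1 : Matrix Idx Idx K4) := by
  have h1 : proj * sq2 (yMat r ⟨t⟩) = chevG2.xMat K4 r ⟨t⟩ * proj := by
    ext p ⟨k, l⟩
    rw [proj_mul_apply, mul_proj_apply]
    have := checkGen_all
    simp only [List.all_eq_true, checkGen, decide_eq_true_eq] at this
    exact this r (List.mem_finRange r) t (List.mem_finRange t) p (mem_allIdx p) k
      (List.mem_finRange k) l (List.mem_finRange l)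
  refine ⟨h1, yMat_sq r t, ?_⟩
  have h2 : chevG2.xMat K4 r ⟨t⟩ * chevG2.xMat K4 r ⟨t⟩ * proj = proj := by
    rw [Matrix.mul_assoc, ← h1, ← Matrix.mul_assoc, ← h1, Matrix.mul_assoc, ← sq2_mul, yMat_sq,
      sq2_one, Matrix.mul_one]
  have h3 := congrArg (fun M => M * sect) h2
  simpa only [Matrix.mul_assoc, proj_mul_sect, Matrix.mul_one] using h3

/-- The root element of `GL₆`. -/
def yU (r : Fin 12) (t : K4) : GL (Fin 6) K4 :=
  ⟨yMat r t, yMat r t, (rel_gen r t.val).2.1, (rel_gen r t.val).2.1⟩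

/-- The root element on the adjoint module. -/
def xU (r : Fin 12) (t : K4) : GL Idx K4 :=
  ⟨chevG2.xMat K4 r t, chevG2.xMat K4 r t, (rel_gen r t.val).2.2,
    (rel_gen r t.val).2.2⟩

/-- Compatible pairs. -/
def Rel : Subgroup (GL (Fin 6) K4 × GL Idx K4) where
  carrier := {p | proj * sq2 (p.1 : Matrix (Fin 6) (Fin 6) K4) = (p.2 : Matrix Idx Idx K4) * proj}
  one_mem' := by
    show proj * sq2 (1 : Matrix (Fin 6) (Fin 6) K4) = (1 : Matrix Idx Idx K4) * proj
    rw [sq2_one, Matrix.mul_one, Matrix.one_mul]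
  mul_mem' {a b} ha hb := by
    show proj * sq2 ((a.1 : Matrix (Fin 6) (Fin 6) K4) * (b.1 : Matrix (Fin 6) (Fin 6) K4)) =
      ((a.2 : Matrix Idx Idx K4) * (b.2 : Matrix Idx Idx K4)) * proj
    rw [sq2_mul, ← Matrix.mul_assoc, ha, Matrix.mul_assoc, hb, Matrix.mul_assoc]
  inv_mem' {a} ha := by
    show proj * sq2 ((a.1⁻¹ : GL (Fin 6) K4) : Matrix (Fin 6) (Fin 6) K4) =
      ((a.2⁻¹ : GL Idx K4) : Matrix Idx Idx K4) * proj
    have e1 : sq2 (a.1 : Matrix (Fin 6) (Fin 6) K4) *
        sq2 ((a.1⁻¹ : GL (Fin 6) K4) : Matrix (Fin 6) (Fin 6) K4) = 1 := by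
      rw [← sq2_mul, ← Units.val_mul, mul_inv_cancel, Units.val_one, sq2_one]
    have e2 : ((a.2⁻¹ : GL Idx K4) : Matrix Idx Idx K4) * (a.2 : Matrix Idx Idx K4) = 1 := by
      rw [← Units.val_mul, inv_mul_cancel, Units.val_one]
    calc _ = ((a.2⁻¹ : GL Idx K4) : Matrix Idx Idx K4) * ((a.2 : Matrix Idx Idx K4) * proj) *
          sq2 ((a.1⁻¹ : GL (Fin 6) K4) : Matrix (Fin 6) (Fin 6) K4) := by
            rw [← Matrix.mul_assoc, e2, Matrix.one_mul]
      _ = _ := by rw [← ha, Matrix.mul_assoc, Matrix.mul_assoc, e1, Matrix.mul_one]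

/-- The generators of the graph of the isomorphism. -/
def pairGen : Set (GL (Fin 6) K4 × GL Idx K4) :=
  Set.range fun q : Fin 12 × K4 => (yU q.1 q.2, xU q.1 q.2)

/-- The graph of the isomorphism. -/
def Pair : Subgroup (GL (Fin 6) K4 × GL Idx K4) := Subgroup.closure pairGen

theorem pair_le_rel : Pair ≤ Rel :=
  (Subgroup.closure_le _).2 fun p ⟨⟨r, t⟩, hp⟩ => hp ▸ (rel_gen r t.val).1

theorem pair_map_snd : Pair.map (MonoidHom.snd _ _) = chevG2.group K4 := by
  rw [Pair, MonoidHom.map_closure, ChevalleyDatum.group]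
  congr 1
  ext g
  constructor
  · rintro ⟨_, ⟨⟨r, t⟩, rfl⟩, rfl⟩
    exact ⟨r, t, rfl⟩
  · rintro ⟨r, t, ht⟩
    exact ⟨_, ⟨(r, t), rfl⟩, Units.ext ht.symm⟩

/-- The opposite coordinate. -/
def opp : Fin 6 → Fin 6 := ![5, 4, 3, 2, 1, 0]

theorem pair_index : ∀ i j : Fin 6, i ≠ j → j ≠ opp i →
    ∃ e : Fin 12, ∀ ij : Fin 6 × Fin 6,
      proj (Sum.inr e) ij = if ij = (i, j) ∨ ij = (j, i) then 1 else 0 := by
  decide +kernel

theorem third : ∀ i k : Fin 6, i ≠ k →
    ∃ l, l ≠ k ∧ l ≠ opp k ∧ l ≠ i ∧ i ≠ opp l ∧ (k = opp i → k ≠ opp l) := by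
  decide +kernel

theorem triangle : ∀ k : Fin 6, ∃ l m : Fin 6, l ≠ k ∧ l ≠ opp k ∧ m ≠ k ∧ m ≠ opp k ∧ l ≠ m ∧
    m ≠ opp l := by
  decide +kernel

theorem opp_opp : ∀ i : Fin 6, opp (opp i) = i := by
  decide +kernel

/-- The minors pinned down by the projection. -/
theorem minor_eq {a : Matrix (Fin 6) (Fin 6) K4} (h : proj * sq2 a = proj) {i j : Fin 6}
    (hij : i ≠ j) (ho : j ≠ opp i) (k l : Fin 6) :
    a i k * a j l + a j k * a i l = if (k, l) = (i, j) ∨ (k, l) = (j, i) then 1 else 0 := by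
  obtain ⟨e, he⟩ := pair_index i j hij ho
  have h1 := congrFun (congrFun h (Sum.inr e)) (k, l)
  rw [he, Matrix.mul_apply, Finset.sum_eq_add_of_mem (i, j) (j, i) (Finset.mem_univ _)
    (Finset.mem_univ _) (fun e => hij (congrArg Prod.fst e))] at h1
  · rw [he, he, if_pos (Or.inl rfl), if_pos (Or.inr rfl), one_mul, one_mul] at h1
    exact h1
  · intro c _ hc
    rw [he, if_neg (by tauto), zero_mul]

theorem eq_one_of_proj {a : Matrix (Fin 6) (Fin 6) K4} (h : proj * sq2 a = proj) : a = 1 := by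
  have key : ∀ i k : Fin 6, i ≠ k → i ≠ opp k → a i k = 0 := by
    intro i k hik hio
    obtain ⟨l, h1, h2, h3, h4, -⟩ := third i k hik
    have hko : k ≠ opp i := fun e => hio (by rw [e, opp_opp])
    have e1 := minor_eq h (Ne.symm h1) h2 k l
    have e2 := minor_eq h h3.symm (fun e => h4 (by rw [e, opp_opp])) k l
    have e3 := minor_eq h hik hko k l
    rw [if_pos (Or.inl rfl)] at e1
    rw [if_neg (by simp only [Prod.ext_iff]; tauto)] at e2 e3
    linear_combination (-(a i k)) * e1 + (a k k) * e2 + (-(a l k)) * e3 +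
      (a i k * a l k * a k l) * two_eq_zero
  have key' : ∀ i k : Fin 6, i ≠ k → a i k = 0 := by
    intro i k hik
    by_cases hio : i = opp k
    · obtain ⟨l, h1, h2, h3, h4, h5⟩ := third i k hik
      have hl : a l k = 0 := key l k h1 h2
      have e1 := minor_eq h (Ne.symm h1) h2 k l
      have e2 := minor_eq h h3.symm (fun e => h4 (by rw [e, opp_opp])) k l
      rw [if_pos (Or.inl rfl)] at e1
      rw [if_neg (by simp only [Prod.ext_iff]; tauto)] at e2
      rw [hl, zero_mul, add_zero] at e1 e2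
      linear_combination (-(a i k)) * e1 + (a k k) * e2
    · exact key i k hik hio
  have hd : ∀ k l : Fin 6, l ≠ k → l ≠ opp k → a k k * a l l = 1 := by
    intro k l h1 h2
    have e1 := minor_eq h (Ne.symm h1) h2 k l
    rw [if_pos (Or.inl rfl), key' l k h1, zero_mul, add_zero] at e1
    exact e1
  ext i k
  by_cases hik : i = k
  · subst hik
    obtain ⟨l, m, h1, h2, h3, h4, h5, h6⟩ := triangle i
    have e1 := hd i l h1 h2
    have e2 := hd i m h3 h4
    have e3 := hd l m h5.symm h6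
    rw [Matrix.one_apply_eq]
    have e4 : a i i * a i i = 1 := by
      linear_combination (a i i * a m m) * e1 + e2 + (-(a i i * a i i)) * e3
    have hsq : ∀ t : Fin 4, (⟨t⟩ : K4) * ⟨t⟩ = 1 → (⟨t⟩ : K4) = 1 := by decide +kernel
    exact hsq _ e4
  · rw [key' i k hik, Matrix.one_apply_ne hik]

theorem pair_fst_inj {p : GL (Fin 6) K4 × GL Idx K4} (hp : p ∈ Pair) (h : p.1 = 1) : p = 1 := by
  have e : proj * sq2 (p.1 : Matrix (Fin 6) (Fin 6) K4) = (p.2 : Matrix Idx Idx K4) * proj :=
    pair_le_rel hp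
  rw [h, Units.val_one, sq2_one, Matrix.mul_one] at e
  have e' := congrArg (fun M => M * sect) e
  simp only [Matrix.mul_assoc, proj_mul_sect, Matrix.mul_one] at e'
  exact Prod.ext h (Units.ext e'.symm)

theorem pair_snd_inj {p : GL (Fin 6) K4 × GL Idx K4} (hp : p ∈ Pair) (h : p.2 = 1) : p = 1 := by
  have e : proj * sq2 (p.1 : Matrix (Fin 6) (Fin 6) K4) = (p.2 : Matrix Idx Idx K4) * proj :=
    pair_le_rel hp
  rw [h, Units.val_one, Matrix.one_mul] at e
  exact Prod.ext (Units.ext (eq_one_of_proj e)) h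

/-- The Chevalley group is isomorphic to its graph. -/
noncomputable def pairEquiv : ↥Pair ≃* ↥(chevG2.group K4) :=
  (MulEquiv.ofBijective ((MonoidHom.snd _ _).subgroupMap Pair)
    ⟨(injective_iff_map_eq_one _).2 fun p hp =>
      Subtype.ext (pair_snd_inj p.2 (congrArg Subtype.val hp)),
      MonoidHom.subgroupMap_surjective _ _⟩).trans (MulEquiv.subgroupCongr pair_map_snd)

/-- The natural representation. -/
noncomputable def natRep : ↥(chevG2.group K4) →* GL (Fin 6) K4 :=
  ((MonoidHom.fst _ _).comp Pair.subtype).comp pairEquiv.symm.toMonoidHom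

theorem natRep_injective : Function.Injective natRep := by
  refine (injective_iff_map_eq_one _).2 fun g hg => ?_
  have h1 : pairEquiv.symm g = 1 := Subtype.ext (pair_fst_inj (pairEquiv.symm g).2 hg)
  simpa using congrArg pairEquiv h1

/-- A word in the root elements. -/
noncomputable def wordG (w : List (Fin 12 × K4)) : ↥(chevG2.group K4) :=
  pairEquiv (w.map fun q =>
    (⟨(yU q.1 q.2, xU q.1 q.2), Subgroup.subset_closure ⟨q, rfl⟩⟩ : ↥Pair)).prod

theorem natRep_wordG (w : List (Fin 12 × K4)) :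
    natRep (wordG w) = (w.map fun q => yU q.1 q.2).prod := by
  rw [natRep, wordG, MonoidHom.comp_apply, MulEquiv.toMonoidHom_eq_coe, MonoidHom.coe_coe,
    MulEquiv.symm_apply_apply, map_list_prod, List.map_map]
  rfl

end CfsgLib.Recog.GF4
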