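import Mathlib.Algebra.Field.Defs
import Mathlib.Data.Fintype.Basic
import Mathlib.Data.Fintype.Card
import Mathlib.Algebra.Ring.MinimalAxioms
import Mathlib.Algebra.CharP.Defs

/-! The field with 16 elements on `Fin 16`, with kernel-friendly operations. -/

set_option autoImplicit false

namespace CfsgLib.Recog.GF16

/-- The carrier: polynomials in `w` of degree below 4, `w^4 = w + 1`. -/
structure K16 where
  val : Fin 16
deriving DecidableEq

/-- The product table. -/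
def mulTable : ℕ := 116196760129267793630862849262464326346044543732748708940920453221664288556434379745879494961270582141731748813355742142288220638766218855867759359510984593843506004200114943278699875244065120512813025380665946106619127097398772031257643617143689515450995722003729973585221105779229319991106539050771048038400

/-- The inverse table. -/
def invTable : ℕ := 9460475325918865680

/-- Sum. -/
def add (a b : K16) : K16 := ⟨⟨Nat.xor a.val.1 b.val.1 % 16, Nat.mod_lt _ (by decide)⟩⟩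

/-- Product. -/
def mul (a b : K16) : K16 :=
  ⟨⟨Nat.shiftRight mulTable (4 * (16 * a.val.1 + b.val.1)) % 16, Nat.mod_lt _ (by decide)⟩⟩

/-- Inverse. -/
def inv (a : K16) : K16 :=
  ⟨⟨Nat.shiftRight invTable (4 * a.val.1) % 16, Nat.mod_lt _ (by decide)⟩⟩

instance instFintypeK16 : Fintype K16 :=
  Fintype.ofEquiv (Fin 16) ⟨K16.mk, K16.val, fun _ => rfl, fun _ => rfl⟩

theorem card_K16 : Fintype.card K16 = 16 := rfl

theorem forall_iff {P : K16 → Prop} : (∀ a, P a) ↔ ∀ i : Fin 16, P ⟨i⟩ :=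
  ⟨fun h i => h _, fun h a => h a.val⟩

instance instAddK16 : Add K16 := ⟨add⟩
instance instMulK16 : Mul K16 := ⟨mul⟩
instance instNegK16 : Neg K16 := ⟨id⟩
instance instZeroK16 : Zero K16 := ⟨⟨0⟩⟩
instance instOneK16 : One K16 := ⟨⟨1⟩⟩

theorem add_assoc_aux : ∀ i j k : Fin 16, add (add ⟨i⟩ ⟨j⟩) ⟨k⟩ = add ⟨i⟩ (add ⟨j⟩ ⟨k⟩) := by
  decide +kernel

theorem mul_assoc_aux : ∀ i j k : Fin 16, mul (mul ⟨i⟩ ⟨j⟩) ⟨k⟩ = mul ⟨i⟩ (mul ⟨j⟩ ⟨k⟩) := by
  decide +kernel

theorem left_distrib_aux : ∀ i j k : Fin 16,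
    mul ⟨i⟩ (add ⟨j⟩ ⟨k⟩) = add (mul ⟨i⟩ ⟨j⟩) (mul ⟨i⟩ ⟨k⟩) := by
  decide +kernel

theorem comm_aux : ∀ i j : Fin 16, add ⟨i⟩ ⟨j⟩ = add ⟨j⟩ ⟨i⟩ ∧ mul ⟨i⟩ ⟨j⟩ = mul ⟨j⟩ ⟨i⟩ := by
  decide +kernel

theorem unit_aux : ∀ i : Fin 16, add ⟨0⟩ ⟨i⟩ = ⟨i⟩ ∧ mul ⟨1⟩ ⟨i⟩ = ⟨i⟩ ∧ add ⟨i⟩ ⟨i⟩ = ⟨0⟩ ∧
    (i ≠ 0 → mul ⟨i⟩ (inv ⟨i⟩) = ⟨1⟩) := by
  decide +kernel

instance instCommRingK16 : CommRing K16 :=
  CommRing.ofMinimalAxioms (fun a b c => add_assoc_aux a.val b.val c.val)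
    (fun a => (unit_aux a.val).1) (fun a => (unit_aux a.val).2.2.1)
    (fun a b c => mul_assoc_aux a.val b.val c.val) (fun a b => (comm_aux a.val b.val).2)
    (fun a => (unit_aux a.val).2.1) (fun a b c => left_distrib_aux a.val b.val c.val)

instance instFieldK16 : Field K16 where
  inv := inv
  exists_pair_ne := ⟨0, 1, by decide⟩
  mul_inv_cancel := fun a ha => (unit_aux a.val).2.2.2 fun h => ha (congrArg K16.mk h)
  inv_zero := rfl
  nnqsmul := _
  nnqsmul_def := fun _ _ => rfl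
  qsmul := _
  qsmul_def := fun _ _ => rfl

theorem add_self (a : K16) : a + a = 0 := (unit_aux a.val).2.2.1

theorem neg_eq (a : K16) : -a = a := rfl

/-- The involutory automorphism `x ↦ x^4`. -/
def bar (a : K16) : K16 := mul (mul a a) (mul a a)

theorem pow_four (a : K16) : a ^ 4 = bar a := by
  show a ^ 4 = (a * a) * (a * a)
  simp only [pow_succ, pow_zero, one_mul, mul_assoc]

end CfsgLib.Recog.GF16
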