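import Mathlib.Algebra.Field.Defs
import Mathlib.Data.Fintype.Basic
import Mathlib.Data.Fintype.Card
import Mathlib.Algebra.Ring.MinimalAxioms
import Mathlib.Algebra.CharP.Defs

/-! The field with 8 elements on `Fin 8`, with kernel-friendly operations. -/

set_option autoImplicit false

namespace CfsgLib.Recog.GF8

/-- The carrier: polynomials in `w` of degree below 3, `w^3 = w + 1`. -/
structure K8 where
  val : Fin 8
deriving DecidableEq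

/-- The product table. -/
def mulTable : ℕ := 2821848294356612419217921029917578219971947684264937521152

/-- The inverse table. -/
def invTable : ℕ := 9272648

/-- Sum. -/
def add (a b : K8) : K8 := ⟨⟨Nat.xor a.val.1 b.val.1 % 8, Nat.mod_lt _ (by decide)⟩⟩

/-- Product. -/
def mul (a b : K8) : K8 :=
  ⟨⟨Nat.shiftRight mulTable (3 * (8 * a.val.1 + b.val.1)) % 8, Nat.mod_lt _ (by decide)⟩⟩

/-- Inverse. -/
def inv (a : K8) : K8 :=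
  ⟨⟨Nat.shiftRight invTable (3 * a.val.1) % 8, Nat.mod_lt _ (by decide)⟩⟩

instance instFintypeK8 : Fintype K8 :=
  Fintype.ofEquiv (Fin 8) ⟨K8.mk, K8.val, fun _ => rfl, fun _ => rfl⟩

theorem card_K8 : Fintype.card K8 = 8 := rfl

theorem forall_iff {P : K8 → Prop} : (∀ a, P a) ↔ ∀ i : Fin 8, P ⟨i⟩ :=
  ⟨fun h i => h _, fun h a => h a.val⟩

instance instAddK8 : Add K8 := ⟨add⟩
instance instMulK8 : Mul K8 := ⟨mul⟩
instance instNegK8 : Neg K8 := ⟨id⟩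
instance instZeroK8 : Zero K8 := ⟨⟨0⟩⟩
instance instOneK8 : One K8 := ⟨⟨1⟩⟩

theorem add_assoc_aux : ∀ i j k : Fin 8, add (add ⟨i⟩ ⟨j⟩) ⟨k⟩ = add ⟨i⟩ (add ⟨j⟩ ⟨k⟩) := by
  decide +kernel

theorem mul_assoc_aux : ∀ i j k : Fin 8, mul (mul ⟨i⟩ ⟨j⟩) ⟨k⟩ = mul ⟨i⟩ (mul ⟨j⟩ ⟨k⟩) := by
  decide +kernel

theorem left_distrib_aux : ∀ i j k : Fin 8,
    mul ⟨i⟩ (add ⟨j⟩ ⟨k⟩) = add (mul ⟨i⟩ ⟨j⟩) (mul ⟨i⟩ ⟨k⟩) := by
  decide +kernel

theorem comm_aux : ∀ i j : Fin 8, add ⟨i⟩ ⟨j⟩ = add ⟨j⟩ ⟨i⟩ ∧ mul ⟨i⟩ ⟨j⟩ = mul ⟨j⟩ ⟨i⟩ := by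
  decide +kernel

theorem unit_aux : ∀ i : Fin 8, add ⟨0⟩ ⟨i⟩ = ⟨i⟩ ∧ mul ⟨1⟩ ⟨i⟩ = ⟨i⟩ ∧ add ⟨i⟩ ⟨i⟩ = ⟨0⟩ ∧
    (i ≠ 0 → mul ⟨i⟩ (inv ⟨i⟩) = ⟨1⟩) := by
  decide +kernel

instance instCommRingK8 : CommRing K8 :=
  CommRing.ofMinimalAxioms (fun a b c => add_assoc_aux a.val b.val c.val)
    (fun a => (unit_aux a.val).1) (fun a => (unit_aux a.val).2.2.1)
    (fun a b c => mul_assoc_aux a.val b.val c.val) (fun a b => (comm_aux a.val b.val).2)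
    (fun a => (unit_aux a.val).2.1) (fun a b c => left_distrib_aux a.val b.val c.val)

instance instFieldK8 : Field K8 where
  inv := inv
  exists_pair_ne := ⟨0, 1, by decide⟩
  mul_inv_cancel := fun a ha => (unit_aux a.val).2.2.2 fun h => ha (congrArg K8.mk h)
  inv_zero := rfl
  nnqsmul := _
  nnqsmul_def := fun _ _ => rfl
  qsmul := _
  qsmul_def := fun _ _ => rfl

theorem add_self (a : K8) : a + a = 0 := (unit_aux a.val).2.2.1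

theorem neg_eq (a : K8) : -a = a := rfl

end CfsgLib.Recog.GF8
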