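import Cfsg.Agent.Lib.Recog.G2FourGraph
import Mathlib

/-!
Tools for computing prime graphs: commuting elements of prime orders, central extensions, semidirect
products.
-/

set_option autoImplicit false

namespace CfsgLib.Recog

/-- An element of order `r * s` gives commuting elements of orders `r` and `s`. -/
theorem exists_commute_of_orderOf_mul {G : Type*} [Group G] [Finite G] {r s : ℕ} (hr : 0 < r)
    (hs : 0 < s) {y : G} (hy : orderOf y = r * s) :
    ∃ u v : G, orderOf u = r ∧ orderOf v = s ∧ u * v = v * u := by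
  refine ⟨y ^ s, y ^ r, ?_, ?_, ((Commute.refl y).pow_pow s r).eq⟩
  · rw [orderOf_pow' _ hs.ne', hy, Nat.gcd_eq_right (dvd_mul_left _ _), Nat.mul_div_cancel _ hs]
  · rw [orderOf_pow' _ hr.ne', hy, Nat.gcd_eq_right (dvd_mul_right _ _),
      Nat.mul_div_cancel_left _ hr]

/-- No element of order `r * s` in `G ⧸ Z(G)`, `|Z(G)| ∣ 2`, when the elements commuting with one
element `t` of the odd prime order `r` have `k`-th power central and `s ∤ k`. -/
theorem no_orderOf_mul_center_quotient {G : Type*} [Group G] [Finite G] {r s k : ℕ}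
    [Fact r.Prime] (hr2 : r ≠ 2) (hs : s.Prime) (hsk : ¬ s ∣ k)
    (hZ : ∀ z ∈ Subgroup.center G, z ^ 2 = 1) (hfac : (Nat.card G).factorization r = 1) {t : G}
    (ht : orderOf t = r) (hC : ∀ x : G, x * t = t * x → x ^ k ∈ Subgroup.center G) :
    ¬ ∃ y : G ⧸ Subgroup.center G, orderOf y = r * s := by
  rintro ⟨y, hy⟩
  have hr := (Fact.out : r.Prime)
  obtain ⟨u, v, hu, hv, huv⟩ := exists_commute_of_orderOf_mul hr.pos hs.pos hy
  obtain ⟨a0, ha0⟩ := QuotientGroup.mk'_surjective (Subgroup.center G) u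
  obtain ⟨b, hb⟩ := QuotientGroup.mk'_surjective (Subgroup.center G) v
  have hodd : Odd r := hr.odd_of_ne_two hr2
  have h0 : a0 ^ r ∈ Subgroup.center G := by
    rw [← QuotientGroup.eq_one_iff]
    show QuotientGroup.mk' (Subgroup.center G) (a0 ^ r) = 1
    rw [map_pow, ha0, ← hu, pow_orderOf_eq_one]
  set a := a0 ^ (r + 1) with ha
  have har : a ^ r = 1 := by
    obtain ⟨q, hq⟩ := (Odd.add_one hodd).two_dvd
    rw [ha, ← pow_mul, mul_comm, pow_mul, hq, pow_mul, hZ _ h0, one_pow]
  have hau : QuotientGroup.mk' (Subgroup.center G) a = u := by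
    rw [ha, map_pow, ha0, pow_succ, ← hu, pow_orderOf_eq_one, one_mul]
  have hao : orderOf a = r := by
    refine orderOf_eq_prime har fun h => ?_
    rw [h, map_one] at hau
    rw [← hau, orderOf_one] at hu
    exact hr.one_lt.ne hu
  set z := a⁻¹ * (b * a * b⁻¹) with hz
  have hzc : z ∈ Subgroup.center G := by
    rw [← QuotientGroup.eq_one_iff]
    show QuotientGroup.mk' (Subgroup.center G) z = 1
    rw [hz, map_mul, map_mul, map_mul, map_inv, map_inv, hau, hb, ← huv, mul_assoc u v,
      mul_inv_cancel, mul_one, inv_mul_cancel]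
  have hconj : b * a * b⁻¹ = a * z := by rw [hz]; group
  have hzr : z ^ r = 1 := by
    have h1 : (a * z) ^ r = 1 := by rw [← hconj, conj_pow, har, mul_one, mul_inv_cancel]
    have hcomm : Commute a z := Subgroup.mem_center_iff.1 hzc a
    rwa [hcomm.mul_pow, har, one_mul] at h1
  have hz1 : z = 1 := by
    have h1 := orderOf_dvd_of_pow_eq_one hzr
    have h2 := orderOf_dvd_of_pow_eq_one (hZ z hzc)
    exact orderOf_eq_one_iff.1 (Nat.eq_one_of_dvd_coprimes
      ((Nat.coprime_primes hr Nat.prime_two).2 hr2) h1 h2)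
  have hba : Commute b a := by
    rw [hz1, mul_one, mul_inv_eq_iff_eq_mul] at hconj
    exact hconj
  obtain ⟨c, hc⟩ := GF4.exists_conj_zpowers hfac ht hao
  obtain ⟨i, hi⟩ := Subgroup.mem_zpowers_iff.1 hc
  have hbt : (c⁻¹ * b * c) * t = t * (c⁻¹ * b * c) := by
    have h1 : b * (c * t * c⁻¹) = (c * t * c⁻¹) * b := by rw [← hi]; exact (hba.zpow_right i).eq
    calc _ = c⁻¹ * (b * (c * t * c⁻¹)) * c := by group
      _ = c⁻¹ * ((c * t * c⁻¹) * b) * c := by rw [h1]
      _ = _ := by group
  have hbk : b ^ k ∈ Subgroup.center G := by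
    have h1 := hC _ hbt
    have h2 : (c⁻¹ * b * c) ^ k = c⁻¹ * b ^ k * c := by
      have := conj_pow (a := c⁻¹) (b := b) (i := k)
      rwa [inv_inv] at this
    rw [h2] at h1
    have h3 : c * (c⁻¹ * b ^ k * c) * c⁻¹ = b ^ k := by group
    rw [← h3]
    exact Subgroup.Normal.conj_mem inferInstance _ h1 c
  have : v ^ k = 1 := by
    rw [← hb, ← map_pow]
    exact (QuotientGroup.eq_one_iff _).2 hbk
  exact hsk (hv ▸ orderOf_dvd_of_pow_eq_one this)

/-- The order of the image modulo the centre. -/
theorem orderOf_mk_center {G : Type*} [Group G] {x : G} {n : ℕ} (hn : 0 < n)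
    (h1 : x ^ n ∈ Subgroup.center G) (h2 : ∀ m < n, 0 < m → x ^ m ∉ Subgroup.center G) :
    orderOf (QuotientGroup.mk' (Subgroup.center G) x) = n := by
  refine (orderOf_eq_iff hn).2 ⟨?_, fun m hm hm0 h => h2 m hm hm0 ?_⟩
  · rw [← map_pow]; exact (QuotientGroup.eq_one_iff _).2 h1
  · rw [← map_pow] at h; exact (QuotientGroup.eq_one_iff _).1 h

/-- Element orders `r * s` in `V ⋊ L`, `V` a `p`-group: they come from `L`, or one of `r`, `s` is `p`
and an element of the other order fixes a nontrivial vector. -/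
theorem semidirect_adj {V L : Type*} [CommGroup V] [Finite V] [Group L] [Finite L] {p : ℕ}
    [Fact p.Prime] (hexp : ∀ v : V, v ^ p = 1) (φ : L →* MulAut V) {r s : ℕ} (hr : r.Prime)
    (hs : s.Prime) (hne : r ≠ s) :
    (∃ y : SemidirectProduct V L φ, orderOf y = r * s) ↔
      (∃ g : L, orderOf g = r * s) ∨
      (r = p ∧ ∃ g : L, orderOf g = s ∧ ∃ v : V, v ≠ 1 ∧ φ g v = v) ∨
      (s = p ∧ ∃ g : L, orderOf g = r ∧ ∃ v : V, v ≠ 1 ∧ φ g v = v) := by
  have hp : p.Prime := Fact.out
  constructor
  · rintro ⟨y, hy⟩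
    by_contra hcon
    push Not at hcon
    obtain ⟨hL, h1, h2⟩ := hcon
    set π : SemidirectProduct V L φ →* L := SemidirectProduct.rightHom
    -- the projection of a commuting pair
    have key : ∀ a b : ℕ, a.Prime → b.Prime → a ≠ b → ∀ u w : SemidirectProduct V L φ,
        orderOf u = a → orderOf w = b → u * w = w * u → π u = 1 →
        (a = p → ∀ g : L, orderOf g = b → ∀ v : V, v ≠ 1 → φ g v ≠ v) → False := by
      intro a b ha hb hab u w hu hw huw hπ hfree
      obtain ⟨v, rfl⟩ : ∃ v : V, SemidirectProduct.inl v = u := ⟨u.left, by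
        apply SemidirectProduct.ext
        · simp
        · exact (SemidirectProduct.right_inl (φ := φ) u.left).trans hπ.symm⟩
      rw [orderOf_injective _ (SemidirectProduct.inl_injective (φ := φ))] at hu
      have hap : a = p := (Nat.prime_dvd_prime_iff_eq ha hp).1
        (hu ▸ orderOf_dvd_of_pow_eq_one (hexp v))
      have hgb : orderOf (π w) = b := by
        rcases (Nat.dvd_prime hb).1 (hw ▸ orderOf_map_dvd π w) with h | h
        · exfalso
          have hw' : SemidirectProduct.inl w.left = w := by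
            apply SemidirectProduct.ext
            · simp
            · exact (SemidirectProduct.right_inl (φ := φ) w.left).trans
                (orderOf_eq_one_iff.1 h).symm
          have h3 : orderOf w ∣ p := by
            rw [← hw', orderOf_injective _ (SemidirectProduct.inl_injective (φ := φ))]
            exact orderOf_dvd_of_pow_eq_one (hexp _)
          rw [hw] at h3
          exact hab (hap.trans ((Nat.prime_dvd_prime_iff_eq hb hp).1 h3).symm)
        · exact h
      have hfix : φ (π w) v = v := by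
        have h3 := congrArg SemidirectProduct.left huw
        simp only [SemidirectProduct.mul_left, SemidirectProduct.left_inl,
          SemidirectProduct.right_inl, map_one, MulAut.one_apply] at h3
        rw [mul_comm] at h3
        exact (mul_left_cancel h3).symm
      refine hfree hap (π w) hgb v (fun h => ?_) hfix
      rw [h, orderOf_one] at hu
      exact ha.one_lt.ne hu
    haveI : Finite (SemidirectProduct V L φ) := Finite.of_equiv _ SemidirectProduct.equivProd.symm
    obtain ⟨u, w, hu, hw, huw⟩ := exists_commute_of_orderOf_mul hr.pos hs.pos hy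
    by_cases hπu : π u = 1
    · exact key r s hr hs hne u w hu hw huw hπu fun e g hg v hv => h1 e g hg v hv
    · by_cases hπw : π w = 1
      · exact key s r hs hr hne.symm w u hw hu huw.symm hπw fun e g hg v hv => h2 e g hg v hv
      · refine hL (π u * π w) ?_
        have h3 : orderOf (π u) = r := ((Nat.dvd_prime hr).1 (hu ▸ orderOf_map_dvd π u)).resolve_left
          fun h => hπu (orderOf_eq_one_iff.1 h)
        have h4 : orderOf (π w) = s := ((Nat.dvd_prime hs).1 (hw ▸ orderOf_map_dvd π w)).resolve_left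
          fun h => hπw (orderOf_eq_one_iff.1 h)
        have hc : Commute (π u) (π w) := by
          show π u * π w = π w * π u
          rw [← map_mul, huw, map_mul]
        rw [hc.orderOf_mul_eq_mul_orderOf_of_coprime
          (by rw [h3, h4]; exact (Nat.coprime_primes hr hs).2 hne), h3, h4]
  · have mix : ∀ b : ℕ, b.Prime → b ≠ p →
        (∃ g : L, orderOf g = b ∧ ∃ v : V, v ≠ 1 ∧ φ g v = v) →
        ∃ y : SemidirectProduct V L φ, orderOf y = p * b := by
      rintro b hb hbp ⟨g, hg, v, hv, hfix⟩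
      have hov : orderOf (SemidirectProduct.inl v : SemidirectProduct V L φ) = p := by
        rw [orderOf_injective _ SemidirectProduct.inl_injective]
        exact orderOf_eq_prime (hexp v) hv
      have hog : orderOf (SemidirectProduct.inr g : SemidirectProduct V L φ) = b := by
        rw [orderOf_injective _ SemidirectProduct.inr_injective, hg]
      have hc : Commute (SemidirectProduct.inl v : SemidirectProduct V L φ)
          (SemidirectProduct.inr g) := by
        apply SemidirectProduct.ext <;> simp [hfix]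
      refine ⟨SemidirectProduct.inl v * SemidirectProduct.inr g, ?_⟩
      rw [hc.orderOf_mul_eq_mul_orderOf_of_coprime
        (by rw [hov, hog]; exact (Nat.coprime_primes hp hb).2 hbp.symm), hov, hog]
    rintro (⟨g, hg⟩ | ⟨rfl, h⟩ | ⟨rfl, h⟩)
    · exact ⟨SemidirectProduct.inr g, by
        rw [orderOf_injective _ SemidirectProduct.inr_injective, hg]⟩
    · exact mix s hs hne.symm h
    · obtain ⟨y, hy⟩ := mix r hr hne h
      exact ⟨y, by rw [hy, mul_comm]⟩

/-- The pairs 2-3, 2-5, 2-7, 3-5 in either order. -/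
def AdjSix (r s : ℕ) : Prop :=
  (r = 2 ∧ (s = 3 ∨ s = 5 ∨ s = 7)) ∨ (s = 2 ∧ (r = 3 ∨ r = 5 ∨ r = 7)) ∨
    (r = 3 ∧ s = 5) ∨ (r = 5 ∧ s = 3)

/-- The primes 2, 3, 5, 7, 13. -/
def PrimesSix (r : ℕ) : Prop := r = 2 ∨ r = 3 ∨ r = 5 ∨ r = 7 ∨ r = 13

/-- A group has the prime graph of `PSp(6,3)` from five nonedge and four edge facts. -/
theorem adjSix_of {G : Type*} [Group G] [Finite G]
    (hprimes : ∀ r : ℕ, r.Prime → r ∣ Nat.card G → PrimesSix r)
    (h6 : ∃ x : G, orderOf x = 2 * 3) (h10 : ∃ x : G, orderOf x = 2 * 5)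
    (h14 : ∃ x : G, orderOf x = 2 * 7) (h15 : ∃ x : G, orderOf x = 3 * 5)
    (h13 : ∀ s : ℕ, s.Prime → s ≠ 13 → ¬ ∃ x : G, orderOf x = 13 * s)
    (h21 : ¬ ∃ x : G, orderOf x = 7 * 3) (h35 : ¬ ∃ x : G, orderOf x = 7 * 5) {r s : ℕ}
    (hr : r.Prime) (hs : s.Prime) (hne : r ≠ s) :
    (∃ x : G, orderOf x = r * s) ↔ AdjSix r s := by
  constructor
  · rintro ⟨x, hx⟩
    have hd := orderOf_dvd_natCard x
    rw [hx] at hd
    have h1 := hprimes r hr (dvd_of_mul_right_dvd hd)
    have h2 := hprimes s hs (dvd_of_mul_left_dvd hd)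
    by_cases hr13 : r = 13
    · subst hr13; exact absurd ⟨x, hx⟩ (h13 s hs hne.symm)
    by_cases hs13 : s = 13
    · subst hs13; exact absurd ⟨x, by rw [hx, mul_comm]⟩ (h13 r hr hne)
    rcases h1 with rfl | rfl | rfl | rfl | rfl <;> rcases h2 with rfl | rfl | rfl | rfl | rfl <;>
      first
        | exact absurd rfl hne
        | exact absurd rfl hr13
        | exact absurd rfl hs13
        | (unfold AdjSix; omega)
        | exact (h21 ⟨x, by omega⟩).elim
        | exact (h35 ⟨x, by omega⟩).elim
  · have flip : ∀ {a b : ℕ}, (∃ x : G, orderOf x = a * b) → ∃ x : G, orderOf x = b * a :=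
      fun {a b} ⟨x, hx⟩ => ⟨x, by rw [hx, mul_comm]⟩
    rintro (⟨rfl, rfl | rfl | rfl⟩ | ⟨rfl, rfl | rfl | rfl⟩ | ⟨rfl, rfl⟩ | ⟨rfl, rfl⟩)
    · exact h6
    · exact h10
    · exact h14
    · exact flip h6
    · exact flip h10
    · exact flip h14
    · exact h15
    · exact flip h15

end CfsgLib.Recog
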