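import Mathlib.LinearAlgebra.FreeModule.Finite.Basic
import Mathlib.LinearAlgebra.Determinant
import Mathlib.LinearAlgebra.FiniteDimensional.Lemmas
import Mathlib.LinearAlgebra.Projection
import Mathlib.LinearAlgebra.Basis.VectorSpace

/-! Extending linear maps given on a subspace. -/

namespace CfsgLib.Recog

open Module

variable {K V : Type*} [Field K] [AddCommGroup V] [Module K V] [FiniteDimensional K V]

/-- Two linearly independent families of the same size are related by an automorphism. -/
theorem exists_linearEquiv_of_li {ι : Type*} [Fintype ι] {v w : ι → V}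
    (hv : LinearIndependent K v) (hw : LinearIndependent K w) :
    ∃ A : V ≃ₗ[K] V, ∀ i, A (v i) = w i := by
  classical
  obtain ⟨p, hp⟩ := (Submodule.span K (Set.range v)).exists_isCompl
  obtain ⟨q, hq⟩ := (Submodule.span K (Set.range w)).exists_isCompl
  have hfp := Submodule.finrank_add_eq_of_isCompl hp
  have hfq := Submodule.finrank_add_eq_of_isCompl hq
  rw [finrank_span_eq_card hv] at hfp
  rw [finrank_span_eq_card hw] at hfq
  let e : p ≃ₗ[K] q := LinearEquiv.ofFinrankEq p q (by omega)
  let f := (Basis.span hv).equiv (Basis.span hw) (Equiv.refl ι)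
  refine ⟨(Submodule.prodEquivOfIsCompl _ _ hp).symm.trans
    ((f.prodCongr e).trans (Submodule.prodEquivOfIsCompl _ _ hq)), fun i => ?_⟩
  have h1 : (Submodule.prodEquivOfIsCompl _ _ hp).symm (v i) = (Basis.span hv i, 0) := by
    rw [LinearEquiv.symm_apply_eq]
    simp [Submodule.coe_prodEquivOfIsCompl', Basis.span_apply]
  simp only [LinearEquiv.trans_apply, h1, LinearEquiv.prodCongr_apply, map_zero,
    Submodule.coe_prodEquivOfIsCompl', f, Basis.equiv_apply, Equiv.refl_apply, Basis.span_apply]
  have h3 : (⟨v i, Submodule.subset_span (Set.mem_range_self i)⟩ : Submodule.span K (Set.range v)) = Basis.span hv i :=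
    Subtype.ext (by simp [Basis.span_apply])
  rw [h3, Basis.equiv_apply]
  simp [Basis.span_apply]

/-- A nonzero vector can be moved to any other. -/
theorem exists_linearEquiv_apply_eq {u w : V} (hu : u ≠ 0) (hw : w ≠ 0) :
    ∃ A : V ≃ₗ[K] V, A u = w := by
  have h : ∀ z : V, z ≠ 0 → LinearIndependent K (fun _ : Fin 1 => z) :=
    fun z hz => LinearIndependent.of_subsingleton (ι := Fin 1) 0 hz
  obtain ⟨A, hA⟩ := exists_linearEquiv_of_li (h u hu) (h w hw)
  exact ⟨A, hA 0⟩

/-- An automorphism fixing a proper subspace pointwise can have any determinant. -/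
theorem exists_fix_with_det {U : Submodule K V} (hU : U ≠ ⊤) (c : Kˣ) :
    ∃ S : V ≃ₗ[K] V, (∀ x ∈ U, S x = x) ∧ LinearMap.det (S : V →ₗ[K] V) = c := by
  obtain ⟨q, hq⟩ := U.exists_isCompl
  have hq0 : 0 < finrank K q := by
    have h := Submodule.finrank_add_eq_of_isCompl hq
    have := Submodule.finrank_lt hU
    omega
  let b := finBasis K q
  let u : Fin (finrank K q) → Kˣ := Function.update 1 ⟨0, hq0⟩ c
  let D : q ≃ₗ[K] q := b.equiv (b.unitsSMul u) (Equiv.refl _)
  have hD : LinearMap.det (D : q →ₗ[K] q) = c := by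
    classical
    rw [← LinearMap.det_toMatrix b]
    have : LinearMap.toMatrix b b (D : q →ₗ[K] q) = Matrix.diagonal (fun i => (u i : K)) := by
      ext i j
      simp only [LinearMap.toMatrix_apply, LinearEquiv.coe_coe, D, Basis.equiv_apply,
        Equiv.refl_apply, Basis.unitsSMul_apply, Units.smul_def, map_smul, Basis.repr_self,
        Finsupp.smul_apply, Finsupp.single_apply, Matrix.diagonal_apply, smul_eq_mul]
      split_ifs <;> simp_all
    rw [this, Matrix.det_diagonal, Finset.prod_eq_single ⟨0, hq0⟩]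
    · simp [u]
    · intro i _ hi; simp [u, hi]
    · simp
  let P := Submodule.prodEquivOfIsCompl _ _ hq
  refine ⟨P.symm.trans (((LinearEquiv.refl K U).prodCongr D).trans P), fun x hx => ?_, ?_⟩
  · have h1 : P.symm x = (⟨x, hx⟩, 0) := by
      rw [LinearEquiv.symm_apply_eq]; simp [P]
    simp only [LinearEquiv.trans_apply, h1, LinearEquiv.prodCongr_apply, map_zero,
      LinearEquiv.refl_apply]
    simp [P]
  · have h2 : ((P.symm.trans (((LinearEquiv.refl K U).prodCongr D).trans P) : V ≃ₗ[K] V) : V →ₗ[K] V)
        = (P : (U × q) →ₗ[K] V).comp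
          ((LinearMap.prodMap (LinearMap.id : U →ₗ[K] U) (D : q →ₗ[K] q)).comp (P.symm : V →ₗ[K] U × q)) := rfl
    rw [h2, LinearMap.det_conj, LinearMap.det_prodMap, LinearMap.det_id, one_mul, hD]

end CfsgLib.Recog
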