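import Cfsg.Agent.Lib.Recog.ThompsonWielandt
import Mathlib.GroupTheory.GroupAction.Primitive
import Mathlib.GroupTheory.GroupAction.Quotient

/-!
Kernels of the orbital graphs of a primitive group, the index bound, and the Thompson–Wielandt
theorem for them.
-/

set_option autoImplicit false
set_option linter.style.haveILetI false
set_option linter.unusedVariables false
set_option linter.unusedSectionVars false

namespace CfsgLib.Recog.TW

open Subgroup MulAction
open CfsgLib.Components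

variable {G Ω : Type*} [Group G] [MulAction G Ω]

/-- The orbital relation of `(a, b)`. -/
def orb (G : Type*) {Ω : Type*} [Group G] [MulAction G Ω] (a b : Ω) : Ω → Ω → Prop :=
  fun u v => ∃ g : G, g • a = u ∧ g • b = v

theorem flip_orb (a b : Ω) : flip (orb G a b) = orb G b a := by
  funext u v
  exact propext ⟨fun ⟨g, h1, h2⟩ => ⟨g, h2, h1⟩, fun ⟨g, h1, h2⟩ => ⟨g, h2, h1⟩⟩

theorem orb_self (a b : Ω) : orb G a b a b := ⟨1, one_smul _ _, one_smul _ _⟩

/-- Invariance of a relation. -/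
def Inv (G : Type*) {Ω : Type*} [Group G] [MulAction G Ω] (r : Ω → Ω → Prop) : Prop :=
  ∀ (g : G) (u v : Ω), r u v → r (g • u) (g • v)

theorem inv_orb (a b : Ω) : Inv G (orb G a b) := by
  rintro g u v ⟨h, rfl, rfl⟩
  exact ⟨g * h, mul_smul _ _ _, mul_smul _ _ _⟩

theorem Inv.flip {r : Ω → Ω → Prop} (hr : Inv G r) : Inv G (flip r) :=
  fun g u v h => hr g v u h

/-- The out-neighbours. -/
def out (r : Ω → Ω → Prop) (a : Ω) : Set Ω := {v | r a v}

/-- The pointwise stabilizer of a point and its out-neighbours. -/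
def K (G : Type*) {Ω : Type*} [Group G] [MulAction G Ω] (r : Ω → Ω → Prop) (a : Ω) : Subgroup G :=
  stabilizer G a ⊓ fixingSubgroup G (out r a)

/-- The kernel `K_a` intersected with the kernels of the paired graph at the out-neighbours. -/
def RR (G : Type*) {Ω : Type*} [Group G] [MulAction G Ω] (r : Ω → Ω → Prop) (a : Ω) : Subgroup G :=
  K G r a ⊓ ⨅ b ∈ out r a, K G (flip r) b

theorem mem_K_iff {r : Ω → Ω → Prop} {a : Ω} {x : G} :
    x ∈ K G r a ↔ x • a = a ∧ ∀ v, r a v → x • v = v := by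
  simp only [K, mem_inf, mem_stabilizer_iff, mem_fixingSubgroup_iff, out, Set.mem_setOf_eq]

theorem mem_RR_iff {r : Ω → Ω → Prop} {a : Ω} {x : G} :
    x ∈ RR G r a ↔ x ∈ K G r a ∧ ∀ b, r a b → x ∈ K G (flip r) b := by
  simp only [RR, mem_inf, mem_iInf, out, Set.mem_setOf_eq]

theorem conj_mem_K {r : Ω → Ω → Prop} (hr : Inv G r) {a : Ω} {x : G} (g : G)
    (hx : x ∈ K G r a) : g * x * g⁻¹ ∈ K G r (g • a) := by
  rw [mem_K_iff] at hx ⊢
  refine ⟨by rw [mul_smul, mul_smul, inv_smul_smul, hx.1], fun v hv => ?_⟩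
  have h1 := hr g⁻¹ _ _ hv
  rw [inv_smul_smul] at h1
  rw [mul_smul, mul_smul, hx.2 _ h1, smul_inv_smul]

theorem conj_mem_RR {r : Ω → Ω → Prop} (hr : Inv G r) {a : Ω} {x : G} (g : G)
    (hx : x ∈ RR G r a) : g * x * g⁻¹ ∈ RR G r (g • a) := by
  rw [mem_RR_iff] at hx ⊢
  refine ⟨conj_mem_K hr g hx.1, fun b hb => ?_⟩
  have h1 := hr g⁻¹ _ _ hb
  rw [inv_smul_smul] at h1
  have h2 := conj_mem_K hr.flip g (hx.2 _ h1)
  rwa [smul_inv_smul] at h2

theorem map_conj_of_equivariant {F : Ω → Subgroup G}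
    (h : ∀ (g : G) (a : Ω) (x : G), x ∈ F a → g * x * g⁻¹ ∈ F (g • a)) (g : G) (a : Ω) :
    (F a).map (MulAut.conj g).toMonoidHom = F (g • a) := by
  ext y
  constructor
  · rintro ⟨x, hx, rfl⟩
    exact h g a x hx
  · intro hy
    refine ⟨g⁻¹ * y * g, ?_, ?_⟩
    · have h2 := h g⁻¹ (g • a) y hy
      rwa [inv_smul_smul, inv_inv] at h2
    · show g * (g⁻¹ * y * g) * g⁻¹ = y
      group

theorem map_conj_K {r : Ω → Ω → Prop} (hr : Inv G r) (g : G) (a : Ω) :
    (K G r a).map (MulAut.conj g).toMonoidHom = K G r (g • a) :=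
  map_conj_of_equivariant (fun g a x hx => conj_mem_K hr g hx) g a

theorem map_conj_RR {r : Ω → Ω → Prop} (hr : Inv G r) (g : G) (a : Ω) :
    (RR G r a).map (MulAut.conj g).toMonoidHom = RR G r (g • a) :=
  map_conj_of_equivariant (fun g a x hx => conj_mem_RR hr g hx) g a

theorem map_conj_stabilizer (g : G) (a : Ω) :
    (stabilizer G a).map (MulAut.conj g).toMonoidHom = stabilizer G (g • a) :=
  (stabilizer_smul_eq_stabilizer_map_conj g a).symm

theorem stabilizer_le_normalizer_K {r : Ω → Ω → Prop} (hr : Inv G r) (a : Ω) :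
    stabilizer G a ≤ normalizer (K G r a : Set G) := fun g hg =>
  mem_normalizer_of_map_eq (by rw [map_conj_K hr, mem_stabilizer_iff.mp hg])

theorem stabilizer_le_normalizer_RR {r : Ω → Ω → Prop} (hr : Inv G r) (a : Ω) :
    stabilizer G a ≤ normalizer (RR G r a : Set G) := fun g hg =>
  mem_normalizer_of_map_eq (by rw [map_conj_RR hr, mem_stabilizer_iff.mp hg])

theorem K_le_stabilizer (r : Ω → Ω → Prop) (a : Ω) : K G r a ≤ stabilizer G a := inf_le_left

theorem K_le_stabilizer_out {r : Ω → Ω → Prop} {a b : Ω} (hab : r a b) :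
    K G r a ≤ stabilizer G b := fun _ hx => (mem_K_iff.mp hx).2 b hab

theorem RR_le_K (r : Ω → Ω → Prop) (a : Ω) : RR G r a ≤ K G r a := inf_le_left

theorem RR_le_K_flip {r : Ω → Ω → Prop} {a b : Ω} (hab : r a b) :
    RR G r a ≤ K G (flip r) b := fun _ hx => (mem_RR_iff.mp hx).2 b hab

theorem RR_isSubnormal {r : Ω → Ω → Prop} (hr : Inv G r) {a b : Ω} (hab : r a b) :
    ((RR G r a).subgroupOf (stabilizer G b)).IsSubnormal := by
  have hRY : RR G r a ≤ K G (flip r) b := RR_le_K_flip hab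
  have hYA : K G (flip r) b ≤ stabilizer G a := K_le_stabilizer_out (r := flip r) hab
  have hYB : K G (flip r) b ≤ stabilizer G b := K_le_stabilizer _ _
  refine IsSubnormal.trans (fun x hx => hRY hx : (RR G r a).subgroupOf (stabilizer G b) ≤
    (K G (flip r) b).subgroupOf (stabilizer G b)) ?_
    ((normal_subgroupOf_iff_le_normalizer hYB).mpr (stabilizer_le_normalizer_K hr.flip b)).isSubnormal
  have hle : ((RR G r a).subgroupOf (stabilizer G b)).subgroupOf
      ((K G (flip r) b).subgroupOf (stabilizer G b)) =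
      ((RR G r a).subgroupOf (K G (flip r) b)).comap
        (subgroupOfEquivOfLe hYB).toMonoidHom := by
    ext x; rfl
  rw [hle]
  exact (((normal_subgroupOf_iff_le_normalizer hRY).mpr
    (hYA.trans (stabilizer_le_normalizer_RR hr a))).comap _).isSubnormal

/-- A stabilizer in a faithful primitive group contains the normalizer of each of its nontrivial
normal subgroups. -/
theorem normalizer_le_stabilizer [FaithfulSMul G Ω] [Nontrivial Ω] (hprim : IsPreprimitive G Ω)
    (v : Ω) (U : Subgroup G) (hU : U ≠ ⊥) (hle : U ≤ stabilizer G v)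
    (hn : stabilizer G v ≤ normalizer (U : Set G)) :
    normalizer (U : Set G) ≤ stabilizer G v := by
  haveI := hprim
  rcases eq_or_lt_of_le hn with h | h
  · exact h.symm.le
  · exfalso
    have htop := (IsPreprimitive.isCoatom_stabilizer_of_isPreprimitive G v).2 _ h
    refine hU (le_bot_iff.mp fun u hu => mem_bot.mpr (FaithfulSMul.eq_of_smul_eq_smul
      fun w : Ω => ?_))
    obtain ⟨g, rfl⟩ := exists_smul_eq G v w
    have hg : g⁻¹ * u * g ∈ U := by
      have h1 : g⁻¹ ∈ normalizer (U : Set G) := htop ▸ mem_top _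
      have h2 := (mem_normalizer_iff.mp h1 u).mp hu
      rwa [inv_inv] at h2
    have h3 := mem_stabilizer_iff.mp (hle hg)
    rw [mul_smul, mul_smul, inv_smul_eq_iff] at h3
    rw [h3, one_smul]

theorem config [FaithfulSMul G Ω] [Nontrivial Ω] (hprim : IsPreprimitive G Ω)
    {r : Ω → Ω → Prop} (hr : Inv G r) {a b : Ω} (hab : r a b)
    (hne : stabilizer G a ≠ stabilizer G b) (hR : RR G r a ≠ ⊥)
    (hR' : RR G (flip r) b ≠ ⊥) :
    Config (stabilizer G a) (stabilizer G b) (RR G r a) (RR G (flip r) b) where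
  ne := hne
  maxA := normalizer_le_stabilizer hprim a
  maxB := normalizer_le_stabilizer hprim b
  conj := by
    haveI := hprim
    obtain ⟨g, hg⟩ := exists_smul_eq G a b
    exact ⟨g, by rw [map_conj_stabilizer, hg]⟩
  R_ne := hR
  R_le := le_inf ((RR_le_K r a).trans (K_le_stabilizer r a))
    ((RR_le_K r a).trans (K_le_stabilizer_out hab))
  R_norm := stabilizer_le_normalizer_RR hr a
  R_sn := RR_isSubnormal hr hab
  R'_ne := hR'
  R'_le := le_inf ((RR_le_K _ b).trans (K_le_stabilizer_out (r := flip r) hab))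
    ((RR_le_K _ b).trans (K_le_stabilizer _ b))
  R'_norm := stabilizer_le_normalizer_RR hr.flip b
  R'_sn := RR_isSubnormal hr.flip hab

/-! ### Indices -/

/-- The kernel of the action of `H` on a finite family of invariant sets. -/
theorem relIndex_fixing_dvd [Finite Ω] {ι : Type*} [Fintype ι] (H : Subgroup G) (S : ι → Set Ω)
    (hS : ∀ i, ∀ x ∈ H, ∀ v ∈ S i, x • v ∈ S i) :
    (H ⊓ ⨅ i, fixingSubgroup G (S i)).relIndex H ∣
      ∏ i, Nat.factorial (Nat.card ↥(S i)) := by
  classical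
  have hiff : ∀ i (x : ↥H) (v : Ω), (x : G) • v ∈ S i ↔ v ∈ S i := fun i x v =>
    ⟨fun h => by
      have := hS i (x⁻¹ : ↥H) (x⁻¹).2 _ h
      rwa [InvMemClass.coe_inv, inv_smul_smul] at this, hS i x x.2 v⟩
  let φ : ↥H →* ∀ i, Equiv.Perm ↥(S i) :=
    MonoidHom.mk' (fun x i => (MulAction.toPerm (x : G)).subtypePerm (hiff i x)) fun x y => by
      funext i
      ext v
      exact mul_smul (x : G) (y : G) (v : Ω)
  have hker : φ.ker = (H ⊓ ⨅ i, fixingSubgroup G (S i)).subgroupOf H := by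
    ext x
    simp only [MonoidHom.mem_ker, mem_subgroupOf, mem_inf, mem_iInf, mem_fixingSubgroup_iff]
    constructor
    · intro hx
      refine ⟨x.2, fun i v hv => ?_⟩
      exact congrArg Subtype.val (Equiv.Perm.congr_fun (congrFun hx i) ⟨v, hv⟩)
    · rintro ⟨-, hx⟩
      funext i
      ext v
      exact hx i v v.2
  show ((H ⊓ ⨅ i, fixingSubgroup G (S i)).subgroupOf H).index ∣ _
  rw [← hker, index_ker]
  refine (card_subgroup_dvd_card _).trans (dvd_of_eq ?_)
  rw [Nat.card_pi]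
  exact Finset.prod_congr rfl fun i _ => Nat.card_perm

theorem relIndex_K_dvd [Finite Ω] {r : Ω → Ω → Prop} (hr : Inv G r) (a : Ω) :
    (K G r a).relIndex (stabilizer G a) ∣ Nat.factorial (Nat.card ↥(out r a)) := by
  have h := relIndex_fixing_dvd (ι := Unit) (stabilizer G a) (fun _ => out r a)
    fun _ x hx v hv => by
      have := hr x a v hv
      rwa [mem_stabilizer_iff.mp hx] at this
  simpa [K, ciInf_unique] using h

theorem relIndex_RR_dvd [Finite Ω] {r : Ω → Ω → Prop} (hr : Inv G r) (a : Ω) (d : ℕ)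
    (hout : Nat.card ↥(out r a) = d)
    (hin : ∀ b, r a b → Nat.card ↥(out (flip r) b) = d) :
    (RR G r a).relIndex (stabilizer G a) ∣ Nat.factorial d * (Nat.factorial (d - 1)) ^ d := by
  classical
  haveI : Fintype ↥(out r a) := Fintype.ofFinite _
  set S : ↥(out r a) → Set Ω := fun b => out (flip r) b \ {a} with hS
  have hinv : ∀ i, ∀ x ∈ K G r a, ∀ v ∈ S i, x • v ∈ S i := by
    intro b x hx v hv
    have hxb : x • (b : Ω) = b := (mem_K_iff.mp hx).2 b b.2
    refine ⟨?_, fun h => hv.2 ?_⟩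
    · have := hr x v b hv.1
      rwa [hxb] at this
    · have h' : x • v = x • a := h.trans (mem_K_iff.mp hx).1.symm
      exact smul_left_cancel x h'
  have h := relIndex_fixing_dvd (K G r a) S hinv
  have heq : K G r a ⊓ ⨅ i, fixingSubgroup G (S i) = RR G r a := by
    ext x
    simp only [mem_inf, mem_iInf, mem_fixingSubgroup_iff, mem_RR_iff]
    refine ⟨fun hx => ⟨hx.1, fun b hb => mem_K_iff.mpr ⟨(mem_K_iff.mp hx.1).2 b hb,
      fun v hv => ?_⟩⟩, fun hx => ⟨hx.1, fun i v hv => (mem_K_iff.mp (hx.2 i i.2)).2 v hv.1⟩⟩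
    by_cases hva : v = a
    · rw [hva]; exact (mem_K_iff.mp hx.1).1
    · exact hx.2 ⟨b, hb⟩ v ⟨hv, hva⟩
  have hcard : ∀ i, Nat.card ↥(S i) = d - 1 := by
    intro b
    rw [Nat.card_coe_set_eq, hS, Set.ncard_diff_singleton_of_mem (show a ∈ out (flip r) b from b.2),
      ← Nat.card_coe_set_eq, hin b b.2]
  rw [heq, Finset.prod_congr rfl (fun i _ => by rw [hcard i]), Finset.prod_const,
    Finset.card_univ, ← Nat.card_eq_fintype_card, hout] at h
  rw [← relIndex_mul_relIndex _ _ _ (RR_le_K r a) (K_le_stabilizer r a), mul_comm]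
  refine Nat.mul_dvd_mul ?_ h
  have := relIndex_K_dvd (G := G) hr a
  rwa [hout] at this

theorem out_orb_eq (a b : Ω) : out (orb G a b) a = orbit ↥(stabilizer G a) b := by
  ext v
  constructor
  · rintro ⟨g, hga, rfl⟩
    exact ⟨⟨g, hga⟩, rfl⟩
  · rintro ⟨g, rfl⟩
    exact ⟨(g : G), g.2, rfl⟩

theorem card_orbit_stabilizer [Finite G] (a b : Ω) :
    Nat.card ↥(orbit ↥(stabilizer G a) b) *
      Nat.card ↥(stabilizer G a ⊓ stabilizer G b) = Nat.card ↥(stabilizer G a) := by
  have h1 : stabilizer ↥(stabilizer G a) b = (stabilizer G b).subgroupOf (stabilizer G a) := by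
    ext x; rfl
  have h2 : Nat.card ↥(orbit ↥(stabilizer G a) b) =
      (stabilizer G b).relIndex (stabilizer G a) := by
    rw [Nat.card_coe_set_eq, ← index_stabilizer, h1]; rfl
  rw [h2, mul_comm, ← relIndex_bot_left, ← relIndex_bot_left,
    ← inf_relIndex_left (stabilizer G a) (stabilizer G b),
    relIndex_mul_relIndex _ _ _ bot_le inf_le_left]

theorem card_out_smul {r : Ω → Ω → Prop} (hr : Inv G r) (g : G) (a : Ω) :
    Nat.card ↥(out r (g • a)) = Nat.card ↥(out r a) := by
  have h : out r (g • a) = (g • ·) '' out r a := by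
    ext v
    constructor
    · intro hv
      refine ⟨g⁻¹ • v, ?_, smul_inv_smul _ _⟩
      have := hr g⁻¹ _ _ hv
      rwa [inv_smul_smul] at this
    · rintro ⟨w, hw, rfl⟩
      exact hr g _ _ hw
  rw [h, Nat.card_image_of_injective (MulAction.injective g)]

/-- All in- and out-degrees of an orbital equal the length of the suborbit. -/
theorem card_out_orb [Finite G] (hprim : IsPreprimitive G Ω) (a b v : Ω) {d : ℕ}
    (hd : Nat.card ↥(orbit ↥(stabilizer G a) b) = d) :
    Nat.card ↥(out (orb G a b) v) = d ∧ Nat.card ↥(out (flip (orb G a b)) v) = d := by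
  haveI := hprim
  obtain ⟨g, rfl⟩ := exists_smul_eq G a v
  refine ⟨by rw [card_out_smul (inv_orb a b), out_orb_eq, hd], ?_⟩
  obtain ⟨h, hh⟩ := exists_smul_eq G b (g • a)
  obtain ⟨k, hk⟩ := exists_smul_eq G a b
  rw [← hh, card_out_smul (inv_orb a b).flip, flip_orb, out_orb_eq]
  have e1 := card_orbit_stabilizer (G := G) a b
  have e2 := card_orbit_stabilizer (G := G) b a
  have e3 : Nat.card ↥(stabilizer G b) = Nat.card ↥(stabilizer G a) := by
    rw [← hk, ← map_conj_stabilizer, card_map_conj]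
  rw [hd] at e1
  rw [inf_comm, e3, ← e1] at e2
  exact Nat.eq_of_mul_eq_mul_right Nat.card_pos e2

theorem ne_of_two_le (a b : Ω) {d : ℕ} (hd : Nat.card ↥(orbit ↥(stabilizer G a) b) = d)
    (h2 : 2 ≤ d) : a ≠ b ∧ stabilizer G a ≠ stabilizer G b := by
  have key : ¬ (stabilizer G a ≤ stabilizer G b) := by
    intro hle
    have : orbit ↥(stabilizer G a) b = {b} := by
      ext v
      constructor
      · rintro ⟨g, rfl⟩
        exact mem_stabilizer_iff.mp (hle g.2)
      · rintro rfl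
        exact mem_orbit_self _
    rw [this] at hd
    simp at hd
    omega
  exact ⟨fun h => key (h ▸ le_rfl), fun h => key (h ▸ le_rfl)⟩

/-! ### The second part -/

/-- The subgroup generated by the `p'`-elements of a subgroup. -/
def Wp (p : ℕ) (R : Subgroup G) : Subgroup G :=
  closure {x : G | x ∈ R ∧ (orderOf x).Coprime p}

theorem Wp_le (p : ℕ) (R : Subgroup G) : Wp p R ≤ R := (closure_le _).mpr fun _ hx => hx.1

theorem le_normalizer_Wp [Finite G] (p : ℕ) {R : Subgroup G} {g : G}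
    (h : ∀ x ∈ R, (orderOf x).Coprime p → g * x * g⁻¹ ∈ R) :
    g ∈ normalizer (Wp p R : Set G) := by
  refine mem_normalizer_of_map_conj fun y hy => ?_
  have : (Wp p R).map (MulAut.conj g).toMonoidHom ≤ Wp p R := by
    rw [Wp, MonoidHom.map_closure]
    refine closure_mono ?_
    rintro _ ⟨x, ⟨hx, hxo⟩, rfl⟩
    refine ⟨h x hx hxo, ?_⟩
    rwa [show orderOf ((MulAut.conj g).toMonoidHom x) = orderOf x from MulEquiv.orderOf_eq _ _]
  exact this ⟨y, hy, rfl⟩

theorem Wp_ne_bot [Finite G] {p : ℕ} [hp : Fact p.Prime] {R : Subgroup G}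
    (hR : ¬ IsPGroup p ↥R) : Wp p R ≠ ⊥ := by
  intro h
  refine hR fun x => ?_
  obtain ⟨k, m, hm, hxm⟩ :=
    Nat.exists_eq_pow_mul_and_not_dvd (orderOf_pos (x : G)).ne' p hp.out.ne_one
  refine ⟨k, Subtype.ext ?_⟩
  have hdiv : p ^ k ∣ orderOf (x : G) := hxm ▸ dvd_mul_right _ _
  have ho : orderOf ((x : G) ^ p ^ k) = m := by
    rw [orderOf_pow_of_dvd (pow_ne_zero _ hp.out.ne_zero) hdiv, hxm,
      Nat.mul_div_cancel_left _ (pow_pos hp.out.pos k)]
  have hmem : (x : G) ^ p ^ k ∈ Wp p R := subset_closure ⟨R.pow_mem x.2 _, by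
    rw [ho]; exact (hp.out.coprime_iff_not_dvd.mpr hm).symm⟩
  rw [h] at hmem
  exact mem_bot.mp hmem

theorem stabilizer_le_normalizer_Wp [Finite G] {r : Ω → Ω → Prop} (hr : Inv G r) (p : ℕ) (a : Ω) :
    stabilizer G a ≤ normalizer (Wp p (RR G r a) : Set G) := fun g hg =>
  le_normalizer_Wp p fun x hx _ =>
    (mem_normalizer_iff.mp (stabilizer_le_normalizer_RR hr a hg) x).mp hx

theorem isPGroup_RR_smul {r : Ω → Ω → Prop} (hr : Inv G r) {p : ℕ} (g : G) {a : Ω}
    (h : IsPGroup p ↥(RR G r a)) : IsPGroup p ↥(RR G r (g • a)) := by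
  rw [← map_conj_RR hr]; exact h.map _

theorem O_le_stabilizer [Finite G] [FaithfulSMul G Ω] [Nontrivial Ω]
    (hprim : IsPreprimitive G Ω) {r : Ω → Ω → Prop} (hr : Inv G r) {p : ℕ} [Fact p.Prime]
    {v w : Ω} (hvw : r v w) (hR : ¬ IsPGroup p ↥(RR G r v)) :
    O p (stabilizer G w) ≤ stabilizer G v := by
  intro q hq
  set Y := K G (flip r) w with hY
  set R := RR G r v with hRdef
  have hRY : R ≤ Y := RR_le_K_flip hvw
  have hYB : Y ≤ stabilizer G w := K_le_stabilizer _ _
  have hYA : Y ≤ stabilizer G v := K_le_stabilizer_out (r := flip r) hvw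
  have hqB : q ∈ stabilizer G w := O_le p _ hq
  refine normalizer_le_stabilizer hprim v _ (Wp_ne_bot hR)
    ((Wp_le p R).trans ((RR_le_K r v).trans (K_le_stabilizer r v)))
    (stabilizer_le_normalizer_Wp hr p v) ?_
  refine le_normalizer_Wp p fun x hx hxo => ?_
  have hu1 : q * x * q⁻¹ * x⁻¹ ∈ Y := Y.mul_mem
    ((mem_normalizer_iff.mp (stabilizer_le_normalizer_K hr.flip w hqB) x).mp (hRY hx))
    (Y.inv_mem (hRY hx))
  have hu2 : q * x * q⁻¹ * x⁻¹ ∈ O p (stabilizer G w) := by
    rw [show q * x * q⁻¹ * x⁻¹ = q * (x * q⁻¹ * x⁻¹) by group]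
    exact mul_mem hq ((mem_normalizer_iff.mp (le_normalizer_O p _ (hYB (hRY hx))) _).mp
      (inv_mem hq))
  set u := q * x * q⁻¹ * x⁻¹ with hu
  have hun : u ∈ normalizer (R : Set G) := stabilizer_le_normalizer_RR hr v (hYA hu1)
  have hr' : u * x * u⁻¹ ∈ R := (mem_normalizer_iff.mp hun x).mp hx
  have he : q * x * q⁻¹ = (u * x * u⁻¹) * u := by rw [hu]; group
  rw [he]
  refine mem_of_coprime_mul (U := Y ⊓ O p (stabilizer G w))
    ((isPGroup_O p _).to_le inf_le_right)
    (inf_le_left.trans (hYA.trans (stabilizer_le_normalizer_RR hr v))) hr' ⟨hu1, hu2⟩ ?_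
  rwa [← he, show orderOf (q * x * q⁻¹) = orderOf x from MulEquiv.orderOf_eq (MulAut.conj q) x]

/-- The Thompson–Wielandt theorem, second part. -/
theorem not_both [Finite G] [FaithfulSMul G Ω] [Nontrivial Ω] (hprim : IsPreprimitive G Ω)
    {r : Ω → Ω → Prop} (hr : Inv G r) {a b : Ω} (hab : r a b)
    (hne : stabilizer G a ≠ stabilizer G b) {p : ℕ} [Fact p.Prime]
    (hO : O p (stabilizer G a) ≠ ⊥) (hR : ¬ IsPGroup p ↥(RR G r a))
    (hR' : ¬ IsPGroup p ↥(RR G (flip r) a)) : False := by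
  haveI := hprim
  have hall : ∀ {s : Ω → Ω → Prop}, Inv G s → ¬ IsPGroup p ↥(RR G s a) →
      ∀ v, ¬ IsPGroup p ↥(RR G s v) := fun hs h v hv => by
    obtain ⟨g, hg⟩ := exists_smul_eq G v a
    exact h (hg ▸ isPGroup_RR_smul hs g hv)
  set Y := K G (flip r) b with hY
  have hYB : Y ≤ stabilizer G b := K_le_stabilizer _ _
  -- `O_p(G_z) ≤ Y` for each in-neighbour `z` of `b`
  have key : ∀ z, r z b → O p (stabilizer G z) ≤ Y := by
    intro z hzb
    have hzB : O p (stabilizer G z) ≤ stabilizer G b :=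
      O_le_stabilizer hprim hr.flip (v := b) (w := z) hzb (hall hr.flip hR' b)
    intro t ht
    refine mem_K_iff.mpr ⟨mem_stabilizer_iff.mp (hzB ht), fun v hv => ?_⟩
    change t ∈ stabilizer G v
    have hvb : r v b := hv
    have hYv : Y ≤ stabilizer G v := K_le_stabilizer_out (r := flip r) hvb
    have hYz : Y ≤ stabilizer G z := K_le_stabilizer_out (r := flip r) hzb
    set R := RR G r v with hRdef
    have hRY : R ≤ Y := RR_le_K_flip hvb
    refine normalizer_le_stabilizer hprim v _ (Wp_ne_bot (hall hr hR v))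
      ((Wp_le p R).trans ((RR_le_K r v).trans (K_le_stabilizer r v)))
      (stabilizer_le_normalizer_Wp hr p v) ?_
    refine mem_normalizer_of_map_conj fun y hy => ?_
    suffices hmap : (Wp p R).map (MulAut.conj t).toMonoidHom ≤ Wp p R from hmap ⟨y, hy, rfl⟩
    rw [Wp, MonoidHom.map_closure, closure_le]
    rintro _ ⟨x, ⟨hx, hxo⟩, rfl⟩
    show t * x * t⁻¹ ∈ Wp p R
    set Q := O p (stabilizer G z) with hQ
    have hxW : x ∈ Wp p R := subset_closure ⟨hx, hxo⟩
    have hnQ : zpowers x ≤ normalizer (Q : Set G) :=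
      ((zpowers_le).mpr (hYz (hRY hx))).trans (le_normalizer_O p _)
    have h1 : ⁅Q, zpowers x⁆ ≤ Q ⊓ Y := by
      refine le_inf (le_normalizer_iff_commutator_le_left.mp hnQ) ?_
      refine (commutator_mono le_rfl ((zpowers_le).mpr (hRY hx))).trans ?_
      exact le_normalizer_iff_commutator_le_right.mp
        (hzB.trans (stabilizer_le_normalizer_K hr.flip b))
    have h2 : ⁅⁅Q, zpowers x⁆, zpowers x⁆ ≤ Wp p R := by
      refine (commutator_mono (h1.trans inf_le_right) ((zpowers_le).mpr hxW)).trans ?_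
      exact le_normalizer_iff_commutator_le_right.mp
        (hYv.trans (stabilizer_le_normalizer_Wp hr p v))
    have hcop : (Nat.card ↥(zpowers x)).Coprime (Nat.card ↥Q) := by
      obtain ⟨n, hn⟩ := (isPGroup_O p (stabilizer G z)).exists_card_eq
      rw [Nat.card_zpowers, hQ, hn]
      exact hxo.pow_right n
    rw [CfsgLib.Solvable.commutator_commutator_eq hnQ hcop
      (Or.inl inferInstance)] at h2
    have h3 : t * x * t⁻¹ * x⁻¹ ∈ Wp p R :=
      h2 (commutator_mem_commutator ht (mem_zpowers x))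
    have := mul_mem h3 hxW
    rwa [inv_mul_cancel_right] at this
  set P := O p (stabilizer G a) with hP
  have hPY : P ≤ Y := key a hab
  have hYA : Y ≤ stabilizer G a := K_le_stabilizer_out (r := flip r) hab
  have hPQ : P ≤ O p (stabilizer G b) := by
    refine le_O_of_isSubnormal (hPY.trans hYB) ?_ (isPGroup_O p _)
    refine IsSubnormal.trans (fun x hx => hPY hx : P.subgroupOf (stabilizer G b) ≤
      Y.subgroupOf (stabilizer G b)) ?_
      ((normal_subgroupOf_iff_le_normalizer hYB).mpr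
        (stabilizer_le_normalizer_K hr.flip b)).isSubnormal
    have hle : (P.subgroupOf (stabilizer G b)).subgroupOf (Y.subgroupOf (stabilizer G b)) =
        (P.subgroupOf Y).comap (subgroupOfEquivOfLe hYB).toMonoidHom := by
      ext x; rfl
    rw [hle]
    exact (((normal_subgroupOf_iff_le_normalizer hPY).mpr
      (hYA.trans (le_normalizer_O p _))).comap _).isSubnormal
  obtain ⟨g, hg⟩ := exists_smul_eq G a b
  have heq : P = O p (stabilizer G b) := by
    refine eq_of_le_of_card_ge hPQ (le_of_eq ?_)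
    rw [← hg, ← map_conj_stabilizer, ← O_map_conj, card_map_conj]
  have hA : stabilizer G b ≤ stabilizer G a :=
    (heq ▸ le_normalizer_O p (stabilizer G b)).trans (normalizer_le_stabilizer hprim a P hO
      (O_le p _) (le_normalizer_O p _))
  have hB : stabilizer G a ≤ stabilizer G b :=
    (le_normalizer_O p (stabilizer G a)).trans (normalizer_le_stabilizer hprim b P hO
      (heq ▸ O_le p _) (heq ▸ le_normalizer_O p _))
  exact hne (le_antisymm hB hA)

/-- The Thompson–Wielandt theorem for an orbital. -/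
theorem dichotomy [Finite G] [FaithfulSMul G Ω] (hprim : IsPreprimitive G Ω) (a b : Ω) {d : ℕ}
    (hd : Nat.card ↥(orbit ↥(stabilizer G a) b) = d) (h2 : 2 ≤ d) :
    RR G (orb G a b) a = ⊥ ∨ RR G (flip (orb G a b)) a = ⊥ ∨
      ∃ p : ℕ, p.Prime ∧
        Cfsg.generalizedFittingSubgroup ↥(stabilizer G a) = Cfsg.pCore p ↥(stabilizer G a) ∧
        (∀ t : ℕ, t.Prime → t ≠ p → O t (stabilizer G a) = ⊥) ∧
        O p (RR G (orb G a b) a) ≠ ⊥ ∧
        (IsPGroup p ↥(RR G (orb G a b) a) ∨ IsPGroup p ↥(RR G (flip (orb G a b)) a)) := by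
  obtain ⟨hab, hne⟩ := ne_of_two_le (G := G) a b hd h2
  haveI : Nontrivial Ω := ⟨⟨a, b, hab⟩⟩
  haveI := hprim
  rw [or_iff_not_imp_left]
  intro hR
  rw [or_iff_not_imp_left]
  intro hR'
  have hr := inv_orb (G := G) a b
  obtain ⟨g, hg⟩ := exists_smul_eq G a b
  have hR'b : RR G (flip (orb G a b)) b ≠ ⊥ := by
    rw [← hg, ← map_conj_RR (inv_orb a (g • a)).flip, Ne,
      map_eq_bot_iff_of_injective _ (MulAut.conj g).injective, hg]
    exact hR'
  have hc := config hprim hr (orb_self a b) hne hR hR'b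
  obtain ⟨p, hp, hgf, hO, hpR, -⟩ := hc.exists_prime
  haveI := Fact.mk hp
  refine ⟨p, hp, hgf, hO, hpR, ?_⟩
  by_contra hcon
  push Not at hcon
  exact not_both hprim hr (orb_self a b) hne
    (fun h => hpR (le_bot_iff.mp ((hc.O_R_le_O_A p).trans h.le))) hcon.1 hcon.2

end CfsgLib.Recog.TW
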