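import Cfsg.Agent.Lib.Recog.SL2Module
import Mathlib.FieldTheory.Finite.GaloisField
import Mathlib.Tactic.FinCases
import Mathlib.Tactic.NormNum.Prime

/-! `PSL(2, 7)` and `SL(2, 8)` have the same prime graph: three isolated vertices `2`, `3`, `7`. -/

set_option autoImplicit false

namespace CfsgLib.Recog

open Matrix

/-- `chebU t n`: the coefficient in `g ^ (n + 1) = chebU t (n + 1) • g - chebU t n • 1`. -/
def chebU {R : Type*} [CommRing R] (t : R) : ℕ → R
  | 0 => 0
  | 1 => 1
  | n + 2 => t * chebU t (n + 1) - chebU t n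

theorem map_chebU {R S : Type*} [CommRing R] [CommRing S] (f : R →+* S) (t : R) :
    ∀ n, f (chebU t n) = chebU (f t) n
  | 0 => by simp [chebU]
  | 1 => by simp [chebU]
  | n + 2 => by simp only [chebU, map_sub, map_mul, map_chebU f t (n + 1), map_chebU f t n]

theorem sl2_pow_succ {R : Type*} [CommRing R] (g : SpecialLinearGroup (Fin 2) R) (n : ℕ) :
    ((g ^ (n + 1) : SpecialLinearGroup (Fin 2) R) : Matrix (Fin 2) (Fin 2) R) =
      chebU ((g : Matrix (Fin 2) (Fin 2) R).trace) (n + 1) • (g : Matrix (Fin 2) (Fin 2) R) -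
        chebU ((g : Matrix (Fin 2) (Fin 2) R).trace) n • (1 : Matrix (Fin 2) (Fin 2) R) := by
  induction n with
  | zero => simp [chebU]
  | succ n ih =>
    have hsq : (g : Matrix (Fin 2) (Fin 2) R) * g =
        ((g : Matrix (Fin 2) (Fin 2) R).trace) • (g : Matrix (Fin 2) (Fin 2) R) - 1 := by
      have hdet := g.det_coe
      rw [det_fin_two] at hdet
      ext i j
      fin_cases i <;> fin_cases j <;>
        simp only [mul_apply, Fin.sum_univ_two, trace_fin_two, Matrix.sub_apply, Matrix.smul_apply, smul_eq_mul, Matrix.one_apply,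
          Fin.isValue, Fin.zero_eta, Fin.mk_one, zero_ne_one, one_ne_zero, if_true, if_false]
      · linear_combination -hdet
      · ring
      · ring
      · linear_combination -hdet
    rw [pow_succ, SpecialLinearGroup.coe_mul, ih, sub_mul, smul_mul_assoc, smul_mul_assoc, one_mul, hsq]
    simp only [chebU, smul_sub, smul_smul]
    rw [sub_smul, mul_comm (chebU _ (n + 1)) _]
    abel

theorem no_pq_of_pow {G : Type*} [Group G] (l : List ℕ) (hl : ∀ g : G, ∃ n ∈ l, g ^ n = 1)
    (hl' : ∀ p q n : ℕ, p.Prime → q.Prime → p ≠ q → n ∈ l → ¬ p * q ∣ n) (p q : ℕ) (hp : p.Prime) (hq : q.Prime)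
    (hne : p ≠ q) : ¬ ∃ g : G, orderOf g = p * q := by
  rintro ⟨g, hg⟩
  obtain ⟨n, hn, he⟩ := hl g
  exact hl' p q n hp hq hne hn (hg ▸ orderOf_dvd_of_pow_eq_one he)

theorem dvd_card_iff_of_pow {G : Type*} [Group G] [Finite G] (l : List ℕ) (S : List ℕ)
    (hl : ∀ g : G, ∃ n ∈ l, g ^ n = 1) (hl' : ∀ p n : ℕ, p.Prime → n ∈ l → p ∣ n → p ∈ S)
    (hS : ∀ p ∈ S, ∃ g : G, orderOf g = p) (p : ℕ) (hp : p.Prime) : p ∣ Nat.card G ↔ p ∈ S := by
  constructor
  · intro h
    haveI := Fact.mk hp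
    obtain ⟨g, hg⟩ := exists_prime_orderOf_dvd_card' p h
    obtain ⟨n, hn, he⟩ := hl g
    exact hl' p n hp hn (hg ▸ orderOf_dvd_of_pow_eq_one he)
  · intro h
    obtain ⟨g, hg⟩ := hS p h
    exact hg ▸ orderOf_dvd_natCard g

theorem eq_of_prime_mem {p : ℕ} (hp : p.Prime) {n : ℕ} (hn : n ∈ [2, 3, 4, 7, 9]) (h : p ∣ n) :
    p = 2 ∨ p = 3 ∨ p = 7 := by
  have hle := Nat.le_of_dvd (by simp at hn; omega) h
  have h2 := hp.two_le
  simp at hn
  rcases hn with rfl | rfl | rfl | rfl | rfl <;> interval_cases p <;> first | omega | (simp [Nat.prime_def_lt] at hp; done) | (norm_num at hp; done)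

theorem not_pq_dvd {p q n : ℕ} (hp : p.Prime) (hq : q.Prime) (hne : p ≠ q) (hn : n ∈ [2, 3, 4, 7, 9]) :
    ¬ p * q ∣ n := by
  intro h
  have h1 := eq_of_prime_mem hp hn (dvd_of_mul_right_dvd h)
  have h2 := eq_of_prime_mem hq hn (dvd_of_mul_left_dvd h)
  simp at hn
  rcases hn with rfl | rfl | rfl | rfl | rfl <;> rcases h1 with rfl | rfl | rfl <;>
    rcases h2 with rfl | rfl | rfl <;> omega

section Seven

variable {F : Type*} [Field F] [Fintype F]

theorem seven_traces : ∀ t : ZMod 7, ∃ n ∈ [1, 2, 3, 6],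
    chebU t (n + 1) = 0 ∧ (chebU t n = 1 ∨ chebU t n = -1) := by decide

theorem psl_two_seven_pow (hF : Fintype.card F = 7) (x : ProjectiveSpecialLinearGroup (Fin 2) F) :
    ∃ n ∈ [2, 3, 4, 7, 9], x ^ n = 1 := by
  haveI : Fact (Nat.Prime 7) := ⟨by norm_num⟩
  let e : ZMod 7 ≃+* F := ZMod.ringEquivOfPrime F (by norm_num) hF
  obtain ⟨g, rfl⟩ := QuotientGroup.mk_surjective x
  set t := (g : Matrix (Fin 2) (Fin 2) F).trace
  obtain ⟨n, hn, h1, h2⟩ := seven_traces (e.symm t)
  refine ⟨n + 1, ?_, ?_⟩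
  · simp at hn ⊢
    omega
  rw [← QuotientGroup.mk_pow, QuotientGroup.eq_one_iff, SpecialLinearGroup.mem_center_iff]
  refine ⟨-chebU t n, ?_, ?_⟩
  · have h3 : chebU t n = e (chebU (e.symm t) n) := by
      rw [show e (chebU (e.symm t) n) = e.toRingHom (chebU (e.symm t) n) from rfl, map_chebU]
      simp
    rw [h3, Fintype.card_fin]
    rcases h2 with h2 | h2 <;> simp [h2]
  · have h3 : chebU t (n + 1) = 0 := by
      have := map_chebU e.toRingHom (e.symm t) (n + 1)
      rw [h1, map_zero] at this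
      simpa using this.symm
    rw [sl2_pow_succ, h3, zero_smul, zero_sub, ← neg_smul]
    ext i j
    simp [Matrix.scalar_apply, Matrix.diagonal_apply, Matrix.one_apply, t]

theorem psl_two_seven_elements (hF : Fintype.card F = 7) :
    ∀ p ∈ [2, 3, 7], ∃ x : ProjectiveSpecialLinearGroup (Fin 2) F, orderOf x = p := by
  haveI : Fact (Nat.Prime 7) := ⟨by norm_num⟩
  haveI : CharP F 7 := by
    let e : ZMod 7 ≃+* F := ZMod.ringEquivOfPrime F (by norm_num) hF
    exact charP_of_injective_ringHom e.toRingHom.injective 7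
  have hc : ∀ (g : SpecialLinearGroup (Fin 2) F) (p : ℕ), p.Prime → (g ^ p) ∈ Subgroup.center _ →
      g 0 1 ≠ 0 → orderOf (g : ProjectiveSpecialLinearGroup (Fin 2) F) = p := by
    intro g p hp h h01
    haveI := Fact.mk hp
    refine orderOf_eq_prime (by rwa [← QuotientGroup.mk_pow, QuotientGroup.eq_one_iff]) ?_
    intro h1
    rw [QuotientGroup.eq_one_iff, SpecialLinearGroup.mem_center_iff] at h1
    obtain ⟨r, -, hr⟩ := h1
    apply h01
    rw [← hr]
    simp
  intro p hp
  simp at hp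
  rcases hp with rfl | rfl | rfl
  · let g : SpecialLinearGroup (Fin 2) F := ⟨!![0, 1; -1, 0], by simp [det_fin_two_of]⟩
    refine ⟨_, hc g 2 Nat.prime_two ?_ (by simp [g])⟩
    rw [SpecialLinearGroup.mem_center_iff]
    refine ⟨-1, by simp, ?_⟩
    refine Eq.trans ?_ (sl2_pow_succ g 1).symm
    ext i j
    fin_cases i <;> fin_cases j <;> simp [g, chebU, trace_fin_two]
  · let g : SpecialLinearGroup (Fin 2) F := ⟨!![0, -1; 1, 1], by simp [det_fin_two_of]⟩
    refine ⟨_, hc g 3 Nat.prime_three ?_ (by simp [g])⟩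
    rw [SpecialLinearGroup.mem_center_iff]
    refine ⟨-1, by simp, ?_⟩
    refine Eq.trans ?_ (sl2_pow_succ g 2).symm
    ext i j
    fin_cases i <;> fin_cases j <;> simp [g, chebU, trace_fin_two]
  · let g : SpecialLinearGroup (Fin 2) F := ⟨!![1, 1; 0, 1], by simp [det_fin_two_of]⟩
    refine ⟨_, hc g 7 (by norm_num) ?_ (by simp [g])⟩
    rw [SpecialLinearGroup.mem_center_iff]
    refine ⟨1, by simp, ?_⟩
    have e7 : (7 : F) = 0 := CharP.cast_eq_zero F 7
    refine Eq.trans ?_ (sl2_pow_succ g 6).symm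
    ext i j
    fin_cases i <;> fin_cases j <;> simp [g, chebU, trace_fin_two] <;> ring_nf <;>
      first | rfl | linear_combination e7 | linear_combination -e7

end Seven

section Eight

theorem sl_two_eight_pow {K : Type*} [Field K] [Fintype K] (hK : Fintype.card K = 8) [CharP K 2]
    (g : SpecialLinearGroup (Fin 2) K) : ∃ n ∈ [2, 3, 4, 7, 9], g ^ n = 1 := by
  set t := (g : Matrix (Fin 2) (Fin 2) K).trace
  have e2 : (2 : K) = 0 := CharTwo.two_eq_zero
  have ht : t ^ 8 = t := by
    have := FiniteField.pow_card t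
    rwa [hK] at this
  have hf : t * (t - 1) * (t ^ 3 + t + 1) * (t ^ 3 + t ^ 2 + 1) = 0 := by
    linear_combination ht + ((-1) * t ^ 4 + (1) * t ^ 5) * e2
  have key : ∀ n, chebU t (n + 1) = 0 → chebU t n = 1 → g ^ (n + 1) = 1 := by
    intro n h1 h2
    apply Subtype.ext
    show ((g ^ (n + 1) : SpecialLinearGroup (Fin 2) K) : Matrix (Fin 2) (Fin 2) K) = 1
    rw [sl2_pow_succ, h1, h2, zero_smul, zero_sub, one_smul]
    ext i j
    exact CharTwo.neg_eq _
  simp only [mul_eq_zero] at hf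
  rcases hf with ((h | h) | h) | h
  · refine ⟨2, by simp, key 1 ?_ (by simp [chebU])⟩
    simp [chebU, h]
  · refine ⟨3, by simp, key 2 ?_ ?_⟩ <;> simp only [chebU]
    · linear_combination (t + 1) * h
    · linear_combination h
  · refine ⟨9, by simp, key 8 ?_ ?_⟩ <;> simp only [chebU]
    · linear_combination ((9) * t ^ 0 + (23) * t ^ 1 + (-1) * t ^ 2 + (-8) * t ^ 3 + (1) * t ^ 5) * h + ((-4) * t ^ 0 + (-16) * t ^ 1 + (-16) * t ^ 2) * e2
    · linear_combination ((17) * t ^ 0 + (-1) * t ^ 1 + (-7) * t ^ 2 + (1) * t ^ 4) * h + ((-9) * t ^ 0 + (-10) * t ^ 1 + (4) * t ^ 2) * e2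
  · refine ⟨7, by simp, key 6 ?_ ?_⟩ <;> simp only [chebU]
    · linear_combination ((3) * t ^ 0 + (-4) * t ^ 1 + (-1) * t ^ 2 + (1) * t ^ 3) * h + ((-2) * t ^ 0 + (2) * t ^ 1 + (2) * t ^ 2) * e2
    · linear_combination ((-3) * t ^ 0 + (-1) * t ^ 1 + (1) * t ^ 2) * h + ((1) * t ^ 0 + (2) * t ^ 1 + (1) * t ^ 2) * e2

theorem sl_two_eight_elements {K : Type*} [Field K] [Fintype K] (hK : Fintype.card K = 8) [CharP K 2] :
    ∀ p ∈ [2, 3, 7], ∃ x : SpecialLinearGroup (Fin 2) K, orderOf x = p := by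
  classical
  have e2 : (2 : K) = 0 := CharTwo.two_eq_zero
  intro p hp
  simp at hp
  rcases hp with rfl | rfl | rfl
  · haveI := Fact.mk Nat.prime_two
    refine ⟨⟨!![1, 1; 0, 1], by simp [det_fin_two_of]⟩, orderOf_eq_prime ?_ ?_⟩
    · apply Subtype.ext
      refine (SpecialLinearGroup.coe_pow _ _).trans ?_
      rw [SpecialLinearGroup.coe_one, pow_two, mul_fin_two, one_fin_two]
      simp [CharTwo.add_self_eq_zero]
    · intro h
      have := congrFun (congrFun (congrArg Subtype.val h) 0) 1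
      simp at this
  · haveI := Fact.mk Nat.prime_three
    refine ⟨⟨!![0, 1; 1, 1], by simp [det_fin_two_of, CharTwo.neg_eq]⟩, orderOf_eq_prime ?_ ?_⟩
    · apply Subtype.ext
      refine (SpecialLinearGroup.coe_pow _ _).trans ?_
      rw [SpecialLinearGroup.coe_one, pow_succ, pow_two, mul_fin_two, mul_fin_two, one_fin_two]
      simp [CharTwo.add_self_eq_zero]
    · intro h
      have := congrFun (congrFun (congrArg Subtype.val h) 0) 1
      simp at this
  · haveI : Fact (Nat.Prime 7) := ⟨by norm_num⟩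
    obtain ⟨x, hx0, hx1⟩ : ∃ x : K, x ≠ 0 ∧ x ≠ 1 := by
      by_contra hcon
      push Not at hcon
      have : (Finset.univ : Finset K) ⊆ {0, 1} := fun x _ => by
        by_cases h : x = 0
        · simp [h]
        · simp [hcon x h]
      have := (Finset.card_le_card this).trans Finset.card_le_two
      rw [Finset.card_univ, hK] at this
      omega
    have h7 : x ^ 7 = 1 := by
      have := FiniteField.pow_card_sub_one_eq_one x hx0
      rwa [hK] at this
    refine ⟨⟨diagonal ![x, x⁻¹], by simp [det_diagonal, Fin.prod_univ_two, hx0]⟩, orderOf_eq_prime ?_ ?_⟩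
    · apply Subtype.ext
      refine (SpecialLinearGroup.coe_pow _ _).trans ?_
      rw [SpecialLinearGroup.coe_one, diagonal_pow, ← diagonal_one]
      congr 1
      funext i
      fin_cases i <;> simp [h7]
    · intro h
      have := congrFun (congrFun (congrArg Subtype.val h) 0) 0
      simp at this
      exact hx1 this

theorem psl_two_seven_large {F : Type*} [Field F] [Fintype F] (hF : Fintype.card F = 7) (N : ℕ) :
    ∃ (H : Type) (_ : Group H) (_ : Fintype H), N < Nat.card H ∧
      SamePrimeGraph (ProjectiveSpecialLinearGroup (Fin 2) F) H := by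
  haveI : Fact (Nat.Prime 2) := ⟨Nat.prime_two⟩
  haveI : Fintype (GaloisField 2 3) := Fintype.ofFinite _
  have hK : Fintype.card (GaloisField 2 3) = 8 := by
    rw [← Nat.card_eq_fintype_card, GaloisField.card 2 3 (by norm_num)]
    norm_num
  obtain ⟨H, iH, iF, hN, hpg⟩ := psl_two_char_two_large (GaloisField 2 3) (by omega) N
  refine ⟨H, iH, iF, hN, SamePrimeGraph.trans ?_ hpg⟩
  refine SamePrimeGraph.trans ?_ (SamePrimeGraph.of_mulEquiv
    ((QuotientGroup.quotientMulEquivOfEq (center_sl2_eq_bot (GaloisField 2 3))).trans QuotientGroup.quotientBot).symm)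
  refine ⟨fun p hp => ?_, fun p q hp hq hne => ?_⟩
  · rw [dvd_card_iff_of_pow _ [2, 3, 7] (psl_two_seven_pow hF)
        (fun p n hp hn h => by simpa using eq_of_prime_mem hp hn h) (psl_two_seven_elements hF) p hp,
      dvd_card_iff_of_pow _ [2, 3, 7] (sl_two_eight_pow hK)
        (fun p n hp hn h => by simpa using eq_of_prime_mem hp hn h) (sl_two_eight_elements hK) p hp]
  · exact iff_of_false (no_pq_of_pow _ (psl_two_seven_pow hF) (fun p q n hp hq hne hn => not_pq_dvd hp hq hne hn) p q hp hq hne)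
      (no_pq_of_pow _ (sl_two_eight_pow hK) (fun p q n hp hq hne hn => not_pq_dvd hp hq hne hn) p q hp hq hne)

end Eight

end CfsgLib.Recog
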