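import Mathlib

set_option autoImplicit false

namespace CfsgLib.Recog.SmallSpectra

open Matrix

theorem range_orderOf_eq_divisors {G : Type*} [Monoid G] (Ns : Finset ℕ)
    (hup : ∀ x : G, ∃ N ∈ Ns, x ^ N = 1) (hwit : ∀ N ∈ Ns, 0 < N ∧ ∃ g : G, orderOf g = N) :
    Set.range (orderOf : G → ℕ) = {d | ∃ N ∈ Ns, d ∣ N} := by
  ext d
  constructor
  · rintro ⟨x, rfl⟩
    obtain ⟨N, hN, hx⟩ := hup x
    exact ⟨N, hN, orderOf_dvd_of_pow_eq_one hx⟩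
  · rintro ⟨N, hN, hd⟩
    obtain ⟨h0, g, rfl⟩ := hwit N hN
    exact ⟨g ^ (orderOf g / d), orderOf_pow_orderOf_div h0.ne' hd⟩

/-- Adjoining a normalising element to a solvable subgroup. -/
theorem isSolvable_closure_insert {G : Type*} [Group G] [Finite G] (S : Set G) (s : G)
    (hS : Group.IsSolvable (Subgroup.closure S)) (hn : ∀ x ∈ S, s * x * s⁻¹ ∈ Subgroup.closure S) :
    Group.IsSolvable (Subgroup.closure (insert s S)) := by
  set K := Subgroup.closure S with hK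
  have hle : K.map (MulAut.conj s).toMonoidHom ≤ K := by
    rw [hK, MonoidHom.map_closure, Subgroup.closure_le]
    rintro _ ⟨x, hx, rfl⟩
    exact hn x hx
  have heq : K.map (MulAut.conj s).toMonoidHom = K :=
    Subgroup.eq_of_le_of_card_ge hle
      (Subgroup.card_map_of_injective (f := (MulAut.conj s).toMonoidHom) (MulAut.conj s).injective).ge
  have hsn : s ∈ Subgroup.normalizer (K : Set G) := by
    rw [Subgroup.mem_normalizer_iff]
    intro y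
    constructor
    · intro hy
      have : MulAut.conj s y ∈ K := heq ▸ ⟨y, hy, rfl⟩
      exact this
    · intro hy
      rw [← heq] at hy
      obtain ⟨y', hy', he⟩ := hy
      rwa [← (MulAut.conj s).injective he]
  set H := Subgroup.closure (insert s S) with hH
  have hKH : K ≤ H := Subgroup.closure_mono (Set.subset_insert s S)
  have hsH : s ∈ H := Subgroup.subset_closure (Set.mem_insert s S)
  have hHn : H ≤ Subgroup.normalizer (K : Set G) := by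
    rw [hH, Subgroup.closure_le, Set.insert_subset_iff]
    exact ⟨hsn, fun x hx => Subgroup.le_normalizer (Subgroup.subset_closure hx)⟩
  haveI : (K.subgroupOf H).Normal := Subgroup.normal_subgroupOf_of_le_normalizer hHn
  haveI := hS
  haveI : Group.IsSolvable (K.subgroupOf H) :=
    Group.isSolvable_of_isSolvable_injective (f := (Subgroup.subgroupOfEquivOfLe hKH).toMonoidHom) (Subgroup.subgroupOfEquivOfLe hKH).injective
  let z : H := ⟨s, hsH⟩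
  let φ : Multiplicative ℤ →* H ⧸ K.subgroupOf H :=
    (QuotientGroup.mk' (K.subgroupOf H)).comp (zpowersHom H z)
  have hφ : Function.Surjective φ := by
    rw [← MonoidHom.range_eq_top]
    suffices h : ∀ (x : G) (hx : x ∈ H), QuotientGroup.mk' (K.subgroupOf H) ⟨x, hx⟩ ∈ φ.range by
      rw [eq_top_iff]
      intro y _
      obtain ⟨⟨x, hx⟩, rfl⟩ := QuotientGroup.mk'_surjective _ y
      exact h x hx
    intro x hx
    induction hx using Subgroup.closure_induction with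
    | mem y hy =>
      rcases hy with rfl | hy
      · exact ⟨Multiplicative.ofAdd 1, by simp [φ, z]⟩
      · refine ⟨1, ?_⟩
        rw [map_one]
        exact ((QuotientGroup.eq_one_iff (⟨y, hKH (Subgroup.subset_closure hy)⟩ : H)).mpr
          (Subgroup.mem_subgroupOf.mpr (Subgroup.subset_closure hy))).symm
    | one => exact ⟨1, by rw [map_one]; exact (map_one (QuotientGroup.mk' _)).symm⟩
    | mul a b ha hb iha ihb =>
      have e : (⟨a * b, mul_mem ha hb⟩ : H) = ⟨a, ha⟩ * ⟨b, hb⟩ := rfl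
      rw [e, map_mul]
      exact mul_mem iha ihb
    | inv a ha iha =>
      have e : (⟨a⁻¹, inv_mem ha⟩ : H) = (⟨a, ha⟩ : H)⁻¹ := rfl
      rw [e, map_inv]
      exact inv_mem iha
  haveI : Group.IsSolvable (H ⧸ K.subgroupOf H) := Group.isSolvable_of_surjective hφ
  exact Group.isSolvable_of_ker_le_range (K.subgroupOf H).subtype (QuotientGroup.mk' (K.subgroupOf H))
    (by rw [QuotientGroup.ker_mk', Subgroup.range_subtype])

theorem isSolvable_closure_singleton {G : Type*} [Group G] (a : G) :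
    Group.IsSolvable (Subgroup.closure ({a} : Set G)) := by
  rw [← Subgroup.zpowers_eq_closure]
  exact Group.isSolvable_of_comm (fun x y => mul_comm' x y)

section Frob

variable {p n : ℕ}

/-- The natural action of a matrix group on column vectors. -/
def vecAction (C : Subgroup (GL (Fin n) (ZMod p))) : C →* MulAut (Multiplicative (Fin n → ZMod p)) where
  toFun g :=
    { toFun := fun v => Multiplicative.ofAdd (((g : GL (Fin n) (ZMod p)) : Matrix (Fin n) (Fin n) (ZMod p)) *ᵥ v.toAdd)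
      invFun := fun v => Multiplicative.ofAdd ((((g : GL (Fin n) (ZMod p))⁻¹ : GL (Fin n) (ZMod p)) : Matrix (Fin n) (Fin n) (ZMod p)) *ᵥ v.toAdd)
      left_inv := fun v => by
        refine congrArg Multiplicative.ofAdd ?_
        rw [toAdd_ofAdd, mulVec_mulVec, ← Units.val_mul, inv_mul_cancel, Units.val_one, one_mulVec]
        rfl
      right_inv := fun v => by
        refine congrArg Multiplicative.ofAdd ?_
        rw [toAdd_ofAdd, mulVec_mulVec, ← Units.val_mul, mul_inv_cancel, Units.val_one, one_mulVec]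
        rfl
      map_mul' := fun v w => congrArg Multiplicative.ofAdd (mulVec_add _ _ _) }
  map_one' := MulEquiv.ext fun v => congrArg Multiplicative.ofAdd (one_mulVec _)
  map_mul' g h := MulEquiv.ext fun v => congrArg Multiplicative.ofAdd (by
    rw [Subgroup.coe_mul, Units.val_mul]
    exact (mulVec_mulVec (v.toAdd) ((g : GL (Fin n) (ZMod p)) : Matrix (Fin n) (Fin n) (ZMod p))
      ((h : GL (Fin n) (ZMod p)) : Matrix (Fin n) (Fin n) (ZMod p))).symm)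

/-- The semidirect product of the natural module by a matrix group. -/
abbrev FrobGroup (C : Subgroup (GL (Fin n) (ZMod p))) : Type :=
  Multiplicative (Fin n → ZMod p) ⋊[vecAction C] C

theorem frobGroup_solvable (C : Subgroup (GL (Fin n) (ZMod p))) (hC : Group.IsSolvable C) :
    Group.IsSolvable (FrobGroup C) := by
  haveI := hC
  haveI : Group.IsSolvable (Multiplicative (Fin n → ZMod p)) := Group.isSolvable_of_comm mul_comm
  exact Group.isSolvable_of_ker_le_range (SemidirectProduct.inl) (SemidirectProduct.rightHom)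
    SemidirectProduct.range_inl_eq_ker_rightHom.ge

theorem frobGroup_spectrum [Fact p.Prime] (hn : 0 < n) (C : Subgroup (GL (Fin n) (ZMod p)))
    (hfpf : ∀ g : C, g ≠ 1 → ∀ v : Fin n → ZMod p,
      ((g : GL (Fin n) (ZMod p)) : Matrix (Fin n) (Fin n) (ZMod p)) *ᵥ v = v → v = 0)
    (Ns : Finset ℕ) (hup : ∀ g : C, g = 1 ∨ ∃ N ∈ Ns, g ^ N = 1)
    (hwit : ∀ N ∈ Ns, 0 < N ∧ ∃ g : C, orderOf g = N) :
    Set.range (orderOf : FrobGroup C → ℕ) = {d | ∃ N ∈ insert p Ns, d ∣ N} := by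
  have hp : p.Prime := Fact.out
  have hvp : ∀ v : Multiplicative (Fin n → ZMod p), v ^ p = 1 := fun v =>
    Multiplicative.toAdd.injective (funext fun i => by simp [toAdd_pow])
  refine range_orderOf_eq_divisors _ (fun x => ?_) (fun N hN => ?_)
  · by_cases hr : x.right = 1
    · refine ⟨p, Finset.mem_insert_self p Ns, ?_⟩
      rw [show x = SemidirectProduct.inl x.left from SemidirectProduct.ext rfl hr, ← map_pow, hvp, map_one]
    · obtain ⟨N, hN, hxN⟩ := (hup x.right).resolve_left hr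
      refine ⟨N, Finset.mem_insert_of_mem hN, ?_⟩
      have hr2 : (x ^ N).right = 1 := by
        rw [← SemidirectProduct.rightHom_eq_right, map_pow]
        exact hxN
      have hx2 : x ^ N = SemidirectProduct.inl (x ^ N).left := SemidirectProduct.ext rfl hr2
      have hfix : vecAction C x.right (x ^ N).left = (x ^ N).left := by
        have h1 := congrArg SemidirectProduct.left ((Commute.refl x).pow_right N).eq
        rw [SemidirectProduct.mul_left, SemidirectProduct.mul_left, hr2, map_one, MulAut.one_apply,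
          mul_comm (x ^ N).left] at h1
        exact mul_left_cancel h1
      have h0 : (x ^ N).left.toAdd = 0 := hfpf _ hr _ (congrArg Multiplicative.toAdd hfix)
      rw [hx2, show (x ^ N).left = 1 from Multiplicative.toAdd.injective h0, map_one]
  · rcases Finset.mem_insert.mp hN with rfl | hN
    · refine ⟨hp.pos, SemidirectProduct.inl (Multiplicative.ofAdd (Pi.single ⟨0, hn⟩ 1)), ?_⟩
      rw [orderOf_injective _ SemidirectProduct.inl_injective]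
      refine orderOf_eq_prime (hvp _) fun h => ?_
      have := congrFun (congrArg Multiplicative.toAdd h) ⟨0, hn⟩
      simp at this
    · obtain ⟨h0, g, hg⟩ := hwit N hN
      exact ⟨h0, SemidirectProduct.inr g, by rw [orderOf_injective _ SemidirectProduct.inr_injective, hg]⟩

/-- A finite matrix group lies in any list closed under left multiplication by its generators. -/
theorem mem_list_of_mem_closure [NeZero p] {S : Set (GL (Fin n) (ZMod p))}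
    (L : List (Matrix (Fin n) (Fin n) (ZMod p))) (h1 : (1 : Matrix (Fin n) (Fin n) (ZMod p)) ∈ L)
    (hS : ∀ s ∈ S, ∀ m ∈ L, ((s : Matrix (Fin n) (Fin n) (ZMod p)) * m) ∈ L)
    {g : GL (Fin n) (ZMod p)} (hg : g ∈ Subgroup.closure S) :
    (g : Matrix (Fin n) (Fin n) (ZMod p)) ∈ L := by
  rw [← Subgroup.mem_toSubmonoid, Subgroup.closure_toSubmonoid_of_finite] at hg
  induction hg using Submonoid.closure_induction_left with
  | one => exact h1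
  | mul_left x hx y hy ih => exact hS x hx _ ih

end Frob

/-- A `4 × 4` matrix of naturals, for fast kernel computation. -/
structure Mat4 where
  a00 : ℕ
  a01 : ℕ
  a02 : ℕ
  a03 : ℕ
  a10 : ℕ
  a11 : ℕ
  a12 : ℕ
  a13 : ℕ
  a20 : ℕ
  a21 : ℕ
  a22 : ℕ
  a23 : ℕ
  a30 : ℕ
  a31 : ℕ
  a32 : ℕ
  a33 : ℕ
  deriving DecidableEq

namespace Mat4

/-- Multiplication modulo `p`. -/
def mul (p : ℕ) (A B : Mat4) : Mat4 :=
  ⟨(A.a00 * B.a00 + A.a01 * B.a10 + A.a02 * B.a20 + A.a03 * B.a30) % p,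
    (A.a00 * B.a01 + A.a01 * B.a11 + A.a02 * B.a21 + A.a03 * B.a31) % p,
    (A.a00 * B.a02 + A.a01 * B.a12 + A.a02 * B.a22 + A.a03 * B.a32) % p,
    (A.a00 * B.a03 + A.a01 * B.a13 + A.a02 * B.a23 + A.a03 * B.a33) % p,
    (A.a10 * B.a00 + A.a11 * B.a10 + A.a12 * B.a20 + A.a13 * B.a30) % p,
    (A.a10 * B.a01 + A.a11 * B.a11 + A.a12 * B.a21 + A.a13 * B.a31) % p,
    (A.a10 * B.a02 + A.a11 * B.a12 + A.a12 * B.a22 + A.a13 * B.a32) % p,
    (A.a10 * B.a03 + A.a11 * B.a13 + A.a12 * B.a23 + A.a13 * B.a33) % p,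
    (A.a20 * B.a00 + A.a21 * B.a10 + A.a22 * B.a20 + A.a23 * B.a30) % p,
    (A.a20 * B.a01 + A.a21 * B.a11 + A.a22 * B.a21 + A.a23 * B.a31) % p,
    (A.a20 * B.a02 + A.a21 * B.a12 + A.a22 * B.a22 + A.a23 * B.a32) % p,
    (A.a20 * B.a03 + A.a21 * B.a13 + A.a22 * B.a23 + A.a23 * B.a33) % p,
    (A.a30 * B.a00 + A.a31 * B.a10 + A.a32 * B.a20 + A.a33 * B.a30) % p,
    (A.a30 * B.a01 + A.a31 * B.a11 + A.a32 * B.a21 + A.a33 * B.a31) % p,
    (A.a30 * B.a02 + A.a31 * B.a12 + A.a32 * B.a22 + A.a33 * B.a32) % p,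
    (A.a30 * B.a03 + A.a31 * B.a13 + A.a32 * B.a23 + A.a33 * B.a33) % p⟩

/-- Addition modulo `p`. -/
def add (p : ℕ) (A B : Mat4) : Mat4 :=
  ⟨(A.a00 + B.a00) % p, (A.a01 + B.a01) % p, (A.a02 + B.a02) % p, (A.a03 + B.a03) % p, (A.a10 + B.a10) % p, (A.a11 + B.a11) % p, (A.a12 + B.a12) % p, (A.a13 + B.a13) % p, (A.a20 + B.a20) % p, (A.a21 + B.a21) % p, (A.a22 + B.a22) % p, (A.a23 + B.a23) % p, (A.a30 + B.a30) % p, (A.a31 + B.a31) % p, (A.a32 + B.a32) % p, (A.a33 + B.a33) % p⟩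

/-- The identity. -/
def one : Mat4 := ⟨1, 0, 0, 0, 0, 1, 0, 0, 0, 0, 1, 0, 0, 0, 0, 1⟩

/-- The zero matrix. -/
def zero : Mat4 := ⟨0, 0, 0, 0, 0, 0, 0, 0, 0, 0, 0, 0, 0, 0, 0, 0⟩

/-- The matrix over `ZMod p`. -/
def toM (p : ℕ) (A : Mat4) : Matrix (Fin 4) (Fin 4) (ZMod p) :=
  !![(A.a00 : ZMod p), (A.a01 : ZMod p), (A.a02 : ZMod p), (A.a03 : ZMod p); (A.a10 : ZMod p), (A.a11 : ZMod p), (A.a12 : ZMod p), (A.a13 : ZMod p); (A.a20 : ZMod p), (A.a21 : ZMod p), (A.a22 : ZMod p), (A.a23 : ZMod p); (A.a30 : ZMod p), (A.a31 : ZMod p), (A.a32 : ZMod p), (A.a33 : ZMod p)]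

theorem toM_mul (p : ℕ) (A B : Mat4) : toM p (mul p A B) = toM p A * toM p B := by
  ext i j
  fin_cases i <;> fin_cases j <;> simp [toM, mul, Matrix.mul_apply, Fin.sum_univ_four]

theorem toM_add (p : ℕ) (A B : Mat4) : toM p (add p A B) = toM p A + toM p B := by
  ext i j
  fin_cases i <;> fin_cases j <;> simp [toM, add]

theorem toM_one (p : ℕ) : toM p one = 1 := by
  ext i j
  fin_cases i <;> fin_cases j <;> simp [toM, one]

theorem toM_zero (p : ℕ) : toM p zero = 0 := by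
  ext i j
  fin_cases i <;> fin_cases j <;> simp [toM, zero]

/-- `(A ^ k, 1 + A + ... + A ^ (k - 1))` modulo `p`. -/
def geom (p : ℕ) (A : Mat4) : ℕ → Mat4 × Mat4
  | 0 => (one, zero)
  | k + 1 => (mul p (geom p A k).1 A, add p (geom p A k).2 (geom p A k).1)

theorem toM_geom (p : ℕ) (A : Mat4) : ∀ k, toM p (geom p A k).1 = toM p A ^ k ∧
    toM p (geom p A k).2 = ∑ i ∈ Finset.range k, toM p A ^ i
  | 0 => by simp [geom, toM_one, toM_zero]
  | k + 1 => by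
    obtain ⟨h1, h2⟩ := toM_geom p A k
    rw [geom]
    exact ⟨by rw [toM_mul, h1, pow_succ], by rw [toM_add, h1, h2, Finset.sum_range_succ]⟩

theorem toM_pow_eq_one {p : ℕ} {A : Mat4} {k : ℕ} (h : (geom p A k).1 = one) : toM p A ^ k = 1 := by
  rw [← (toM_geom p A k).1, h, toM_one]

theorem toM_fpf {p : ℕ} [Fact p.Prime] {A : Mat4} {k : ℕ} (hk : k.Coprime p) (h : (geom p A k).2 = zero)
    (v : Fin 4 → ZMod p) (hv : toM p A *ᵥ v = v) : v = 0 := by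
  have hpow : ∀ i, toM p A ^ i *ᵥ v = v := by
    intro i
    induction i with
    | zero => rw [pow_zero, one_mulVec]
    | succ i ih => rw [pow_succ, ← mulVec_mulVec, hv, ih]
  have h0 : (∑ i ∈ Finset.range k, toM p A ^ i) *ᵥ v = 0 := by
    rw [← (toM_geom p A k).2, h, toM_zero, zero_mulVec]
  rw [sum_mulVec, Finset.sum_congr rfl (fun i _ => hpow i), Finset.sum_const, Finset.card_range] at h0
  funext i
  have h1 := congrFun h0 i
  rw [Pi.smul_apply, nsmul_eq_mul, Pi.zero_apply] at h1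
  refine (mul_eq_zero.mp h1).resolve_left fun hc => ?_
  rw [ZMod.natCast_eq_zero_iff] at hc
  exact (Fact.out : p.Prime).coprime_iff_not_dvd.mp hk.symm hc

theorem toM_injective {p : ℕ} {A B : Mat4} (h : toM p A = toM p B) :
    mul p one A = mul p one B := by
  have e : ∀ i j, toM p A i j = toM p B i j := fun i j => by rw [h]
  simp only [toM, mul, one, one_mul, zero_mul, add_zero, zero_add, Mat4.mk.injEq]
  refine ⟨(ZMod.natCast_eq_natCast_iff' _ _ p).mp (e 0 0), (ZMod.natCast_eq_natCast_iff' _ _ p).mp (e 0 1), (ZMod.natCast_eq_natCast_iff' _ _ p).mp (e 0 2), (ZMod.natCast_eq_natCast_iff' _ _ p).mp (e 0 3), (ZMod.natCast_eq_natCast_iff' _ _ p).mp (e 1 0), (ZMod.natCast_eq_natCast_iff' _ _ p).mp (e 1 1), (ZMod.natCast_eq_natCast_iff' _ _ p).mp (e 1 2), (ZMod.natCast_eq_natCast_iff' _ _ p).mp (e 1 3), (ZMod.natCast_eq_natCast_iff' _ _ p).mp (e 2 0), (ZMod.natCast_eq_natCast_iff'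 _ _ p).mp (e 2 1), (ZMod.natCast_eq_natCast_iff' _ _ p).mp (e 2 2), (ZMod.natCast_eq_natCast_iff' _ _ p).mp (e 2 3), (ZMod.natCast_eq_natCast_iff' _ _ p).mp (e 3 0), (ZMod.natCast_eq_natCast_iff' _ _ p).mp (e 3 1), (ZMod.natCast_eq_natCast_iff' _ _ p).mp (e 3 2), (ZMod.natCast_eq_natCast_iff' _ _ p).mp (e 3 3)⟩

end Mat4

/-- A generator matrix. -/
def giM4 : Mat4 := ⟨5, 0, 0, 0, 0, 5, 0, 0, 0, 0, 8, 0, 0, 0, 0, 8⟩

/-- A generator matrix over the prime field. -/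
def giMat : Matrix (Fin 4) (Fin 4) (ZMod 13) := Mat4.toM 13 giM4

theorem giMat_pow : giMat ^ 4 = 1 := Mat4.toM_pow_eq_one (by decide +kernel)

/-- The generator as a unit. -/
def giUnit : GL (Fin 4) (ZMod 13) :=
  ⟨giMat, giMat ^ 3, by rw [← pow_succ']; exact giMat_pow, by rw [← pow_succ]; exact giMat_pow⟩
/-- A generator matrix. -/
def gjM4 : Mat4 := ⟨0, 0, 1, 0, 0, 0, 0, 1, 12, 0, 0, 0, 0, 12, 0, 0⟩

/-- A generator matrix over the prime field. -/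
def gjMat : Matrix (Fin 4) (Fin 4) (ZMod 13) := Mat4.toM 13 gjM4

theorem gjMat_pow : gjMat ^ 4 = 1 := Mat4.toM_pow_eq_one (by decide +kernel)

/-- The generator as a unit. -/
def gjUnit : GL (Fin 4) (ZMod 13) :=
  ⟨gjMat, gjMat ^ 3, by rw [← pow_succ']; exact gjMat_pow, by rw [← pow_succ]; exact gjMat_pow⟩
/-- A generator matrix. -/
def gwM4 : Mat4 := ⟨2, 0, 3, 0, 0, 2, 0, 3, 2, 0, 10, 0, 0, 2, 0, 10⟩

/-- A generator matrix over the prime field. -/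
def gwMat : Matrix (Fin 4) (Fin 4) (ZMod 13) := Mat4.toM 13 gwM4

theorem gwMat_pow : gwMat ^ 3 = 1 := Mat4.toM_pow_eq_one (by decide +kernel)

/-- The generator as a unit. -/
def gwUnit : GL (Fin 4) (ZMod 13) :=
  ⟨gwMat, gwMat ^ 2, by rw [← pow_succ']; exact gwMat_pow, by rw [← pow_succ]; exact gwMat_pow⟩
/-- A generator matrix. -/
def gsM4 : Mat4 := ⟨0, 6, 0, 0, 3, 0, 0, 0, 0, 0, 0, 9, 0, 0, 11, 0⟩

/-- A generator matrix over the prime field. -/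
def gsMat : Matrix (Fin 4) (Fin 4) (ZMod 13) := Mat4.toM 13 gsM4

theorem gsMat_pow : gsMat ^ 8 = 1 := Mat4.toM_pow_eq_one (by decide +kernel)

/-- The generator as a unit. -/
def gsUnit : GL (Fin 4) (ZMod 13) :=
  ⟨gsMat, gsMat ^ 7, by rw [← pow_succ']; exact gsMat_pow, by rw [← pow_succ]; exact gsMat_pow⟩
/-- A generator matrix. -/
def gaM4 : Mat4 := ⟨2, 0, 0, 0, 0, 2, 0, 0, 0, 0, 4, 0, 0, 0, 0, 4⟩

/-- A generator matrix over the prime field. -/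
def gaMat : Matrix (Fin 4) (Fin 4) (ZMod 7) := Mat4.toM 7 gaM4

theorem gaMat_pow : gaMat ^ 3 = 1 := Mat4.toM_pow_eq_one (by decide +kernel)

/-- The generator as a unit. -/
def gaUnit : GL (Fin 4) (ZMod 7) :=
  ⟨gaMat, gaMat ^ 2, by rw [← pow_succ']; exact gaMat_pow, by rw [← pow_succ]; exact gaMat_pow⟩
/-- A generator matrix. -/
def gbM4 : Mat4 := ⟨0, 0, 1, 0, 0, 0, 0, 1, 0, 6, 0, 0, 1, 0, 0, 0⟩

/-- A generator matrix over the prime field. -/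
def gbMat : Matrix (Fin 4) (Fin 4) (ZMod 7) := Mat4.toM 7 gbM4

theorem gbMat_pow : gbMat ^ 8 = 1 := Mat4.toM_pow_eq_one (by decide +kernel)

/-- The generator as a unit. -/
def gbUnit : GL (Fin 4) (ZMod 7) :=
  ⟨gbMat, gbMat ^ 7, by rw [← pow_succ']; exact gbMat_pow, by rw [← pow_succ]; exact gbMat_pow⟩

/-- The elements of the binary octahedral group. -/
def octL : List Mat4 :=
  [⟨1, 0, 0, 0, 0, 1, 0, 0, 0, 0, 1, 0, 0, 0, 0, 1⟩,
   ⟨5, 0, 0, 0, 0, 5, 0, 0, 0, 0, 8, 0, 0, 0, 0, 8⟩,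
   ⟨0, 0, 1, 0, 0, 0, 0, 1, 12, 0, 0, 0, 0, 12, 0, 0⟩,
   ⟨2, 0, 3, 0, 0, 2, 0, 3, 2, 0, 10, 0, 0, 2, 0, 10⟩,
   ⟨0, 6, 0, 0, 3, 0, 0, 0, 0, 0, 0, 9, 0, 0, 11, 0⟩,
   ⟨12, 0, 0, 0, 0, 12, 0, 0, 0, 0, 12, 0, 0, 0, 0, 12⟩,
   ⟨0, 0, 8, 0, 0, 0, 0, 8, 8, 0, 0, 0, 0, 8, 0, 0⟩,
   ⟨10, 0, 11, 0, 0, 10, 0, 11, 10, 0, 2, 0, 0, 10, 0, 2⟩,
   ⟨0, 4, 0, 0, 2, 0, 0, 0, 0, 0, 0, 7, 0, 0, 10, 0⟩,
   ⟨0, 0, 5, 0, 0, 0, 0, 5, 5, 0, 0, 0, 0, 5, 0, 0⟩,
   ⟨10, 0, 2, 0, 0, 10, 0, 2, 3, 0, 2, 0, 0, 3, 0, 2⟩,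
   ⟨0, 0, 0, 6, 0, 0, 3, 0, 0, 4, 0, 0, 2, 0, 0, 0⟩,
   ⟨2, 0, 10, 0, 0, 2, 0, 10, 11, 0, 10, 0, 0, 11, 0, 10⟩,
   ⟨10, 0, 10, 0, 0, 10, 0, 10, 11, 0, 2, 0, 0, 11, 0, 2⟩,
   ⟨0, 12, 0, 5, 6, 0, 9, 0, 0, 5, 0, 12, 9, 0, 6, 0⟩,
   ⟨0, 0, 0, 9, 0, 0, 11, 0, 0, 7, 0, 0, 10, 0, 0, 0⟩,
   ⟨0, 12, 0, 1, 6, 0, 7, 0, 0, 12, 0, 12, 6, 0, 6, 0⟩,
   ⟨8, 0, 0, 0, 0, 8, 0, 0, 0, 0, 5, 0, 0, 0, 0, 5⟩,
   ⟨0, 0, 12, 0, 0, 0, 0, 12, 1, 0, 0, 0, 0, 1, 0, 0⟩,
   ⟨11, 0, 10, 0, 0, 11, 0, 10, 11, 0, 3, 0, 0, 11, 0, 3⟩,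
   ⟨0, 7, 0, 0, 10, 0, 0, 0, 0, 0, 0, 4, 0, 0, 2, 0⟩,
   ⟨11, 0, 3, 0, 0, 11, 0, 3, 2, 0, 3, 0, 0, 2, 0, 3⟩,
   ⟨11, 0, 2, 0, 0, 11, 0, 2, 3, 0, 3, 0, 0, 3, 0, 3⟩,
   ⟨0, 8, 0, 1, 4, 0, 7, 0, 0, 12, 0, 5, 6, 0, 9, 0⟩,
   ⟨0, 0, 0, 7, 0, 0, 10, 0, 0, 9, 0, 0, 11, 0, 0, 0⟩,
   ⟨0, 8, 0, 8, 4, 0, 4, 0, 0, 8, 0, 5, 4, 0, 9, 0⟩,
   ⟨0, 0, 0, 4, 0, 0, 2, 0, 0, 6, 0, 0, 3, 0, 0, 0⟩,
   ⟨3, 0, 2, 0, 0, 3, 0, 2, 3, 0, 11, 0, 0, 3, 0, 11⟩,
   ⟨3, 0, 10, 0, 0, 3, 0, 10, 11, 0, 11, 0, 0, 11, 0, 11⟩,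
   ⟨0, 8, 0, 12, 4, 0, 6, 0, 0, 1, 0, 5, 7, 0, 9, 0⟩,
   ⟨0, 12, 0, 12, 6, 0, 6, 0, 0, 1, 0, 12, 7, 0, 6, 0⟩,
   ⟨11, 0, 11, 0, 0, 11, 0, 11, 10, 0, 3, 0, 0, 10, 0, 3⟩,
   ⟨0, 12, 0, 8, 6, 0, 4, 0, 0, 8, 0, 12, 4, 0, 6, 0⟩,
   ⟨0, 5, 0, 12, 9, 0, 6, 0, 0, 1, 0, 8, 7, 0, 4, 0⟩,
   ⟨0, 8, 0, 5, 4, 0, 9, 0, 0, 5, 0, 5, 9, 0, 9, 0⟩,
   ⟨10, 0, 3, 0, 0, 10, 0, 3, 2, 0, 2, 0, 0, 2, 0, 2⟩,
   ⟨0, 9, 0, 0, 11, 0, 0, 0, 0, 0, 0, 6, 0, 0, 3, 0⟩,
   ⟨3, 0, 11, 0, 0, 3, 0, 11, 10, 0, 11, 0, 0, 10, 0, 11⟩,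
   ⟨3, 0, 3, 0, 0, 3, 0, 3, 2, 0, 11, 0, 0, 2, 0, 11⟩,
   ⟨0, 1, 0, 8, 7, 0, 4, 0, 0, 8, 0, 1, 4, 0, 7, 0⟩,
   ⟨0, 1, 0, 12, 7, 0, 6, 0, 0, 1, 0, 1, 7, 0, 7, 0⟩,
   ⟨2, 0, 2, 0, 0, 2, 0, 2, 3, 0, 10, 0, 0, 3, 0, 10⟩,
   ⟨0, 1, 0, 5, 7, 0, 9, 0, 0, 5, 0, 1, 9, 0, 7, 0⟩,
   ⟨0, 1, 0, 1, 7, 0, 7, 0, 0, 12, 0, 1, 6, 0, 7, 0⟩,
   ⟨0, 5, 0, 8, 9, 0, 4, 0, 0, 8, 0, 8, 4, 0, 4, 0⟩,
   ⟨2, 0, 11, 0, 0, 2, 0, 11, 10, 0, 10, 0, 0, 10, 0, 10⟩,
   ⟨0, 5, 0, 5, 9, 0, 9, 0, 0, 5, 0, 8, 9, 0, 4, 0⟩,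
   ⟨0, 5, 0, 1, 9, 0, 7, 0, 0, 12, 0, 8, 6, 0, 4, 0⟩]

/-- The elements of `C₃ ⋊ C₈`. -/
def cycL : List Mat4 :=
  [⟨1, 0, 0, 0, 0, 1, 0, 0, 0, 0, 1, 0, 0, 0, 0, 1⟩,
   ⟨2, 0, 0, 0, 0, 2, 0, 0, 0, 0, 4, 0, 0, 0, 0, 4⟩,
   ⟨0, 0, 1, 0, 0, 0, 0, 1, 0, 6, 0, 0, 1, 0, 0, 0⟩,
   ⟨4, 0, 0, 0, 0, 4, 0, 0, 0, 0, 2, 0, 0, 0, 0, 2⟩,
   ⟨0, 0, 4, 0, 0, 0, 0, 4, 0, 5, 0, 0, 2, 0, 0, 0⟩,
   ⟨0, 0, 2, 0, 0, 0, 0, 2, 0, 3, 0, 0, 4, 0, 0, 0⟩,
   ⟨0, 6, 0, 0, 1, 0, 0, 0, 0, 0, 0, 6, 0, 0, 1, 0⟩,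
   ⟨0, 5, 0, 0, 2, 0, 0, 0, 0, 0, 0, 3, 0, 0, 4, 0⟩,
   ⟨0, 3, 0, 0, 4, 0, 0, 0, 0, 0, 0, 5, 0, 0, 2, 0⟩,
   ⟨0, 0, 0, 6, 0, 0, 1, 0, 6, 0, 0, 0, 0, 6, 0, 0⟩,
   ⟨0, 0, 0, 3, 0, 0, 4, 0, 5, 0, 0, 0, 0, 5, 0, 0⟩,
   ⟨0, 0, 0, 5, 0, 0, 2, 0, 3, 0, 0, 0, 0, 3, 0, 0⟩,
   ⟨6, 0, 0, 0, 0, 6, 0, 0, 0, 0, 6, 0, 0, 0, 0, 6⟩,
   ⟨5, 0, 0, 0, 0, 5, 0, 0, 0, 0, 3, 0, 0, 0, 0, 3⟩,
   ⟨3, 0, 0, 0, 0, 3, 0, 0, 0, 0, 5, 0, 0, 0, 0, 5⟩,
   ⟨0, 0, 6, 0, 0, 0, 0, 6, 0, 1, 0, 0, 6, 0, 0, 0⟩,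
   ⟨0, 0, 3, 0, 0, 0, 0, 3, 0, 2, 0, 0, 5, 0, 0, 0⟩,
   ⟨0, 0, 5, 0, 0, 0, 0, 5, 0, 4, 0, 0, 3, 0, 0, 0⟩,
   ⟨0, 1, 0, 0, 6, 0, 0, 0, 0, 0, 0, 1, 0, 0, 6, 0⟩,
   ⟨0, 2, 0, 0, 5, 0, 0, 0, 0, 0, 0, 4, 0, 0, 3, 0⟩,
   ⟨0, 4, 0, 0, 3, 0, 0, 0, 0, 0, 0, 2, 0, 0, 5, 0⟩,
   ⟨0, 0, 0, 1, 0, 0, 6, 0, 1, 0, 0, 0, 0, 1, 0, 0⟩,
   ⟨0, 0, 0, 4, 0, 0, 3, 0, 2, 0, 0, 0, 0, 2, 0, 0⟩,
   ⟨0, 0, 0, 2, 0, 0, 5, 0, 4, 0, 0, 0, 0, 4, 0, 0⟩]

theorem octL_one : Mat4.one ∈ octL := by decide +kernel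

theorem octL_closed : ∀ m ∈ octL, Mat4.mul 13 giM4 m ∈ octL ∧ Mat4.mul 13 gjM4 m ∈ octL ∧
    Mat4.mul 13 gwM4 m ∈ octL ∧ Mat4.mul 13 gsM4 m ∈ octL := by
  decide +kernel

theorem octL_props : ∀ m ∈ octL, m = Mat4.one ∨ (∃ k ∈ [2, 3, 4, 6, 8],
      (Mat4.geom 13 m k).1 = Mat4.one ∧ (Mat4.geom 13 m k).2 = Mat4.zero) := by
  decide +kernel

theorem cycL_one : Mat4.one ∈ cycL := by decide +kernel

theorem cycL_closed : ∀ m ∈ cycL, Mat4.mul 7 gaM4 m ∈ cycL ∧ Mat4.mul 7 gbM4 m ∈ cycL := by decide +kernel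

theorem cycL_props : ∀ m ∈ cycL, m = Mat4.one ∨ (∃ k ∈ [2, 3, 4, 6, 8, 12],
      (Mat4.geom 7 m k).1 = Mat4.one ∧ (Mat4.geom 7 m k).2 = Mat4.zero) := by
  decide +kernel

theorem Mat4.orderOf_unit_eq {p : ℕ} (u : GL (Fin 4) (ZMod p)) (A : Mat4)
    (hu : (u : Matrix (Fin 4) (Fin 4) (ZMod p)) = Mat4.toM p A) (k : ℕ) (hk : 0 < k)
    (h1 : (Mat4.geom p A k).1 = Mat4.one)
    (h2 : ∀ m < k, 0 < m → Mat4.mul p Mat4.one (Mat4.geom p A m).1 ≠ Mat4.mul p Mat4.one Mat4.one) :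
    orderOf u = k := by
  rw [orderOf_eq_iff hk]
  refine ⟨Units.ext (by rw [Units.val_pow_eq_pow_val, hu]; exact Mat4.toM_pow_eq_one h1), fun m hm h0 he => ?_⟩
  refine h2 m hm h0 (Mat4.toM_injective ?_)
  rw [(Mat4.toM_geom p A m).1, ← hu, ← Units.val_pow_eq_pow_val, he, Units.val_one, Mat4.toM_one]

/-- The binary octahedral group over the field with thirteen elements. -/
def octGroup : Subgroup (GL (Fin 4) (ZMod 13)) :=
  Subgroup.closure (insert gsUnit (insert gwUnit (insert gjUnit {giUnit})))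

/-- `C₃ ⋊ C₈` over the field with seven elements. -/
def cycGroup : Subgroup (GL (Fin 4) (ZMod 7)) :=
  Subgroup.closure (insert gbUnit {gaUnit})

theorem conj_ji : gjUnit * giUnit * gjUnit⁻¹ = giUnit * giUnit * giUnit := by
  rw [mul_inv_eq_iff_eq_mul]
  refine Units.ext ?_
  simp only [Units.val_mul, giUnit, giMat, gjUnit, gjMat, ← Mat4.toM_mul]
  exact congrArg _ (by decide +kernel)

theorem conj_wi : gwUnit * giUnit * gwUnit⁻¹ = giUnit * gjUnit := by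
  rw [mul_inv_eq_iff_eq_mul]
  refine Units.ext ?_
  simp only [Units.val_mul, giUnit, giMat, gjUnit, gjMat, gwUnit, gwMat, ← Mat4.toM_mul]
  exact congrArg _ (by decide +kernel)

theorem conj_wj : gwUnit * gjUnit * gwUnit⁻¹ = giUnit := by
  rw [mul_inv_eq_iff_eq_mul]
  refine Units.ext ?_
  simp only [Units.val_mul, giUnit, giMat, gjUnit, gjMat, gwUnit, gwMat, ← Mat4.toM_mul]
  exact congrArg _ (by decide +kernel)

theorem conj_si : gsUnit * giUnit * gsUnit⁻¹ = giUnit := by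
  rw [mul_inv_eq_iff_eq_mul]
  refine Units.ext ?_
  simp only [Units.val_mul, giUnit, giMat, gsUnit, gsMat, ← Mat4.toM_mul]
  exact congrArg _ (by decide +kernel)

theorem conj_sj : gsUnit * gjUnit * gsUnit⁻¹ = giUnit * gjUnit := by
  rw [mul_inv_eq_iff_eq_mul]
  refine Units.ext ?_
  simp only [Units.val_mul, giUnit, giMat, gjUnit, gjMat, gsUnit, gsMat, ← Mat4.toM_mul]
  exact congrArg _ (by decide +kernel)

theorem conj_sw : gsUnit * gwUnit * gsUnit⁻¹ = gwUnit * gwUnit * gjUnit * giUnit := by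
  rw [mul_inv_eq_iff_eq_mul]
  refine Units.ext ?_
  simp only [Units.val_mul, giUnit, giMat, gjUnit, gjMat, gsUnit, gsMat, gwUnit, gwMat, ← Mat4.toM_mul]
  exact congrArg _ (by decide +kernel)

theorem conj_ba : gbUnit * gaUnit * gbUnit⁻¹ = gaUnit * gaUnit := by
  rw [mul_inv_eq_iff_eq_mul]
  refine Units.ext ?_
  simp only [Units.val_mul, gaUnit, gaMat, gbUnit, gbMat, ← Mat4.toM_mul]
  exact congrArg _ (by decide +kernel)

theorem octGroup_solvable : Group.IsSolvable octGroup := by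
  refine isSolvable_closure_insert _ _ (isSolvable_closure_insert _ _
    (isSolvable_closure_insert _ _ (isSolvable_closure_singleton _) ?_) ?_) ?_
  · intro x hx
    rw [Set.mem_singleton_iff] at hx
    subst hx
    have hi := Subgroup.subset_closure (Set.mem_singleton giUnit)
    rw [conj_ji]
    exact mul_mem (mul_mem hi hi) hi
  · intro x hx
    have hi : giUnit ∈ Subgroup.closure (insert gjUnit {giUnit}) := Subgroup.subset_closure (by simp)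
    have hj : gjUnit ∈ Subgroup.closure (insert gjUnit {giUnit}) := Subgroup.subset_closure (by simp)
    rcases hx with rfl | rfl
    · rw [conj_wj]; exact hi
    · rw [conj_wi]; exact mul_mem hi hj
  · intro x hx
    have hi : giUnit ∈ Subgroup.closure (insert gwUnit (insert gjUnit {giUnit})) := Subgroup.subset_closure (by simp)
    have hj : gjUnit ∈ Subgroup.closure (insert gwUnit (insert gjUnit {giUnit})) := Subgroup.subset_closure (by simp)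
    have hw : gwUnit ∈ Subgroup.closure (insert gwUnit (insert gjUnit {giUnit})) := Subgroup.subset_closure (by simp)
    rcases hx with rfl | rfl | rfl
    · rw [conj_sw]; exact mul_mem (mul_mem (mul_mem hw hw) hj) hi
    · rw [conj_sj]; exact mul_mem hi hj
    · rw [conj_si]; exact hi

theorem cycGroup_solvable : Group.IsSolvable cycGroup := by
  refine isSolvable_closure_insert _ _ (isSolvable_closure_singleton _) fun x hx => ?_
  rw [Set.mem_singleton_iff] at hx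
  subst hx
  rw [conj_ba]
  exact mul_mem (Subgroup.subset_closure rfl) (Subgroup.subset_closure rfl)

theorem octGroup_mem_list {g : GL (Fin 4) (ZMod 13)} (hg : g ∈ octGroup) :
    ∃ m ∈ octL, (g : Matrix (Fin 4) (Fin 4) (ZMod 13)) = Mat4.toM 13 m := by
  have h := mem_list_of_mem_closure (octL.map (Mat4.toM 13))
    (List.mem_map.mpr ⟨_, octL_one, Mat4.toM_one 13⟩) ?_ hg
  · obtain ⟨m, hm, he⟩ := List.mem_map.mp h
    exact ⟨m, hm, he.symm⟩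
  · intro s hs m hm
    obtain ⟨a, ha, rfl⟩ := List.mem_map.mp hm
    obtain ⟨h1, h2, h3, h4⟩ := octL_closed a ha
    rcases hs with rfl | rfl | rfl | rfl
    · exact List.mem_map.mpr ⟨_, h4, Mat4.toM_mul 13 _ _⟩
    · exact List.mem_map.mpr ⟨_, h3, Mat4.toM_mul 13 _ _⟩
    · exact List.mem_map.mpr ⟨_, h2, Mat4.toM_mul 13 _ _⟩
    · exact List.mem_map.mpr ⟨_, h1, Mat4.toM_mul 13 _ _⟩

theorem cycGroup_mem_list {g : GL (Fin 4) (ZMod 7)} (hg : g ∈ cycGroup) :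
    ∃ m ∈ cycL, (g : Matrix (Fin 4) (Fin 4) (ZMod 7)) = Mat4.toM 7 m := by
  have h := mem_list_of_mem_closure (cycL.map (Mat4.toM 7))
    (List.mem_map.mpr ⟨_, cycL_one, Mat4.toM_one 7⟩) ?_ hg
  · obtain ⟨m, hm, he⟩ := List.mem_map.mp h
    exact ⟨m, hm, he.symm⟩
  · intro s hs m hm
    obtain ⟨a, ha, rfl⟩ := List.mem_map.mp hm
    obtain ⟨h1, h2⟩ := cycL_closed a ha
    rcases hs with rfl | rfl
    · exact List.mem_map.mpr ⟨_, h2, Mat4.toM_mul 7 _ _⟩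
    · exact List.mem_map.mpr ⟨_, h1, Mat4.toM_mul 7 _ _⟩

/-- A finite solvable group with element orders the divisors of `13`, `8` and `6`. -/
theorem exists_solvable_spectrum_thirteen :
    ∃ (H : Type) (_ : Group H) (_ : Fintype H), Group.IsSolvable H ∧
      Set.range (orderOf : H → ℕ) = {d | ∃ N ∈ ({13, 8, 6} : Finset ℕ), d ∣ N} := by
  haveI : Fact (Nat.Prime 13) := ⟨by norm_num⟩
  haveI : Finite (FrobGroup octGroup) := Finite.of_injective _ SemidirectProduct.equivProd.injective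
  refine ⟨FrobGroup octGroup, inferInstance, Fintype.ofFinite _, frobGroup_solvable _ octGroup_solvable, ?_⟩
  refine frobGroup_spectrum (by norm_num) octGroup ?_ {8, 6} ?_ ?_
  · intro g hg v hv
    obtain ⟨m, hm, he⟩ := octGroup_mem_list g.2
    rcases octL_props m hm with rfl | ⟨k, hk, -, h2⟩
    · exact absurd (Subtype.ext (Units.ext (by rw [he, Mat4.toM_one]; rfl))) hg
    · refine Mat4.toM_fpf ?_ h2 v (he ▸ hv)
      simp only [List.mem_cons, List.not_mem_nil, or_false] at hk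
      rcases hk with rfl | rfl | rfl | rfl | rfl <;> decide
  · intro g
    obtain ⟨m, hm, he⟩ := octGroup_mem_list g.2
    rcases octL_props m hm with rfl | ⟨k, hk, h1, -⟩
    · exact Or.inl (Subtype.ext (Units.ext (by rw [he, Mat4.toM_one]; rfl)))
    · refine Or.inr ?_
      have hp : g ^ k = 1 := Subtype.ext (Units.ext (by
        rw [Subgroup.coe_pow, Units.val_pow_eq_pow_val, he, Mat4.toM_pow_eq_one h1]; rfl))
      simp only [List.mem_cons, List.not_mem_nil, or_false] at hk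
      rcases hk with rfl | rfl | rfl | rfl | rfl <;>
        first
          | exact ⟨8, by decide, orderOf_dvd_iff_pow_eq_one.mp ((orderOf_dvd_of_pow_eq_one hp).trans (by decide))⟩
          | exact ⟨6, by decide, orderOf_dvd_iff_pow_eq_one.mp ((orderOf_dvd_of_pow_eq_one hp).trans (by decide))⟩
  · intro N hN
    simp only [Finset.mem_insert, Finset.mem_singleton] at hN
    have hs : gsUnit ∈ octGroup := Subgroup.subset_closure (by simp)
    have hi : giUnit ∈ octGroup := Subgroup.subset_closure (by simp)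
    have hw : gwUnit ∈ octGroup := Subgroup.subset_closure (by simp)
    rcases hN with rfl | rfl
    · refine ⟨by norm_num, ⟨gsUnit, hs⟩, ?_⟩
      rw [Subgroup.orderOf_mk]
      exact Mat4.orderOf_unit_eq _ gsM4 rfl 8 (by norm_num) (by decide +kernel) (by decide +kernel)
    · refine ⟨by norm_num, ⟨giUnit * giUnit * gwUnit, mul_mem (mul_mem hi hi) hw⟩, ?_⟩
      rw [Subgroup.orderOf_mk]
      exact Mat4.orderOf_unit_eq _ (Mat4.mul 13 (Mat4.mul 13 giM4 giM4) gwM4)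
        (by rw [Mat4.toM_mul, Mat4.toM_mul]; rfl) 6 (by norm_num) (by decide +kernel) (by decide +kernel)

/-- A finite solvable group with element orders the divisors of `7`, `12` and `8`. -/
theorem exists_solvable_spectrum_seven :
    ∃ (H : Type) (_ : Group H) (_ : Fintype H), Group.IsSolvable H ∧
      Set.range (orderOf : H → ℕ) = {d | ∃ N ∈ ({7, 12, 8} : Finset ℕ), d ∣ N} := by
  haveI : Fact (Nat.Prime 7) := ⟨by norm_num⟩
  haveI : Finite (FrobGroup cycGroup) := Finite.of_injective _ SemidirectProduct.equivProd.injective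
  refine ⟨FrobGroup cycGroup, inferInstance, Fintype.ofFinite _, frobGroup_solvable _ cycGroup_solvable, ?_⟩
  refine frobGroup_spectrum (by norm_num) cycGroup ?_ {12, 8} ?_ ?_
  · intro g hg v hv
    obtain ⟨m, hm, he⟩ := cycGroup_mem_list g.2
    rcases cycL_props m hm with rfl | ⟨k, hk, -, h2⟩
    · exact absurd (Subtype.ext (Units.ext (by rw [he, Mat4.toM_one]; rfl))) hg
    · refine Mat4.toM_fpf ?_ h2 v (he ▸ hv)
      simp only [List.mem_cons, List.not_mem_nil, or_false] at hk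
      rcases hk with rfl | rfl | rfl | rfl | rfl | rfl <;> decide
  · intro g
    obtain ⟨m, hm, he⟩ := cycGroup_mem_list g.2
    rcases cycL_props m hm with rfl | ⟨k, hk, h1, -⟩
    · exact Or.inl (Subtype.ext (Units.ext (by rw [he, Mat4.toM_one]; rfl)))
    · refine Or.inr ?_
      have hp : g ^ k = 1 := Subtype.ext (Units.ext (by
        rw [Subgroup.coe_pow, Units.val_pow_eq_pow_val, he, Mat4.toM_pow_eq_one h1]; rfl))
      simp only [List.mem_cons, List.not_mem_nil, or_false] at hk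
      rcases hk with rfl | rfl | rfl | rfl | rfl | rfl <;>
        first
          | exact ⟨12, by decide, orderOf_dvd_iff_pow_eq_one.mp ((orderOf_dvd_of_pow_eq_one hp).trans (by decide))⟩
          | exact ⟨8, by decide, orderOf_dvd_iff_pow_eq_one.mp ((orderOf_dvd_of_pow_eq_one hp).trans (by decide))⟩
  · intro N hN
    simp only [Finset.mem_insert, Finset.mem_singleton] at hN
    have ha : gaUnit ∈ cycGroup := Subgroup.subset_closure (by simp)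
    have hb : gbUnit ∈ cycGroup := Subgroup.subset_closure (by simp)
    rcases hN with rfl | rfl
    · refine ⟨by norm_num, ⟨gaUnit * gbUnit * gbUnit, mul_mem (mul_mem ha hb) hb⟩, ?_⟩
      rw [Subgroup.orderOf_mk]
      exact Mat4.orderOf_unit_eq _ (Mat4.mul 7 (Mat4.mul 7 gaM4 gbM4) gbM4)
        (by rw [Mat4.toM_mul, Mat4.toM_mul]; rfl) 12 (by norm_num) (by decide +kernel) (by decide +kernel)
    · refine ⟨by norm_num, ⟨gbUnit, hb⟩, ?_⟩
      rw [Subgroup.orderOf_mk]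
      exact Mat4.orderOf_unit_eq _ gbM4 rfl 8 (by norm_num) (by decide +kernel) (by decide +kernel)

end CfsgLib.Recog.SmallSpectra
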