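import Cfsg.Prelude.Def_Classical
import Cfsg.Agent.Lib.Linear.SympCard
import Cfsg.Agent.Lib.Recog.G2FourGraph
import Mathlib

/-!
The prime graph of `PSp(6,3)`: edges 2-3, 2-5, 2-7, 3-5 only.
-/

set_option autoImplicit false
set_option maxHeartbeats 1000000

namespace CfsgLib.Recog.SpSix

open Matrix

/-- The index type. -/
abbrev I6 : Type := Fin 3 ⊕ Fin 3

/-- `Sp(6,3)`. -/
abbrev S63 : Type := ↥(Matrix.symplecticGroup (Fin 3) (ZMod 3))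

/-- `PSp(6,3)`. -/
abbrev P63 : Type := Cfsg.PSp 3 (ZMod 3)

/-- A matrix from its rows. -/
def ofRows (r : Fin 6 → Fin 6 → ZMod 3) : Matrix I6 I6 (ZMod 3) :=
  Matrix.of fun i j => r (finSumFinEquiv i) (finSumFinEquiv j)

/-- A generator of a centraliser of order 26. -/
def b26 : Matrix I6 I6 (ZMod 3) := ofRows ![![0, 1, 2, 0, 2, 2],
    ![0, 2, 0, 1, 0, 2],
    ![2, 0, 1, 1, 2, 0],
    ![2, 1, 2, 1, 0, 2],
    ![0, 0, 2, 0, 1, 0],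
    ![0, 1, 2, 2, 2, 2]]

theorem b26_mem : b26 ∈ Matrix.symplecticGroup (Fin 3) (ZMod 3) :=
  SymplecticGroup.mem_iff.2 (by decide +kernel)

/-- A generator of a centraliser of order 28. -/
def b28 : Matrix I6 I6 (ZMod 3) := ofRows ![![2, 2, 2, 2, 0, 2],
    ![2, 1, 0, 2, 0, 0],
    ![2, 1, 2, 0, 1, 0],
    ![0, 0, 0, 1, 1, 0],
    ![1, 2, 0, 0, 0, 1],
    ![0, 0, 0, 2, 2, 2]]

theorem b28_mem : b28 ∈ Matrix.symplecticGroup (Fin 3) (ZMod 3) :=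
  SymplecticGroup.mem_iff.2 (by decide +kernel)

/-- An element with image of order 6. -/
def x6 : Matrix I6 I6 (ZMod 3) := ofRows ![![0, 1, 2, 2, 1, 0],
    ![2, 1, 1, 0, 2, 0],
    ![2, 1, 0, 1, 1, 2],
    ![1, 0, 2, 2, 1, 1],
    ![0, 0, 0, 1, 1, 1],
    ![2, 0, 1, 0, 2, 1]]

theorem x6_mem : x6 ∈ Matrix.symplecticGroup (Fin 3) (ZMod 3) :=
  SymplecticGroup.mem_iff.2 (by decide +kernel)

/-- An element with image of order 10. -/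
def x10 : Matrix I6 I6 (ZMod 3) := ofRows ![![0, 2, 1, 2, 1, 1],
    ![0, 1, 1, 2, 0, 2],
    ![2, 0, 1, 1, 2, 1],
    ![0, 2, 1, 1, 2, 0],
    ![1, 1, 0, 0, 0, 0],
    ![1, 2, 1, 2, 1, 0]]

theorem x10_mem : x10 ∈ Matrix.symplecticGroup (Fin 3) (ZMod 3) :=
  SymplecticGroup.mem_iff.2 (by decide +kernel)

/-- An element with image of order 14. -/
def x14 : Matrix I6 I6 (ZMod 3) := ofRows ![![2, 2, 2, 2, 0, 2],
    ![2, 1, 0, 2, 0, 0],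
    ![2, 1, 2, 0, 1, 0],
    ![0, 0, 0, 1, 1, 0],
    ![1, 2, 0, 0, 0, 1],
    ![0, 0, 0, 2, 2, 2]]

theorem x14_mem : x14 ∈ Matrix.symplecticGroup (Fin 3) (ZMod 3) :=
  SymplecticGroup.mem_iff.2 (by decide +kernel)

/-- An element with image of order 15. -/
def x15 : Matrix I6 I6 (ZMod 3) := ofRows ![![1, 0, 2, 1, 1, 2],
    ![2, 2, 0, 2, 2, 1],
    ![1, 1, 1, 2, 2, 1],
    ![1, 0, 0, 0, 1, 1],
    ![1, 0, 2, 2, 2, 0],
    ![2, 1, 0, 1, 2, 1]]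

theorem x15_mem : x15 ∈ Matrix.symplecticGroup (Fin 3) (ZMod 3) :=
  SymplecticGroup.mem_iff.2 (by decide +kernel)

/-- Gram table of the Krylov basis of the element of order 13. -/
def gram13 : Fin 6 → Fin 6 → Fin 6 → ZMod 3 := ![![![0, 0, 1, 1, 2, 2], ![0, 0, 0, 1, 1, 2], ![2, 0, 0, 0, 1, 1], ![2, 2, 0, 0, 0, 1], ![1, 2, 2, 0, 0, 0], ![1, 1, 2, 2, 0, 0]],
    ![![0, 0, 0, 1, 1, 2], ![2, 0, 0, 0, 1, 1], ![2, 2, 0, 0, 0, 1], ![1, 2, 2, 0, 0, 0], ![1, 1, 2, 2, 0, 0], ![2, 1, 1, 2, 2, 0]],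
    ![![2, 0, 0, 0, 1, 1], ![2, 2, 0, 0, 0, 1], ![1, 2, 2, 0, 0, 0], ![1, 1, 2, 2, 0, 0], ![2, 1, 1, 2, 2, 0], ![1, 2, 1, 1, 2, 2]],
    ![![2, 2, 0, 0, 0, 1], ![1, 2, 2, 0, 0, 0], ![1, 1, 2, 2, 0, 0], ![2, 1, 1, 2, 2, 0], ![1, 2, 1, 1, 2, 2], ![2, 1, 2, 1, 1, 2]],
    ![![1, 2, 2, 0, 0, 0], ![1, 1, 2, 2, 0, 0], ![2, 1, 1, 2, 2, 0], ![1, 2, 1, 1, 2, 2], ![2, 1, 2, 1, 1, 2], ![2, 2, 1, 2, 1, 1]],
    ![![1, 1, 2, 2, 0, 0], ![2, 1, 1, 2, 2, 0], ![1, 2, 1, 1, 2, 2], ![2, 1, 2, 1, 1, 2], ![2, 2, 1, 2, 1, 1], ![1, 2, 2, 1, 2, 1]]]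

/-- Coordinates of the unit vectors in that basis. -/
def coef13 : Fin 6 → Fin 6 → ZMod 3 := ![![1, 0, 0, 0, 0, 0],
    ![2, 2, 1, 2, 1, 2],
    ![2, 2, 0, 0, 1, 2],
    ![1, 0, 0, 1, 0, 2],
    ![2, 2, 2, 2, 0, 1],
    ![0, 1, 1, 0, 0, 1]]

/-- Gram table of the Krylov basis of the element of order 7. -/
def gram7 : Fin 6 → Fin 6 → Fin 6 → ZMod 3 := ![![![0, 0, 0, 2, 1, 0], ![0, 0, 0, 0, 2, 1], ![0, 0, 0, 0, 0, 2], ![1, 0, 0, 0, 0, 0], ![2, 1, 0, 0, 0, 0], ![0, 2, 1, 0, 0, 0]],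
    ![![0, 0, 0, 0, 2, 1], ![0, 0, 0, 0, 0, 2], ![1, 0, 0, 0, 0, 0], ![2, 1, 0, 0, 0, 0], ![0, 2, 1, 0, 0, 0], ![0, 0, 2, 1, 0, 0]],
    ![![0, 0, 0, 0, 0, 2], ![1, 0, 0, 0, 0, 0], ![2, 1, 0, 0, 0, 0], ![0, 2, 1, 0, 0, 0], ![0, 0, 2, 1, 0, 0], ![0, 0, 0, 2, 1, 0]],
    ![![1, 0, 0, 0, 0, 0], ![2, 1, 0, 0, 0, 0], ![0, 2, 1, 0, 0, 0], ![0, 0, 2, 1, 0, 0], ![0, 0, 0, 2, 1, 0], ![0, 0, 0, 0, 2, 1]],
    ![![2, 1, 0, 0, 0, 0], ![0, 2, 1, 0, 0, 0], ![0, 0, 2, 1, 0, 0], ![0, 0, 0, 2, 1, 0], ![0, 0, 0, 0, 2, 1], ![0, 0, 0, 0, 0, 2]],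
    ![![0, 2, 1, 0, 0, 0], ![0, 0, 2, 1, 0, 0], ![0, 0, 0, 2, 1, 0], ![0, 0, 0, 0, 2, 1], ![0, 0, 0, 0, 0, 2], ![1, 0, 0, 0, 0, 0]]]

/-- Coordinates of the unit vectors in that basis. -/
def coef7 : Fin 6 → Fin 6 → ZMod 3 := ![![1, 0, 0, 0, 0, 0],
    ![2, 2, 0, 2, 2, 1],
    ![0, 1, 2, 2, 2, 2],
    ![1, 1, 0, 0, 2, 1],
    ![1, 1, 1, 1, 1, 1],
    ![1, 0, 1, 1, 1, 2]]

/-- Powers, by repeated multiplication. -/
def pw (a : Matrix I6 I6 (ZMod 3)) : ℕ → Matrix I6 I6 (ZMod 3)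
  | 0 => 1
  | n + 1 => pw a n * a

theorem pw_eq (a : Matrix I6 I6 (ZMod 3)) (n : ℕ) : pw a n = a ^ n := by
  induction n with
  | zero => exact (pow_zero a).symm
  | succ n ih => rw [pw, ih, pow_succ]

/-- Iterated images of the first unit vector. -/
def kry (a : Matrix I6 I6 (ZMod 3)) : ℕ → I6 → ZMod 3
  | 0 => Pi.single (Sum.inl 0) 1
  | n + 1 => a *ᵥ kry a n

theorem kry_eq (a : Matrix I6 I6 (ZMod 3)) (n : ℕ) : kry a n = (a ^ n) *ᵥ kry a 0 := by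
  induction n with
  | zero => rw [pow_zero, Matrix.one_mulVec]
  | succ n ih => rw [pow_succ', ← Matrix.mulVec_mulVec, ← ih]; rfl

/-- The symplectic form. -/
def omega (u v : I6 → ZMod 3) : ZMod 3 := u ⬝ᵥ (Matrix.J (Fin 3) (ZMod 3)) *ᵥ v

theorem omega_mulVec {A : Matrix I6 I6 (ZMod 3)}
    (h : A ∈ Matrix.symplecticGroup (Fin 3) (ZMod 3)) (u v : I6 → ZMod 3) :
    omega (A *ᵥ u) (A *ᵥ v) = omega u v := by
  rw [omega, omega, Matrix.mulVec_mulVec, Matrix.dotProduct_mulVec, Matrix.vecMul_mulVec,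
    ← Matrix.mul_assoc, SymplecticGroup.mem_iff'.1 h, ← Matrix.dotProduct_mulVec]

theorem omega_sum (c d : Fin 6 → ZMod 3) (f g : Fin 6 → I6 → ZMod 3) :
    omega (∑ i, c i • f i) (∑ k, d k • g k) = ∑ i, ∑ k, c i * d k * omega (f i) (g k) := by
  simp only [omega, sum_dotProduct, Matrix.mulVec_sum, dotProduct_sum, smul_dotProduct,
    Matrix.mulVec_smul, dotProduct_smul, smul_eq_mul, Finset.mul_sum]
  rw [Finset.sum_comm]
  exact Finset.sum_congr rfl fun i _ => Finset.sum_congr rfl fun k _ => by ring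

/-- A matrix commuting with `a` is a power of `b`, when the Krylov vectors of `a` form a basis with
the given tables, and the table check holds. -/
theorem eq_pow_of_commute {a b x : Matrix I6 I6 (ZMod 3)} {n : ℕ}
    {coef : Fin 6 → Fin 6 → ZMod 3} {gram : Fin 6 → Fin 6 → Fin 6 → ZMod 3}
    (hcoef : ∀ u : I6, ∑ i, coef (finSumFinEquiv u) i • kry a i = Pi.single u 1)
    (hgram : ∀ j i k : Fin 6, gram j i k = omega (kry a (i + j)) (kry a k))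
    (hab : b * a = a * b)
    (hcheck : ∀ c0 c1 c2 c3 c4 c5 : ZMod 3,
      let c : Fin 6 → ZMod 3 := ![c0, c1, c2, c3, c4, c5]
      (∀ j : Fin 6, ∑ i, ∑ k, c i * c k * gram j i k = gram j 0 0) →
        ∃ m : Fin n, ∑ i, c i • kry a i = pw b m *ᵥ kry a 0)
    (hx : x ∈ Matrix.symplecticGroup (Fin 3) (ZMod 3)) (hxa : x * a = a * x) :
    ∃ m, x = b ^ m := by
  have hspan : ∀ v : I6 → ZMod 3, ∃ c : Fin 6 → ZMod 3, v = ∑ i, c i • kry a i := by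
    intro v
    refine ⟨fun i => ∑ u, v u * coef (finSumFinEquiv u) i, ?_⟩
    simp only [Finset.sum_smul]
    rw [Finset.sum_comm]
    simp only [mul_smul, ← Finset.smul_sum, hcoef]
    exact (pi_eq_sum_univ v).trans (Finset.sum_congr rfl fun u _ => by
      congr 1
      funext w
      simp [Pi.single_apply, eq_comm])
  have hcomm : ∀ (y : Matrix I6 I6 (ZMod 3)), y * a = a * y →
      ∀ i, y *ᵥ kry a i = (a ^ i) *ᵥ (y *ᵥ kry a 0) := by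
    intro y hy i
    rw [kry_eq a i, Matrix.mulVec_mulVec, Matrix.mulVec_mulVec,
      (Commute.pow_right hy i).eq]
  obtain ⟨c, hc⟩ := hspan (x *ᵥ kry a 0)
  have hshift : ∀ j i : ℕ, (a ^ j) *ᵥ kry a i = kry a (i + j) := fun j i => by
    rw [kry_eq a i, kry_eq a (i + j), Matrix.mulVec_mulVec, ← pow_add, add_comm j i]
  have hceta : ![c 0, c 1, c 2, c 3, c 4, c 5] = c := by
    funext i
    fin_cases i <;> rfl
  obtain ⟨m, hm⟩ := hcheck (c 0) (c 1) (c 2) (c 3) (c 4) (c 5) (by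
    rw [hceta]
    intro j
    have e := omega_mulVec hx (kry a j) (kry a 0)
    rw [hcomm x hxa, hc, Matrix.mulVec_sum] at e
    simp only [Matrix.mulVec_smul, hshift] at e
    rw [omega_sum c c (fun i => kry a (i + j)) fun k => kry a k] at e
    simp only [← hgram] at e
    rw [e, hgram]
    norm_num)
  rw [hceta, ← hc, pw_eq] at hm
  refine ⟨m, Matrix.ext_of_mulVec_single fun u => ?_⟩
  rw [← hcoef u, Matrix.mulVec_sum, Matrix.mulVec_sum]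
  refine Finset.sum_congr rfl fun i _ => ?_
  rw [Matrix.mulVec_smul, Matrix.mulVec_smul, hcomm x hxa,
    hcomm (b ^ (m : ℕ)) ((Commute.pow_left hab _).eq), hm]

theorem check13 : ∀ c0 c1 c2 c3 c4 c5 : ZMod 3,
    let c : Fin 6 → ZMod 3 := ![c0, c1, c2, c3, c4, c5]
    (∀ j : Fin 6, ∑ i, ∑ k, c i * c k * gram13 j i k = gram13 j 0 0) →
      ∃ m : Fin 26, ∑ i, c i • kry (pw b26 2) i = pw b26 m *ᵥ kry (pw b26 2) 0 := by
  decide +kernel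

theorem check7 : ∀ c0 c1 c2 c3 c4 c5 : ZMod 3,
    let c : Fin 6 → ZMod 3 := ![c0, c1, c2, c3, c4, c5]
    (∀ j : Fin 6, ∑ i, ∑ k, c i * c k * gram7 j i k = gram7 j 0 0) →
      ∃ m : Fin 28, ∑ i, c i • kry (pw b28 4) i = pw b28 m *ᵥ kry (pw b28 4) 0 := by
  decide +kernel

theorem coef13_spec : ∀ u : I6,
    ∑ i, coef13 (finSumFinEquiv u) i • kry (pw b26 2) i = Pi.single u 1 := by
  decide +kernel

theorem coef7_spec : ∀ u : I6,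
    ∑ i, coef7 (finSumFinEquiv u) i • kry (pw b28 4) i = Pi.single u 1 := by
  decide +kernel

theorem gram13_spec : ∀ j i k : Fin 6,
    gram13 j i k = omega (kry (pw b26 2) (i + j)) (kry (pw b26 2) k) := by
  decide +kernel

theorem gram7_spec : ∀ j i k : Fin 6,
    gram7 j i k = omega (kry (pw b28 4) (i + j)) (kry (pw b28 4) k) := by
  decide +kernel

end CfsgLib.Recog.SpSix
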