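import Cfsg.Agent.Lib.Recog.SpSixCentralizers
import Cfsg.Agent.Lib.Recog.GraphTools

/-!
The prime graph of `PSp(6,3)`.
-/

set_option autoImplicit false
set_option maxHeartbeats 1000000

namespace CfsgLib.Recog.SpSix

open Matrix

theorem card_S63 : Nat.card S63 = 9170703360 := by
  rw [CfsgLib.Linear.Symp.card_symplectic, ZMod.card]
  norm_num [Finset.prod_range_succ]

theorem card_center_S63 : Nat.card (Subgroup.center S63) = 2 := by
  rw [CfsgLib.Linear.Symp.card_center (by norm_num), ZMod.card]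
  norm_num

theorem card_P63 : Nat.card P63 = 4585351680 := by
  have h := Subgroup.card_eq_card_quotient_mul_card_subgroup (Subgroup.center S63)
  rw [card_S63, card_center_S63] at h
  show Nat.card (S63 ⧸ Subgroup.center S63) = _
  omega

/-- `-1`. -/
def negOne : S63 := ⟨-1, SymplecticGroup.neg_mem (one_mem _)⟩

theorem negOne_mem_center : negOne ∈ Subgroup.center S63 :=
  Subgroup.mem_center_iff.2 fun g => Subtype.ext (show (g : Matrix I6 I6 (ZMod 3)) * -1 = -1 * g by
    rw [Matrix.mul_neg, Matrix.neg_mul, Matrix.mul_one, Matrix.one_mul])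

theorem mem_center_iff {z : S63} :
    z ∈ Subgroup.center S63 ↔
      (z : Matrix I6 I6 (ZMod 3)) = 1 ∨ (z : Matrix I6 I6 (ZMod 3)) = -1 := by
  constructor
  · intro hz
    by_contra hcon
    push Not at hcon
    haveI := Fintype.ofFinite (Subgroup.center S63)
    have h2 : Fintype.card (Subgroup.center S63) = 2 := by
      rw [← Nat.card_eq_fintype_card, card_center_S63]
    have h3 : 2 < Fintype.card (Subgroup.center S63) :=
      Fintype.two_lt_card_iff.2 ⟨1, ⟨negOne, negOne_mem_center⟩, ⟨z, hz⟩,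
        fun e => absurd (congrArg (fun w : Subgroup.center S63 =>
          ((w : S63) : Matrix I6 I6 (ZMod 3)) (Sum.inl 0) (Sum.inl 0)) e) (by decide +kernel),
        fun e => hcon.1 (congrArg (fun w : Subgroup.center S63 =>
          ((w : S63) : Matrix I6 I6 (ZMod 3))) e.symm),
        fun e => hcon.2 (congrArg (fun w : Subgroup.center S63 =>
          ((w : S63) : Matrix I6 I6 (ZMod 3))) e.symm)⟩
    omega
  · rintro (h | h)
    · rw [show z = 1 from Subtype.ext h]; exact one_mem _
    · rw [show z = negOne from Subtype.ext h]; exact negOne_mem_center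

theorem center_sq {z : S63} (hz : z ∈ Subgroup.center S63) : z ^ 2 = 1 := by
  apply Subtype.ext
  show (z : Matrix I6 I6 (ZMod 3)) ^ 2 = 1
  rcases mem_center_iff.1 hz with h | h
  · rw [h, one_pow]
  · rw [h, neg_one_sq]

theorem coe_pow (g : S63) (n : ℕ) :
    ((g ^ n : S63) : Matrix I6 I6 (ZMod 3)) = pw (g : Matrix I6 I6 (ZMod 3)) n := by
  induction n with
  | zero => rfl
  | succ n ih =>
    rw [pow_succ, pw, ← ih]
    rfl

/-- The element with matrix `m`. -/
def el (m : Matrix I6 I6 (ZMod 3)) (h : m ∈ Matrix.symplecticGroup (Fin 3) (ZMod 3)) : S63 := ⟨m, h⟩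

theorem orderOf_image {m : Matrix I6 I6 (ZMod 3)}
    (h : m ∈ Matrix.symplecticGroup (Fin 3) (ZMod 3)) {n : ℕ} (hn : 0 < n)
    (h1 : pw m n = 1 ∨ pw m n = -1) (h2 : ∀ k : Fin n, (k : ℕ) ≠ 0 → pw m k ≠ 1 ∧ pw m k ≠ -1) :
    orderOf (QuotientGroup.mk' (Subgroup.center S63) (el m h)) = n := by
  refine CfsgLib.Recog.orderOf_mk_center hn (mem_center_iff.2 (by rw [coe_pow]; exact h1))
    fun k hk hk0 hmem => ?_
  rcases mem_center_iff.1 hmem with e | e <;> rw [coe_pow] at e
  · exact (h2 ⟨k, hk⟩ hk0.ne').1 e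
  · exact (h2 ⟨k, hk⟩ hk0.ne').2 e

theorem orderOf_el {m : Matrix I6 I6 (ZMod 3)}
    (h : m ∈ Matrix.symplecticGroup (Fin 3) (ZMod 3)) {n : ℕ} (hn : n.Prime)
    (h1 : pw m n = 1) (h2 : m ≠ 1) : orderOf (el m h) = n := by
  haveI := Fact.mk hn
  refine orderOf_eq_prime (Subtype.ext ?_) fun e => h2 (congrArg Subtype.val e)
  rw [coe_pow]
  exact h1

/-- The element of order 13. -/
def t13 : S63 := (el b26 b26_mem) ^ 2

/-- The element of order 7. -/
def t7 : S63 := (el b28 b28_mem) ^ 4

theorem orderOf_t13 : orderOf t13 = 13 := by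
  haveI : Fact (Nat.Prime 13) := ⟨by norm_num⟩
  refine orderOf_eq_prime (Subtype.ext ?_) fun e => ?_
  · rw [t13, ← pow_mul, coe_pow]
    exact (by decide +kernel : pw b26 26 = 1)
  · have e' := congrArg Subtype.val e
    rw [t13, coe_pow] at e'
    exact absurd e' (by decide +kernel : pw b26 2 ≠ 1)

theorem orderOf_t7 : orderOf t7 = 7 := by
  haveI : Fact (Nat.Prime 7) := ⟨by norm_num⟩
  refine orderOf_eq_prime (Subtype.ext ?_) fun e => ?_
  · rw [t7, ← pow_mul, coe_pow]
    exact (by decide +kernel : pw b28 28 = 1)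
  · have e' := congrArg Subtype.val e
    rw [t7, coe_pow] at e'
    exact absurd e' (by decide +kernel : pw b28 4 ≠ 1)

theorem pow_central_13 (x : S63) (h : x * t13 = t13 * x) : x ^ 13 ∈ Subgroup.center S63 := by
  have h' : (x : Matrix I6 I6 (ZMod 3)) * pw b26 2 = pw b26 2 * (x : Matrix I6 I6 (ZMod 3)) := by
    have e := congrArg Subtype.val h
    simpa only [t13, Submonoid.coe_mul, coe_pow, el] using e
  obtain ⟨i, hi⟩ := eq_pow_of_commute coef13_spec gram13_spec
    (by rw [pw_eq]; exact (Commute.self_pow b26 2).eq) check13 x.2 h'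
  rw [show x = (el b26 b26_mem) ^ i from Subtype.ext (by rw [coe_pow, pw_eq]; exact hi), ← pow_mul,
    mul_comm, pow_mul]
  exact Subgroup.pow_mem _ (mem_center_iff.2 (Or.inr (by
    rw [coe_pow]; exact (by decide +kernel : pw b26 13 = -1)))) i

theorem pow_central_7 (x : S63) (h : x * t7 = t7 * x) : x ^ 14 ∈ Subgroup.center S63 := by
  have h' : (x : Matrix I6 I6 (ZMod 3)) * pw b28 4 = pw b28 4 * (x : Matrix I6 I6 (ZMod 3)) := by
    have e := congrArg Subtype.val h
    simpa only [t7, Submonoid.coe_mul, coe_pow, el] using e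
  obtain ⟨i, hi⟩ := eq_pow_of_commute coef7_spec gram7_spec
    (by rw [pw_eq]; exact (Commute.self_pow b28 4).eq) check7 x.2 h'
  rw [show x = (el b28 b28_mem) ^ i from Subtype.ext (by rw [coe_pow, pw_eq]; exact hi), ← pow_mul,
    mul_comm, pow_mul]
  exact Subgroup.pow_mem _ (mem_center_iff.2 (Or.inr (by
    rw [coe_pow]; exact (by decide +kernel : pw b28 14 = -1)))) i

theorem primes_P63 {r : ℕ} (hr : r.Prime) : r ∣ Nat.card P63 ↔ CfsgLib.Recog.PrimesSix r := by
  rw [card_P63, show (4585351680 : ℕ) = 2 ^ 9 * 3 ^ 9 * 5 * 7 * 13 by norm_num]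
  constructor
  · intro h
    rcases hr.dvd_mul.1 h with h | h
    · rcases hr.dvd_mul.1 h with h | h
      · rcases hr.dvd_mul.1 h with h | h
        · rcases hr.dvd_mul.1 h with h | h
          · exact Or.inl ((Nat.prime_dvd_prime_iff_eq hr Nat.prime_two).1 (hr.dvd_of_dvd_pow h))
          · exact Or.inr (Or.inl ((Nat.prime_dvd_prime_iff_eq hr Nat.prime_three).1
              (hr.dvd_of_dvd_pow h)))
        · exact Or.inr (Or.inr (Or.inl ((Nat.prime_dvd_prime_iff_eq hr Nat.prime_five).1 h)))
      · exact Or.inr (Or.inr (Or.inr (Or.inl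
          ((Nat.prime_dvd_prime_iff_eq hr (by norm_num)).1 h))))
    · exact Or.inr (Or.inr (Or.inr (Or.inr ((Nat.prime_dvd_prime_iff_eq hr (by norm_num)).1 h))))
  · rintro (rfl | rfl | rfl | rfl | rfl) <;> norm_num

/-- The prime graph of `PSp(6,3)`. -/
theorem adj_P63 {r s : ℕ} (hr : r.Prime) (hs : s.Prime) (hne : r ≠ s) :
    (∃ x : P63, orderOf x = r * s) ↔ CfsgLib.Recog.AdjSix r s := by
  haveI : Fact (Nat.Prime 13) := ⟨by norm_num⟩
  haveI : Fact (Nat.Prime 7) := ⟨by norm_num⟩
  have f13 : (Nat.card S63).factorization 13 = 1 := by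
    rw [card_S63, show (9170703360 : ℕ) = 13 ^ 1 * 705438720 by norm_num,
      Nat.factorization_mul (by norm_num) (by norm_num), Finsupp.add_apply,
      Nat.Prime.factorization_pow (by norm_num), Finsupp.single_eq_same,
      Nat.factorization_eq_zero_of_not_dvd (by norm_num)]
  have f7 : (Nat.card S63).factorization 7 = 1 := by
    rw [card_S63, show (9170703360 : ℕ) = 7 ^ 1 * 1310100480 by norm_num,
      Nat.factorization_mul (by norm_num) (by norm_num), Finsupp.add_apply,
      Nat.Prime.factorization_pow (by norm_num), Finsupp.single_eq_same,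
      Nat.factorization_eq_zero_of_not_dvd (by norm_num)]
  refine CfsgLib.Recog.adjSix_of (fun p hp h => (primes_P63 hp).1 h)
    ⟨_, orderOf_image x6_mem (by norm_num) (by decide +kernel) (by decide +kernel)⟩
    ⟨_, orderOf_image x10_mem (by norm_num) (by decide +kernel) (by decide +kernel)⟩
    ⟨_, orderOf_image x14_mem (by norm_num) (by decide +kernel) (by decide +kernel)⟩
    ⟨_, orderOf_image x15_mem (by norm_num) (by decide +kernel) (by decide +kernel)⟩
    (fun q hq hq13 => CfsgLib.Recog.no_orderOf_mul_center_quotient (by norm_num) hq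
      (fun h => hq13 ((Nat.prime_dvd_prime_iff_eq hq (by norm_num)).1 h))
      (fun z hz => center_sq hz) f13 orderOf_t13 pow_central_13)
    (CfsgLib.Recog.no_orderOf_mul_center_quotient (by norm_num) Nat.prime_three (by norm_num)
      (fun z hz => center_sq hz) f7 orderOf_t7 pow_central_7)
    (CfsgLib.Recog.no_orderOf_mul_center_quotient (by norm_num) Nat.prime_five (by norm_num)
      (fun z hz => center_sq hz) f7 orderOf_t7 pow_central_7) hr hs hne

end CfsgLib.Recog.SpSix
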