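import Mathlib

/-!
A finite solvable group with element orders `1, 2, 3, 4, 5, 6, 9, 12`.
-/

set_option autoImplicit false

namespace CfsgLib.Recog.SpectrumSolvable

theorem fact_three : Fact (Nat.Prime 3) := ⟨Nat.prime_three⟩

theorem fact_two : Fact (Nat.Prime 2) := ⟨Nat.prime_two⟩

theorem fact_five : Fact (Nat.Prime 5) := ⟨Nat.prime_five⟩

attribute [local instance] fact_three fact_two fact_five

/-- The field with 81 elements. -/
abbrev R := GaloisField 3 4

theorem add27 (a b : R) : (a + b) ^ 27 = a ^ 27 + b ^ 27 := add_pow_char_pow (p := 3) (n := 3) a b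

theorem add3 (a b : R) : (a + b) ^ 3 = a ^ 3 + b ^ 3 := add_pow_char (p := 3) a b

/-- A group of order `3 ^ 28`. -/
@[ext]
structure A where
  v1 : R
  v2 : R
  p1 : R
  p2 : R
  q1 : R
  q2 : R
  w : R

namespace A

noncomputable instance instMulA : Mul A := ⟨fun x y =>
  ⟨x.v1 + y.v1, x.v2 + y.v2, x.p1 + y.p1 + x.v1 ^ 27 * y.v1, x.p2 + y.p2 + x.v2 ^ 27 * y.v1,
    x.q1 + y.q1 + x.v1 * y.v2 ^ 3, x.q2 + y.q2 - x.v1 * y.v1 ^ 3,
    x.w + y.w + (x.v1 ^ 27 * y.q1 + x.v2 ^ 27 * y.q2) + (x.p1 * y.v2 ^ 3 - x.p2 * y.v1 ^ 3)⟩⟩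

noncomputable instance instOneA : One A := ⟨⟨0, 0, 0, 0, 0, 0, 0⟩⟩

noncomputable instance instInvA : Inv A := ⟨fun x =>
  ⟨-x.v1, -x.v2, -x.p1 + x.v1 ^ 27 * x.v1, -x.p2 + x.v2 ^ 27 * x.v1, -x.q1 + x.v1 * x.v2 ^ 3,
    -x.q2 - x.v1 * x.v1 ^ 3,
    -x.w + (x.v1 ^ 27 * x.q1 + x.v2 ^ 27 * x.q2) -
      ((-x.p1 + x.v1 ^ 27 * x.v1) * x.v2 ^ 3 - (-x.p2 + x.v2 ^ 27 * x.v1) * x.v1 ^ 3)⟩⟩

theorem mul_def (x y : A) : x * y =
  ⟨x.v1 + y.v1, x.v2 + y.v2, x.p1 + y.p1 + x.v1 ^ 27 * y.v1, x.p2 + y.p2 + x.v2 ^ 27 * y.v1,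
    x.q1 + y.q1 + x.v1 * y.v2 ^ 3, x.q2 + y.q2 - x.v1 * y.v1 ^ 3,
    x.w + y.w + (x.v1 ^ 27 * y.q1 + x.v2 ^ 27 * y.q2) + (x.p1 * y.v2 ^ 3 - x.p2 * y.v1 ^ 3)⟩ := rfl

theorem one_def : (1 : A) = ⟨0, 0, 0, 0, 0, 0, 0⟩ := rfl

theorem inv_def (x : A) : x⁻¹ =
  ⟨-x.v1, -x.v2, -x.p1 + x.v1 ^ 27 * x.v1, -x.p2 + x.v2 ^ 27 * x.v1, -x.q1 + x.v1 * x.v2 ^ 3,
    -x.q2 - x.v1 * x.v1 ^ 3,
    -x.w + (x.v1 ^ 27 * x.q1 + x.v2 ^ 27 * x.q2) -
      ((-x.p1 + x.v1 ^ 27 * x.v1) * x.v2 ^ 3 - (-x.p2 + x.v2 ^ 27 * x.v1) * x.v1 ^ 3)⟩ := rfl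

theorem n27 (a : R) : (-a) ^ 27 = -a ^ 27 := Odd.neg_pow (by decide) a

noncomputable instance instGroupA : Group A :=
  Group.ofLeftAxioms
    (fun x y z => by simp only [mul_def, A.mk.injEq, add27, add3]; refine ⟨?_, ?_, ?_, ?_, ?_, ?_, ?_⟩ <;> ring)
    (fun x => by simp [mul_def, one_def])
    (fun x => by
      simp only [mul_def, inv_def, one_def, A.mk.injEq, n27]
      refine ⟨?_, ?_, ?_, ?_, ?_, ?_, ?_⟩ <;> ring)

/-- As a product of seven copies of the field. -/
def equivProd : A ≃ R × R × R × R × R × R × R where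
  toFun x := (x.v1, x.v2, x.p1, x.p2, x.q1, x.q2, x.w)
  invFun t := ⟨t.1, t.2.1, t.2.2.1, t.2.2.2.1, t.2.2.2.2.1, t.2.2.2.2.2.1, t.2.2.2.2.2.2⟩

instance instFiniteA : Finite A := Finite.of_equiv _ equivProd.symm

theorem three : (3 : R) = 0 := CharP.ofNat_eq_zero R 3

theorem pow_three (x : A) : x ^ 3 = ⟨0, 0, 0, 0, 0, 0, x.v1 * (x.v1 ^ 27 * x.v2 ^ 3 - x.v2 ^ 27 * x.v1 ^ 3)⟩ := by
  have h3 := three
  rw [pow_succ, pow_two]
  simp only [mul_def, A.mk.injEq, add27]
  refine ⟨?_, ?_, ?_, ?_, ?_, ?_, ?_⟩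
  · linear_combination x.v1 * h3
  · linear_combination x.v2 * h3
  · linear_combination (x.p1 + x.v1 ^ 27 * x.v1) * h3
  · linear_combination (x.p2 + x.v2 ^ 27 * x.v1) * h3
  · linear_combination (x.q1 + x.v1 * x.v2 ^ 3) * h3
  · linear_combination (x.q2 - x.v1 * x.v1 ^ 3) * h3
  · linear_combination (x.w + (x.v1 ^ 27 * x.q1 + x.v2 ^ 27 * x.q2) + (x.p1 * x.v2 ^ 3 - x.p2 * x.v1 ^ 3)) * h3

theorem pow_nine (x : A) : x ^ 9 = 1 := by
  rw [show 9 = 3 * 3 by norm_num, pow_mul, pow_three, pow_three]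
  simp [one_def]

theorem isPGroup : IsPGroup 3 A := fun x => ⟨2, pow_nine x⟩

/-- The diagonal automorphisms. -/
noncomputable def diag : Rˣ →* MulAut A :=
  MonoidHom.mk' (fun u =>
    { toFun := fun x => ⟨u * x.v1, u * x.v2, (u : R) ^ 28 * x.p1, (u : R) ^ 28 * x.p2, (u : R) ^ 4 * x.q1,
        (u : R) ^ 4 * x.q2, (u : R) ^ 31 * x.w⟩
      invFun := fun x => ⟨(u⁻¹ : Rˣ) * x.v1, (u⁻¹ : Rˣ) * x.v2, ((u⁻¹ : Rˣ) : R) ^ 28 * x.p1,
        ((u⁻¹ : Rˣ) : R) ^ 28 * x.p2, ((u⁻¹ : Rˣ) : R) ^ 4 * x.q1,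
        ((u⁻¹ : Rˣ) : R) ^ 4 * x.q2, ((u⁻¹ : Rˣ) : R) ^ 31 * x.w⟩
      left_inv := fun x => by simp [← mul_assoc, ← mul_pow]
      right_inv := fun x => by simp [← mul_assoc, ← mul_pow]
      map_mul' := fun x y => by
        simp only [mul_def, A.mk.injEq, mul_pow]
        refine ⟨?_, ?_, ?_, ?_, ?_, ?_, ?_⟩ <;> ring })
    fun u v => MulEquiv.ext fun x => by
      simp only [MulAut.mul_apply, MulEquiv.coe_mk, Equiv.coe_fn_mk, Units.val_mul, mul_pow, A.mk.injEq]
      refine ⟨?_, ?_, ?_, ?_, ?_, ?_, ?_⟩ <;> ring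

theorem diag_apply (u : Rˣ) (x : A) : diag u x =
    ⟨u * x.v1, u * x.v2, (u : R) ^ 28 * x.p1, (u : R) ^ 28 * x.p2, (u : R) ^ 4 * x.q1,
      (u : R) ^ 4 * x.q2, (u : R) ^ 31 * x.w⟩ := rfl

/-- The field automorphisms. -/
noncomputable def field : (R ≃+* R) →* MulAut A :=
  MonoidHom.mk' (fun τ =>
    { toFun := fun x => ⟨τ x.v1, τ x.v2, τ x.p1, τ x.p2, τ x.q1, τ x.q2, τ x.w⟩
      invFun := fun x => ⟨τ.symm x.v1, τ.symm x.v2, τ.symm x.p1, τ.symm x.p2, τ.symm x.q1, τ.symm x.q2, τ.symm x.w⟩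
      left_inv := fun x => by simp
      right_inv := fun x => by simp
      map_mul' := fun x y => by simp [mul_def] })
    fun σ τ => MulEquiv.ext fun x => rfl

theorem field_apply (τ : R ≃+* R) (x : A) :
    field τ x = ⟨τ x.v1, τ x.v2, τ x.p1, τ x.p2, τ x.q1, τ x.q2, τ x.w⟩ := rfl

end A

/-- The Frobenius automorphism. -/
noncomputable def frob : R ≃+* R := RingEquiv.ofBijective (frobenius R 3) (bijective_frobenius R 3)

theorem frob_apply (x : R) : frob x = x ^ 3 := rfl

theorem card_R : Nat.card R = 81 := GaloisField.card 3 4 (by norm_num)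

theorem pow_81 (x : R) : x ^ 81 = x := by
  haveI := Fintype.ofFinite R
  have := FiniteField.pow_card x
  rwa [← Nat.card_eq_fintype_card, card_R] at this

theorem frob_pow (n : ℕ) (x : R) : (frob ^ n : R ≃+* R) x = x ^ 3 ^ n := by
  induction n with
  | zero => simp
  | succ n ih =>
    rw [pow_succ' frob, RingAut.mul_apply, ih, frob_apply, ← pow_mul, ← pow_succ]

theorem frob_pow_four : (frob ^ 4 : R ≃+* R) = 1 := RingEquiv.ext fun x => by
  rw [frob_pow]; exact pow_81 x

theorem exists_gen : ∃ g : Rˣ, orderOf g = 80 := by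
  haveI := Fintype.ofFinite R
  obtain ⟨g, hg⟩ := IsCyclic.exists_generator (α := Rˣ)
  exact ⟨g, by rw [orderOf_eq_card_of_forall_mem_zpowers hg, Nat.card_units, card_R]⟩

/-- A generator of the multiplicative group. -/
noncomputable def gen : Rˣ := exists_gen.choose

theorem orderOf_gen : orderOf gen = 80 := exists_gen.choose_spec

/-- A fifth root of unity. -/
noncomputable def zeta : Rˣ := gen ^ 16

theorem orderOf_zeta : orderOf zeta = 5 := by
  rw [zeta, orderOf_pow_of_dvd (by norm_num) (by rw [orderOf_gen]; norm_num), orderOf_gen]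

section powHom

variable {M : Type*} [Monoid M]

/-- The hom from a cyclic group given by an element of dividing order. -/
def powHom (n : ℕ) [NeZero n] (g : M) (hg : g ^ n = 1) : Multiplicative (ZMod n) →* M :=
  { toFun := fun i => g ^ (Multiplicative.toAdd i).val
    map_one' := by simp
    map_mul' := fun i j => by rw [toAdd_mul, ZMod.val_add, ← pow_add, ← pow_eq_pow_mod _ hg] }

theorem powHom_apply (n : ℕ) [NeZero n] (g : M) (hg : g ^ n = 1) (i : Multiplicative (ZMod n)) :
    powHom n g hg i = g ^ i.toAdd.val := rfl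

end powHom

/-- Raising to the third power on the group of order five. -/
def cube : MulAut (Multiplicative (ZMod 5)) where
  toFun k := k ^ 3
  invFun k := k ^ 2
  left_inv k := by revert k; decide
  right_inv k := by revert k; decide
  map_mul' k l := mul_pow k l 3

theorem cube_pow_four : cube ^ 4 = 1 := MulEquiv.ext fun k => by
  revert k; decide

/-- The action of the group of order four. -/
def psi : Multiplicative (ZMod 4) →* MulAut (Multiplicative (ZMod 5)) := powHom 4 cube cube_pow_four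

/-- The Frobenius group of order twenty. -/
abbrev H := SemidirectProduct (Multiplicative (ZMod 5)) (Multiplicative (ZMod 4)) psi

noncomputable def deltaHom : Multiplicative (ZMod 5) →* MulAut A :=
  A.diag.comp (powHom 5 zeta (orderOf_zeta ▸ pow_orderOf_eq_one zeta))

noncomputable def sigmaHom : Multiplicative (ZMod 4) →* MulAut A :=
  A.field.comp (powHom 4 frob frob_pow_four)

theorem cube_pow (n : ℕ) (k : Multiplicative (ZMod 5)) : (cube ^ n : MulAut _) k = k ^ 3 ^ n := by
  induction n with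
  | zero => simp
  | succ n ih =>
    rw [pow_succ' cube, MulAut.mul_apply, ih, show ∀ l, cube l = l ^ 3 from fun _ => rfl, ← pow_mul,
      ← pow_succ]

theorem compat (j : Multiplicative (ZMod 4)) :
    deltaHom.comp (psi j).toMonoidHom = (MulAut.conj (sigmaHom j)).toMonoidHom.comp deltaHom := by
  refine MonoidHom.ext fun k => ?_
  simp only [MonoidHom.comp_apply, MulEquiv.coe_toMonoidHom, MulAut.conj_apply, deltaHom, sigmaHom, psi,
    powHom_apply, cube_pow]
  rw [eq_mul_inv_iff_mul_eq]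
  refine MulEquiv.ext fun x => ?_
  simp only [MulAut.mul_apply, A.diag_apply, A.field_apply, frob_pow, A.mk.injEq]
  set n := 3 ^ j.toAdd.val
  have hz : ((zeta ^ (k ^ n).toAdd.val : Rˣ) : R) = ((zeta ^ k.toAdd.val : Rˣ) : R) ^ n := by
    rw [← Units.val_pow_eq_pow_val, ← pow_mul]
    congr 1
    rw [pow_eq_pow_iff_modEq, orderOf_zeta, ← ZMod.natCast_eq_natCast_iff, ZMod.natCast_val,
      ZMod.cast_id', id_eq, Nat.cast_mul, ZMod.natCast_val, ZMod.cast_id', id_eq, toAdd_pow, nsmul_eq_mul,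
      mul_comm]
  rw [hz]
  refine ⟨?_, ?_, ?_, ?_, ?_, ?_, ?_⟩ <;> simp only [mul_pow, ← pow_mul, mul_comm n]

/-- The action of the group of order twenty. -/
noncomputable def theta : H →* MulAut A := SemidirectProduct.lift deltaHom sigmaHom compat

/-- The solvable group. -/
abbrev S := SemidirectProduct A H theta

instance instFiniteH : Finite H := Finite.of_equiv _ SemidirectProduct.equivProd.symm

instance instFiniteS : Finite S := Finite.of_equiv _ SemidirectProduct.equivProd.symm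

theorem solvable : Group.IsSolvable S := by
  haveI hA : Group.IsNilpotent A := A.isPGroup.isNilpotent
  haveI : Group.IsSolvable H := Group.isSolvable_of_ker_le_range (SemidirectProduct.inl (φ := psi))
    SemidirectProduct.rightHom (SemidirectProduct.range_inl_eq_ker_rightHom).ge
  exact Group.isSolvable_of_ker_le_range (SemidirectProduct.inl (φ := theta))
    SemidirectProduct.rightHom (SemidirectProduct.range_inl_eq_ker_rightHom).ge

/-- The half argument for a coset of an involutory automorphism. -/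
theorem cube_eq_one_of_involution {B : Type*} [Group B] (hB : ∀ a : B, a ^ 9 = 1) (t : MulAut B)
    (ht : ∀ a, t (t a) = a) (hfix : ∀ c, t c = c → c ^ 3 = 1) (a : B) : (a * t a) ^ 3 = 1 := by
  have hsq : ∀ c : B, c ^ 5 * c ^ 5 = c := fun c => by
    rw [← pow_add, show 5 + 5 = 9 + 1 by norm_num, pow_succ, hB, one_mul]
  obtain ⟨z, hz, hz2⟩ : ∃ z, t z = a⁻¹ * z * a ∧ z * z = a * t a := by
    refine ⟨(a * t a) ^ 5, ?_, hsq _⟩
    have h := conj_pow (i := 5) (a := a⁻¹) (b := a * t a)
    rw [inv_inv] at h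
    rw [map_pow, map_mul, ht, ← h]
    congr 1
    group
  set e := (z⁻¹ * a) ^ 5 with he
  have hb : t (z⁻¹ * a) = (z⁻¹ * a)⁻¹ := by
    rw [map_mul, map_inv, hz, show t a = a⁻¹ * (z * z) by rw [hz2]; group]
    group
  have hte : t e = e⁻¹ := by rw [he, map_pow, hb, inv_pow]
  have hae : a = z * (e * e) := by rw [he, hsq]; group
  have hf : t (e⁻¹ * z * e) = e⁻¹ * z * e := by
    rw [map_mul, map_mul, map_inv, hte, hz, hae]
    group
  have h3 := hfix _ hf
  have hconj : (e⁻¹ * z * e) ^ 3 = e⁻¹ * z ^ 3 * e := by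
    simp [pow_succ, mul_assoc]
  have hz3 : z ^ 3 = 1 := by
    rw [hconj] at h3
    calc z ^ 3 = e * (e⁻¹ * z ^ 3 * e) * e⁻¹ := by group
      _ = 1 := by rw [h3]; group
  rw [← hz2, ← pow_two, ← pow_mul, mul_comm, pow_mul, hz3, one_pow]

theorem sq_eq (a : A) (h : H) : (⟨a, h⟩ : S) ^ 2 = ⟨a * theta h a, h * h⟩ := by
  rw [pow_two]; rfl

theorem inl_pow (c : A) (n : ℕ) : (⟨c, 1⟩ : S) ^ n = ⟨c ^ n, 1⟩ :=
  (map_pow (SemidirectProduct.inl (φ := theta)) c n).symm

theorem fixed_sigma_two {x : A} (hx : A.field (frob ^ 2) x = x) : x ^ 3 = 1 := by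
  rw [A.field_apply] at hx
  have h1 : x.v1 ^ 9 = x.v1 := by
    have h := congrArg A.v1 hx
    simpa [frob_pow] using h
  have h2 : x.v2 ^ 9 = x.v2 := by
    have h := congrArg A.v2 hx
    simpa [frob_pow] using h
  have h27 : ∀ r : R, r ^ 9 = r → r ^ 27 = r ^ 3 := fun r hr => by
    rw [show 27 = 9 * 3 by norm_num, pow_mul, hr]
  rw [A.pow_three, h27 _ h1, h27 _ h2, mul_comm (x.v2 ^ 3), sub_self, mul_zero]
  rfl

/-- Every element has one of the eight orders. -/
theorem orderOf_dvd (x : S) : orderOf x ∣ 5 ∨ orderOf x ∣ 9 ∨ orderOf x ∣ 12 := by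
  obtain ⟨a, h⟩ := x
  have hcase : h = 1 ∨ (h.right = 1 ∧ h.left ≠ 1) ∨ h.right = Multiplicative.ofAdd 2 ∨
      (h * h).right = Multiplicative.ofAdd 2 := by
    obtain ⟨l, r⟩ := h
    by_cases hr : r = 1
    · subst hr
      by_cases hl : l = 1
      · left; subst hl; rfl
      · right; left; exact ⟨rfl, hl⟩
    · right; right
      have : ∀ r : Multiplicative (ZMod 4), r ≠ 1 → r = Multiplicative.ofAdd 2 ∨ r * r = Multiplicative.ofAdd 2 := by
        decide
      exact this r hr
  -- a coset of an involution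
  have hinv : ∀ (a : A) (h : H), h.right = Multiplicative.ofAdd 2 → (⟨a, h⟩ : S) ^ 6 = 1 := by
    intro a h hr
    set k : H := SemidirectProduct.inl (h.left ^ 3) with hk
    set s : H := SemidirectProduct.inr (Multiplicative.ofAdd 2) with hs
    have hh : h = k * s * k⁻¹ := by
      have key : ∀ l : Multiplicative (ZMod 5), l ^ 3 * psi (Multiplicative.ofAdd 2) (l ^ 3)⁻¹ = l := by
        decide +kernel
      rw [hk, ← map_inv]
      refine SemidirectProduct.ext ?_ ?_
      · rw [SemidirectProduct.mul_left, SemidirectProduct.mul_left, SemidirectProduct.mul_right, hs,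
          SemidirectProduct.left_inl, SemidirectProduct.left_inl, SemidirectProduct.left_inr,
          SemidirectProduct.right_inl, SemidirectProduct.right_inr, map_one, mul_one, one_mul]
        exact (key h.left).symm
      · simp [hs, hr]
    have hhh : h * h = 1 := by
      have : s * s = 1 := by rw [hs, ← map_mul]; exact map_one _
      rw [hh, show k * s * k⁻¹ * (k * s * k⁻¹) = k * (s * s) * k⁻¹ by group, this]; group
    have hfix : ∀ c, theta h c = c → c ^ 3 = 1 := by
      intro c hc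
      rw [hh, map_mul, map_mul, map_inv, MulAut.mul_apply, MulAut.mul_apply] at hc
      have h' : theta s ((theta k)⁻¹ c) = (theta k)⁻¹ c := by
        apply (theta k).injective
        rw [hc, MulAut.apply_inv_self]
      have h3 := fixed_sigma_two (x := (theta k)⁻¹ c) (by
        rw [hs, theta, SemidirectProduct.lift_inr, show sigmaHom (Multiplicative.ofAdd 2) = A.field (frob ^ 2) from rfl] at h'
        exact h')
      rwa [← map_pow, ← map_one (theta k)⁻¹, EmbeddingLike.apply_eq_iff_eq] at h3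
    have hc := cube_eq_one_of_involution A.pow_nine (theta h)
      (fun c => by rw [← MulAut.mul_apply, ← map_mul, hhh, map_one]; rfl) hfix a
    rw [show 6 = 2 * 3 by norm_num, pow_mul, sq_eq, hhh, inl_pow, hc]
    rfl
  rcases hcase with rfl | ⟨hr, hl⟩ | hr | hr
  · right; left
    rw [orderOf_dvd_iff_pow_eq_one, inl_pow, A.pow_nine]
    rfl
  · left
    rw [orderOf_dvd_iff_pow_eq_one]
    -- the fixed point free coset
    have hh : h = SemidirectProduct.inl h.left := SemidirectProduct.ext rfl (by simp [hr])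
    have hθ : theta h = A.diag (zeta ^ h.left.toAdd.val) := by
      conv_lhs => rw [hh]
      rw [theta, SemidirectProduct.lift_inl]; rfl
    have hu : ∀ k, ¬ 5 ∣ k → ((zeta ^ h.left.toAdd.val : Rˣ) : R) ^ k ≠ 1 := by
      intro k hk e
      rw [← Units.val_pow_eq_pow_val, Units.val_eq_one, ← pow_mul, ← orderOf_dvd_iff_pow_eq_one,
        orderOf_zeta] at e
      rcases (Nat.Prime.dvd_mul Nat.prime_five).mp e with e | e
      · have : h.left.toAdd.val = 0 := Nat.eq_zero_of_dvd_of_lt e (ZMod.val_lt _)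
        exact hl ((ZMod.val_eq_zero _).mp this)
      · exact hk e
    have hfpf : ∀ c, theta h c = c → c = 1 := by
      intro c hc
      rw [hθ, A.diag_apply] at hc
      have key : ∀ (k : ℕ) (r : R), ¬ 5 ∣ k → ((zeta ^ h.left.toAdd.val : Rˣ) : R) ^ k * r = r → r = 0 := by
        intro k r hk e
        by_contra hr0
        exact hu k hk (mul_eq_right₀ hr0 |>.mp e)
      obtain ⟨v1, v2, p1, p2, q1, q2, w⟩ := c
      simp only [A.mk.injEq] at hc
      obtain ⟨e1, e2, e3, e4, e5, e6, e7⟩ := hc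
      rw [← pow_one ((zeta ^ h.left.toAdd.val : Rˣ) : R)] at e1 e2
      have := key 1 v1 (by norm_num) e1; subst this
      have := key 1 v2 (by norm_num) e2; subst this
      have := key 28 p1 (by norm_num) e3; subst this
      have := key 28 p2 (by norm_num) e4; subst this
      have := key 4 q1 (by norm_num) e5; subst this
      have := key 4 q2 (by norm_num) e6; subst this
      have := key 31 w (by norm_num) e7; subst this
      rfl
    have hinj : Function.Injective fun b : A => b * (theta h b)⁻¹ := by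
      intro b c hbc
      simp only at hbc
      have e : theta h (c⁻¹ * b) = c⁻¹ * b := by
        rw [map_mul, map_inv]
        calc (theta h c)⁻¹ * theta h b = c⁻¹ * (c * (theta h c)⁻¹) * theta h b := by group
          _ = c⁻¹ * (b * (theta h b)⁻¹) * theta h b := by rw [← hbc]
          _ = c⁻¹ * b := by group
      exact (inv_mul_eq_one.mp (hfpf _ e)).symm
    obtain ⟨b, hb⟩ := (Finite.injective_iff_surjective.mp hinj) a
    have hx : (⟨a, h⟩ : S) = SemidirectProduct.inl b * SemidirectProduct.inr h * (SemidirectProduct.inl b)⁻¹ := by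
      refine SemidirectProduct.ext ?_ ?_
      · simp only [SemidirectProduct.mul_left, SemidirectProduct.left_inl, SemidirectProduct.left_inr,
          SemidirectProduct.mul_right, SemidirectProduct.right_inl, SemidirectProduct.right_inr, map_one,
          mul_one, one_mul, SemidirectProduct.inv_left, inv_one, map_inv, MulAut.one_apply]
        exact hb.symm
      · simp
    rw [hx, conj_pow, ← map_pow, hh, ← map_pow,
      (by decide : ∀ l : Multiplicative (ZMod 5), l ^ 5 = 1) h.left,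
      map_one, map_one, mul_one, mul_inv_cancel]
  · right; right
    rw [orderOf_dvd_iff_pow_eq_one, show 12 = 6 * 2 by norm_num, pow_mul, hinv a h hr, one_pow]
  · right; right
    rw [orderOf_dvd_iff_pow_eq_one, show 12 = 2 * 6 by norm_num, pow_mul, sq_eq, hinv _ _ hr]

/-- The element orders. -/
theorem range_orderOf :
    Set.range (orderOf : S → ℕ) = {n | n ∈ ({1, 2, 3, 4, 5, 6, 9, 12} : Finset ℕ)} := by
  ext n
  refine ⟨?_, fun hn => ?_⟩
  · rintro ⟨x, rfl⟩
    have hd : orderOf x ∈ Nat.divisors 5 ∪ Nat.divisors 9 ∪ Nat.divisors 12 := by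
      simp only [Finset.mem_union, Nat.mem_divisors]
      rcases orderOf_dvd x with h | h | h
      · exact Or.inl (Or.inl ⟨h, by norm_num⟩)
      · exact Or.inl (Or.inr ⟨h, by norm_num⟩)
      · exact Or.inr ⟨h, by norm_num⟩
    have key : Nat.divisors 5 ∪ Nat.divisors 9 ∪ Nat.divisors 12 = ({1, 2, 3, 4, 5, 6, 9, 12} : Finset ℕ) := by
      decide
    rwa [key] at hd
  -- witnesses
  have h5 : ∃ x : S, orderOf x = 5 := by
    refine ⟨SemidirectProduct.inr (SemidirectProduct.inl (Multiplicative.ofAdd 1)), ?_⟩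
    rw [orderOf_injective _ SemidirectProduct.inr_injective, orderOf_injective _ SemidirectProduct.inl_injective]
    exact orderOf_eq_prime (by decide) (by decide)
  have h9 : ∃ x : S, orderOf x = 9 := by
    refine ⟨SemidirectProduct.inl ⟨(gen : R), 1, 0, 0, 0, 0, 0⟩, ?_⟩
    rw [orderOf_injective _ SemidirectProduct.inl_injective]
    refine orderOf_eq_prime_pow (p := 3) (n := 1) ?_ (A.pow_nine _)
    rw [pow_one, A.pow_three, A.one_def, A.mk.injEq]
    rintro ⟨-, -, -, -, -, -, h⟩
    simp only [one_pow, mul_one, one_mul] at h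
    rw [mul_eq_zero, sub_eq_zero] at h
    rcases h with h | h
    · exact gen.ne_zero h
    · have h' : gen ^ 27 = gen ^ 3 := Units.ext (by simpa using h)
      rw [pow_eq_pow_iff_modEq, orderOf_gen] at h'
      exact absurd h' (by decide)
  have h12 : ∃ x : S, orderOf x = 12 := by
    set c : A := ⟨1, 0, 0, 0, 0, 0, 0⟩ with hc
    set s : H := SemidirectProduct.inr (Multiplicative.ofAdd 1) with hs
    refine ⟨SemidirectProduct.inl c * SemidirectProduct.inr s, ?_⟩
    have hcomm : Commute (SemidirectProduct.inl c : S) (SemidirectProduct.inr s) := by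
      have hf : theta s c = c := by
        rw [hs, theta, SemidirectProduct.lift_inr, hc]
        rw [show sigmaHom (Multiplicative.ofAdd 1) = A.field (frob ^ 1) from rfl]
        rw [A.field_apply]
        simp
      have := SemidirectProduct.inl_aut (φ := theta) s c
      rw [hf] at this
      show _ = _
      nth_rewrite 1 [this]
      rw [mul_assoc, ← map_mul, inv_mul_cancel, map_one, mul_one]
    have o3 : orderOf (SemidirectProduct.inl c : S) = 3 := by
      rw [orderOf_injective _ SemidirectProduct.inl_injective]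
      refine orderOf_eq_prime ?_ fun e => one_ne_zero (congrArg A.v1 e)
      rw [A.pow_three, A.one_def, hc]
      simp
    have o4 : orderOf (SemidirectProduct.inr s : S) = 4 := by
      rw [orderOf_injective _ SemidirectProduct.inr_injective, hs,
        orderOf_injective _ SemidirectProduct.inr_injective]
      exact orderOf_eq_prime_pow (p := 2) (n := 1) (by decide) (by decide)
    rw [hcomm.orderOf_mul_eq_mul_orderOf_of_coprime (by rw [o3, o4]; norm_num), o3, o4]
  have key : ∀ m ∈ ({1, 2, 3, 4, 5, 6, 9, 12} : Finset ℕ), m ∣ 5 ∨ m ∣ 9 ∨ m ∣ 12 := by decide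
  have hpow : ∀ w, w ≠ 0 → n ∣ w → (∃ x : S, orderOf x = w) → n ∈ Set.range (orderOf : S → ℕ) := by
    rintro w hw ⟨e, he⟩ ⟨x, hx⟩
    have hn0 : n ≠ 0 := by rintro rfl; simp [hw] at he
    refine ⟨x ^ e, ?_⟩
    rw [orderOf_pow_of_dvd (by rintro rfl; simp [hw] at he) (by rw [hx, he]; exact dvd_mul_left _ _), hx, he,
      Nat.mul_div_cancel _ (Nat.pos_of_ne_zero (by rintro rfl; simp [hw] at he))]
  rcases key n hn with h | h | h
  · exact hpow 5 (by norm_num) h h5
  · exact hpow 9 (by norm_num) h h9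
  · exact hpow 12 (by norm_num) h h12

end CfsgLib.Recog.SpectrumSolvable
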