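import Cfsg.Agent.Lib.Recog.SuborbitThree

/-!
Sims' theorem: the two-group of a suborbit of length three is a chain of shifted involutions,
whence its order is at most `16`.
-/

set_option autoImplicit false
set_option maxHeartbeats 400000

namespace CfsgLib.Recog.SuborbitThree

universe u

variable {G : Type u} [Group G] [Finite G]

theorem card_mul_card_le {H K S : Subgroup G} (hH : H ≤ S) (hK : K ≤ S) :
    Nat.card H * Nat.card K ≤ Nat.card S * Nat.card ↥(H ⊓ K) := by
  have hne : H.relIndex S ≠ 0 := fun e => by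
    have h := card_eq S H hH
    rw [e, zero_mul] at h
    exact Nat.card_pos.ne h
  have h1 : (H ⊓ K).relIndex K ≤ H.relIndex S := by
    rw [Subgroup.inf_relIndex_right]; exact Subgroup.relIndex_le_of_le_right hK hne
  rw [← card_eq K (H ⊓ K) inf_le_right, ← card_eq S H hH]
  calc _ = (H ⊓ K).relIndex K * (Nat.card H * Nat.card ↥(H ⊓ K)) := by ring
    _ ≤ H.relIndex S * (Nat.card H * Nat.card ↥(H ⊓ K)) := Nat.mul_le_mul_right _ h1
    _ = _ := by ring

omit [Finite G] in
theorem mem_centralizer_map {A : Subgroup G} {g q : G} (hq : q ∈ Subgroup.centralizer (A : Set G)) :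
    g * q * g⁻¹ ∈ Subgroup.centralizer ((A.map (MulAut.conj g).toMonoidHom : Subgroup G) : Set G) := by
  rw [Subgroup.mem_centralizer_iff] at hq ⊢
  rintro _ ⟨a, ha, rfl⟩
  show g * a * g⁻¹ * (g * q * g⁻¹) = g * q * g⁻¹ * (g * a * g⁻¹)
  calc _ = g * (a * q) * g⁻¹ := by group
    _ = g * (q * a) * g⁻¹ := by rw [hq a ha]
    _ = _ := by group

omit [Finite G] in
theorem le_normalizer_of_le_centralizer {S B : Subgroup G} (h : S ≤ Subgroup.centralizer (B : Set G)) :
    B ≤ Subgroup.normalizer (S : Set G) := fun b hb => by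
  rw [Subgroup.mem_normalizer_iff]
  intro x
  constructor
  · intro hx
    rwa [Subgroup.mem_centralizer_iff.mp (h hx) b hb, mul_inv_cancel_right]
  · intro hx
    have := Subgroup.mem_centralizer_iff.mp (h hx) b⁻¹ (inv_mem hb)
    rw [show b⁻¹ * (b * x * b⁻¹) = x * b⁻¹ by group] at this
    rwa [mul_right_cancel this]

namespace Core

variable {A P Q : Subgroup G} {g : G} {k : ℕ} (hc : Core A P Q g k)

include hc

theorem P_le_conj : P ≤ A.map (MulAut.conj g).toMonoidHom := hc.P_eq ▸ inf_le_right

theorem relIndex_P : P.relIndex A = 3 := by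
  have h := card_eq A P hc.P_le
  rw [hc.card_A, hc.card_P] at h
  exact Nat.eq_of_mul_eq_mul_right (by positivity) h

theorem relIndex_Q : Q.relIndex P = 2 := by
  have h := card_eq P Q hc.Q_le
  have hk := hc.k_pos
  rw [hc.card_Q, hc.card_P] at h
  obtain ⟨j, rfl⟩ : ∃ j, k = j + 1 := ⟨k - 1, by omega⟩
  rw [Nat.add_sub_cancel, pow_succ'] at h
  exact Nat.eq_of_mul_eq_mul_right (by positivity) h

theorem eq_or_eq {N : Subgroup G} (hN : P ≤ N) : A ≤ N ∨ N ⊓ A = P := by
  have hd : (N ⊓ A).relIndex A ∣ P.relIndex A := Subgroup.relIndex_dvd_of_le_left A (le_inf hN hc.P_le)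
  rw [hc.relIndex_P] at hd
  rcases (Nat.dvd_prime Nat.prime_three).mp hd with e | e
  · exact Or.inl fun a ha => (Subgroup.relIndex_eq_one.mp e ha).1
  · right
    refine (Subgroup.eq_of_le_of_card_ge (le_inf hN hc.P_le) ?_).symm
    have h1 := card_eq A (N ⊓ A) inf_le_right
    rw [e, hc.card_A] at h1
    rw [hc.card_P]
    omega

theorem le_of_normalised {N : Subgroup G} (hN : P ≤ N) (hA : A ≤ Subgroup.normalizer (N : Set G)) : A ≤ N := by
  rcases hc.eq_or_eq hN with h | h
  · exact h
  · refine absurd (fun a ha => mem_normalizer_of_forall fun p hp => ?_) hc.P_not_normal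
    rw [← h] at hp ⊢
    exact Subgroup.mem_inf.mpr ⟨(Subgroup.mem_normalizer_iff.mp (hA ha) p).mp (Subgroup.mem_inf.mp hp).1,
      mul_mem (mul_mem ha (Subgroup.mem_inf.mp hp).2) (inv_mem ha)⟩

theorem mem_P_of_normalises {a : G} (ha : a ∈ A) (h : a ∈ Subgroup.normalizer (P : Set G)) : a ∈ P := by
  rcases hc.eq_or_eq (N := Subgroup.normalizer (P : Set G)) Subgroup.le_normalizer with e | e
  · exact absurd e hc.P_not_normal
  · exact e ▸ Subgroup.mem_inf.mpr ⟨h, ha⟩

theorem exists_moved : ∃ a ∈ A, ∃ p ∈ P, a * p * a⁻¹ ∉ P := by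
  by_contra h
  push Not at h
  exact hc.P_not_normal fun a ha => mem_normalizer_of_forall (h a ha)

theorem mem_centralizer_A {z : G} (hz : ∀ p ∈ P, Commute z p) {a : G} (ha : a ∈ A) {p : G} (hp : p ∈ P)
    (hne : a * p * a⁻¹ ∉ P) (hcm : Commute z (a * p * a⁻¹)) : z ∈ Subgroup.centralizer (A : Set G) := by
  have hmem : ∀ x, Commute z x → x ∈ Subgroup.centralizer ({z} : Set G) := fun x hx =>
    Subgroup.mem_centralizer_singleton_iff.mpr hx.symm.eq
  rcases hc.eq_or_eq (fun x hx => hmem x (hz x hx)) with h | h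
  · exact Subgroup.mem_centralizer_iff.mpr fun x hx => Subgroup.mem_centralizer_singleton_iff.mp (h hx)
  · refine absurd ?_ hne
    rw [← h]
    exact Subgroup.mem_inf.mpr ⟨hmem _ hcm, mul_mem (mul_mem ha (hc.P_le hp)) (inv_mem ha)⟩

/-- The two-group is generated by a chain of shifted involutions. -/
theorem exists_windows :
    ∃ y, Windows g y k ∧ P = W g y 0 k ∧ Q = W g y 0 (k - 1) := by
  classical
  set cj := (MulAut.conj g).toMonoidHom with hcj
  let F : ℕ → Subgroup G := fun n => Nat.rec (motive := fun _ => Subgroup G) P (fun _ X => (X ⊓ Q).map cj) n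
  have hsucc : ∀ n, F (n + 1) = (F n ⊓ Q).map cj := fun n => rfl
  have h0 : F 0 = P := rfl
  have hanti : ∀ n, F (n + 1) ≤ F n := by
    intro n
    induction n with
    | zero => rintro _ ⟨q, hq, rfl⟩; exact hc.Q_shift q (Subgroup.mem_inf.mp hq).2
    | succ n ih => rw [hsucc (n + 1), hsucc n]; exact Subgroup.map_mono (inf_le_inf_right Q ih)
  have hle : ∀ n, F n ≤ P := fun n => by
    induction n with
    | zero => exact le_rfl
    | succ n ih => exact (hanti n).trans ih
  have hhalf : ∀ n, ¬ F n ≤ Q → Nat.card ↥(F n ⊓ Q) * 2 = Nat.card ↥(F n) := by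
    intro n hn
    have h1 := card_eq (F n) (F n ⊓ Q) inf_le_left
    have h2 : (F n ⊓ Q).relIndex (F n) = 2 := by
      rw [Subgroup.inf_relIndex_left]
      have hle2 : Q.relIndex (F n) ≤ 2 :=
        hc.relIndex_Q ▸ Subgroup.relIndex_le_of_le_right (hle n) (by rw [hc.relIndex_Q]; norm_num)
      have hne1 : Q.relIndex (F n) ≠ 1 := fun e => hn (Subgroup.relIndex_eq_one.mp e)
      have hne0 : Q.relIndex (F n) ≠ 0 := fun e => by
        rw [Subgroup.inf_relIndex_left, e, zero_mul] at h1
        exact Nat.card_pos.ne h1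
      omega
    rw [h2] at h1
    rw [← h1, mul_comm]
  have hcard : ∀ n, (∀ i < n, ¬ F i ≤ Q) → Nat.card ↥(F n) * 2 ^ n = 2 ^ k := by
    intro n
    induction n with
    | zero => intro; rw [h0, hc.card_P, pow_zero, mul_one]
    | succ n ih =>
      intro h
      rw [← ih fun i hi => h i (by omega), hsucc, Subgroup.card_map_of_injective (MulEquiv.injective _),
        pow_succ', ← mul_assoc, hhalf n (h n (by omega))]
  have hex : ∃ n, F n ≤ Q := by
    by_contra h
    push Not at h
    have h1 := hcard k fun i _ => h i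
    have h2 : Nat.card ↥(F k) = 1 := Nat.eq_of_mul_eq_mul_right (pow_pos two_pos k) (h1.trans (one_mul _).symm)
    exact h k (by rw [Subgroup.eq_bot_of_card_eq _ h2]; exact bot_le)
  set N := Nat.find hex with hN
  have hNQ : F N ≤ Q := Nat.find_spec hex
  have hlow : ∀ i < N, ¬ F i ≤ Q := fun i hi => Nat.find_min hex hi
  -- the last term is trivial
  have hbot : F N = ⊥ := by
    have hgX : g ∈ Subgroup.normalizer (F N : Set G) := by
      refine mem_normalizer_of_forall fun s hs => hanti N ?_
      rw [hsucc]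
      exact ⟨s, Subgroup.mem_inf.mpr ⟨hs, hNQ hs⟩, rfl⟩
    have hdesc : ∀ d, d ≤ N → F (N - d) ≤ Subgroup.normalizer (F N : Set G) := by
      intro d
      induction d with
      | zero => intro; rw [Nat.sub_zero]; exact Subgroup.le_normalizer
      | succ d ih =>
        intro hd
        set j := N - (d + 1) with hj
        have hjN : j < N := by omega
        have hjd : N - d = j + 1 := by omega
        have h1 : F (j + 1) ≤ Subgroup.normalizer (F N : Set G) := hjd ▸ ih (by omega)
        have h2 : F j ⊓ Q ≤ Subgroup.normalizer (F N : Set G) := by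
          intro x hx
          have := mul_mem (mul_mem (inv_mem hgX) (h1 ⟨x, hx, rfl⟩)) hgX
          simpa [hcj, mul_assoc] using this
        have hin : Nat.card ↥(F j ⊓ Q) = Nat.card ↥(F (j + 1)) :=
          (Subgroup.card_map_of_injective (MulEquiv.injective _)).symm
        have hidx2 : (F (j + 1)).relIndex (F j) = 2 := by
          have e1 := card_eq (F j) (F (j + 1)) (hanti j)
          rw [← hhalf j (hlow j hjN), hin] at e1
          exact Nat.eq_of_mul_eq_mul_right Nat.card_pos (e1.trans (mul_comm _ _))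
        rcases Nat.eq_or_lt_of_le (show j + 1 ≤ N by omega) with e | e
        · intro x hx
          rw [← e]
          refine mem_normalizer_of_forall fun s hs => ?_
          exact (Subgroup.normal_of_index_eq_two hidx2).conj_mem ⟨s, hanti j hs⟩ hs ⟨x, hx⟩
        · obtain ⟨w, hw, hwQ⟩ := SetLike.not_le_iff_exists.mp (hlow (j + 1) e)
          intro x hx
          by_cases hxQ : x ∈ Q
          · exact h2 (Subgroup.mem_inf.mpr ⟨hx, hxQ⟩)
          · have hxw : x * w ∈ Q :=
              (Subgroup.mul_mem_iff_of_index_two hc.relIndex_Q (a := (⟨x, hle j hx⟩ : P))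
                (b := ⟨w, hle (j + 1) hw⟩)).mpr (iff_of_false hxQ hwQ)
            have := mul_mem (h2 (Subgroup.mem_inf.mpr ⟨mul_mem hx (hanti j hw), hxw⟩)) (inv_mem (h1 hw))
            rwa [mul_inv_cancel_right] at this
    have hPn : P ≤ Subgroup.normalizer (F N : Set G) := by
      have := hdesc N le_rfl
      rwa [Nat.sub_self, h0] at this
    exact hc.sit.core_g _ ((hle N).trans hc.P_le) (hc.grow _ hPn hgX) hgX
  have hNk : N = k := by
    have := hcard N hlow
    rw [hbot, Subgroup.card_bot, one_mul] at this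
    exact Nat.pow_right_injective le_rfl this
  rw [hNk] at hlow hbot
  have hk := hc.k_pos
  have hcardF : ∀ n ≤ k, Nat.card ↥(F (k - n)) = 2 ^ n := by
    intro n hn
    have h := hcard (k - n) fun i hi => hlow i (by omega)
    rw [show 2 ^ k = 2 ^ n * 2 ^ (k - n) by rw [← pow_add]; congr 1; omega] at h
    exact Nat.eq_of_mul_eq_mul_right (by positivity) h
  obtain ⟨y', hy', hy'Q⟩ := SetLike.not_le_iff_exists.mp (hlow (k - 1) (by omega))
  set y := (g ^ (k - 1))⁻¹ * y' * g ^ (k - 1) with hy
  have hXtop : X g y (k - 1) = y' := by simp only [X, hy]; group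
  have hshift : ∀ n, n + 1 ≤ k → F (k - n) = W g y (k - n) n →
      F (k - (n + 1)) ⊓ Q = W g y (k - (n + 1)) n := by
    intro n hn he
    refine Subgroup.map_injective (f := cj) (MulEquiv.injective _) ?_
    rw [← hsucc, hcj, map_conj_W, show k - (n + 1) + 1 = k - n by omega]
    exact he
  have hmain : ∀ n, n ≤ k → F (k - n) = W g y (k - n) n := by
    intro n
    induction n with
    | zero => intro; rw [Nat.sub_zero, hbot, W_zero]
    | succ n ih =>
      intro hn
      have he := ih (by omega)
      rcases Nat.eq_zero_or_pos n with rfl | hn0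
      · simp only [Nat.zero_add] at hn ⊢
        refine (Subgroup.eq_of_le_of_card_ge (W_le fun i h1 h2 => ?_) ?_).symm
        · rw [show i = k - 1 by omega, hXtop]; exact hy'
        · rw [hcardF 1 hn, pow_one]
          by_contra hlt
          have h1 : Nat.card (W g y (k - 1) 1) = 1 := by
            have := Nat.card_pos (α := W g y (k - 1) 1)
            omega
          have hmem : y' ∈ W g y (k - 1) 1 := by
            rw [← hXtop]; exact X_mem (by omega) (by omega)
          rw [Subgroup.eq_bot_of_card_eq _ h1, Subgroup.mem_bot] at hmem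
          exact hy'Q (hmem ▸ one_mem Q)
      · have hinQ := hshift n hn he
        set j := k - (n + 1) with hj
        have hj1 : k - n = j + 1 := by omega
        rw [hj1] at he
        refine le_antisymm (fun x hx => ?_) (W_le fun i h1 h2 => ?_)
        · obtain ⟨w, hw, hwQ⟩ := SetLike.not_le_iff_exists.mp (hlow (j + 1) (by omega))
          have hwW : w ∈ W g y j (n + 1) := by rw [he] at hw; exact W_mono (by omega) (by omega) hw
          by_cases hxQ : x ∈ Q
          · exact W_mono le_rfl (by omega) (hinQ ▸ Subgroup.mem_inf.mpr ⟨hx, hxQ⟩)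
          · have hxw : x * w ∈ Q :=
              (Subgroup.mul_mem_iff_of_index_two hc.relIndex_Q (a := (⟨x, hle j hx⟩ : P))
                (b := ⟨w, hle (j + 1) hw⟩)).mpr (iff_of_false hxQ hwQ)
            have h3 : x * w ∈ W g y j (n + 1) :=
              W_mono le_rfl (by omega) (hinQ ▸ Subgroup.mem_inf.mpr ⟨mul_mem hx (hanti j hw), hxw⟩)
            simpa using mul_mem h3 (inv_mem hwW)
        · rcases Nat.lt_or_ge i (j + n) with h3 | h3
          · have : X g y i ∈ F j ⊓ Q := hinQ ▸ X_mem h1 h3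
            exact (Subgroup.mem_inf.mp this).1
          · have : X g y i ∈ F (j + 1) := he ▸ X_mem (by omega) (by omega)
            exact hanti j this
  refine ⟨y, fun n hn => ?_, ?_, ?_⟩
  · have h := hmain n hn
    have h2 := hcardF n hn
    rw [h, show k - n = 0 + (k - n) by omega, ← map_W, Subgroup.card_map_of_injective (MulEquiv.injective _)] at h2
    exact h2
  · have h := hmain k le_rfl
    rwa [Nat.sub_self, h0] at h
  · have h := hshift (k - 1) (by omega) (hmain (k - 1) (by omega))
    rwa [show k - (k - 1 + 1) = 0 by omega, h0, inf_eq_right.mpr hc.Q_le] at h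

end Core

/-- The normalised data together with the chain. -/
structure Chain (A P Q : Subgroup G) (g y : G) (k : ℕ) : Prop where
  core : Core A P Q g k
  windows : Windows g y k
  P_win : P = W g y 0 k
  Q_win : Q = W g y 0 (k - 1)

/-- The first step `r` at which the chain fails to commute, with what it implies. -/
structure Step (A : Subgroup G) (g y : G) (k r : ℕ) : Prop where
  r_lt : r < k
  r_pos : 1 ≤ r
  commutes : ∀ d, d < r → Commute (X g y 0) (X g y d)
  com_ne : com g y r 0 ≠ 1
  lt_two : k < 2 * r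
  le_three : 2 * k ≤ 3 * r
  u_le : 2 ^ (2 * r - k - 1) ≤ Nat.card ↥(W g y (k - r) (2 * r - k) ⊓ Subgroup.centralizer (A : Set G))
  u_shift : ∀ u ∈ W g y (k - r) (2 * r - k) ⊓ Subgroup.centralizer (A : Set G),
    g * u * g⁻¹ ∈ W g y (k - r) (2 * r - k) ∧ (g * u * g⁻¹ ∈ Subgroup.centralizer (A : Set G) → u = 1)
  u_sq : Nat.card ↥(W g y (k - r) (2 * r - k) ⊓ Subgroup.centralizer (A : Set G)) *
    Nat.card ↥(W g y (k - r) (2 * r - k) ⊓ Subgroup.centralizer (A : Set G)) ≤ 2 ^ (2 * r - k)
  E_normal : ∀ a ∈ A, ∀ e ∈ W g y (k - 1 - r) (2 * r - k + 1),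
    a * e * a⁻¹ ∈ W g y (k - 1 - r) (2 * r - k + 1)

namespace Chain

variable {A P Q : Subgroup G} {g y : G} {k : ℕ} (h : Chain A P Q g y k)

include h

theorem X_mem_P {i : ℕ} (hi : i < k) : X g y i ∈ P := h.P_win ▸ X_mem (Nat.zero_le _) (by omega)

theorem X_mem_Q {i : ℕ} (hi : i + 1 < k) : X g y i ∈ Q := h.Q_win ▸ X_mem (Nat.zero_le _) (by omega)

theorem W_le_P {a n : ℕ} (ha : a + n ≤ k) : W g y a n ≤ P := h.P_win ▸ W_mono (Nat.zero_le _) (by omega)

theorem W_le_Q {a n : ℕ} (ha : a + n + 1 ≤ k) : W g y a n ≤ Q := h.Q_win ▸ W_mono (Nat.zero_le _) (by omega)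

theorem core_inter {u : G} (hu : u ∈ P) (h1 : u ∈ Subgroup.centralizer (A : Set G))
    (h2 : g⁻¹ * u * g ∈ Subgroup.centralizer (A : Set G)) : u = 1 := by
  have h3 : u ∈ Subgroup.centralizer ((A.map (MulAut.conj g).toMonoidHom : Subgroup G) : Set G) := by
    have := mem_centralizer_map (g := g) h2
    rwa [show g * (g⁻¹ * u * g) * g⁻¹ = u by group] at this
  have := h.core.sit.core_AB (Subgroup.zpowers u) (Subgroup.zpowers_le.mpr (h.core.P_le hu))
    (le_normalizer_of_le_centralizer (Subgroup.zpowers_le.mpr h1))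
    (le_normalizer_of_le_centralizer (Subgroup.zpowers_le.mpr h3))
  exact Subgroup.zpowers_eq_bot.mp this

/-- A commutative chain is short. -/
theorem le_two (hcomm : ∀ d, d < k → Commute (X g y 0) (X g y d)) : k ≤ 2 := by
  have hPc : ∀ p ∈ P, ∀ q ∈ P, Commute p q := fun p hp q hq =>
    commute_windows hcomm (h.P_win ▸ hp) (h.P_win ▸ hq) le_rfl le_rfl
  have hQA : Q ≤ Subgroup.centralizer (A : Set G) := by
    intro q hq
    obtain ⟨a, ha, p, hp, hne⟩ := h.core.exists_moved
    refine h.core.mem_centralizer_A (fun x hx => hPc q (h.core.Q_le hq) x hx) ha hp hne ?_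
    have hq' : a⁻¹ * q * a ∈ Q := by simpa using h.core.Q_normal a⁻¹ (inv_mem ha) q hq
    have h1 := (hPc _ (h.core.Q_le hq') p hp).map (MulAut.conj a)
    rwa [MulAut.conj_apply, MulAut.conj_apply, show a * (a⁻¹ * q * a) * a⁻¹ = q by group] at h1
  have hk := h.core.k_pos
  have hle : W g y 1 (k - 1) ≤ P := h.W_le_P (by omega)
  have hinf : Q ⊓ W g y 1 (k - 1) = ⊥ := by
    rw [eq_bot_iff]
    intro u hu
    rw [Subgroup.mem_inf] at hu
    refine Subgroup.mem_bot.mpr (h.core_inter (h.core.Q_le hu.1) (hQA hu.1) (hQA ?_))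
    have : u ∈ (W g y 0 (k - 1)).map (MulAut.conj g).toMonoidHom := by rw [map_conj_W]; exact hu.2
    rw [← h.Q_win] at this
    exact mem_map_conj.mp this
  have := card_mul_card_le h.core.Q_le hle
  rw [hinf, Subgroup.card_bot, mul_one, h.core.card_Q, card_W h.windows (Nat.sub_le k 1), h.core.card_P,
    ← pow_add] at this
  have := (Nat.pow_le_pow_iff_right one_lt_two).mp this
  omega

theorem exists_step (h3 : 3 ≤ k) : ∃ r, Step A g y k r := by
  classical
  have hex : ∃ d, d < k ∧ ¬ Commute (X g y 0) (X g y d) := by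
    by_contra hno
    push Not at hno
    have := h.le_two hno
    omega
  set r := Nat.find hex with hr'
  obtain ⟨hrk, hrc⟩ := Nat.find_spec hex
  have hlt : ∀ d, d < r → Commute (X g y 0) (X g y d) := fun d hd =>
    by_contra fun hne => Nat.find_min hex hd ⟨by omega, hne⟩
  have hr1 : 1 ≤ r := Nat.one_le_iff_ne_zero.mpr fun e => hrc (by rw [← hr', e])
  have hr : com g y r 0 ≠ 1 := fun e => hrc (by
    rw [com, Nat.zero_add, mul_inv_eq_one, mul_inv_eq_iff_eq_mul] at e
    exact e)
  have hw := h.windows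
  have hk2 := k_lt_two_r hw hr1 hrk hlt hr
  have hk3 := two_k_le_three_r hw hr1 hrk hlt hr
  set m := 2 * r - k with hm
  set Z := W g y (k - r) m with hZ
  set E := W g y (k - 1 - r) (m + 1) with hE
  set U := Z ⊓ Subgroup.centralizer (A : Set G) with hU
  have hEQ : E ≤ Q := h.W_le_Q (by omega)
  have hZE : Z ≤ E := W_mono (by omega) (by omega)
  have hZP : ∀ z ∈ Z, ∀ p ∈ P, Commute z p := fun z hz p hp =>
    window_central hw hlt (K := k) hz (by omega) (by omega) (h.P_win ▸ hp)
  have hEnorm : ∀ a ∈ A, ∀ e ∈ E, a * e * a⁻¹ ∈ E := by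
    intro a ha e he
    have h1 : a * e * a⁻¹ ∈ W g y 0 (k - 1) := h.Q_win ▸ h.core.Q_normal a ha e (hEQ he)
    have hEW : E = W g y (k - 1 - r) (2 * r - (k - 1)) := by rw [hE]; congr 1; omega
    rw [hEW] at he ⊢
    refine mem_center_window hw hlt hr (by omega) (by omega) h1 fun i hi => ?_
    have hq : a⁻¹ * X g y i * a ∈ W g y 0 (k - 1) := by
      have := h.core.Q_normal a⁻¹ (inv_mem ha) _ (h.X_mem_Q (i := i) (by omega))
      rw [inv_inv] at this
      exact h.Q_win ▸ this
    have h2 := (window_central hw hlt he (by omega) (by omega) hq).map (MulAut.conj a)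
    rwa [MulAut.conj_apply, MulAut.conj_apply, show a * (a⁻¹ * X g y i * a) * a⁻¹ = X g y i by group] at h2
  obtain ⟨a, ha, p, hp, hne⟩ := h.core.exists_moved
  have hcardZ : Nat.card Z = 2 ^ m := card_W hw (by omega)
  have hU1 : 2 ^ (m - 1) ≤ Nat.card U := by
    set Z' := Z.map (MulAut.conj a).toMonoidHom with hZ'
    have hZ'E : Z' ≤ E := by rintro _ ⟨z, hz, rfl⟩; exact hEnorm a ha z (hZE hz)
    have hle : Z ⊓ Z' ≤ U := by
      intro z hz
      rw [Subgroup.mem_inf] at hz
      refine Subgroup.mem_inf.mpr ⟨hz.1, h.core.mem_centralizer_A (hZP z hz.1) ha hp hne ?_⟩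
      obtain ⟨z0, hz0, rfl⟩ := hz.2
      exact (hZP z0 hz0 p hp).map (MulAut.conj a)
    have h1 := card_mul_card_le hZE hZ'E
    rw [Subgroup.card_map_of_injective (MulEquiv.injective _), hcardZ, card_W hw (by omega), ← pow_add] at h1
    have h4 := h1.trans (Nat.mul_le_mul_left _ (Subgroup.card_le_of_le hle))
    rw [show m + m = (m + 1) + (m - 1) by omega, pow_add] at h4
    exact Nat.le_of_mul_le_mul_left h4 (by positivity)
  have hshift : ∀ u ∈ U, g * u * g⁻¹ ∈ Z ∧ (g * u * g⁻¹ ∈ Subgroup.centralizer (A : Set G) → u = 1) := by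
    intro u hu
    rw [hU, Subgroup.mem_inf] at hu
    have h1 : g * u * g⁻¹ ∈ W g y (k - r + 1) m := by rw [← map_conj_W]; exact ⟨u, hu.1, rfl⟩
    have h2 : g * u * g⁻¹ ∈ P := h.W_le_P (by omega) h1
    refine ⟨?_, fun hcA => ?_⟩
    · refine mem_center_window hw hlt hr le_rfl (by omega) (h.P_win ▸ h2) fun i hi => ?_
      exact (Subgroup.mem_centralizer_iff.mp (mem_centralizer_map (g := g) hu.2) _
        (h.core.P_le_conj (h.X_mem_P hi))).symm
    · have h3 := h.core_inter h2 hcA (by rw [show g⁻¹ * (g * u * g⁻¹) * g = u by group]; exact hu.2)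
      exact conj_eq_one_iff.mp h3
  have hU2 : Nat.card U * Nat.card U ≤ 2 ^ m := by
    set U' := U.map (MulAut.conj g).toMonoidHom with hU'
    have h1 : U' ≤ Z := by rintro _ ⟨u, hu, rfl⟩; exact (hshift u hu).1
    have h2 : U ⊓ U' = ⊥ := by
      rw [eq_bot_iff]
      intro v hv
      rw [Subgroup.mem_inf] at hv
      obtain ⟨u, hu, he⟩ := hv.2
      have he' : g * u * g⁻¹ = v := he
      have h1 := (hshift u hu).2 (he' ▸ (Subgroup.mem_inf.mp hv.1).2)
      rw [Subgroup.mem_bot, ← he', h1]
      group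
    have h3 := card_mul_card_le (inf_le_left : U ≤ Z) h1
    rwa [h2, Subgroup.card_bot, mul_one, Subgroup.card_map_of_injective (MulEquiv.injective _), hcardZ] at h3
  exact ⟨r, hrk, hr1, hlt, hr, hk2, hk3, hU1, hshift, hU2, hEnorm⟩

/-- The case of a chain of length six does not occur. -/
theorem no_six (hk : k = 6) (hr : Step A g y k 4) : False := by
  subst hk
  have hw := h.windows
  have hlt := hr.commutes
  set L := W g y 0 4 with hL
  set L' := W g y 1 4 with hL'
  set E := W g y 1 3 with hE
  have hEn : ∀ a ∈ A, ∀ e ∈ E, a * e * a⁻¹ ∈ E := hr.E_normal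
  have hsq : ∀ n, n ≤ 3 → ∀ z ∈ W g y 1 n, z * z = 1 := by
    intro n
    induction n with
    | zero => intro _ z hz; rw [W_zero, Subgroup.mem_bot] at hz; rw [hz, one_mul]
    | succ n ih =>
      intro hn z hz
      rcases mem_or_right hw (by omega : n < 6) hz with hc | hc
      · exact ih (by omega) z hc
      · set x := X g y (1 + n) with hx
        have hxc : Commute (z * x) x :=
          commute_windows hlt hc (X_mem (g := g) (y := y) (a := 1 + n) (n := 1) le_rfl (by omega)) (by omega) (by omega)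
        calc z * z = (z * x * x) * (z * x * x) := by rw [mul_assoc z x x, hx, X_sq hw (by omega), mul_one]
          _ = (z * x) * (x * (z * x)) * x := by group
          _ = (z * x) * ((z * x) * x) * x := by rw [hxc.eq]
          _ = ((z * x) * (z * x)) * (x * x) := by group
          _ = 1 := by rw [ih (by omega) _ hc, one_mul, hx, X_sq hw (by omega)]
  have hdich : ∀ q ∈ Q, q * q = 1 → q ∈ L ∨ q ∈ L' := by
    intro q hq hq2
    have hqW : q ∈ W g y 0 (4 + 1) := h.Q_win ▸ hq
    rcases mem_or_right hw (by omega : 4 < 6) hqW with h1 | h1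
    · exact Or.inl h1
    rcases mem_or_left hw (by omega : 3 < 6) (h1 : q * X g y (0 + 4) ∈ W g y 0 (3 + 1)) with h2 | h2
    · right
      have h3 : q * X g y (0 + 4) * X g y (0 + 4) ∈ L' :=
        mul_mem (W_mono le_rfl (by omega) h2) (X_mem (by omega) (by omega))
      rwa [mul_assoc, X_sq hw (by omega), mul_one] at h3
    · exfalso
      rw [Nat.zero_add] at h2
      set x := X g y 0 with hx
      set z := X g y 4 with hz
      set e := x * (q * z) with he
      have he1 : Commute e x := commute_windows hlt h2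
        (X_mem (g := g) (y := y) (a := 0) (n := 1) le_rfl (by omega)) (by omega) (by omega)
      have he2 : Commute e z := commute_windows hlt h2
        (X_mem (g := g) (y := y) (a := 4) (n := 1) le_rfl (by omega)) (by omega) (by omega)
      have hxi : x⁻¹ = x := X_inv hw (by omega) 0
      have hzi : z⁻¹ = z := X_inv hw (by omega) 4
      have he3 : Commute e (x * z) := he1.mul_right he2
      have hqe : q = e * (x * z) := by
        rw [← mul_assoc, he1.eq, he]
        calc q = (x * x) * q * (z * z) := by rw [X_sq hw (by omega), X_sq hw (by omega), one_mul, mul_one]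
          _ = x * (x * (q * z)) * z := by group
      refine hr.com_ne ?_
      calc com g y 4 0 = (x * z) * (x * z) := by
            rw [com, Nat.zero_add, ← hx, ← hz, hxi, hzi]; group
        _ = (e * e) * ((x * z) * (x * z)) := by rw [hsq 3 le_rfl e h2, one_mul]
        _ = q * q := by
            rw [hqe]
            calc _ = e * (e * (x * z)) * (x * z) := by group
              _ = e * ((x * z) * e) * (x * z) := by rw [he3.eq]
              _ = _ := by group
        _ = 1 := hq2
  have hLE : E ≤ L := W_mono (by omega) (by omega)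
  have hL'E : E ≤ L' := W_mono le_rfl (by omega)
  -- the conjugates of `L` and `L'`
  have himg : ∀ a ∈ A, ∀ x, x < 5 → (a * X g y x * a⁻¹ ∈ L ∨ a * X g y x * a⁻¹ ∈ L') := fun a ha x hx =>
    hdich _ (h.core.Q_normal a ha _ (h.X_mem_Q (by omega)))
      (by rw [show a * X g y x * a⁻¹ * (a * X g y x * a⁻¹) = a * (X g y x * X g y x) * a⁻¹ by group,
        X_sq hw (by omega)]; group)
  have hmap : ∀ a ∈ A, L.map (MulAut.conj a).toMonoidHom = L ∨ L.map (MulAut.conj a).toMonoidHom = L' := by
    intro a ha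
    have key : ∀ M : Subgroup G, E ≤ M → Nat.card M = 2 ^ 4 → a * X g y 0 * a⁻¹ ∈ M →
        L.map (MulAut.conj a).toMonoidHom = M := by
      intro M hM hMc hMx
      refine Subgroup.eq_of_le_of_card_ge ?_
        (by rw [hMc, Subgroup.card_map_of_injective (MulEquiv.injective _), card_W hw (by omega)])
      rw [Subgroup.map_le_iff_le_comap]
      refine W_le fun i _ hi => ?_
      rcases Nat.eq_zero_or_pos i with rfl | h0
      · exact hMx
      · exact hM (hEn a ha _ (X_mem h0 (by omega)))
    rcases himg a ha 0 (by omega) with h1 | h1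
    · exact Or.inl (key L hLE (card_W hw (by omega)) h1)
    · exact Or.inr (key L' hL'E (card_W hw (by omega)) h1)
  have hmap' : ∀ a ∈ A, L'.map (MulAut.conj a).toMonoidHom = L ∨ L'.map (MulAut.conj a).toMonoidHom = L' := by
    intro a ha
    have key : ∀ M : Subgroup G, E ≤ M → Nat.card M = 2 ^ 4 → a * X g y 4 * a⁻¹ ∈ M →
        L'.map (MulAut.conj a).toMonoidHom = M := by
      intro M hM hMc hMx
      refine Subgroup.eq_of_le_of_card_ge ?_
        (by rw [hMc, Subgroup.card_map_of_injective (MulEquiv.injective _), card_W hw (by omega)])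
      rw [Subgroup.map_le_iff_le_comap]
      refine W_le fun i hi0 hi => ?_
      rcases Nat.lt_or_ge i 4 with h4 | h4
      · exact hM (hEn a ha _ (X_mem hi0 (by omega)))
      · rw [show i = 4 by omega]; exact hMx
    rcases himg a ha 4 (by omega) with h1 | h1
    · exact Or.inl (key L hLE (card_W hw (by omega)) h1)
    · exact Or.inr (key L' hL'E (card_W hw (by omega)) h1)
  have hne : L ≠ L' := fun e => X_notMem_left hw (by omega : 4 < 6) (a := 0)
    (by show X g y 0 ∈ L'; rw [← e]; exact X_mem le_rfl (by omega))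
  have hcomp : ∀ (M : Subgroup G) (a b : G), M.map (MulAut.conj (a * b)).toMonoidHom =
      (M.map (MulAut.conj b).toMonoidHom).map (MulAut.conj a).toMonoidHom := fun M a b => by
    rw [Subgroup.map_map]; congr 1; ext x; simp [mul_assoc]
  have hinj : ∀ a : G, Function.Injective fun M : Subgroup G => M.map (MulAut.conj a).toMonoidHom :=
    fun a => Subgroup.map_injective (MulEquiv.injective _)
  have hswap : ∀ a ∈ A, L.map (MulAut.conj a).toMonoidHom = L' → L'.map (MulAut.conj a).toMonoidHom = L :=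
    fun a ha e => (hmap' a ha).resolve_right fun e' => hne (hinj a (e.trans e'.symm))
  have hfix : ∀ a ∈ A, L.map (MulAut.conj a).toMonoidHom = L → L'.map (MulAut.conj a).toMonoidHom = L' :=
    fun a ha e => (hmap' a ha).resolve_left fun e' => hne (hinj a (e.trans e'.symm))
  have hmem : ∀ a, a ∈ Subgroup.normalizer (L : Set G) → L.map (MulAut.conj a).toMonoidHom = L := by
    intro a ha
    refine Subgroup.eq_of_le_of_card_ge ?_ (Subgroup.card_map_of_injective (MulEquiv.injective _)).ge
    rintro _ ⟨x, hx, rfl⟩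
    exact (Subgroup.mem_normalizer_iff.mp ha x).mp hx
  have hmem2 : ∀ (M : Subgroup G) a, M.map (MulAut.conj a).toMonoidHom = M → a ∈ Subgroup.normalizer (M : Set G) :=
    fun M a e => mem_normalizer_of_forall fun s hs => e.le ⟨s, hs, rfl⟩
  set S := Subgroup.normalizer (L : Set G) ⊓ A with hS
  have hPS : P ≤ S := by
    refine le_inf ?_ h.core.P_le
    rw [h.P_win]
    refine W_le fun i _ hi => hmem2 L _ ((hmap _ (h.core.P_le (h.X_mem_P (by omega)))).resolve_right fun e => ?_)
    have h0 : X g y i * X g y 0 * (X g y i)⁻¹ ∈ L' := by rw [← e]; exact ⟨_, X_mem le_rfl (by omega), rfl⟩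
    rcases Nat.lt_or_ge i 5 with h5 | h5
    · exact hne ((e.symm.trans (hmem _ (mem_normalizer_of_forall fun s hs =>
        conj_mem_window hw (by omega : 4 < 6) le_rfl (by omega) (X_mem (Nat.zero_le _) (by omega)) hs))).symm)
    · obtain rfl : i = 5 := by omega
      refine X_notMem_left hw (by omega : 4 < 6) (a := 0) ?_
      have hc5 := comm_mem hw (i := 0) (D := 5) (by omega) (by omega)
      have h3 := mul_mem hc5 h0
      simp only [com, Nat.zero_add] at h3
      rw [show X g y 0 * X g y 5 * (X g y 0)⁻¹ * (X g y 5)⁻¹ * (X g y 5 * X g y 0 * (X g y 5)⁻¹) = X g y 0 by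
        group] at h3
      exact h3
  have hAS : A ≤ S := by
    refine h.core.le_of_normalised hPS fun a ha => mem_normalizer_of_forall fun s hs => ?_
    rw [hS, Subgroup.mem_inf] at hs ⊢
    refine ⟨hmem2 L _ ?_, mul_mem (mul_mem ha hs.2) (inv_mem ha)⟩
    have hsL := hmem s hs.1
    have hsL' := hfix s hs.2 hsL
    rw [hcomp, hcomp]
    rcases hmap a⁻¹ (inv_mem ha) with e | e
    · rw [e, hsL]
      have h2 := congrArg (fun M : Subgroup G => M.map (MulAut.conj a).toMonoidHom) e
      simp only [← hcomp, mul_inv_cancel, map_one] at h2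
      rw [← h2]; exact Subgroup.map_id _
    · rw [e, hsL']
      have h2 := congrArg (fun M : Subgroup G => M.map (MulAut.conj a).toMonoidHom) e
      simp only [← hcomp, mul_inv_cancel, map_one] at h2
      rw [← h2]; exact Subgroup.map_id _
  have hL'bot : L' = ⊥ := by
    refine h.core.sit.core_AB L' ((h.W_le_P (by omega)).trans h.core.P_le) (fun a ha => ?_) ?_
    · exact hmem2 L' a (hfix a ha (hmem a (Subgroup.mem_inf.mp (hAS ha)).1))
    · rintro _ ⟨a, ha, rfl⟩
      refine hmem2 L' _ ?_
      have hLa := hmem a (Subgroup.mem_inf.mp (hAS ha)).1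
      have hL'map : L' = L.map (MulAut.conj g).toMonoidHom := (map_conj_W 0 4).symm
      show L'.map (MulAut.conj (g * a * g⁻¹)).toMonoidHom = L'
      rw [hL'map, ← hcomp, inv_mul_cancel_right, hcomp, hLa]
  have hcard := card_W hw (a := 1) (show 4 ≤ 6 by omega)
  rw [← hL', hL'bot, Subgroup.card_bot] at hcard
  norm_num at hcard

/-- Sims' bound, with the two long cases. -/
theorem bound : k ≤ 2 ∨ (k = 3 ∧ Step A g y k 2) ∨ (k = 4 ∧ Step A g y k 3) := by
  rcases Nat.lt_or_ge k 3 with h3 | h3
  · exact Or.inl (by omega)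
  obtain ⟨r, hr⟩ := h.exists_step h3
  have h1 := Nat.mul_le_mul hr.u_le hr.u_le
  have h2 := h1.trans hr.u_sq
  rw [← pow_add] at h2
  have h4 := (Nat.pow_le_pow_iff_right one_lt_two).mp h2
  have h5 := hr.r_lt
  have h6 := hr.lt_two
  have h7 := hr.le_three
  rcases (by omega : (k = 3 ∧ r = 2) ∨ (k = 4 ∧ r = 3) ∨ (k = 6 ∧ r = 4)) with ⟨e1, e2⟩ | ⟨e1, e2⟩ | ⟨e1, e2⟩
  · exact Or.inr (Or.inl ⟨e1, e2 ▸ hr⟩)
  · exact Or.inr (Or.inr ⟨e1, e2 ▸ hr⟩)
  · exact (h.no_six e1 (e2 ▸ hr)).elim

end Chain

end CfsgLib.Recog.SuborbitThree
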