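import Mathlib

/-!
Chains of shifted involutions `X i = g ^ i * y * (g ^ i)⁻¹` all whose windows of length `n ≤ k`
generate groups of order `2 ^ n` (the combinatorial part of Sims' theorem on suborbits of length 3).
-/

set_option autoImplicit false

namespace CfsgLib.Recog.SuborbitThree

universe u

variable {G : Type u} [Group G]

/-- The shifted elements. -/
def X (g y : G) (i : ℕ) : G := g ^ i * y * (g ^ i)⁻¹

/-- The group generated by a window of shifted elements. -/
def W (g y : G) (a n : ℕ) : Subgroup G := Subgroup.closure (X g y '' Set.Ico a (a + n))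

variable {g y : G}

theorem X_succ (i : ℕ) : X g y (i + 1) = g * X g y i * g⁻¹ := by
  simp only [X, pow_succ', mul_inv_rev]; group

theorem conj_pow_X (d i : ℕ) : MulAut.conj (g ^ d) (X g y i) = X g y (i + d) := by
  rw [MulAut.conj_apply]
  simp only [X]
  rw [add_comm i d, pow_add, mul_inv_rev]
  group

theorem X_mem {a n i : ℕ} (h1 : a ≤ i) (h2 : i < a + n) : X g y i ∈ W g y a n :=
  Subgroup.subset_closure ⟨i, ⟨h1, h2⟩, rfl⟩

theorem W_le {a n : ℕ} {S : Subgroup G} (h : ∀ i, a ≤ i → i < a + n → X g y i ∈ S) : W g y a n ≤ S := by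
  refine (Subgroup.closure_le _).mpr ?_
  rintro _ ⟨i, hi, rfl⟩
  exact h i hi.1 hi.2

theorem W_mono {a n b m : ℕ} (h1 : b ≤ a) (h2 : a + n ≤ b + m) : W g y a n ≤ W g y b m :=
  W_le fun _ hi hi' => X_mem (h1.trans hi) (lt_of_lt_of_le hi' h2)

theorem W_zero (a : ℕ) : W g y a 0 = ⊥ := by simp [W]

theorem map_W (d a n : ℕ) : (W g y a n).map (MulAut.conj (g ^ d)).toMonoidHom = W g y (a + d) n := by
  rw [W, MonoidHom.map_closure, W, ← Set.image_comp]
  congr 1
  ext z
  constructor
  · rintro ⟨i, hi, rfl⟩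
    exact ⟨i + d, ⟨by linarith [hi.1], by linarith [hi.2]⟩, (conj_pow_X d i).symm⟩
  · rintro ⟨i, hi, rfl⟩
    refine ⟨i - d, ⟨by have := hi.1; omega, by have := hi.1; have := hi.2; omega⟩, ?_⟩
    show MulAut.conj (g ^ d) (X g y (i - d)) = _
    rw [conj_pow_X, Nat.sub_add_cancel (by have := hi.1; omega)]

theorem map_conj_W (a n : ℕ) : (W g y a n).map (MulAut.conj g).toMonoidHom = W g y (a + 1) n := by
  have h := map_W (g := g) (y := y) 1 a n
  rwa [pow_one] at h

/-- The order of a window of length at most `k` is two to its length. -/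
def Windows (g y : G) (k : ℕ) : Prop := ∀ n ≤ k, Nat.card (W g y 0 n) = 2 ^ n

/-- The commutator of the first element with the one `r` steps further on. -/
def com (g y : G) (r l : ℕ) : G := X g y l * X g y (l + r) * (X g y l)⁻¹ * (X g y (l + r))⁻¹

theorem com_shift (r l : ℕ) : com g y r l = MulAut.conj (g ^ l) (com g y r 0) := by
  simp only [com, map_mul, map_inv, conj_pow_X, Nat.zero_add]
  rw [add_comm r l]

section

variable {k : ℕ} (hw : Windows g y k)

include hw

theorem card_W {a n : ℕ} (hn : n ≤ k) : Nat.card (W g y a n) = 2 ^ n := by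
  rw [← hw n hn]
  nth_rewrite 1 [← Nat.zero_add a]
  rw [← map_W a 0 n]
  exact Subgroup.card_map_of_injective (MulEquiv.injective _)

theorem finite_W {a n : ℕ} (hn : n ≤ k) : Finite (W g y a n) :=
  Nat.finite_of_card_ne_zero (by rw [card_W hw hn]; positivity)

theorem X_notMem_right {a n : ℕ} (hn : n < k) : X g y (a + n) ∉ W g y a n := by
  intro h
  have hle : W g y a (n + 1) ≤ W g y a n := W_le fun i h1 h2 => by
    rcases Nat.lt_or_ge i (a + n) with h3 | h3
    · exact X_mem h1 h3
    · rwa [show i = a + n by omega]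
  haveI := finite_W hw (a := a) hn.le
  have := Subgroup.card_le_of_le hle
  rw [card_W hw hn.le, card_W hw (Nat.succ_le_of_lt hn)] at this
  exact absurd this (not_le.mpr (Nat.pow_lt_pow_right one_lt_two (Nat.lt_succ_self n)))

theorem X_notMem_left {a n : ℕ} (hn : n < k) : X g y a ∉ W g y (a + 1) n := by
  intro h
  have hle : W g y a (n + 1) ≤ W g y (a + 1) n := W_le fun i h1 h2 => by
    rcases Nat.lt_or_ge a i with h3 | h3
    · exact X_mem h3 (by omega)
    · rwa [show i = a by omega]
  haveI := finite_W hw (a := a + 1) hn.le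
  have := Subgroup.card_le_of_le hle
  rw [card_W hw hn.le, card_W hw (Nat.succ_le_of_lt hn)] at this
  exact absurd this (not_le.mpr (Nat.pow_lt_pow_right one_lt_two (Nat.lt_succ_self n)))

theorem relIndex_two {a b n : ℕ} (hn : n < k) (h1 : a ≤ b) (h2 : b + n ≤ a + (n + 1)) :
    ((W g y b n).subgroupOf (W g y a (n + 1))).index = 2 := by
  have hle : W g y b n ≤ W g y a (n + 1) := W_mono h1 h2
  have h := ((W g y b n).subgroupOf (W g y a (n + 1))).card_mul_index
  rw [Nat.card_congr (Subgroup.subgroupOfEquivOfLe hle).toEquiv, card_W hw hn.le, card_W hw hn, pow_succ] at h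
  exact Nat.eq_of_mul_eq_mul_left (by positivity) h

theorem conj_mem_window {a b n : ℕ} (hn : n < k) (h1 : a ≤ b) (h2 : b + n ≤ a + (n + 1)) {u z : G}
    (hu : u ∈ W g y a (n + 1)) (hz : z ∈ W g y b n) : u * z * u⁻¹ ∈ W g y b n := by
  have hN := Subgroup.normal_of_index_eq_two (relIndex_two hw hn h1 h2)
  exact hN.conj_mem ⟨z, W_mono h1 h2 hz⟩ hz ⟨u, hu⟩

theorem mem_or_right {a n : ℕ} (hn : n < k) {z : G} (hz : z ∈ W g y a (n + 1)) :
    z ∈ W g y a n ∨ z * X g y (a + n) ∈ W g y a n := by
  by_cases hc : z ∈ W g y a n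
  · exact Or.inl hc
  right
  have hX : X g y (a + n) ∈ W g y a (n + 1) := X_mem (by omega) (by omega)
  have h := Subgroup.mul_mem_iff_of_index_two (relIndex_two hw hn le_rfl (by omega))
    (a := (⟨z, hz⟩ : W g y a (n + 1))) (b := ⟨_, hX⟩)
  exact h.mpr (iff_of_false hc (X_notMem_right hw hn))

theorem mem_or_left {a n : ℕ} (hn : n < k) {z : G} (hz : z ∈ W g y a (n + 1)) :
    z ∈ W g y (a + 1) n ∨ X g y a * z ∈ W g y (a + 1) n := by
  by_cases hc : z ∈ W g y (a + 1) n
  · exact Or.inl hc
  right
  have hX : X g y a ∈ W g y a (n + 1) := X_mem le_rfl (by omega)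
  have h := Subgroup.mul_mem_iff_of_index_two (relIndex_two hw hn (by omega) (by omega : a + 1 + n ≤ a + (n + 1)))
    (a := (⟨_, hX⟩ : W g y a (n + 1))) (b := ⟨z, hz⟩)
  exact h.mpr (iff_of_false (X_notMem_left hw hn) hc)

theorem X_sq (hk : 1 ≤ k) (i : ℕ) : X g y i * X g y i = 1 := by
  haveI := finite_W hw (a := i) hk
  have h := Subgroup.orderOf_dvd_natCard _ (X_mem (g := g) (y := y) (a := i) (n := 1) le_rfl (by omega))
  rw [card_W hw hk, pow_one, orderOf_dvd_iff_pow_eq_one, pow_two] at h
  exact h

theorem X_inv (hk : 1 ≤ k) (i : ℕ) : (X g y i)⁻¹ = X g y i := inv_eq_of_mul_eq_one_right (X_sq hw hk i)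

/-- The commutator of two elements lies in the window between them. -/
theorem comm_mem {i D : ℕ} (hD : 1 ≤ D) (hDk : D < k) :
    com g y D i ∈ W g y (i + 1) (D - 1) := by
  obtain ⟨D, rfl⟩ : ∃ d, D = d + 1 := ⟨D - 1, by omega⟩
  rw [Nat.add_sub_cancel]
  have hXi : X g y i ∈ W g y i (D + 1) := X_mem le_rfl (by omega)
  have hXj : X g y (i + (D + 1)) ∈ W g y (i + 1) (D + 1) := X_mem (by omega) (by omega)
  have h1 : com g y (D + 1) i ∈ W g y i (D + 1) := by
    rw [com, mul_assoc, mul_assoc]
    refine mul_mem hXi ?_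
    rw [← mul_assoc]
    exact conj_mem_window hw hDk le_rfl (by omega) (X_mem (by omega) (by omega)) (inv_mem hXi)
  have h2 : com g y (D + 1) i ∈ W g y (i + 1) (D + 1) :=
    mul_mem (conj_mem_window hw hDk (by omega) (by omega) (X_mem le_rfl (by omega)) hXj) (inv_mem hXj)
  rcases mem_or_left hw (by omega : D < k) h1 with h | h
  · exact h
  · exfalso
    have h3 : X g y i * com g y (D + 1) i ∈ W g y (i + 1) (D + 1) := W_mono le_rfl (by omega) h
    have h4 : X g y i ∈ W g y (i + 1) (D + 1) := by simpa using mul_mem h3 (inv_mem h2)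
    exact X_notMem_left hw hDk h4

section Comm

variable {r : ℕ} (hr1 : 1 ≤ r) (hrk : r < k) (hlt : ∀ d, d < r → Commute (X g y 0) (X g y d))
  (hr : com g y r 0 ≠ 1)

include hlt

omit hw in
theorem commute_X {i j : ℕ} (h1 : i < j + r) (h2 : j < i + r) : Commute (X g y i) (X g y j) := by
  rcases Nat.le_total i j with h | h
  · have := (hlt (j - i) (by omega)).map (MulAut.conj (g ^ i))
    rwa [conj_pow_X, conj_pow_X, Nat.zero_add, Nat.sub_add_cancel h] at this
  · have := ((hlt (i - j) (by omega)).map (MulAut.conj (g ^ j))).symm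
    rwa [conj_pow_X, conj_pow_X, Nat.zero_add, Nat.sub_add_cancel h] at this

omit hw in
theorem commute_mem {a n : ℕ} {z u : G} (hz : z ∈ W g y a n)
    (h : ∀ i, a ≤ i → i < a + n → Commute (X g y i) u) : Commute z u := by
  have hle : W g y a n ≤ Subgroup.centralizer {u} :=
    W_le fun i h1 h2 => Subgroup.mem_centralizer_singleton_iff.mpr (h i h1 h2).eq
  exact Subgroup.mem_centralizer_singleton_iff.mp (hle hz)

omit hw in
theorem commute_windows {a n b m : ℕ} {z u : G} (hz : z ∈ W g y a n) (hu : u ∈ W g y b m)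
    (h1 : a + n ≤ b + r) (h2 : b + m ≤ a + r) : Commute z u :=
  commute_mem hlt hz fun _ hi hi' => (commute_mem hlt hu fun _ hj hj' =>
    commute_X hlt (by omega) (by omega)).symm

include hr

omit hw in
theorem com_ne_one (l : ℕ) : com g y r l ≠ 1 := by
  rw [com_shift]
  exact fun e => hr (by simpa using e)

omit hw in
theorem not_commute (a : ℕ) : ¬ Commute (X g y a) (X g y (a + r)) := fun h =>
  com_ne_one hlt hr a (by rw [com, h.eq]; group)

include hr1 hrk

theorem bottom_reduce {l a n : ℕ} (hl : l + r < k) (hla : l + 1 ≤ a) (han : a + (n + 1) ≤ l + r)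
    (har : a + r < k) (hc : com g y r l ∈ W g y a (n + 1)) : com g y r l ∈ W g y (a + 1) n := by
  have hk : 1 ≤ k := by omega
  set m := X g y (a + r) with hm
  have hd : com g y (a + r - l) l ∈ W g y (l + 1) (a + r - l - 1) := comm_mem hw (by omega) (by omega)
  set d := m * X g y l * m⁻¹ * (X g y l)⁻¹ with hddef
  have hdW : d ∈ W g y (l + 1) (a + r - l - 1) := by
    have := inv_mem hd
    simp only [com, show l + (a + r - l) = a + r by omega, mul_inv_rev, inv_inv, ← mul_assoc] at this
    rw [hddef, hm]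
    exact this
  have e1 : Commute d (X g y (l + r)) := commute_mem hlt hdW fun i h1 h2 => commute_X hlt (by omega) (by omega)
  have e2 : Commute d (com g y r l) := commute_windows hlt hdW hc (by omega) (by omega)
  have e3 : Commute m (X g y (l + r)) := commute_X hlt (by omega) (by omega)
  have key : m * com g y r l * m⁻¹ = com g y r l := by
    have hml : m * X g y l * m⁻¹ = d * X g y l := by rw [hddef]; group
    have hmr : m * X g y (l + r) * m⁻¹ = X g y (l + r) := by rw [e3.eq]; group
    calc m * com g y r l * m⁻¹ = (m * X g y l * m⁻¹) * (m * X g y (l + r) * m⁻¹) * (m * X g y l * m⁻¹)⁻¹ *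
          (m * X g y (l + r) * m⁻¹)⁻¹ := by rw [com]; group
      _ = d * (X g y l * X g y (l + r) * (X g y l)⁻¹) * d⁻¹ * (X g y (l + r))⁻¹ := by rw [hml, hmr]; group
      _ = d * com g y r l * (X g y (l + r) * d⁻¹) * (X g y (l + r))⁻¹ := by rw [com]; group
      _ = d * com g y r l * d⁻¹ := by rw [← e1.inv_left.eq]; group
      _ = com g y r l := by rw [e2.eq]; group
  rcases mem_or_left hw (by omega : n < k) hc with h | h
  · exact h
  · exfalso
    have h1 : Commute (X g y a * com g y r l) m := commute_mem hlt h fun i hi hi' =>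
      commute_X hlt (by omega) (by omega)
    have h2 : Commute (com g y r l) m := (mul_inv_eq_iff_eq_mul.mp key).symm
    have h3 : Commute (X g y a) m := by simpa using h1.mul_left h2.inv_left
    exact not_commute hlt hr a h3

theorem top_reduce {l a n : ℕ} (hl : l + r < k) (hla : l + 1 ≤ a) (han : a + (n + 1) ≤ l + r)
    (hj : r ≤ a + n) (hc : com g y r l ∈ W g y a (n + 1)) : com g y r l ∈ W g y a n := by
  have hk : 1 ≤ k := by omega
  set j := a + n with hjdef
  set m := X g y (j - r) with hm
  set D := l + r - (j - r) with hD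
  have hd : com g y D (j - r) ∈ W g y (j - r + 1) (D - 1) := comm_mem hw (by omega) (by omega)
  set d := m * X g y (l + r) * m⁻¹ * (X g y (l + r))⁻¹ with hddef
  have hdW : d ∈ W g y (j - r + 1) (D - 1) := by
    have := hd
    simp only [com, show j - r + D = l + r by omega] at this
    exact this
  have e1 : Commute d (X g y l) := commute_mem hlt hdW fun i h1 h2 => commute_X hlt (by omega) (by omega)
  have e2 : Commute d (com g y r l) := commute_windows hlt hdW hc (by omega) (by omega)
  have e3 : Commute m (X g y l) := commute_X hlt (by omega) (by omega)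
  have key : m * com g y r l * m⁻¹ = com g y r l := by
    have hmr : m * X g y (l + r) * m⁻¹ = d * X g y (l + r) := by rw [hddef]; group
    have hml : m * X g y l * m⁻¹ = X g y l := by rw [e3.eq]; group
    calc m * com g y r l * m⁻¹ = (m * X g y l * m⁻¹) * (m * X g y (l + r) * m⁻¹) * (m * X g y l * m⁻¹)⁻¹ *
          (m * X g y (l + r) * m⁻¹)⁻¹ := by rw [com]; group
      _ = (X g y l * d) * (X g y (l + r) * (X g y l)⁻¹ * (X g y (l + r))⁻¹) * d⁻¹ := by rw [hml, hmr]; group
      _ = d * com g y r l * d⁻¹ := by rw [← e1.eq, com]; group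
      _ = com g y r l := by rw [e2.eq]; group
  rcases mem_or_right hw (by omega : n < k) hc with h | h
  · exact h
  · exfalso
    have h1 : Commute (com g y r l * X g y j) m := commute_mem hlt h fun i hi hi' =>
      commute_X hlt (by omega) (by omega)
    have h2 : Commute (com g y r l) m := (mul_inv_eq_iff_eq_mul.mp key).symm
    have h3 : Commute (X g y j) m := by simpa using h2.inv_left.mul_left h1
    refine not_commute hlt hr (j - r) ?_
    rw [Nat.sub_add_cancel hj]
    exact h3.symm

theorem com_window {l : ℕ} (hl : l + r < k) : ∀ n a : ℕ, com g y r l ∈ W g y a n → l + 1 ≤ a → a + n ≤ l + r →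
    ∃ a' n', 1 ≤ n' ∧ com g y r l ∈ W g y a' n' ∧ a ≤ a' ∧ a' + n' ≤ a + n ∧ k ≤ a' + r ∧ a' + n' ≤ r := by
  intro n
  induction n with
  | zero =>
    intro a h _ _
    rw [W_zero, Subgroup.mem_bot] at h
    exact absurd h (com_ne_one hlt hr l)
  | succ n ih =>
    intro a h h1 h2
    by_cases hb : a + r < k
    · obtain ⟨a', n', q1, q2, q3, q4, q5, q6⟩ :=
        ih (a + 1) (bottom_reduce hw hr1 hrk hlt hr hl h1 h2 hb h) (by omega) (by omega)
      exact ⟨a', n', q1, q2, by omega, by omega, q5, q6⟩
    · by_cases ht : r ≤ a + n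
      · obtain ⟨a', n', q1, q2, q3, q4, q5, q6⟩ :=
          ih a (top_reduce hw hr1 hrk hlt hr hl h1 h2 ht h) h1 (by omega)
        exact ⟨a', n', q1, q2, q3, by omega, q5, q6⟩
      · exact ⟨a, n + 1, by omega, h, le_rfl, le_rfl, by omega, by omega⟩

/-- The first commutator lies in the central window. -/
theorem com_zero_window :
    ∃ a n, 1 ≤ n ∧ com g y r 0 ∈ W g y a n ∧ k ≤ a + r ∧ a + n ≤ r := by
  obtain ⟨a, n, q1, q2, -, -, q5, q6⟩ :=
    com_window hw hr1 hrk hlt hr (l := 0) (by omega) (r - 1) 1 (comm_mem hw hr1 hrk) le_rfl (by omega)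
  exact ⟨a, n, q1, q2, q5, q6⟩

theorem k_lt_two_r : k < 2 * r := by
  obtain ⟨a, n, q1, -, q5, q6⟩ := com_zero_window hw hr1 hrk hlt hr
  omega

/-- Glauberman's bound. -/
theorem two_k_le_three_r : 2 * k ≤ 3 * r := by
  obtain ⟨a, n, q1, q2, q5, q6⟩ := com_zero_window hw hr1 hrk hlt hr
  set L := k - r - 1 with hL
  have hmem : com g y r L ∈ W g y (a + L) n := by
    rw [com_shift, ← map_W]
    exact ⟨_, q2, rfl⟩
  obtain ⟨a', n', p1, -, p3, -, -, p6⟩ :=
    com_window hw hr1 hrk hlt hr (l := L) (by omega) n (a + L) hmem (by omega) (by omega)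
  omega

omit hr1 hrk hr in
theorem window_central {K : ℕ} {z : G} (hz : z ∈ W g y (K - r) (2 * r - K)) (hK : K ≤ 2 * r)
    (h : r ≤ K) {u : G} (hu : u ∈ W g y 0 K) : Commute z u :=
  commute_windows hlt hz hu (by omega) (by omega)

omit hr1 hrk in
theorem mem_center_window_aux {K : ℕ} (hKk : K ≤ k) (hK : K ≤ 2 * r) {z : G} :
    ∀ n a : ℕ, z ∈ W g y a n → a + n ≤ K → (∀ i, i < K → Commute z (X g y i)) →
      z ∈ W g y (K - r) (2 * r - K) := by
  intro n
  induction n with
  | zero => intro a h _ _; rw [W_zero, Subgroup.mem_bot] at h; subst h; exact one_mem _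
  | succ n ih =>
    intro a h h1 hc
    by_cases hb : a + r < K
    · rcases mem_or_left hw (by omega : n < k) h with h' | h'
      · exact ih (a + 1) h' (by omega) hc
      · exfalso
        have h4 : Commute (X g y a * z) (X g y (a + r)) := commute_mem hlt h' fun i hi hi' =>
          commute_X hlt (by omega) (by omega)
        exact not_commute hlt hr a (by simpa using h4.mul_left (hc _ hb).inv_left)
    · by_cases ht : r ≤ a + n
      · rcases mem_or_right hw (by omega : n < k) h with h' | h'
        · exact ih a h' (by omega) hc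
        · exfalso
          have h4 : Commute (z * X g y (a + n)) (X g y (a + n - r)) := commute_mem hlt h' fun i hi hi' =>
            commute_X hlt (by omega) (by omega)
          have h5 : Commute (X g y (a + n)) (X g y (a + n - r)) := by
            simpa using (hc (a + n - r) (by omega)).inv_left.mul_left h4
          refine not_commute hlt hr (a + n - r) ?_
          rw [Nat.sub_add_cancel ht]
          exact h5.symm
      · exact W_mono (by omega) (by omega) h

omit hr1 hrk in
theorem mem_center_window {K : ℕ} (hKk : K ≤ k) (hK : K ≤ 2 * r) {z : G} (hz : z ∈ W g y 0 K)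
    (hc : ∀ i, i < K → Commute z (X g y i)) : z ∈ W g y (K - r) (2 * r - K) :=
  mem_center_window_aux hw hlt hr hKk hK K 0 hz (by omega) hc

end Comm

end

end CfsgLib.Recog.SuborbitThree
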