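import Mathlib
import Cfsg.Agent.Lib.Recog.SuborbitChain

/-!
Sims' theorem: the stabiliser of a point in a primitive group with a suborbit of length three.
-/

set_option autoImplicit false

namespace CfsgLib.Recog.SuborbitThree

universe u

variable {G : Type u} [Group G] [Finite G]

/-- `A` is a point stabiliser and `g` maps the point to one in a suborbit of length three. -/
structure Sit (A : Subgroup G) (g : G) : Prop where
  core_g : ∀ S : Subgroup G, S ≤ A → A ≤ Subgroup.normalizer (S : Set G) →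
    g ∈ Subgroup.normalizer (S : Set G) → S = ⊥
  core_AB : ∀ S : Subgroup G, S ≤ A → A ≤ Subgroup.normalizer (S : Set G) →
    A.map (MulAut.conj g).toMonoidHom ≤ Subgroup.normalizer (S : Set G) → S = ⊥
  index : (A ⊓ A.map (MulAut.conj g).toMonoidHom).relIndex A = 3

/-- The normalised data with a nontrivial `2`-group. -/
structure Core (A P Q : Subgroup G) (g : G) (k : ℕ) : Prop where
  sit : Sit A g
  k_pos : 1 ≤ k
  P_le : P ≤ A
  P_eq : P = A ⊓ A.map (MulAut.conj g).toMonoidHom
  card_A : Nat.card A = 3 * 2 ^ k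
  card_P : Nat.card P = 2 ^ k
  Q_le : Q ≤ P
  card_Q : Nat.card Q = 2 ^ (k - 1)
  Q_normal : ∀ a ∈ A, ∀ q ∈ Q, a * q * a⁻¹ ∈ Q
  Q_shift : ∀ q ∈ Q, g * q * g⁻¹ ∈ P
  P_not_normal : ¬ A ≤ Subgroup.normalizer (P : Set G)
  grow : ∀ N : Subgroup G, P ≤ N → g ∈ N → A ≤ N

omit [Finite G] in
theorem mem_map_conj {A : Subgroup G} {g x : G} :
    x ∈ A.map (MulAut.conj g).toMonoidHom ↔ g⁻¹ * x * g ∈ A := by
  constructor
  · rintro ⟨a, ha, rfl⟩
    show g⁻¹ * (g * a * g⁻¹) * g ∈ A
    rwa [show g⁻¹ * (g * a * g⁻¹) * g = a by group]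
  · intro h
    exact ⟨_, h, show g * (g⁻¹ * x * g) * g⁻¹ = x by group⟩

theorem mem_normalizer_of_forall {S : Subgroup G} {a : G} (h : ∀ s ∈ S, a * s * a⁻¹ ∈ S) :
    a ∈ Subgroup.normalizer (S : Set G) := by
  have hmap : S.map (MulAut.conj a).toMonoidHom = S := by
    refine Subgroup.eq_of_le_of_card_ge (by rintro _ ⟨s, hs, rfl⟩; exact h s hs) ?_
    exact (Subgroup.card_map_of_injective (f := (MulAut.conj a).toMonoidHom) (MulEquiv.injective _)).ge
  rw [Subgroup.mem_normalizer_iff]
  refine fun s => ⟨h s, fun hs => ?_⟩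
  rw [← hmap] at hs
  obtain ⟨t, ht, he⟩ := hs
  rwa [(MulEquiv.injective (MulAut.conj a) he : t = s)] at ht

theorem relIndex_conj (A : Subgroup G) (g : G) :
    (A ⊓ A.map (MulAut.conj g⁻¹).toMonoidHom).relIndex A = (A ⊓ A.map (MulAut.conj g).toMonoidHom).relIndex A := by
  set C := A ⊓ A.map (MulAut.conj g).toMonoidHom with hC
  set C' := A ⊓ A.map (MulAut.conj g⁻¹).toMonoidHom with hC'
  have he : C.map (MulAut.conj g⁻¹).toMonoidHom = C' := by
    ext x
    simp only [hC, hC', mem_map_conj, Subgroup.mem_inf, inv_inv]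
    constructor
    · rintro ⟨h1, h2⟩
      exact ⟨by rwa [show g⁻¹ * (g * x * g⁻¹) * g = x by group] at h2, h1⟩
    · rintro ⟨h1, h2⟩
      exact ⟨h2, by rwa [show g⁻¹ * (g * x * g⁻¹) * g = x by group]⟩
  have hc : Nat.card C' = Nat.card C := by
    rw [← he]; exact Subgroup.card_map_of_injective (MulEquiv.injective _)
  have key : ∀ D : Subgroup G, D ≤ A → D.relIndex A * Nat.card D = Nat.card A := fun D hD => by
    have := (D.subgroupOf A).index_mul_card
    rwa [Nat.card_congr (Subgroup.subgroupOfEquivOfLe hD).toEquiv] at this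
  have h1 := key C inf_le_left
  have h2 := key C' inf_le_left
  rw [hc, ← h1] at h2
  exact Nat.eq_of_mul_eq_mul_right Nat.card_pos h2

theorem card_eq (A D : Subgroup G) (hD : D ≤ A) : D.relIndex A * Nat.card D = Nat.card A := by
  have := (D.subgroupOf A).index_mul_card
  rwa [Nat.card_congr (Subgroup.subgroupOfEquivOfLe hD).toEquiv] at this

theorem mem_normalCore_of_odd {H : Type u} [Group H] [Finite H] {D : Subgroup H} (hD : D.index = 3) {x : H}
    (hx : x ∈ D) (hodd : Odd (orderOf x)) : x ∈ D.normalCore := by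
  classical
  rw [Subgroup.normalCore_eq_ker, MonoidHom.mem_ker]
  set π := MulAction.toPermHom H (H ⧸ D) x with hπ
  have hfix : π (QuotientGroup.mk (1 : H)) = QuotientGroup.mk (1 : H) := by
    show x • (QuotientGroup.mk (1 : H) : H ⧸ D) = _
    rw [MulAction.Quotient.smul_mk, smul_eq_mul, mul_one, QuotientGroup.eq, mul_one]
    exact inv_mem hx
  letI := Fintype.ofFinite (H ⧸ D)
  have hc : Fintype.card (H ⧸ D) = 3 := by
    rw [← Nat.card_eq_fintype_card, ← Subgroup.index_eq_card, hD]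
  by_contra hne
  have hsupp : π.support.card ≤ 2 := by
    have h1 : (QuotientGroup.mk (1 : H) : H ⧸ D) ∉ π.support := by
      rw [Equiv.Perm.mem_support, not_not]; exact hfix
    have h2 : π.support.card < Fintype.card (H ⧸ D) :=
      Finset.card_lt_univ_of_notMem h1
    omega
  have h2 : π.support.card = 2 := by
    have := Equiv.Perm.one_lt_card_support_of_ne_one hne
    omega
  obtain ⟨a, b, hab, hsw⟩ := Equiv.Perm.card_support_eq_two.mp h2
  have hord : orderOf π = 2 := orderOf_eq_prime (by rw [hsw, pow_two, Equiv.swap_mul_self]) hne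
  have hdvd : orderOf π ∣ orderOf x := orderOf_map_dvd (MulAction.toPermHom H (H ⧸ D)) x
  rw [hord] at hdvd
  exact (Nat.not_even_iff_odd.mpr hodd) (even_iff_two_dvd.mpr hdvd)

/-- The intersection is a `2`-group. -/
theorem exists_card {A : Subgroup G} {g : G} (h : Sit A g) :
    ∃ k, Nat.card ↥(A ⊓ A.map (MulAut.conj g).toMonoidHom) = 2 ^ k ∧ Nat.card A = 3 * 2 ^ k := by
  set B := A.map (MulAut.conj g).toMonoidHom with hB
  set C := A ⊓ B with hC
  have hCA : C.relIndex A = 3 := h.index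
  have hcardB : Nat.card B = Nat.card A := Subgroup.card_map_of_injective (MulEquiv.injective _)
  have hCB : C.relIndex B = 3 := by
    have h1 := card_eq A C inf_le_left
    have h2 := card_eq B C inf_le_right
    rw [hcardB, ← h1] at h2
    rw [Nat.eq_of_mul_eq_mul_right Nat.card_pos h2, hCA]
  set O := Subgroup.closure {x : G | x ∈ C ∧ Odd (orderOf x)} with hO
  have hnorm : ∀ D : Subgroup G, C ≤ D → C.relIndex D = 3 → D ≤ Subgroup.normalizer (O : Set G) := by
    intro D hCD hidx d hd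
    refine mem_normalizer_of_forall fun s hs => ?_
    have hle : O ≤ O.comap (MulAut.conj d).toMonoidHom := by
      refine (Subgroup.closure_le _).mpr ?_
      rintro x ⟨hxC, hxo⟩
      refine Subgroup.subset_closure ⟨?_, ?_⟩
      · have hx' : (⟨x, hCD hxC⟩ : D) ∈ (C.subgroupOf D).normalCore :=
          mem_normalCore_of_odd hidx hxC (by rwa [← Subgroup.orderOf_coe])
        exact (C.subgroupOf D).normalCore_le
          ((C.subgroupOf D).normalCore_normal.conj_mem _ hx' ⟨d, hd⟩)
      · rwa [MulEquiv.coe_toMonoidHom, MulEquiv.orderOf_eq]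
    exact hle hs
  have hObot : O = ⊥ := h.core_AB O
    ((Subgroup.closure_le _).mpr fun x hx => hx.1.1) (hnorm A inf_le_left hCA) (hnorm B inf_le_right hCB)
  haveI : Fact (Nat.Prime 2) := ⟨Nat.prime_two⟩
  have hp : IsPGroup 2 C := by
    rw [IsPGroup.iff_card]
    refine ⟨_, Nat.eq_prime_pow_of_unique_prime_dvd Nat.card_pos.ne' fun {q} hq hqd => ?_⟩
    by_contra hq2
    haveI := Fact.mk hq
    obtain ⟨x, hx⟩ := exists_prime_orderOf_dvd_card' q hqd
    have hxo : orderOf (x : G) = q := by rw [Subgroup.orderOf_coe, hx]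
    have hmem : (x : G) ∈ O := Subgroup.subset_closure ⟨x.2, hxo ▸ hq.odd_of_ne_two hq2⟩
    rw [hObot, Subgroup.mem_bot] at hmem
    rw [hmem, orderOf_one] at hxo
    exact hq.one_lt.ne hxo
  obtain ⟨k, hk⟩ := IsPGroup.iff_card.mp hp
  refine ⟨k, hk, ?_⟩
  rw [← card_eq A C inf_le_left, hCA, hk]

theorem exists_core {A : Subgroup G} {g : G} (h : Sit A g) {k : ℕ} (hk : 1 ≤ k)
    (hP : Nat.card ↥(A ⊓ A.map (MulAut.conj g).toMonoidHom) = 2 ^ k) (hA : Nat.card A = 3 * 2 ^ k) :
    ∃ (Q : Subgroup G) (g' : G), Core A (A ⊓ A.map (MulAut.conj g).toMonoidHom) Q g' k := by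
  classical
  set P := A ⊓ A.map (MulAut.conj g).toMonoidHom with hPdef
  have hPA : P ≤ A := inf_le_left
  have hidx : P.relIndex A = 3 := h.index
  set P' := A ⊓ A.map (MulAut.conj g⁻¹).toMonoidHom with hP'
  have hshift : ∀ x, x ∈ P ↔ g⁻¹ * x * g ∈ P' := fun x => by
    rw [hPdef, hP', Subgroup.mem_inf, Subgroup.mem_inf, mem_map_conj, mem_map_conj, inv_inv,
      show g * (g⁻¹ * x * g) * g⁻¹ = x by group, and_comm]
  have hPc' : Nat.card P' = 2 ^ k := by
    have h1 := card_eq A P' inf_le_left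
    rw [hP', relIndex_conj, h.index, ← hP', hA] at h1
    omega
  -- the largest 2-subgroup normal in `A`
  set Q0 := (P.subgroupOf A).normalCore with hQ0
  set Q := Q0.map A.subtype with hQ
  have hQP : Q ≤ P := by rintro _ ⟨q, hq, rfl⟩; exact (P.subgroupOf A).normalCore_le hq
  have hQn : ∀ a ∈ A, ∀ q ∈ Q, a * q * a⁻¹ ∈ Q := by
    rintro a ha _ ⟨q, hq, rfl⟩
    exact ⟨⟨a, ha⟩ * q * ⟨a, ha⟩⁻¹, (P.subgroupOf A).normalCore_normal.conj_mem q hq ⟨a, ha⟩, rfl⟩
  have hnn : ¬ A ≤ Subgroup.normalizer (P : Set G) := by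
    intro hn
    -- all Sylow 2-subgroups of `A` coincide
    have hsub : ∀ D : Subgroup G, D ≤ A → Nat.card D = 2 ^ k → D = P := by
      intro D hDA hDc
      haveI hN : (P.subgroupOf A).Normal := (Subgroup.normal_subgroupOf_iff_le_normalizer hPA).mpr hn
      refine Subgroup.eq_of_le_of_card_ge (fun d hd => ?_) (by rw [hDc, hP])
      set q : ↥A →* ↥A ⧸ P.subgroupOf A := QuotientGroup.mk' _
      have h1 : orderOf (q ⟨d, hDA hd⟩) ∣ 3 := by
        have h3 : Nat.card (↥A ⧸ P.subgroupOf A) = 3 := hidx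
        exact h3 ▸ orderOf_dvd_natCard _
      have h2 : orderOf (q ⟨d, hDA hd⟩) ∣ 2 ^ k := by
        refine (orderOf_map_dvd q _).trans ?_
        rw [← Subgroup.orderOf_coe, ← hDc]
        exact Subgroup.orderOf_dvd_natCard _ hd
      have h3 : orderOf (q ⟨d, hDA hd⟩) = 1 :=
        Nat.eq_one_of_dvd_coprimes (Nat.Coprime.pow_right k (by norm_num)) h1 h2
      rw [orderOf_eq_one_iff] at h3
      exact Subgroup.mem_subgroupOf.mp ((QuotientGroup.eq_one_iff (N := P.subgroupOf A) _).mp h3)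
    have hP'e := hsub P' inf_le_left hPc'
    have hg : g ∈ Subgroup.normalizer (P : Set G) := by
      rw [Subgroup.mem_normalizer_iff]
      intro x
      conv_lhs => rw [← hP'e]
      rw [hshift (g * x * g⁻¹), show g⁻¹ * (g * x * g⁻¹) * g = x by group]
    have hbot := h.core_g P hPA hn hg
    rw [hbot, Subgroup.card_bot] at hP
    exact absurd hP.symm (Nat.one_lt_pow (by omega) one_lt_two).ne'
  have hQc : Nat.card Q = 2 ^ (k - 1) := by
    rw [hQ, Subgroup.card_map_of_injective (Subgroup.subtype_injective A)]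
    have hd : Q0.index ∣ 6 := by
      rw [hQ0, Subgroup.normalCore_eq_ker, Subgroup.index_ker]
      refine (Subgroup.card_subgroup_dvd_card _).trans ?_
      rw [Nat.card_perm, show Nat.card (↥A ⧸ P.subgroupOf A) = 3 from hidx]
      rfl
    have hd3 : 3 ∣ Q0.index := by
      have := Subgroup.index_dvd_of_le (P.subgroupOf A).normalCore_le
      rwa [show (P.subgroupOf A).index = 3 from hidx] at this
    have hne3 : Q0.index ≠ 3 := fun e => hnn (by
      have heq : Q0 = P.subgroupOf A := by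
        refine Subgroup.eq_of_le_of_card_ge (P.subgroupOf A).normalCore_le ?_
        have h1 := Q0.index_mul_card
        have h2 := (P.subgroupOf A).index_mul_card
        rw [e] at h1
        rw [show (P.subgroupOf A).index = 3 from hidx] at h2
        omega
      haveI : (P.subgroupOf A).Normal := heq ▸ (P.subgroupOf A).normalCore_normal
      exact (Subgroup.normal_subgroupOf_iff_le_normalizer hPA).mp this)
    have h6 : Q0.index = 6 := by
      have := Nat.le_of_dvd (by norm_num) hd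
      interval_cases hq : Q0.index <;> omega
    have h1 := Q0.index_mul_card
    rw [h6, hA, show k = (k - 1) + 1 by omega, pow_succ] at h1
    omega
  have hQP' : Q ≤ P' := by
    haveI : Fact (Nat.Prime 2) := ⟨Nat.prime_two⟩
    have hp' : IsPGroup 2 P' := IsPGroup.of_card hPc'
    have hpQ : IsPGroup 2 Q := IsPGroup.of_card hQc
    have hn : P' ≤ Subgroup.normalizer (Q : Set G) := fun x hx => mem_normalizer_of_forall (hQn x hx.1)
    obtain ⟨j, hj⟩ := IsPGroup.iff_card.mp (hp'.to_sup_of_normal_right' hpQ hn)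
    have hd : Nat.card ↥(P' ⊔ Q) ∣ 3 * 2 ^ k := hA ▸ Subgroup.card_dvd_of_le (sup_le inf_le_left (hQP.trans hPA))
    rw [hj] at hd
    have hjk : j ≤ k := (Nat.pow_dvd_pow_iff_le_right (by norm_num)).mp
      ((Nat.Coprime.pow_left j (by norm_num)).dvd_of_dvd_mul_left hd)
    have : P' = P' ⊔ Q := Subgroup.eq_of_le_of_card_ge le_sup_left
      (by rw [hPc', hj]; exact Nat.pow_le_pow_right (by norm_num) hjk)
    rw [this]; exact le_sup_right
  -- adjust the shift so that it does not normalise `P`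
  obtain ⟨h0, hh0, x0, hx0, hx0n⟩ : ∃ a ∈ A, ∃ x ∈ P', a⁻¹ * x * a ∉ P := by
    by_contra hcon
    push Not at hcon
    refine hnn fun a ha => mem_normalizer_of_forall fun s hs => ?_
    have he : P' = P := Subgroup.eq_of_le_of_card_ge (fun x hx => by simpa using hcon 1 (one_mem A) x hx)
      (by rw [hPc', hP])
    have := hcon a⁻¹ (inv_mem ha) s (he ▸ hs)
    simpa using this
  set g' := g * h0 with hg'
  have hB : A.map (MulAut.conj g').toMonoidHom = A.map (MulAut.conj g).toMonoidHom := by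
    ext x
    rw [mem_map_conj, mem_map_conj, hg', mul_inv_rev]
    constructor
    · intro hx
      have := mul_mem (mul_mem hh0 hx) (inv_mem hh0)
      rwa [show h0 * (h0⁻¹ * g⁻¹ * x * (g * h0)) * h0⁻¹ = g⁻¹ * x * g by group] at this
    · intro hx
      have := mul_mem (mul_mem (inv_mem hh0) hx) hh0
      rwa [show h0⁻¹ * (g⁻¹ * x * g) * h0 = h0⁻¹ * g⁻¹ * x * (g * h0) by group] at this
  refine ⟨Q, g', ⟨⟨fun S hS hA' hg'S => h.core_g S hS hA' ?_, fun S hS hA' hB' => h.core_AB S hS hA' (hB ▸ hB'),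
    hB.symm ▸ h.index⟩, hk, hPA, by rw [hB], hA, hP, hQP, hQc, hQn, fun q hq => ?_, hnn, fun N hPN hgN => ?_⟩⟩
  · have := mul_mem hg'S (inv_mem (hA' hh0))
    rwa [hg', mul_inv_cancel_right] at this
  · have h1 : h0 * q * h0⁻¹ ∈ P' := hQP' (hQn h0 hh0 q hq)
    rw [hshift, hg', show g⁻¹ * (g * h0 * q * (g * h0)⁻¹) * g = h0 * q * h0⁻¹ by group]
    exact h1
  · have hmem : h0⁻¹ * x0 * h0 ∈ N := by
      have hx : g * x0 * g⁻¹ ∈ P := by
        rw [hshift, show g⁻¹ * (g * x0 * g⁻¹) * g = x0 by group]; exact hx0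
      have := mul_mem (mul_mem (inv_mem hgN) (hPN hx)) hgN
      rwa [hg', show (g * h0)⁻¹ * (g * x0 * g⁻¹) * (g * h0) = h0⁻¹ * x0 * h0 by group] at this
    have hlt : (N ⊓ A).relIndex A ∣ P.relIndex A := Subgroup.relIndex_dvd_of_le_left A (le_inf hPN hPA)
    rw [hidx] at hlt
    rcases (Nat.dvd_prime Nat.prime_three).mp hlt with e | e
    · exact fun a ha => (Subgroup.relIndex_eq_one.mp e ha).1
    · exfalso
      refine hx0n ?_
      have heq : P = N ⊓ A := Subgroup.eq_of_le_of_card_ge (le_inf hPN hPA) (by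
        have h1 := card_eq A (N ⊓ A) inf_le_right
        have h2 := card_eq A P hPA
        rw [e] at h1
        rw [hidx] at h2
        omega)
      rw [heq]
      exact Subgroup.mem_inf.mpr ⟨hmem, mul_mem (mul_mem (inv_mem hh0) hx0.1) hh0⟩

end CfsgLib.Recog.SuborbitThree
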