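import Cfsg.Agent.Lib.Recog.SuborbitBound
import Cfsg.Agent.Lib.Invol.Dihedral
import Cfsg.Agent.Lib.PGroup.Basic

/-!
Sims' theorem: the five isomorphism types of the stabiliser.
-/

set_option autoImplicit false
set_option maxHeartbeats 800000

namespace CfsgLib.Recog.SuborbitThree

universe u

variable {G : Type u} [Group G] [Finite G]

theorem window_one {g y : G} {k : ℕ} (hw : Windows g y k) (hk : 1 ≤ k) {a : ℕ} {z : G}
    (hz : z ∈ W g y a 1) : z = 1 ∨ z = X g y a := by
  rcases mem_or_right hw (n := 0) (by omega) hz with h | h <;> rw [W_zero, Subgroup.mem_bot] at h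
  · exact Or.inl h
  · right
    rw [Nat.add_zero] at h
    rw [eq_inv_of_mul_eq_one_left h, X_inv hw hk]

theorem X_ne_one {g y : G} {k : ℕ} (hw : Windows g y k) (hk : 1 ≤ k) (i : ℕ) : X g y i ≠ 1 := fun e =>
  X_notMem_right hw (a := i) (n := 0) (by omega) (by rw [Nat.add_zero, e]; exact one_mem _)

namespace Core

variable {A P Q : Subgroup G} {g : G} {k : ℕ} (hc : Core A P Q g k)

include hc

theorem notMem_of_three {t : G} (ht : orderOf t = 3) : t ∉ P := fun h => by
  have h1 := Subgroup.orderOf_dvd_natCard P h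
  rw [ht, hc.card_P] at h1
  have := Nat.prime_three.dvd_of_dvd_pow h1
  omega

theorem centralizer_of_three {z t : G} (hz : ∀ p ∈ P, Commute z p) (ht : t ∈ A) (ht3 : orderOf t = 3)
    (hzt : Commute z t) : z ∈ Subgroup.centralizer (A : Set G) := by
  have hmem : ∀ x, Commute z x → x ∈ Subgroup.centralizer ({z} : Set G) := fun x hx =>
    Subgroup.mem_centralizer_singleton_iff.mpr hx.symm.eq
  rcases hc.eq_or_eq (fun x hx => hmem x (hz x hx)) with h | h
  · exact Subgroup.mem_centralizer_iff.mpr fun x hx => Subgroup.mem_centralizer_singleton_iff.mp (h hx)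
  · refine absurd ?_ (hc.notMem_of_three ht3)
    rw [← h]
    exact Subgroup.mem_inf.mpr ⟨hmem t hzt, ht⟩

theorem le_P_of_two_group {S : Subgroup G} (hS : S ≤ A) (hn : ∀ a ∈ A, ∀ s ∈ S, a * s * a⁻¹ ∈ S)
    (hp : IsPGroup 2 S) : S ≤ P := by
  haveI : Fact (Nat.Prime 2) := ⟨Nat.prime_two⟩
  have hPp : IsPGroup 2 P := IsPGroup.of_card hc.card_P
  have hPS : P ≤ Subgroup.normalizer (S : Set G) := fun x hx => mem_normalizer_of_forall (hn x (hc.P_le hx))
  obtain ⟨j, hj⟩ := IsPGroup.iff_card.mp (hPp.to_sup_of_normal_right' hp hPS)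
  rcases hc.eq_or_eq (N := P ⊔ S) le_sup_left with h | h
  · exfalso
    have h1 : P ⊔ S = A := le_antisymm (sup_le hc.P_le hS) h
    rw [h1, hc.card_A] at hj
    have := Nat.prime_three.dvd_of_dvd_pow (hj ▸ dvd_mul_right 3 _)
    omega
  · exact fun s hs => h ▸ Subgroup.mem_inf.mpr ⟨Subgroup.mem_sup_right hs, hS hs⟩

theorem commute_of_normal_three {t : G} (ht3 : orderOf t = 3)
    (hn : ∀ a ∈ A, a * t * a⁻¹ ∈ Subgroup.zpowers t) (htA : t ∈ A) {q : G} (hq : q ∈ Q) : Commute q t := by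
  have h1 : q * t * q⁻¹ * t⁻¹ ∈ Subgroup.zpowers t :=
    mul_mem (hn q (hc.P_le (hc.Q_le hq))) (inv_mem (Subgroup.mem_zpowers t))
  have h2 : q * t * q⁻¹ * t⁻¹ ∈ Q := by
    have := mul_mem hq (hc.Q_normal t htA q⁻¹ (inv_mem hq))
    rwa [show q * (t * q⁻¹ * t⁻¹) = q * t * q⁻¹ * t⁻¹ by group] at this
  have h3 := Subgroup.orderOf_dvd_natCard _ h1
  rw [Nat.card_zpowers, ht3] at h3
  have h4 := Subgroup.orderOf_dvd_natCard _ h2
  rw [hc.card_Q] at h4
  have h5 := Nat.eq_one_of_dvd_coprimes (Nat.Coprime.pow_right (k - 1) (by norm_num)) h3 h4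
  rw [orderOf_eq_one_iff, mul_inv_eq_one, mul_inv_eq_iff_eq_mul] at h5
  exact h5

/-- The Sylow `3`-subgroup is normal, or there are four of them. -/
theorem sylow_three (hk : k ≤ 4)
    (hz : k = 3 ∨ ∃ z ∈ A, z ≠ 1 ∧ z * z = 1 ∧ z ∈ Subgroup.centralizer (A : Set G)) :
    (∃ t ∈ A, orderOf t = 3 ∧ ∀ a ∈ A, a * t * a⁻¹ ∈ Subgroup.zpowers t) ∨
      (k ≠ 2 ∧ Nat.card (Sylow 3 A) = 4) := by
  haveI : Fact (Nat.Prime 3) := ⟨Nat.prime_three⟩
  obtain ⟨T⟩ : Nonempty (Sylow 3 A) := inferInstance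
  have hT : Nat.card (T : Subgroup A) = 3 := by
    rw [Sylow.card_eq_multiplicity, hc.card_A, Nat.factorization_mul (by norm_num) (by positivity),
      Finsupp.add_apply, Nat.prime_three.factorization_self,
      Nat.factorization_eq_zero_of_not_dvd fun h => absurd (Nat.prime_three.dvd_of_dvd_pow h) (by norm_num)]
    rfl
  set n := Nat.card (Sylow 3 A) with hn'
  have hn : n = (Subgroup.normalizer ((T : Subgroup A) : Set A)).index := Sylow.card_eq_index_normalizer T
  set N := Subgroup.normalizer ((T : Subgroup A) : Set A) with hN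
  have hmul : n * Nat.card N = 3 * 2 ^ k := by rw [hn, ← hc.card_A]; exact N.index_mul_card
  have h3N : 3 ∣ Nat.card N := hT ▸ Subgroup.card_dvd_of_le Subgroup.le_normalizer
  have hmod : n % 3 = 1 := card_sylow_modEq_one 3 A
  obtain ⟨m, hm⟩ := h3N
  rw [hm, show n * (3 * m) = 3 * (n * m) by ring] at hmul
  have hnm : n * m = 2 ^ k := Nat.eq_of_mul_eq_mul_left (by norm_num) hmul
  have hn14 : n = 1 ∨ (k ≠ 2 ∧ n = 4) := by
    have key : n ∣ 2 ^ 3 ∧ (k = 2 → n ∣ 2) := by
      rcases hz with rfl | ⟨z, hzA, hz1, hz2, hzc⟩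
      · exact ⟨Dvd.intro _ hnm, by omega⟩
      · have hzN : (⟨z, hzA⟩ : A) ∈ N := by
          refine Subgroup.mem_normalizer_iff.mpr fun x => ?_
          have : (⟨z, hzA⟩ : A) * x * (⟨z, hzA⟩ : A)⁻¹ = x := by
            apply Subtype.ext
            show z * x * z⁻¹ = x
            rw [← Subgroup.mem_centralizer_iff.mp hzc x x.2, mul_inv_cancel_right]
          rw [this]
        have h2 := Subgroup.orderOf_dvd_natCard N hzN
        rw [Subgroup.orderOf_mk, orderOf_eq_prime (pow_two z ▸ hz2) hz1, hm] at h2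
        obtain ⟨m', rfl⟩ : 2 ∣ m := (Nat.prime_two.dvd_mul.mp h2).resolve_left (by norm_num)
        have hk := hc.k_pos
        have hnm' : n * m' = 2 ^ (k - 1) := by
          nth_rewrite 1 [show k = (k - 1) + 1 by omega] at hnm
          rw [pow_succ', show n * (2 * m') = 2 * (n * m') by ring] at hnm
          omega
        exact ⟨(Dvd.intro _ hnm').trans (pow_dvd_pow 2 (by omega)),
          fun e => (Dvd.intro _ hnm').trans (by rw [e]; norm_num)⟩
    have hle : n ≤ 8 := Nat.le_of_dvd (by norm_num) key.1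
    obtain ⟨k8, k2⟩ := key
    rcases (by omega : n = 1 ∨ n = 4 ∨ n = 7) with h | h | h
    · exact Or.inl h
    · refine Or.inr ⟨fun e => ?_, h⟩
      have := Nat.le_of_dvd two_pos (k2 e)
      omega
    · rw [h] at k8; norm_num at k8
  rcases hn14 with h | h
  · left
    haveI hTn : (T : Subgroup A).Normal := Subgroup.normalizer_eq_top_iff.mp (Subgroup.index_eq_one.mp (hn ▸ h))
    obtain ⟨t, ht⟩ := exists_prime_orderOf_dvd_card' 3 (hT.symm.dvd)
    refine ⟨((t : A) : G), (t : A).2, by rw [Subgroup.orderOf_coe, Subgroup.orderOf_coe, ht], fun a ha => ?_⟩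
    have htop : Subgroup.zpowers t = ⊤ := by
      refine Subgroup.eq_top_of_card_eq _ ?_
      rw [Nat.card_zpowers, ht, hT]
    have hmem : (⟨⟨a, ha⟩ * (t : A) * (⟨a, ha⟩ : A)⁻¹, hTn.conj_mem _ t.2 _⟩ : (T : Subgroup A)) ∈ Subgroup.zpowers t :=
      htop ▸ Subgroup.mem_top _
    obtain ⟨i, hi⟩ := Subgroup.mem_zpowers_iff.mp hmem
    refine Subgroup.mem_zpowers_iff.mpr ⟨i, ?_⟩
    have := congrArg (fun x : (T : Subgroup A) => ((x : A) : G)) hi
    simpa using this
  · exact Or.inr h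

theorem nonempty_perm_three (hk : k = 1) : Nonempty (A ≃* Equiv.Perm (Fin 3)) := by
  set H := P.subgroupOf A with hH
  set f := MulAction.toPermHom A (A ⧸ H) with hf
  have h3 : Nat.card (A ⧸ H) = 3 := hc.relIndex_P
  have hinj : Function.Injective f := by
    refine (MonoidHom.ker_eq_bot_iff f).mp ((Subgroup.eq_bot_iff_forall _).mpr fun x hx => ?_)
    rw [hf, ← Subgroup.normalCore_eq_ker] at hx
    by_contra hx1
    refine hc.P_not_normal fun a ha => mem_normalizer_of_forall fun p hp => ?_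
    have hxP : (x : G) ∈ P := H.normalCore_le hx
    by_cases hp1 : p = 1
    · subst hp1; simp
    have hcP : Nat.card P = 2 := by rw [hc.card_P, hk, pow_one]
    have hpx : p = (x : G) := by
      have h1 := (Nat.card_eq_two_iff' (1 : P)).mp hcP
      exact congrArg Subtype.val (h1.unique (y₁ := ⟨p, hp⟩) (y₂ := ⟨x, hxP⟩)
        (fun e => hp1 (congrArg Subtype.val e)) (fun e => hx1 (Subtype.ext (congrArg Subtype.val e :))))
    subst hpx
    exact H.normalCore_le (H.normalCore_normal.conj_mem x hx ⟨a, ha⟩)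
  have hb : Function.Bijective f := by
    rw [Nat.bijective_iff_injective_and_card]
    exact ⟨hinj, by rw [hc.card_A, hk, Nat.card_perm, h3]; rfl⟩
  exact ⟨(MulEquiv.ofBijective f hb).trans (Finite.equivFinOfCardEq h3).permCongrHom⟩

end Core

namespace Chain

variable {A P Q : Subgroup G} {g y : G} {k : ℕ} (h : Chain A P Q g y k)

include h

theorem nonempty_dihedral (hk : k = 2) : Nonempty (A ≃* DihedralGroup 6) := by
  subst hk
  have hw := h.windows
  set x0 := X g y 0 with hx0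
  set x1 := X g y 1 with hx1
  have h01 : Commute x0 x1 := by
    have := comm_mem hw (i := 0) (D := 1) le_rfl (by omega)
    rw [Nat.sub_self, W_zero, Subgroup.mem_bot, com, Nat.zero_add, mul_inv_eq_one, mul_inv_eq_iff_eq_mul] at this
    exact this
  have hlt : ∀ d, d < 2 → Commute (X g y 0) (X g y d) := by
    intro d hd
    interval_cases d
    exacts [Commute.refl _, h01]
  have hx0P : ∀ p ∈ P, Commute x0 p := fun p hp =>
    commute_windows hlt (h.P_win ▸ h.X_mem_P (i := 0) (by omega)) (h.P_win ▸ hp) le_rfl le_rfl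
  obtain ⟨a, ha, p, hp, hne⟩ := h.core.exists_moved
  have hx0Q : x0 ∈ Q := h.X_mem_Q (by omega)
  have hx0A : x0 ∈ Subgroup.centralizer (A : Set G) := by
    refine h.core.mem_centralizer_A hx0P ha hp hne ?_
    have hq : a⁻¹ * x0 * a ∈ Q := by simpa using h.core.Q_normal a⁻¹ (inv_mem ha) x0 hx0Q
    have h1 : Commute (a⁻¹ * x0 * a) p :=
      commute_windows hlt (h.P_win ▸ h.core.Q_le hq) (h.P_win ▸ hp) le_rfl le_rfl
    have h2 := h1.map (MulAut.conj a)
    rwa [MulAut.conj_apply, MulAut.conj_apply, show a * (a⁻¹ * x0 * a) * a⁻¹ = x0 by group] at h2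
  obtain ⟨t, ht, ht3, htn⟩ := (h.core.sylow_three (by omega) (Or.inr ⟨x0, h.core.P_le (h.core.Q_le hx0Q),
    X_ne_one hw (by omega) 0, X_sq hw (by omega) 0, hx0A⟩)).resolve_right (fun e => e.1 rfl)
  have hx1A : x1 ∈ A := h.core.P_le (h.X_mem_P (by omega))
  have h0t : Commute x0 t := (Subgroup.mem_centralizer_iff.mp hx0A t ht).symm
  have ht3' : t ^ 3 = 1 := ht3 ▸ pow_orderOf_eq_one t
  have hinv : x1 * t * x1⁻¹ = t⁻¹ := by
    classical
    obtain ⟨i, hi, hti⟩ : ∃ i < 3, t ^ i = x1 * t * x1⁻¹ := by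
      have := mem_zpowers_iff_mem_range_orderOf.mp (htn x1 hx1A)
      simp only [Finset.mem_image, Finset.mem_range, ht3] at this
      exact this
    interval_cases i
    · exfalso
      rw [pow_zero] at hti
      have ht1 : t = 1 := conj_eq_one_iff.mp hti.symm
      rw [ht1, orderOf_one] at ht3
      omega
    · exfalso
      rw [pow_one] at hti
      refine h.core.notMem_of_three ht3 (h.core.mem_P_of_normalises ht ?_)
      have hx1t : Commute t x1 := (mul_inv_eq_iff_eq_mul.mp hti.symm).symm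
      refine le_normalizer_of_le_centralizer (S := P) (B := Subgroup.zpowers t) ?_ (Subgroup.mem_zpowers t)
      rw [h.P_win]
      refine W_le fun j _ hj => ?_
      have hcj : Commute (X g y j) t := by
        interval_cases j
        exacts [h0t, hx1t.symm]
      rw [Subgroup.mem_centralizer_iff]
      rintro _ ⟨z, rfl⟩
      exact (hcj.symm.zpow_left z).eq
    · rw [← hti]
      exact eq_inv_of_mul_eq_one_left (by rw [← pow_succ, ht3'])
  have hx0' : x0 * x0 = 1 := X_sq hw (by omega) 0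
  have hρ : (x0 * t) ^ 6 = 1 := by
    rw [h0t.mul_pow, show (6 : ℕ) = 2 * 3 by norm_num, pow_mul, pow_two, hx0', one_pow, one_mul,
      mul_comm 2 3, pow_mul, ht3', one_pow]
  have hinv2 : x1 * (x0 * t) * x1⁻¹ = (x0 * t)⁻¹ := by
    calc x1 * (x0 * t) * x1⁻¹ = (x1 * x0 * x1⁻¹) * (x1 * t * x1⁻¹) := by group
      _ = x0 * t⁻¹ := by rw [hinv, ← h01.eq, mul_inv_cancel_right]
      _ = (x0 * t)⁻¹ := by rw [h0t.eq, mul_inv_rev, X_inv hw (by omega) 0]
  let f := CfsgLib.Invol.dihedralHom (n := 6) x1 (x0 * t) (X_sq hw (by omega) 1) hρ hinv2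
  have hρA : x0 * t ∈ A := mul_mem (h.core.P_le (h.core.Q_le hx0Q)) ht
  have hfA : ∀ d, f d ∈ A := by
    rintro (i | i)
    · exact zpow_mem hρA _
    · exact mul_mem hx1A (zpow_mem hρA _)
  have hr1 : x0 * t ∈ f.range := ⟨DihedralGroup.r 1, show (x0 * t) ^ (((1 : ZMod 6).val : ℕ) : ℤ) = x0 * t by
    rw [show (1 : ZMod 6).val = 1 from rfl]; simp⟩
  have hs : x1 ∈ f.range := ⟨DihedralGroup.sr 0, show x1 * (x0 * t) ^ (((0 : ZMod 6).val : ℕ) : ℤ) = x1 by simp⟩
  have hsurj : A ≤ f.range := by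
    have h03 : x0 ∈ f.range := by
      have := pow_mem hr1 3
      rwa [h0t.mul_pow, ht3', mul_one, pow_succ, pow_two, hx0', one_mul] at this
    rcases h.core.eq_or_eq (N := f.range) (by
      rw [h.P_win]
      refine W_le fun j _ hj => ?_
      interval_cases j
      exacts [h03, hs]) with e | e
    · exact e
    · exfalso
      refine h.core.notMem_of_three ht3 ?_
      rw [← e]
      refine Subgroup.mem_inf.mpr ⟨?_, ht⟩
      simpa using mul_mem (inv_mem h03) hr1
  have hb : Function.Bijective (f.codRestrict A hfA) := by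
    rw [Nat.bijective_iff_surjective_and_card]
    refine ⟨fun a => ?_, by rw [DihedralGroup.nat_card, h.core.card_A]; norm_num⟩
    obtain ⟨d, hd⟩ := hsurj a.2
    exact ⟨d, Subtype.ext hd⟩
  exact ⟨(MulEquiv.ofBijective _ hb).symm⟩

/-- A nontrivial normal subgroup in the kernel on the Sylow `3`-subgroups meets `U`. -/
theorem exists_mem_U {r : ℕ} (hr : Step A g y k r) (h4 : Nat.card (Sylow 3 A) = 4)
    {N : Subgroup A} [hNn : N.Normal] (hN : N ≤ (MulAction.toPermHom A (Sylow 3 A)).ker) (hne : N ≠ ⊥) :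
    ∃ w ∈ N, w ≠ 1 ∧ (w : G) ∈ W g y (k - r) (2 * r - k) ⊓ Subgroup.centralizer (A : Set G) := by
  haveI : Fact (Nat.Prime 3) := ⟨Nat.prime_three⟩
  haveI : Fact (Nat.Prime 2) := ⟨Nat.prime_two⟩
  have hfix : ∀ z ∈ N, ∀ T : Sylow 3 A, z ∈ Subgroup.normalizer ((T : Subgroup A) : Set A) := fun z hz T =>
    Sylow.smul_eq_iff_mem_normalizer.mp (DFunLike.congr_fun (MonoidHom.mem_ker.mp (hN hz)) T)
  have hno : ∀ z ∈ N, orderOf z ≠ 3 := by
    intro z hz hz3
    have hmem : ∀ T : Sylow 3 A, z ∈ (T : Subgroup A) := fun T => by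
      have hp : IsPGroup 3 (Subgroup.zpowers z) := IsPGroup.of_card (n := 1) (by rw [Nat.card_zpowers, hz3, pow_one])
      have h1 : z ∈ Subgroup.zpowers z ⊓ Subgroup.normalizer ((T : Subgroup A) : Set A) :=
        Subgroup.mem_inf.mpr ⟨Subgroup.mem_zpowers z, hfix z hz T⟩
      exact (Subgroup.mem_inf.mp ((hp.inf_normalizer_sylow T).le h1)).2
    have hT : ∀ T : Sylow 3 A, (T : Subgroup A) = Subgroup.zpowers z := fun T => by
      refine (Subgroup.eq_of_le_of_card_ge (Subgroup.zpowers_le.mpr (hmem T)) ?_).symm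
      rw [Nat.card_zpowers, hz3, Sylow.card_eq_multiplicity, h.core.card_A,
        Nat.factorization_mul (by norm_num) (by positivity), Finsupp.add_apply, Nat.prime_three.factorization_self,
        Nat.factorization_eq_zero_of_not_dvd fun h => absurd (Nat.prime_three.dvd_of_dvd_pow h) (by norm_num)]
      rfl
    haveI : Subsingleton (Sylow 3 A) := ⟨fun T T' => Sylow.ext ((hT T).trans (hT T').symm)⟩
    have := Finite.card_le_one_iff_subsingleton.mpr this
    omega
  have hN3 : ¬ 3 ∣ Nat.card N := fun hd => by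
    obtain ⟨z, hz⟩ := exists_prime_orderOf_dvd_card' 3 hd
    exact hno z z.2 (by rw [Subgroup.orderOf_coe, hz])
  have hdvd : Nat.card N ∣ 2 ^ k := by
    have h1 := Subgroup.card_subgroup_dvd_card N
    rw [h.core.card_A] at h1
    exact ((Nat.prime_three.coprime_iff_not_dvd.mpr hN3).symm).dvd_of_dvd_mul_left h1
  obtain ⟨j, -, hj⟩ := (Nat.dvd_prime_pow Nat.prime_two).mp hdvd
  set S := N.map A.subtype with hS
  have hScard : Nat.card S = 2 ^ j := by
    rw [hS, Subgroup.card_map_of_injective (Subgroup.subtype_injective A), hj]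
  have hSP : S ≤ P := by
    refine h.core.le_P_of_two_group (by rintro _ ⟨z, _, rfl⟩; exact z.2) ?_ (IsPGroup.of_card hScard)
    rintro a ha _ ⟨z, hz, rfl⟩
    exact ⟨⟨a, ha⟩ * z * (⟨a, ha⟩ : A)⁻¹, hNn.conj_mem z hz ⟨a, ha⟩, rfl⟩
  set S' := S.subgroupOf P with hS'
  haveI : S'.Normal := ⟨by
    intro s hs p
    obtain ⟨z, hz, hze⟩ := Subgroup.mem_subgroupOf.mp hs
    refine Subgroup.mem_subgroupOf.mpr ⟨⟨(p : G), h.core.P_le p.2⟩ * z * (⟨(p : G), h.core.P_le p.2⟩ : A)⁻¹,
      hNn.conj_mem z hz _, ?_⟩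
    show (p : G) * (z : G) * (p : G)⁻¹ = (p : G) * (s : G) * (p : G)⁻¹
    rw [show (z : G) = (s : G) from hze]⟩
  obtain ⟨s, hs, hsc, hs2⟩ := CfsgLib.PGroup.exists_central_orderOf_eq (IsPGroup.of_card h.core.card_P) S' (by
    intro e
    refine hne ((Subgroup.eq_bot_iff_forall _).mpr fun z hz => ?_)
    have hzS : (z : G) ∈ S := ⟨z, hz, rfl⟩
    have : (⟨(z : G), hSP hzS⟩ : P) ∈ S' := Subgroup.mem_subgroupOf.mpr hzS
    rw [e, Subgroup.mem_bot] at this
    exact Subtype.ext (congrArg Subtype.val this :))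
  obtain ⟨w, hw, hws⟩ := Subgroup.mem_subgroupOf.mp hs
  have hwP : ∀ p ∈ P, Commute (w : G) p := fun p hp => by
    rw [show (w : G) = (s : G) from hws]
    exact (congrArg Subtype.val (Subgroup.mem_center_iff.mp hsc ⟨p, hp⟩) :).symm
  obtain ⟨T⟩ : Nonempty (Sylow 3 A) := inferInstance
  obtain ⟨t, ht⟩ := exists_prime_orderOf_dvd_card' (G := (T : Subgroup A)) 3 (by
    rw [Sylow.card_eq_multiplicity, h.core.card_A, Nat.factorization_mul (by norm_num) (by positivity),
      Finsupp.add_apply, Nat.prime_three.factorization_self]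
    exact dvd_pow_self 3 (by omega))
  have hwt : Commute (w : G) ((t : A) : G) := by
    have h1 : w * (t : A) * w⁻¹ * (t : A)⁻¹ ∈ (T : Subgroup A) :=
      mul_mem ((Subgroup.mem_normalizer_iff.mp (hfix w hw T) _).mp t.2) (inv_mem t.2)
    have h2 : w * (t : A) * w⁻¹ * (t : A)⁻¹ ∈ N := by
      have := mul_mem hw (hNn.conj_mem _ (inv_mem hw) (t : A))
      rwa [show w * ((t : A) * w⁻¹ * (t : A)⁻¹) = w * (t : A) * w⁻¹ * (t : A)⁻¹ by group] at this
    have h3 := Subgroup.orderOf_dvd_natCard _ h1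
    have h4 := Subgroup.orderOf_dvd_natCard _ h2
    obtain ⟨e, he⟩ := IsPGroup.iff_card.mp T.2
    rw [he] at h3
    rw [hj] at h4
    have h5 := Nat.eq_one_of_dvd_coprimes (Nat.Coprime.pow e j (by norm_num)) h3 h4
    rw [orderOf_eq_one_iff, mul_inv_eq_one, mul_inv_eq_iff_eq_mul] at h5
    exact congrArg Subtype.val h5
  refine ⟨w, hw, fun e => ?_, Subgroup.mem_inf.mpr ⟨?_, h.core.centralizer_of_three hwP (t : A).2
    (by rw [Subgroup.orderOf_coe, Subgroup.orderOf_coe, ht]) hwt⟩⟩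
  · have : (s : G) = 1 := by rw [← show (w : G) = (s : G) from hws, e]; rfl
    rw [show s = 1 from Subtype.ext this, orderOf_one] at hs2
    omega
  · have hk2 := hr.lt_two
    exact mem_center_window h.windows hr.commutes hr.com_ne le_rfl (by omega)
      (h.P_win ▸ hSP ⟨w, hw, rfl⟩) fun i hi => hwP _ (h.X_mem_P hi)

theorem no_normal_three {r : ℕ} (hr : Step A g y k r) {x : G} (hxZ : x ∈ W g y (k - r) (2 * r - k))
    (hxA : x ∉ Subgroup.centralizer (A : Set G)) {t : G} (ht : t ∈ A) (ht3 : orderOf t = 3)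
    (htn : ∀ a ∈ A, a * t * a⁻¹ ∈ Subgroup.zpowers t) : False := by
  have hk2 := hr.lt_two
  have hrk := hr.r_lt
  refine hxA (h.core.centralizer_of_three (fun p hp => window_central h.windows hr.commutes (K := k) hxZ
    (by omega) (by omega) (h.P_win ▸ hp)) ht ht3 (h.core.commute_of_normal_three ht3 htn ht ?_))
  exact h.W_le_Q (by omega) hxZ

theorem nonempty_perm_four (hk : k = 3) (hr : Step A g y k 2) : Nonempty (A ≃* Equiv.Perm (Fin 4)) := by
  subst hk
  have hU : W g y (3 - 2) (2 * 2 - 3) ⊓ Subgroup.centralizer (A : Set G) = ⊥ := by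
    refine Subgroup.eq_bot_of_card_eq _ ?_
    have h1 := hr.u_sq
    have h2 := Nat.card_pos (α := ↥(W g y (3 - 2) (2 * 2 - 3) ⊓ Subgroup.centralizer (A : Set G)))
    norm_num at h1 h2 ⊢
    nlinarith
  rcases h.core.sylow_three (by omega) (Or.inl rfl) with ⟨t, ht, ht3, htn⟩ | ⟨-, h4⟩
  · refine (h.no_normal_three hr (x := X g y 1) (X_mem (by omega) (by omega)) (fun hc => ?_) ht ht3 htn).elim
    have : X g y 1 ∈ (⊥ : Subgroup G) := hU ▸ Subgroup.mem_inf.mpr ⟨X_mem (by omega) (by omega), hc⟩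
    exact X_ne_one h.windows (by omega) 1 (Subgroup.mem_bot.mp this)
  · set f := MulAction.toPermHom A (Sylow 3 A) with hf
    have hinj : Function.Injective f := by
      refine (MonoidHom.ker_eq_bot_iff f).mp ?_
      by_contra hne
      obtain ⟨w, -, hw1, hwU⟩ := h.exists_mem_U hr h4 (N := f.ker) le_rfl hne
      rw [hU, Subgroup.mem_bot] at hwU
      exact hw1 (Subtype.ext hwU)
    have hb : Function.Bijective f := by
      rw [Nat.bijective_iff_injective_and_card]
      exact ⟨hinj, by rw [h.core.card_A, Nat.card_perm, h4]; rfl⟩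
    exact ⟨(MulEquiv.ofBijective f hb).trans (Finite.equivFinOfCardEq h4).permCongrHom⟩

end Chain

end CfsgLib.Recog.SuborbitThree
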