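import Cfsg.Agent.Lib.Recog.SuborbitTypes

/-!
Sims' theorem: the stabiliser of order `48` is `S4 × 2`; the classification of all five types; the
translation from primitive actions.
-/

set_option autoImplicit false
set_option maxHeartbeats 800000

namespace CfsgLib.Recog.SuborbitThree

universe u

variable {G : Type u} [Group G] [Finite G]

namespace Chain

variable {A P Q : Subgroup G} {g y : G} {k : ℕ} (h : Chain A P Q g y k)

include h

theorem two_three (hk : k = 4) {u : G} (hu : u ∈ W g y 1 2) :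
    (u = 1 ∨ u = X g y 1) ∨ u = X g y 2 ∨ u = X g y 1 * X g y 2 := by
  subst hk
  have hw := h.windows
  rcases mem_or_right hw (n := 1) (by omega) hu with h1 | h1
  · exact Or.inl (window_one hw (by omega) h1)
  · right
    have e : u = u * X g y (1 + 1) * X g y 2 := by rw [mul_assoc, X_sq hw (by omega) 2, mul_one]
    rcases window_one hw (by omega) h1 with h2 | h2 <;> rw [h2] at e
    · exact Or.inl (by rwa [one_mul] at e)
    · exact Or.inr e

theorem U_four (hk : k = 4) (hr : Step A g y k 3) :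
    X g y 1 ∈ Subgroup.centralizer (A : Set G) ∧
      (∀ u ∈ W g y 1 2, u ∈ Subgroup.centralizer (A : Set G) → u = 1 ∨ u = X g y 1) := by
  subst hk
  have hw := h.windows
  have key : ∀ u ∈ W g y 1 2, u ∈ Subgroup.centralizer (A : Set G) → u = 1 ∨ u = X g y 1 := by
    intro u hu hc
    rcases h.two_three rfl hu with h1 | h1
    · exact h1
    exfalso
    have hg : g * u * g⁻¹ ∈ W g y 1 2 := (hr.u_shift u (Subgroup.mem_inf.mpr ⟨hu, hc⟩)).1
    refine X_notMem_right hw (a := 1) (n := 2) (by omega) ?_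
    rcases h1 with rfl | rfl
    · rwa [← X_succ] at hg
    · rw [show g * (X g y 1 * X g y 2) * g⁻¹ = (g * X g y 1 * g⁻¹) * (g * X g y 2 * g⁻¹) by group,
        ← X_succ, ← X_succ] at hg
      have := mul_mem (inv_mem (X_mem (g := g) (y := y) (a := 1) (n := 2) (i := 1 + 1) (by omega) (by omega))) hg
      rwa [inv_mul_cancel_left] at this
  refine ⟨?_, key⟩
  have hcard : 2 ≤ Nat.card ↥(W g y (4 - 3) (2 * 3 - 4) ⊓ Subgroup.centralizer (A : Set G)) := by
    simpa using hr.u_le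
  obtain ⟨⟨u, hu⟩, hne⟩ : ∃ u : ↥(W g y (4 - 3) (2 * 3 - 4) ⊓ Subgroup.centralizer (A : Set G)), u ≠ 1 := by
    by_contra hno
    push Not at hno
    haveI : Subsingleton ↥(W g y (4 - 3) (2 * 3 - 4) ⊓ Subgroup.centralizer (A : Set G)) :=
      ⟨fun a b => (hno a).trans (hno b).symm⟩
    have := Finite.card_le_one_iff_subsingleton.mpr this
    omega
  rw [Subgroup.mem_inf] at hu
  rcases key u hu.1 hu.2 with h1 | h1
  · exact absurd (Subtype.ext h1) hne
  · rw [← h1]; exact hu.2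

theorem com_ne_X_one (hk : k = 4) (hr : Step A g y k 3) : com g y 3 0 ≠ X g y 1 := by
  subst hk
  intro hc
  have hw := h.windows
  obtain ⟨h1A, key⟩ := h.U_four rfl hr
  have h2A : X g y 2 ∉ Subgroup.centralizer (A : Set G) := by
    intro h2
    rcases key _ (X_mem (by omega) (by omega)) h2 with e | e
    · exact X_ne_one hw (by omega) 2 e
    · refine X_notMem_right hw (a := 1) (n := 1) (by omega) ?_
      show X g y 2 ∈ W g y 1 1
      rw [e]; exact X_mem le_rfl (by omega)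
  set U := Subgroup.zpowers (X g y 1) with hU
  have hUc : ∀ u ∈ U, ∀ a ∈ A, a * u * a⁻¹ = u := by
    intro u hu a ha
    have hu' : u ∈ Subgroup.centralizer (A : Set G) := Subgroup.zpowers_le.mpr h1A hu
    rw [Subgroup.mem_centralizer_iff.mp hu' a ha, mul_inv_cancel_right]
  have hUQ : U ≤ Q := Subgroup.zpowers_le.mpr (h.X_mem_Q (by omega))
  let S : Subgroup G :=
    { carrier := {a | a ∈ A ∧ ∀ q ∈ Q, a * q * a⁻¹ * q⁻¹ ∈ U}
      one_mem' := ⟨one_mem A, fun q _ => by simp⟩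
      mul_mem' := fun {a b} ha hb => ⟨mul_mem ha.1 hb.1, fun q hq => by
        have h1 := hb.2 q hq
        have h2 := ha.2 q hq
        rw [show a * b * q * (a * b)⁻¹ * q⁻¹ = (a * (b * q * b⁻¹ * q⁻¹) * a⁻¹) * (a * q * a⁻¹ * q⁻¹) by group,
          hUc _ h1 a ha.1]
        exact mul_mem h1 h2⟩
      inv_mem' := fun {a} ha => ⟨inv_mem ha.1, fun q hq => by
        have h1 := inv_mem (ha.2 q hq)
        have h2 : a⁻¹ * (a * q * a⁻¹ * q⁻¹)⁻¹ * a⁻¹⁻¹ ∈ U := by rw [hUc _ h1 a⁻¹ (inv_mem ha.1)]; exact h1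
        rwa [show a⁻¹ * (a * q * a⁻¹ * q⁻¹)⁻¹ * a⁻¹⁻¹ = a⁻¹ * q * a⁻¹⁻¹ * q⁻¹ by group] at h2⟩ }
  have hgen : ∀ i, i < 4 → ∀ j, j < 3 → X g y i * X g y j * (X g y i)⁻¹ * (X g y j)⁻¹ ∈ U := by
    intro i hi j hj
    rcases (by omega : (i = 3 ∧ j = 0) ∨ (i < j + 3 ∧ j < i + 3)) with ⟨rfl, rfl⟩ | ⟨h1, h2⟩
    · have : (com g y 3 0)⁻¹ ∈ U := inv_mem (hc ▸ Subgroup.mem_zpowers _)
      simpa [com, mul_assoc] using this
    · rw [(commute_X hr.commutes h1 h2).eq, mul_inv_cancel_right, mul_inv_cancel]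
      exact one_mem U
  have hPS : P ≤ S := by
    rw [h.P_win]
    refine W_le fun i _ hi => ⟨h.core.P_le (h.X_mem_P (by omega)), fun q hq => ?_⟩
    have hxA : X g y i ∈ A := h.core.P_le (h.X_mem_P (by omega))
    rw [h.Q_win] at hq
    induction hq using Subgroup.closure_induction with
    | mem z hz => obtain ⟨j, hj, rfl⟩ := hz; exact hgen i (by omega) j (by have := hj.2; omega)
    | one => simp
    | mul a b ha hb iha ihb =>
      have haA : a ∈ A := h.core.P_le (h.core.Q_le (h.Q_win ▸ ha))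
      rw [show X g y i * (a * b) * (X g y i)⁻¹ * (a * b)⁻¹ =
        (X g y i * a * (X g y i)⁻¹ * a⁻¹) * (a * (X g y i * b * (X g y i)⁻¹ * b⁻¹) * a⁻¹) by group, hUc _ ihb a haA]
      exact mul_mem iha ihb
    | inv a ha iha =>
      have haA : a ∈ A := h.core.P_le (h.core.Q_le (h.Q_win ▸ ha))
      have h2 := inv_mem iha
      have h3 : a⁻¹ * (X g y i * a * (X g y i)⁻¹ * a⁻¹)⁻¹ * a⁻¹⁻¹ ∈ U := by
        rw [hUc _ h2 a⁻¹ (inv_mem haA)]; exact h2
      rwa [show a⁻¹ * (X g y i * a * (X g y i)⁻¹ * a⁻¹)⁻¹ * a⁻¹⁻¹ =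
        X g y i * a⁻¹ * (X g y i)⁻¹ * a⁻¹⁻¹ by group] at h3
  have hAS : A ≤ S := by
    refine h.core.le_of_normalised hPS fun b hb => mem_normalizer_of_forall fun a ha =>
      ⟨mul_mem (mul_mem hb ha.1) (inv_mem hb), fun q hq => ?_⟩
    have hq' : b⁻¹ * q * b ∈ Q := by simpa using h.core.Q_normal b⁻¹ (inv_mem hb) q hq
    have h1 := ha.2 _ hq'
    rw [← hUc _ h1 b hb] at h1
    rwa [show b * (a * (b⁻¹ * q * b) * a⁻¹ * (b⁻¹ * q * b)⁻¹) * b⁻¹ =
      b * a * b⁻¹ * q * (b * a * b⁻¹)⁻¹ * q⁻¹ by group] at h1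
  obtain ⟨t, ht⟩ := exists_prime_orderOf_dvd_card' (hp := ⟨Nat.prime_three⟩) (G := A) 3
    (by rw [h.core.card_A]; exact dvd_mul_right 3 _)
  have ht3 : orderOf (t : G) = 3 := by rw [Subgroup.orderOf_coe, ht]
  have hx2Q : X g y 2 ∈ Q := h.X_mem_Q (by omega)
  obtain ⟨hta, hu⟩ := hAS t.2
  obtain ⟨u, hudef⟩ : ∃ u, u = (t : G) * X g y 2 * (t : G)⁻¹ * (X g y 2)⁻¹ := ⟨_, rfl⟩
  have huU : u ∈ U := hudef ▸ hu _ hx2Q
  set c := MulAut.conj (t : G) with hcdef
  have hcu : c u = u := hUc u huU t t.2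
  have hct : c (X g y 2) = u * X g y 2 := by rw [hcdef, MulAut.conj_apply, hudef]; group
  have hcube : c (c (c (X g y 2))) = X g y 2 := by
    have h3 : ((t : G) * ((t : G) * (t : G))) = 1 := by
      have hp := pow_orderOf_eq_one (t : G)
      rw [ht3] at hp
      rw [← pow_two, ← pow_succ']; exact hp
    calc c (c (c (X g y 2))) = ((t : G) * ((t : G) * (t : G))) * X g y 2 * ((t : G) * ((t : G) * (t : G)))⁻¹ := by
          simp only [hcdef, MulAut.conj_apply]; group
      _ = X g y 2 := by rw [h3, one_mul, inv_one, mul_one]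
  rw [hct, map_mul, hcu, hct, map_mul, map_mul, hcu, hct, ← mul_assoc, ← mul_assoc, mul_eq_right] at hcube
  have hu2 : u * u = 1 := by
    rcases (Subgroup.mem_zpowers_iff.mp huU) with ⟨i, hi⟩
    rw [← hi, ← zpow_add, ← two_mul, zpow_mul, zpow_two, X_sq hw (by omega) 1, one_zpow]
  rw [hu2, one_mul] at hcube
  refine h2A (h.core.centralizer_of_three (fun p hp => window_central hw hr.commutes (K := 4) (z := X g y 2)
    (X_mem (by omega) (by omega)) (by omega) (by omega) (h.P_win ▸ hp)) t.2 ht3 ?_)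
  have := hct
  rw [hcube, one_mul, hcdef, MulAut.conj_apply] at this
  exact (mul_inv_eq_iff_eq_mul.mp this).symm

theorem exists_hom (hk : k = 4) (hr : Step A g y k 3) :
    ∃ ψ : A →* Multiplicative (ZMod 2), ∀ (hx : X g y 1 ∈ A), ψ ⟨X g y 1, hx⟩ ≠ 1 := by
  have hne := h.com_ne_X_one hk hr
  subst hk
  have hw := h.windows
  have hk1 : 1 ≤ 4 := by omega
  obtain ⟨h1A, -⟩ := h.U_four rfl hr
  set x0 := X g y 0 with hx0
  set x3 := X g y 3 with hx3
  set c := com g y 3 0 with hcdef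
  have hc : c ∈ W g y 1 2 := comm_mem hw (i := 0) (D := 3) (by omega) (by omega)
  have hρ2 : (x0 * x3) ^ 2 = c := by
    rw [hcdef, com, Nat.zero_add, ← hx0, ← hx3, pow_two, hx0, hx3, X_inv hw hk1, X_inv hw hk1]; group
  have hc2 : c * c = 1 := by
    have hx : ∀ i, 1 ≤ i → i < 3 → X g y i * X g y i = 1 := fun i _ _ => X_sq hw hk1 i
    have h12 : Commute (X g y 1) (X g y 2) := commute_X hr.commutes (by omega) (by omega)
    rcases h.two_three rfl hc with (e | e) | e | e <;> rw [e]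
    · rw [one_mul]
    · exact X_sq hw hk1 1
    · exact X_sq hw hk1 2
    · rw [mul_assoc, ← mul_assoc (X g y 2), ← h12.eq, mul_assoc, X_sq hw hk1 2, mul_one, X_sq hw hk1 1]
  have hρ4 : (x0 * x3) ^ 4 = 1 := by rw [show (4 : ℕ) = 2 * 2 by norm_num, pow_mul, hρ2, pow_two, hc2]
  let f := CfsgLib.Invol.dihedralHom (n := 4) x0 (x0 * x3) (X_sq hw hk1 0) hρ4
    (CfsgLib.Invol.conj_prod (X_sq hw hk1 0) (X_sq hw hk1 3))
  set F := f.range with hF
  have hr1 : x0 * x3 ∈ F := ⟨DihedralGroup.r 1,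
    show (x0 * x3) ^ (((1 : ZMod 4).val : ℕ) : ℤ) = x0 * x3 by rw [show (1 : ZMod 4).val = 1 from rfl]; simp⟩
  have hx0F : x0 ∈ F := ⟨DihedralGroup.sr 0, show x0 * (x0 * x3) ^ (((0 : ZMod 4).val : ℕ) : ℤ) = x0 by simp⟩
  have hx3F : x3 ∈ F := by simpa using mul_mem (inv_mem hx0F) hr1
  have hFP : F ≤ P := by
    rintro _ ⟨(i | i), rfl⟩
    · exact zpow_mem (mul_mem (h.X_mem_P (by omega)) (h.X_mem_P (by omega))) _
    · exact mul_mem (h.X_mem_P (by omega)) (zpow_mem (mul_mem (h.X_mem_P (by omega)) (h.X_mem_P (by omega))) _)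
  have hF8 : Nat.card F ≤ 8 :=
    (Nat.card_le_card_of_surjective _ f.rangeRestrict_surjective).trans (le_of_eq DihedralGroup.nat_card)
  have hord : orderOf (x0 * x3) = 4 := by
    refine orderOf_eq_prime_pow (x := x0 * x3) (p := 2) (n := 1) (hp := ⟨Nat.prime_two⟩) ?_ (by rw [show (2 : ℕ) ^ (1 + 1) = 4 by norm_num]; exact hρ4)
    rw [pow_one, hρ2]; exact hr.com_ne
  have h8 : Nat.card F = 8 := by
    have h4 := Subgroup.orderOf_dvd_natCard F hr1
    rw [hord] at h4
    have hne4 : Nat.card F ≠ 4 := fun e => hr.com_ne (by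
      have hz : Subgroup.zpowers (x0 * x3) = F := Subgroup.eq_of_le_of_card_ge (Subgroup.zpowers_le.mpr hr1)
        (by rw [Nat.card_zpowers, hord, e])
      obtain ⟨i, hi⟩ := Subgroup.mem_zpowers_iff.mp (hz.symm ▸ hx0F)
      have h1 := Commute.zpow_self (x0 * x3) i
      rw [hi] at h1
      have h2 : Commute x0 x3 := by simpa using (Commute.refl x0).inv_right.mul_right h1
      rw [com, Nat.zero_add, ← hx0, ← hx3, h2.eq]; group)
    have hFc := Nat.card_pos (α := F)
    omega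
  have hx1F : X g y 1 ∉ F := by
    intro h1
    have hcF : c ∈ F := hρ2 ▸ pow_mem hr1 2
    have h2 : X g y 2 ∈ F := by
      rcases h.two_three rfl hc with (e | e) | e | e
      · exact absurd e hr.com_ne
      · exact absurd e hne
      · exact e ▸ hcF
      · have := mul_mem (inv_mem h1) hcF
        rwa [e, inv_mul_cancel_left] at this
    have hle : P ≤ F := by
      rw [h.P_win]
      refine W_le fun i _ hi => ?_
      interval_cases i
      exacts [hx0F, h1, h2, hx3F]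
    have := Subgroup.card_le_of_le hle
    rw [h8, h.core.card_P] at this
    omega
  set F0 := F.subgroupOf P with hF0
  have hidx : F0.index = 2 := by
    have h1 := F0.index_mul_card
    rw [Nat.card_congr (Subgroup.subgroupOfEquivOfLe hFP).toEquiv, h8, h.core.card_P] at h1
    omega
  haveI := Subgroup.normal_of_index_eq_two hidx
  haveI : Fact (Nat.Prime 2) := ⟨Nat.prime_two⟩
  have hq2 : Nat.card (P ⧸ F0) = 2 := hidx
  have hM : Nat.card (Multiplicative (ZMod 2)) = 2 := by simp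
  let e := mulEquivOfPrimeCardEq hq2 hM
  let φ : ↥(P.subgroupOf A) →* Multiplicative (ZMod 2) :=
    (e.toMonoidHom.comp (QuotientGroup.mk' F0)).comp (Subgroup.subgroupOfEquivOfLe h.core.P_le).toMonoidHom
  refine ⟨MonoidHom.transfer φ, fun hx => ?_⟩
  have hx1P : X g y 1 ∈ P := h.X_mem_P (by omega)
  have hcen : ∀ (j : ℕ) (g₀ : A), g₀⁻¹ * (⟨X g y 1, hx⟩ : A) ^ j * g₀ = (⟨X g y 1, hx⟩ : A) ^ j := by
    intro j g₀
    have hc0 : Commute g₀ (⟨X g y 1, hx⟩ : A) :=
      Subtype.ext (Subgroup.mem_centralizer_iff.mp h1A g₀ g₀.2)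
    rw [mul_assoc, ← (hc0.pow_right j).eq, inv_mul_cancel_left]
  rw [MonoidHom.transfer_eq_pow φ _ fun j g₀ _ => hcen j g₀]
  intro h1
  refine hx1F ?_
  have h3 : (P.subgroupOf A).index = 3 := h.core.relIndex_P
  have h4 := (map_eq_one_iff e e.injective).mp h1
  rw [QuotientGroup.mk'_apply, QuotientGroup.eq_one_iff, hF0, Subgroup.mem_subgroupOf] at h4
  have h5 : ((⟨X g y 1, hx⟩ : A) ^ (P.subgroupOf A).index : A) = (⟨X g y 1, hx⟩ : A) := by
    rw [h3]
    exact Subtype.ext (show X g y 1 ^ 3 = X g y 1 by rw [pow_succ, pow_two, X_sq hw hk1 1, one_mul])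
  have h6 : (((⟨X g y 1, hx⟩ : A) ^ (P.subgroupOf A).index : A) : G) ∈ F := h4
  rwa [h5] at h6

theorem nonempty_prod (hk : k = 4) (hr : Step A g y k 3) :
    Nonempty (A ≃* Equiv.Perm (Fin 4) × Multiplicative (ZMod 2)) := by
  obtain ⟨ψ, hψ⟩ := h.exists_hom hk hr
  obtain ⟨h1A, key⟩ := h.U_four hk hr
  subst hk
  have hw := h.windows
  have hx1A : X g y 1 ∈ A := h.core.P_le (h.X_mem_P (by omega))
  rcases h.core.sylow_three le_rfl (Or.inr ⟨_, hx1A, X_ne_one hw (by omega) 1, X_sq hw (by omega) 1, h1A⟩) with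
    ⟨t, ht, ht3, htn⟩ | ⟨-, h4⟩
  · refine (h.no_normal_three hr (x := X g y 2) (X_mem (by omega) (by omega)) (fun hc => ?_) ht ht3 htn).elim
    rcases key _ (X_mem (by omega) (by omega)) hc with e | e
    · exact X_ne_one hw (by omega) 2 e
    · refine X_notMem_right hw (a := 1) (n := 1) (by omega) ?_
      show X g y 2 ∈ W g y 1 1
      rw [e]; exact X_mem le_rfl (by omega)
  · set f := (MulAction.toPermHom A (Sylow 3 A)).prod ψ with hf
    have hinj : Function.Injective f := by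
      refine (MonoidHom.ker_eq_bot_iff f).mp ?_
      by_contra hne
      have hle : f.ker ≤ (MulAction.toPermHom A (Sylow 3 A)).ker := fun z hz =>
        MonoidHom.mem_ker.mpr (congrArg Prod.fst (MonoidHom.mem_ker.mp hz) :)
      obtain ⟨w, hw', hw1, hwU⟩ := h.exists_mem_U hr h4 hle hne
      rw [Subgroup.mem_inf] at hwU
      rcases key w hwU.1 hwU.2 with e | e
      · exact hw1 (Subtype.ext e)
      · refine hψ hx1A ?_
        rw [show (⟨X g y 1, hx1A⟩ : A) = w from Subtype.ext e.symm]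
        exact (congrArg Prod.snd (MonoidHom.mem_ker.mp hw') :)
    have hb : Function.Bijective f := by
      rw [Nat.bijective_iff_injective_and_card]
      refine ⟨hinj, ?_⟩
      rw [h.core.card_A, Nat.card_prod, Nat.card_perm, h4]
      simp [Nat.factorial]
    exact ⟨(MulEquiv.ofBijective f hb).trans
      ((Finite.equivFinOfCardEq h4).permCongrHom.prodCongr (MulEquiv.refl _))⟩

end Chain

/-- Sims' theorem on the groups with a suborbit of length three. -/
theorem Sit.types {A : Subgroup G} {g : G} (hs : Sit A g) :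
    (Nat.card A = 2 ^ 0 * 3 ∧ Nonempty (A ≃* Multiplicative (ZMod 3))) ∨
    (Nat.card A = 2 ^ 1 * 3 ∧ Nonempty (A ≃* Equiv.Perm (Fin 3))) ∨
    (Nat.card A = 2 ^ 2 * 3 ∧ Nonempty (A ≃* DihedralGroup 6)) ∨
    (Nat.card A = 2 ^ 3 * 3 ∧ Nonempty (A ≃* Equiv.Perm (Fin 4))) ∨
    (Nat.card A = 2 ^ 4 * 3 ∧ Nonempty (A ≃* Equiv.Perm (Fin 4) × Multiplicative (ZMod 2))) := by
  obtain ⟨k, hP, hA⟩ := exists_card hs
  have hcard : Nat.card A = 2 ^ k * 3 := by rw [hA, mul_comm]
  rcases Nat.eq_zero_or_pos k with rfl | hk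
  · left
    haveI : Fact (Nat.Prime 3) := ⟨Nat.prime_three⟩
    refine ⟨hcard, ⟨mulEquivOfPrimeCardEq (p := 3) (by rw [hcard]; norm_num) (by simp)⟩⟩
  obtain ⟨Q, g', hc⟩ := exists_core hs hk hP hA
  obtain ⟨y, hw, hPw, hQw⟩ := hc.exists_windows
  have h : Chain A _ Q g' y k := ⟨hc, hw, hPw, hQw⟩
  rcases h.bound with h2 | ⟨rfl, hr⟩ | ⟨rfl, hr⟩
  · rcases (by omega : k = 1 ∨ k = 2) with rfl | rfl
    · exact Or.inr (Or.inl ⟨hcard, hc.nonempty_perm_three rfl⟩)
    · exact Or.inr (Or.inr (Or.inl ⟨hcard, h.nonempty_dihedral rfl⟩))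
  · exact Or.inr (Or.inr (Or.inr (Or.inl ⟨hcard, h.nonempty_perm_four rfl hr⟩)))
  · exact Or.inr (Or.inr (Or.inr (Or.inr ⟨hcard, h.nonempty_prod rfl hr⟩)))

/-- A suborbit of length three in a primitive group. -/
theorem exists_sit {Ω : Type*} [MulAction G Ω] [FaithfulSMul G Ω] (hprim : MulAction.IsPreprimitive G Ω)
    (a b : Ω) (h3 : Nat.card (MulAction.orbit (MulAction.stabilizer G a) b) = 3) :
    ∃ g, Sit (MulAction.stabilizer G a) g := by
  haveI := hprim
  obtain ⟨g, hg⟩ := MulAction.exists_smul_eq G a b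
  set A := MulAction.stabilizer G a with hA
  have hne : b ≠ a := by
    rintro rfl
    have hone : MulAction.orbit A b = {b} := Set.eq_singleton_iff_unique_mem.mpr
      ⟨MulAction.mem_orbit_self b, by rintro _ ⟨x, rfl⟩; exact x.2⟩
    rw [hone] at h3
    simp at h3
  haveI : Nontrivial Ω := ⟨⟨b, a, hne⟩⟩
  have hmax : IsCoatom A := (MulAction.isCoatom_stabilizer_iff_preprimitive G a).mpr hprim
  have hB : A.map (MulAut.conj g).toMonoidHom = MulAction.stabilizer G b := by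
    rw [← hg, MulAction.stabilizer_smul_eq_stabilizer_map_conj]
  have hnorm : ∀ S : Subgroup G, S ≤ A → ∀ x ∉ A, A ≤ Subgroup.normalizer (S : Set G) →
      x ∈ Subgroup.normalizer (S : Set G) → S = ⊥ := by
    intro S hS x hx hAn hxn
    have htop : Subgroup.normalizer (S : Set G) = ⊤ := hmax.2 _ (lt_of_le_of_ne hAn fun e => hx (e ▸ hxn))
    refine (Subgroup.eq_bot_iff_forall _).mpr fun s hs => eq_of_smul_eq_smul (α := Ω) fun ω => ?_
    obtain ⟨z, rfl⟩ := MulAction.exists_smul_eq G a ω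
    have hz : z⁻¹ ∈ Subgroup.normalizer (S : Set G) := htop ▸ Subgroup.mem_top _
    have hfix : z⁻¹ * s * z⁻¹⁻¹ ∈ A := hS ((Subgroup.mem_normalizer_iff.mp hz s).mp hs)
    rw [hA, MulAction.mem_stabilizer_iff, inv_inv, mul_smul, mul_smul, inv_smul_eq_iff] at hfix
    rw [one_smul, hfix]
  have hgA : g ∉ A := fun hmem => hne (hg ▸ hmem)
  have hidx : (A ⊓ A.map (MulAut.conj g).toMonoidHom).relIndex A = 3 := by
    rw [Subgroup.inf_relIndex_left, hB, Subgroup.relIndex,
      show (MulAction.stabilizer G b).subgroupOf A = MulAction.stabilizer A b from Subgroup.ext fun x => Iff.rfl,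
      MulAction.index_stabilizer, ← Nat.card_coe_set_eq, h3]
  refine ⟨g, fun S hS h1 h2 => hnorm S hS g hgA h1 h2, fun S hS h1 h2 => ?_, hidx⟩
  obtain ⟨x, hxB, hxA⟩ : ∃ x ∈ A.map (MulAut.conj g).toMonoidHom, x ∉ A := by
    by_contra hall
    push Not at hall
    have he : A.map (MulAut.conj g).toMonoidHom = A := Subgroup.eq_of_le_of_card_ge hall
      (Subgroup.card_map_of_injective (MulEquiv.injective _)).ge
    rw [he, inf_idem, Subgroup.relIndex_self] at hidx
    omega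
  exact hnorm S hS x hxA h1 (h2 hxB)

end CfsgLib.Recog.SuborbitThree
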