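import Mathlib
import Cfsg.Agent.Lib.SmallOrder.Refined

/-!
No finite group has exactly twenty-one Sylow 5-subgroups.
-/

set_option autoImplicit false

namespace CfsgLib.Recog.TwentyOne

open MulAction
open scoped Pointwise

universe u

theorem factFive : Fact (Nat.Prime 5) := ⟨Nat.prime_five⟩

attribute [local instance] factFive

variable {G : Type u} [Group G] [Finite G]

/-- A `5`-element normalising a Sylow `5`-subgroup lies in it. -/
theorem mem_of_smul_eq {g : G} (R Q : Sylow 5 G) (hg : g ∈ (R : Subgroup G)) (h : g • Q = Q) :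
    g ∈ (Q : Subgroup G) := by
  have hz : IsPGroup 5 (Subgroup.zpowers g) := R.2.to_le (Subgroup.zpowers_le.mpr hg)
  have hsup := hz.to_sup_of_normal_right' Q.2
    (Subgroup.zpowers_le.mpr (Sylow.smul_eq_iff_mem_normalizer.mp h))
  exact Q.3 hsup le_sup_right ▸ le_sup_left (b := (Q : Subgroup G)) (Subgroup.mem_zpowers g)

theorem smul_self {g : G} (R : Sylow 5 G) (hg : g ∈ (R : Subgroup G)) : g • R = R :=
  Sylow.smul_eq_iff_mem_normalizer.mpr (Subgroup.le_normalizer hg)

theorem exists_smul_ne (R Q : Sylow 5 G) (h : Q ≠ R) : ∃ g ∈ (R : Subgroup G), g • Q ≠ Q := by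
  by_contra hcon
  push Not at hcon
  exact h (Sylow.ext (R.3 Q.2 fun g hg => mem_of_smul_eq R Q hg (hcon g hg)))

theorem card_sylow_subgroup (Q R : Sylow 5 G) : Nat.card Q = Nat.card R := by
  rw [Q.card_eq_multiplicity, R.card_eq_multiplicity]

/-- A Sylow subgroup of order five moves all the other ones semiregularly. -/
theorem eq_of_fix (h5 : ∀ Q : Sylow 5 G, Nat.card Q = 5) {R Q : Sylow 5 G} {y : G}
    (hy : y ∈ (R : Subgroup G)) (hy1 : y ≠ 1) (h : y • Q = Q) : Q = R := by
  have hgen : ∀ W : Sylow 5 G, y ∈ (W : Subgroup G) → Subgroup.zpowers y = (W : Subgroup G) := fun W hW => by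
    refine Subgroup.eq_of_le_of_card_ge (Subgroup.zpowers_le.mpr hW) ?_
    have hd := Subgroup.orderOf_dvd_natCard _ hW
    rw [h5] at hd
    rw [h5, Nat.card_zpowers, ((Nat.dvd_prime Nat.prime_five).mp hd).resolve_left
      fun e => hy1 (orderOf_eq_one_iff.mp e)]
  exact Sylow.ext ((hgen Q (mem_of_smul_eq R Q hy h)).symm.trans (hgen R hy))

theorem eq_of_smul_eq (h5 : ∀ Q : Sylow 5 G, Nat.card Q = 5) {R Q : Sylow 5 G} (hQ : Q ≠ R) {a b : G}
    (ha : a ∈ (R : Subgroup G)) (hb : b ∈ (R : Subgroup G)) (h : a • Q = b • Q) : a = b := by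
  by_contra hne
  refine hQ (eq_of_fix h5 (mul_mem (inv_mem hb) ha) (fun e => hne (inv_mul_eq_one.mp e).symm) ?_)
  rw [mul_smul, h, inv_smul_smul]

theorem pow_five_of_mem (h5 : ∀ Q : Sylow 5 G, Nat.card Q = 5) {R : Sylow 5 G} {y : G}
    (hy : y ∈ (R : Subgroup G)) : y ^ 5 = 1 := by
  rw [← orderOf_dvd_iff_pow_eq_one, ← h5 R]
  exact Subgroup.orderOf_dvd_natCard _ hy

theorem comm_of_card_five (h5 : ∀ Q : Sylow 5 G, Nat.card Q = 5) {R : Sylow 5 G} {a b : G}
    (ha : a ∈ (R : Subgroup G)) (hb : b ∈ (R : Subgroup G)) : Commute a b := by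
  haveI := isCyclic_of_prime_card (h5 R)
  exact congrArg Subtype.val (IsCyclic.commGroup.mul_comm (⟨a, ha⟩ : (R : Subgroup G)) ⟨b, hb⟩)

section Geometry

variable [IsSimpleGroup G]

/-- The fixed points of a centralising element are congruent to one modulo five. -/
theorem fix_mod_five (h5 : ∀ Q : Sylow 5 G, Nat.card Q = 5) (R : Sylow 5 G) {u : G}
    (huR : u • R = R) (hu : ∀ y ∈ (R : Subgroup G), Commute y u) :
    Nat.card (fixedBy (Sylow 5 G) u) % 5 = 1 := by
  let S : SubMulAction (R : Subgroup G) (Sylow 5 G) :=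
    { carrier := fixedBy (Sylow 5 G) u
      smul_mem' := fun y Q hQ => by
        show u • ((y : G) • Q) = (y : G) • Q
        rw [smul_smul, ← (hu y y.2).eq, mul_smul, show u • Q = Q from hQ] }
  have h := R.2.card_modEq_card_fixedPoints S
  have hone : Nat.card (fixedPoints (R : Subgroup G) S) = 1 := by
    rw [Nat.card_eq_one_iff_unique]
    obtain ⟨y, hy⟩ := exists_prime_orderOf_dvd_card' (G := (R : Subgroup G)) 5 (by rw [h5])
    have hy1 : (y : G) ≠ 1 := fun e => by
      rw [OneMemClass.coe_eq_one.mp e, orderOf_one] at hy; norm_num at hy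
    refine ⟨⟨fun a b => ?_⟩, ⟨⟨⟨R, huR⟩, fun g => Subtype.ext (smul_self R g.2)⟩⟩⟩
    have e : ∀ c : fixedPoints (R : Subgroup G) S, ((c : S) : Sylow 5 G) = R := fun c =>
      eq_of_fix h5 y.2 hy1 (congrArg Subtype.val (c.2 y))
    exact Subtype.ext (Subtype.ext ((e a).trans (e b).symm))
  rw [hone] at h
  exact h

/-- Fixed points of an involution. -/
theorem fix_mod_four (hG : ¬ IsMulCommutative G) {t : G} (ht : t ^ 2 = 1)
    (h21 : Nat.card (Sylow 5 G) = 21) : Nat.card (fixedBy (Sylow 5 G) t) % 4 = 1 := by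
  classical
  letI := Fintype.ofFinite (Sylow 5 G)
  set σ := MulAction.toPermHom G (Sylow 5 G) t with hσ
  have hsq : σ ^ 2 = 1 := by rw [hσ, ← map_pow, ht, map_one]
  have hsign := CfsgLib.SmallOrder.sign_eq_one hG (MulAction.toPermHom G (Sylow 5 G)) t
  rw [← hσ, Equiv.Perm.sign_of_pow_two_eq_one hsq, neg_one_pow_eq_one_iff_even (by decide)] at hsign
  have htwo := Equiv.Perm.two_dvd_card_support hsq
  have hfix : Nat.card (fixedBy (Sylow 5 G) t) = Fintype.card (Sylow 5 G) - σ.support.card := by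
    rw [Nat.card_eq_fintype_card, ← Finset.card_compl, ← Fintype.card_coe]
    refine Fintype.card_congr (Equiv.subtypeEquivRight fun c => ?_)
    simp [hσ]
  rw [Nat.card_eq_fintype_card] at h21
  have hle : σ.support.card ≤ Fintype.card (Sylow 5 G) := Finset.card_le_univ _
  obtain ⟨j, hj⟩ := hsign
  obtain ⟨i, hi⟩ := htwo
  have hfp : Fintype.card ↑(Function.fixedPoints ⇑σ) = Fintype.card (Sylow 5 G) - σ.support.card := by
    rw [← Finset.card_compl, ← Fintype.card_coe]
    refine Fintype.card_congr (Equiv.subtypeEquivRight fun c => ?_)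
    simp [Function.IsFixedPt]
  rw [hfp] at hj
  omega

theorem eq_one_of_forall_fix (h21 : Nat.card (Sylow 5 G) = 21) {g : G}
    (h : ∀ Q : Sylow 5 G, g • Q = Q) : g = 1 := by
  haveI : Nontrivial (Sylow 5 G) := Finite.one_lt_card_iff_nontrivial.mp (by omega)
  rcases (MulAction.toPermHom G (Sylow 5 G)).normal_ker.eq_bot_or_eq_top with hk | hk
  · exact (MonoidHom.ker_eq_bot_iff _).mp hk ((Equiv.ext h).trans (map_one _).symm)
  · exfalso
    obtain ⟨R, Q, hRQ⟩ := exists_pair_ne (Sylow 5 G)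
    obtain ⟨a, ha⟩ := exists_smul_eq G R Q
    have hmem : a ∈ (MulAction.toPermHom G (Sylow 5 G)).ker := by rw [hk]; exact Subgroup.mem_top a
    exact hRQ ((DFunLike.congr_fun (MonoidHom.mem_ker.mp hmem) R).symm.trans ha)

/-- A `2`-subgroup of order four of the centraliser of `R` is regular on the four other orbits. -/
theorem centralizer_orbits (hG : ¬ IsMulCommutative G) (h21 : Nat.card (Sylow 5 G) = 21)
    (h5 : ∀ Q : Sylow 5 G, Nat.card Q = 5) (R : Sylow 5 G) (T : Subgroup G) (hT : Nat.card T = 4)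
    (hTc : T ≤ Subgroup.centralizer (R : Set G)) {Q : Sylow 5 G} (hQ : Q ≠ R) :
    ∀ Q' : Sylow 5 G, Q' ≠ R → ∃ y ∈ (R : Subgroup G), ∃ t ∈ T, Q' = y • t • Q := by
  classical
  have hTR : ∀ t ∈ T, t • R = R := fun t ht =>
    Sylow.smul_eq_iff_mem_normalizer.mpr (Subgroup.centralizer_le_normalizer _ (hTc ht))
  have hcomm : ∀ t ∈ T, ∀ y ∈ (R : Subgroup G), Commute y t := fun t ht y hy =>
    Subgroup.mem_centralizer_iff.mp (hTc ht) y hy
  have h4 : ∀ t ∈ T, t ^ 4 = 1 := fun t ht => by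
    rw [← orderOf_dvd_iff_pow_eq_one, ← hT]; exact Subgroup.orderOf_dvd_natCard _ ht
  have hinv : ∀ t ∈ T, t ^ 2 = 1 → t ≠ 1 → ∀ W : Sylow 5 G, t • W = W → W = R := by
    intro t ht ht2 ht1 W hW
    have a := fix_mod_five h5 R (hTR t ht) (hcomm t ht)
    have b := fix_mod_four hG ht2 h21
    have c : Nat.card (fixedBy (Sylow 5 G) t) ≤ 21 := h21 ▸ Finite.card_subtype_le _
    have d : Nat.card (fixedBy (Sylow 5 G) t) ≠ 21 := fun e => by
      refine ht1 (eq_one_of_forall_fix h21 fun W => ?_)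
      have : fixedBy (Sylow 5 G) t = Set.univ :=
        Set.eq_of_subset_of_ncard_le (Set.subset_univ _)
          (le_of_eq (by rw [Set.ncard_univ, ← Nat.card_coe_set_eq, h21, e]))
      exact (Set.eq_univ_iff_forall.mp this W)
    have hone : Nat.card (fixedBy (Sylow 5 G) t) = 1 := by omega
    have := (Nat.card_eq_one_iff_unique.mp hone).1
    exact congrArg Subtype.val (Subsingleton.elim (⟨W, MulAction.mem_fixedBy.mpr hW⟩ : fixedBy (Sylow 5 G) t)
      ⟨R, MulAction.mem_fixedBy.mpr (hTR t ht)⟩)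
  have hfree : ∀ t ∈ T, t ≠ 1 → t • Q ≠ Q := by
    intro t ht ht1 hW
    by_cases h2 : t ^ 2 = 1
    · exact hQ (hinv t ht h2 ht1 Q hW)
    · refine hQ (hinv (t ^ 2) (pow_mem ht 2) ?_ h2 Q ?_)
      · rw [← pow_mul]; exact h4 t ht
      · rw [pow_two, mul_smul, hW, hW]
  have hne : ∀ y ∈ (R : Subgroup G), ∀ t ∈ T, y • t • Q ≠ R := fun y hy t ht e => by
    refine hQ (MulAction.injective (y * t) ?_)
    show (y * t) • Q = (y * t) • R
    rw [mul_smul, mul_smul, hTR t ht, smul_self R hy]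
    exact e
  let f : ↥(R : Subgroup G) × T → {W : Sylow 5 G // W ≠ R} := fun a =>
    ⟨(a.1 : G) • (a.2 : G) • Q, hne _ a.1.2 _ a.2.2⟩
  have hf : Function.Injective f := by
    rintro ⟨⟨a, ha⟩, ⟨t, ht⟩⟩ ⟨⟨b, hb⟩, ⟨t', ht'⟩⟩ h
    have h' : a • t • Q = b • t' • Q := congrArg Subtype.val h
    have hz : a⁻¹ * b ∈ (R : Subgroup G) := mul_mem (inv_mem ha) hb
    have hv : t'⁻¹ * t ∈ T := mul_mem (inv_mem ht') ht
    have hvQ : (t'⁻¹ * t) • Q = (a⁻¹ * b) • Q := by
      have : t • Q = (a⁻¹ * b) • t' • Q := by rw [mul_smul, ← h', inv_smul_smul]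
      rw [mul_smul, this, smul_smul t'⁻¹, ← (hcomm _ (inv_mem ht') _ hz).eq, mul_smul, inv_smul_smul]
    have hpow : ∀ n : ℕ, (t'⁻¹ * t) ^ n • Q = (a⁻¹ * b) ^ n • Q := by
      intro n
      induction n with
      | zero => rw [pow_zero, pow_zero]
      | succ n ih =>
        rw [pow_succ (t'⁻¹ * t), mul_smul, hvQ, smul_smul,
          ← ((hcomm _ hv _ hz).pow_right n).eq, mul_smul, ih, smul_smul, ← pow_succ']
    have hz1 : (a⁻¹ * b) ^ 4 = 1 := by
      refine eq_of_smul_eq h5 hQ (pow_mem hz 4) (one_mem _) ?_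
      rw [← hpow, h4 _ hv]
    have hab : a⁻¹ * b = 1 := by
      have := pow_five_of_mem h5 hz
      rwa [pow_succ, hz1, one_mul] at this
    rw [hab, one_smul] at hvQ
    have htt : t'⁻¹ * t = 1 := by
      by_contra hne1
      exact hfree _ hv hne1 hvQ
    exact Prod.ext (Subtype.ext (inv_mul_eq_one.mp hab)) (Subtype.ext (inv_mul_eq_one.mp htt).symm)
  have hcard : Nat.card {W : Sylow 5 G // W ≠ R} ≤ Nat.card (↥(R : Subgroup G) × T) := by
    letI := Fintype.ofFinite (Sylow 5 G)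
    rw [Nat.card_eq_fintype_card, Fintype.card_subtype_compl, Fintype.card_subtype_eq,
      ← Nat.card_eq_fintype_card, h21, Nat.card_prod, h5, hT]
  intro Q' hQ'
  obtain ⟨⟨⟨y, hy⟩, ⟨t, ht⟩⟩, he⟩ := (hf.bijective_of_nat_card_le hcard).2 ⟨Q', hQ'⟩
  exact ⟨y, hy, t, ht, (congrArg Subtype.val he).symm⟩

/-- `s` inverts `R`. -/
def Inverts (R : Sylow 5 G) (s : G) : Prop := s • R = R ∧ ∀ y ∈ (R : Subgroup G), s * y * s⁻¹ = y⁻¹

omit [IsSimpleGroup G] in
theorem smul_inverts {R : Sylow 5 G} {s : G} (h : Inverts R s) {y : G} (hy : y ∈ (R : Subgroup G))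
    (Q : Sylow 5 G) : s • y • Q = y⁻¹ • s • Q := by
  rw [smul_smul, smul_smul, ← h.2 y hy, inv_mul_cancel_right]

/-- An inverting involution fixes at most one point of each orbit. -/
theorem fix_unique (h5 : ∀ Q : Sylow 5 G, Nat.card Q = 5) {R : Sylow 5 G} {s : G} (h : Inverts R s)
    {Q : Sylow 5 G} (hQR : Q ≠ R) (hQ : s • Q = Q) {y : G} (hy : y ∈ (R : Subgroup G))
    (hyQ : s • y • Q = y • Q) : y = 1 := by
  rw [smul_inverts h hy, hQ] at hyQ
  have hinv := eq_of_smul_eq h5 hQR (inv_mem hy) hy hyQ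
  have h2 : y ^ 2 = 1 := by
    rw [pow_two]; nth_rewrite 1 [← hinv]; rw [inv_mul_cancel]
  have := pow_five_of_mem h5 hy
  rw [show 5 = 2 * 2 + 1 by norm_num, pow_succ, pow_mul, h2, one_pow, one_mul] at this
  exact this

/-- For an inverting involution, fixing all orbits is the same as fixing five points. -/
theorem orbits_fixed_iff (h21 : Nat.card (Sylow 5 G) = 21) (h5 : ∀ Q : Sylow 5 G, Nat.card Q = 5)
    {R : Sylow 5 G} {s : G} (h : Inverts R s) :
    (∀ Q : Sylow 5 G, Q ≠ R → ∃ y ∈ (R : Subgroup G), s • Q = y • Q) ↔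
      Nat.card (fixedBy (Sylow 5 G) s) = 5 := by
  classical
  letI := Fintype.ofFinite (Sylow 5 G)
  let F := {Q : fixedBy (Sylow 5 G) s // Q.1 ≠ R}
  have hF : Nat.card (fixedBy (Sylow 5 G) s) = Nat.card F + 1 := by
    have hR : Nat.card {Q : fixedBy (Sylow 5 G) s // Q.1 = R} = 1 := by
      rw [Nat.card_eq_one_iff_unique]
      exact ⟨⟨fun a b => Subtype.ext (Subtype.ext (a.2.trans b.2.symm))⟩, ⟨⟨⟨R, h.1⟩, rfl⟩⟩⟩
    rw [← Nat.card_congr (Equiv.sumCompl fun Q : fixedBy (Sylow 5 G) s => Q.1 = R), Nat.card_sum, hR,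
      add_comm]
  have hothers : Nat.card {W : Sylow 5 G // W ≠ R} = 20 := by
    rw [Nat.card_eq_fintype_card, Fintype.card_subtype_compl, Fintype.card_subtype_eq,
      ← Nat.card_eq_fintype_card, h21]
  let f : F × ↥(R : Subgroup G) → {W : Sylow 5 G // W ≠ R} := fun a =>
    ⟨(a.2 : G) • a.1.1.1, fun e => a.1.2 (MulAction.injective (a.2 : G) (e.trans (smul_self R a.2.2).symm))⟩
  have hf : Function.Injective f := by
    rintro ⟨⟨⟨Q, hQ⟩, hQR⟩, ⟨a, ha⟩⟩ ⟨⟨⟨Q', hQ'⟩, hQR'⟩, ⟨b, hb⟩⟩ he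
    have he' : a • Q = b • Q' := congrArg Subtype.val he
    have hQ'e : Q' = (b⁻¹ * a) • Q := by rw [mul_smul, he', inv_smul_smul]
    have h1 := fix_unique h5 h hQR hQ (mul_mem (inv_mem hb) ha)
      (by rw [← hQ'e]; exact hQ')
    rw [h1, one_smul] at hQ'e
    subst hQ'e
    have hab := eq_of_smul_eq h5 hQR ha hb he'
    subst hab
    rfl
  constructor
  · intro horb
    have hsurj : Function.Surjective f := by
      rintro ⟨W, hW⟩
      obtain ⟨y, hy, hsW⟩ := horb W hW
      have hz : y ^ 3 ∈ (R : Subgroup G) := pow_mem hy 3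
      have hne : y ^ 3 • W ≠ R := fun e =>
        hW (MulAction.injective (y ^ 3) (e.trans (smul_self R hz).symm))
      have hfix : s • y ^ 3 • W = y ^ 3 • W := by
        rw [smul_inverts h hz, hsW, smul_smul]
        congr 1
        rw [inv_mul_eq_iff_eq_mul, ← pow_add, show 3 + 3 = 5 + 1 by norm_num, pow_add,
          pow_five_of_mem h5 hy, one_mul, pow_one]
      exact ⟨⟨⟨⟨y ^ 3 • W, hfix⟩, hne⟩, ⟨(y ^ 3)⁻¹, inv_mem hz⟩⟩, Subtype.ext (inv_smul_smul _ _)⟩
    have hb := Nat.card_congr (Equiv.ofBijective f ⟨hf, hsurj⟩)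
    rw [Nat.card_prod, h5, hothers] at hb
    omega
  · intro hc W hW
    have hcard : Nat.card {W : Sylow 5 G // W ≠ R} ≤ Nat.card (F × ↥(R : Subgroup G)) := by
      rw [Nat.card_prod, h5, hothers]; omega
    obtain ⟨⟨⟨⟨Q, hQ⟩, hQR⟩, ⟨a, ha⟩⟩, he⟩ := (hf.bijective_of_nat_card_le hcard).2 ⟨W, hW⟩
    have he' : a • Q = W := congrArg Subtype.val he
    refine ⟨a⁻¹ * a⁻¹, mul_mem (inv_mem ha) (inv_mem ha), ?_⟩
    rw [← he', smul_inverts h ha, show s • Q = Q from hQ, mul_smul, inv_smul_smul]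

/-- No involution commuting with `y` of order five fixes exactly five points. -/
theorem five_not_dvd_centralizer (h5 : ∀ Q : Sylow 5 G, Nat.card Q = 5) {s : G}
    (hfix : Nat.card (fixedBy (Sylow 5 G) s) = 5) :
    ¬ 5 ∣ Nat.card (Subgroup.centralizer ({s} : Set G)) := by
  intro hd
  obtain ⟨y, hy⟩ := exists_prime_orderOf_dvd_card' (G := Subgroup.centralizer ({s} : Set G)) 5 hd
  have hy' : orderOf (y : G) = 5 := by rw [Subgroup.orderOf_coe, hy]
  have hys : Commute (y : G) s := Subgroup.mem_centralizer_singleton_iff.mp y.2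
  obtain ⟨W, hW⟩ := (IsPGroup.of_card (p := 5) (n := 1) (by rw [Nat.card_zpowers, hy', pow_one]) :
    IsPGroup 5 (Subgroup.zpowers (y : G))).exists_le_sylow
  have hWe : Subgroup.zpowers (y : G) = (W : Subgroup G) :=
    Subgroup.eq_of_le_of_card_ge hW (by rw [h5, Nat.card_zpowers, hy'])
  have hyW : (y : G) ∈ (W : Subgroup G) := hW (Subgroup.mem_zpowers _)
  have hy1 : (y : G) ≠ 1 := fun e => by rw [e, orderOf_one] at hy'; norm_num at hy'
  have hcomm : ∀ z ∈ (W : Subgroup G), Commute z s := fun z hz => by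
    rw [← hWe] at hz
    obtain ⟨k, rfl⟩ := Subgroup.mem_zpowers_iff.mp hz
    exact hys.zpow_left k
  have hsW : s • W = W := eq_of_fix h5 hyW hy1 (by
    rw [smul_smul, hys.eq, mul_smul, smul_self W hyW])
  have := fix_mod_five h5 W hsW hcomm
  omega

omit [IsSimpleGroup G] in
/-- A subgroup of order four centralising each Sylow subgroup. -/
theorem exists_four (h21 : Nat.card (Sylow 5 G) = 21) (P : Sylow 5 G) {c : ℕ}
    (hC : Nat.card (Subgroup.centralizer ((P : Subgroup G) : Set G)) = 5 * c) (hc : 4 ∣ c)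
    (R : Sylow 5 G) : ∃ T : Subgroup G, Nat.card T = 4 ∧ T ≤ Subgroup.centralizer (R : Set G) := by
  haveI : Fact (Nat.Prime 2) := ⟨Nat.prime_two⟩
  obtain ⟨T0, hT0⟩ := Sylow.exists_subgroup_card_pow_prime (G := Subgroup.centralizer ((P : Subgroup G) : Set G)) 2
    (n := 2) (by rw [hC]; exact (show 2 ^ 2 ∣ c by norm_num; exact hc).mul_left 5)
  obtain ⟨g, hg⟩ := exists_smul_eq G P R
  refine ⟨(T0.map (Subgroup.centralizer _).subtype).map (MulAut.conj g).toMonoidHom, ?_, ?_⟩
  · rw [Subgroup.card_map_of_injective (f := (MulAut.conj g).toMonoidHom) (MulAut.conj g).injective,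
      Subgroup.card_map_of_injective (Subgroup.subtype_injective _), hT0]
    norm_num
  · rintro _ ⟨z, hz, rfl⟩
    obtain ⟨z', -, rfl⟩ := hz
    rw [Subgroup.mem_centralizer_iff]
    intro r hr
    rw [← hg] at hr
    change r ∈ ((g • P : Sylow 5 G) : Subgroup G) at hr
    rw [Sylow.coe_subgroup_smul] at hr
    obtain ⟨p, hp, rfl⟩ := hr
    exact ((show Commute p (z' : G) from Subgroup.mem_centralizer_iff.mp z'.2 p hp).map
      (MulAut.conj g).toMonoidHom).eq

/-- An element centralising `R` and fixing every orbit lies in `R`. -/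
theorem mem_of_orbits (h21 : Nat.card (Sylow 5 G) = 21) (h5 : ∀ Q : Sylow 5 G, Nat.card Q = 5)
    {R : Sylow 5 G} {u : G} (hcu : ∀ y ∈ (R : Subgroup G), Commute y u) (huR : u • R = R)
    (horb : ∀ Q : Sylow 5 G, Q ≠ R → ∃ y ∈ (R : Subgroup G), u • Q = y • Q) : u ∈ (R : Subgroup G) := by
  have hu5 : u ^ 5 = 1 := by
    refine eq_one_of_forall_fix h21 fun Q => ?_
    by_cases hQ : Q = R
    · subst hQ
      exact (pow_mem (show u ∈ MulAction.stabilizer G Q from huR) 5 : _)
    · obtain ⟨y, hy, hyQ⟩ := horb Q hQ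
      have hpow : ∀ n : ℕ, u ^ n • Q = y ^ n • Q := by
        intro n
        induction n with
        | zero => rw [pow_zero, pow_zero]
        | succ n ih =>
          rw [pow_succ u, mul_smul, hyQ, smul_smul, ← ((hcu y hy).pow_right n).eq, mul_smul, ih,
            smul_smul, ← pow_succ']
      rw [hpow, pow_five_of_mem h5 hy, one_smul]
  obtain ⟨W, hW⟩ := (show IsPGroup 5 (Subgroup.zpowers u) from fun ⟨x, hx⟩ => by
    obtain ⟨j, rfl⟩ := Subgroup.mem_zpowers_iff.mp hx
    exact ⟨1, Subtype.ext (show (u ^ j) ^ (5 ^ 1) = 1 by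
      rw [pow_one, ← zpow_natCast, ← zpow_mul, mul_comm, zpow_mul, zpow_natCast, hu5, one_zpow])⟩).exists_le_sylow
  exact mem_of_smul_eq W R (hW (Subgroup.mem_zpowers u)) huR

/-- The centraliser of an inverting involution with five fixed points fixes `R`. -/
theorem key_lemma (hG : ¬ IsMulCommutative G) (h21 : Nat.card (Sylow 5 G) = 21)
    (h5 : ∀ Q : Sylow 5 G, Nat.card Q = 5) (P : Sylow 5 G) {c : ℕ}
    (hC : Nat.card (Subgroup.centralizer ((P : Subgroup G) : Set G)) = 5 * c) (hc : 4 ∣ c)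
    {R : Sylow 5 G} {s : G} (hs2 : s ^ 2 = 1) (hinv : Inverts R s)
    (hfix : Nat.card (fixedBy (Sylow 5 G) s) = 5) :
    (∀ g, Commute g s → g • R = R) ∧
      (∀ Q Q' : Sylow 5 G, Q ≠ R → Q' ≠ R → s • Q = Q → s • Q' = Q' → ∃ g, Commute g s ∧ g • Q = Q') := by
  classical
  obtain ⟨T, hT4, hTc⟩ := exists_four h21 P hC hc R
  have hss : s⁻¹ = s := inv_eq_of_mul_eq_one_right (by rw [← pow_two]; exact hs2)
  have horb := (orbits_fixed_iff h21 h5 hinv).mpr hfix
  have htrans : ∀ Q Q' : Sylow 5 G, Q ≠ R → Q' ≠ R → s • Q = Q → s • Q' = Q' →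
      ∃ g, Commute g s ∧ g • Q = Q' := by
    intro Q Q' hQ hQ' hsQ hsQ'
    obtain ⟨y, hy, t, ht, hQ'e⟩ := centralizer_orbits hG h21 h5 R T hT4 hTc hQ Q' hQ'
    have hct : ∀ z ∈ (R : Subgroup G), Commute z t := fun z hz =>
      Subgroup.mem_centralizer_iff.mp (hTc ht) z hz
    have htR : t • R = R := Sylow.smul_eq_iff_mem_normalizer.mpr (Subgroup.centralizer_le_normalizer _ (hTc ht))
    set u := t * s * t⁻¹ * s⁻¹ with hu
    have hcs : ∀ z ∈ (R : Subgroup G), Commute z u := by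
      intro z hz
      have h1 : s * z * s⁻¹ = z⁻¹ := hinv.2 z hz
      have h1' : s⁻¹ * z * s = z⁻¹ := by
        rw [hss]; rw [hss] at h1; exact h1
      have h2 : Commute z⁻¹ t⁻¹ := ((hct z hz).inv_left).inv_right
      show z * u = u * z
      calc z * u = (z * t) * s * t⁻¹ * s⁻¹ := by rw [hu]; group
        _ = t * (z * s) * t⁻¹ * s⁻¹ := by rw [(hct z hz).eq]; group
        _ = t * (s * z⁻¹) * t⁻¹ * s⁻¹ := by rw [← h1']; group
        _ = t * s * (z⁻¹ * t⁻¹) * s⁻¹ := by group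
        _ = t * s * (t⁻¹ * z⁻¹) * s⁻¹ := by rw [h2.eq]
        _ = t * s * t⁻¹ * (z⁻¹ * s⁻¹) := by group
        _ = t * s * t⁻¹ * (s⁻¹ * z) := by rw [← h1']; group
        _ = u * z := by rw [hu]; group
    have huR : u • R = R := by
      rw [hu]
      simp only [mul_smul, inv_smul_eq_iff.mpr htR.symm, inv_smul_eq_iff.mpr hinv.1.symm, htR, hinv.1]
    have huorb : ∀ W : Sylow 5 G, W ≠ R → ∃ y ∈ (R : Subgroup G), u • W = y • W := by
      intro W hW
      obtain ⟨a, ha, hsa⟩ := horb W hW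
      set W1 := t⁻¹ • W with hW1
      have hW1R : W1 ≠ R := fun e => hW (MulAction.injective t⁻¹ (e.trans (inv_smul_eq_iff.mpr htR.symm).symm))
      obtain ⟨b, hb, hsb⟩ := horb W1 hW1R
      refine ⟨a⁻¹ * b, mul_mem (inv_mem ha) hb, ?_⟩
      rw [hu, hss]
      simp only [mul_smul]
      rw [hsa, smul_smul t⁻¹, ← (hct a ha).inv_right.eq, mul_smul, ← hW1, smul_inverts hinv ha, hsb,
        smul_smul, smul_smul, mul_assoc, ← (hct _ (mul_mem (inv_mem ha) hb)).eq, mul_smul, hW1,
        smul_inv_smul, mul_smul]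
    have huR' := mem_of_orbits h21 h5 hcs huR huorb
    set w := (u⁻¹) ^ 3 with hw
    have hwR : w ∈ (R : Subgroup G) := pow_mem (inv_mem huR') 3
    have hg : Commute (t * w) s := by
      have h1 : s * w = w⁻¹ * s := by rw [← hinv.2 w hwR]; group
      have h2 : s * t = u⁻¹ * t * s := by rw [hu]; group
      have h6 : w * w = u⁻¹ := by
        rw [hw, ← pow_add, show 3 + 3 = 5 + 1 by norm_num, pow_succ,
          pow_five_of_mem h5 (inv_mem huR'), one_mul]
      show t * w * s = s * (t * w)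
      calc t * w * s = t * (w * w) * (w⁻¹ * s) := by group
        _ = t * u⁻¹ * (w⁻¹ * s) := by rw [h6]
        _ = (u⁻¹ * t) * (w⁻¹ * s) := by rw [(hct _ (inv_mem huR')).eq]
        _ = (u⁻¹ * t) * (s * w) := by rw [h1]
        _ = (u⁻¹ * t * s) * w := by group
        _ = (s * t) * w := by rw [h2]
        _ = s * (t * w) := mul_assoc _ _ _
    refine ⟨t * w, hg, ?_⟩
    have hfix' : s • (t * w) • Q = (t * w) • Q := by
      rw [smul_smul, ← hg.eq, mul_smul, hsQ]
    have hne : (t * w) • Q ≠ R := fun e => hQ (MulAction.injective (t * w)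
      (e.trans (show R = (t * w) • R by rw [mul_smul, smul_self R hwR, htR])))
    have hrel : Q' = (y * w⁻¹) • (t * w) • Q := by
      rw [hQ'e, smul_smul, smul_smul, ← (hct w hwR).eq]
      congr 1; group
    have h1 := fix_unique h5 hinv hne hfix' (mul_mem hy (inv_mem hwR)) (by rw [← hrel]; exact hsQ')
    rw [hrel, h1, one_smul]
  refine ⟨fun g hg => ?_, htrans⟩
  by_contra hgR
  have hall : ∀ W : Sylow 5 G, s • W = W → ∃ k, Commute k s ∧ k • R = W := by
    intro W hW
    by_cases hWR : W = R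
    · exact ⟨1, Commute.one_left s, by rw [one_smul, hWR]⟩
    · have hgs : s • g • R = g • R := by rw [smul_smul, ← hg.eq, mul_smul, hinv.1]
      obtain ⟨k, hk, hkW⟩ := htrans (g • R) W hgR hWR hgs hW
      exact ⟨k * g, hk.mul_left hg, by rw [mul_smul, hkW]⟩
  set Cs := Subgroup.centralizer ({s} : Set G) with hCs
  have horbit : MulAction.orbit Cs R = fixedBy (Sylow 5 G) s := by
    ext W
    constructor
    · rintro ⟨⟨k, hk⟩, rfl⟩
      show s • k • R = k • R
      rw [smul_smul, ← (Subgroup.mem_centralizer_singleton_iff.mp hk), mul_smul, hinv.1]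
    · intro hW
      obtain ⟨k, hk, hkR⟩ := hall W hW
      exact ⟨⟨k, Subgroup.mem_centralizer_singleton_iff.mpr hk.eq⟩, hkR⟩
  have hd := MulAction.index_stabilizer Cs R ▸ (MulAction.stabilizer Cs R).index_dvd_card
  rw [horbit, ← Nat.card_coe_set_eq, hfix] at hd
  exact five_not_dvd_centralizer h5 hfix hd

/-- An involution normalising `R` inverts or centralises it. -/
theorem inverts_or_comm (h5 : ∀ Q : Sylow 5 G, Nat.card Q = 5) {R : Sylow 5 G} {s : G}
    (hs2 : s ^ 2 = 1) (hsR : s • R = R) : Inverts R s ∨ ∀ z ∈ (R : Subgroup G), Commute z s := by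
  obtain ⟨y, hy, hy1⟩ : ∃ y ∈ (R : Subgroup G), y ≠ 1 := by
    obtain ⟨y, hy⟩ := exists_prime_orderOf_dvd_card' (G := (R : Subgroup G)) 5 (by rw [h5])
    exact ⟨y, y.2, fun e => by rw [OneMemClass.coe_eq_one.mp e, orderOf_one] at hy; norm_num at hy⟩
  have ho : orderOf y = 5 := orderOf_eq_prime (pow_five_of_mem h5 hy) hy1
  have hgen : Subgroup.zpowers y = (R : Subgroup G) := by
    refine Subgroup.eq_of_le_of_card_ge (Subgroup.zpowers_le.mpr hy) ?_
    rw [h5, Nat.card_zpowers, ho]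
  have hconj : s * y * s⁻¹ ∈ (R : Subgroup G) :=
    (Subgroup.mem_normalizer_iff.mp (Sylow.smul_eq_iff_mem_normalizer.mp hsR) y).mp hy
  rw [← hgen] at hconj
  obtain ⟨k, hk⟩ := mem_powers_iff_mem_zpowers.mpr hconj
  have hk' : s * y * s⁻¹ = y ^ k := hk.symm
  have hyk : y ^ (k * k) = y := by
    rw [pow_mul, ← hk', conj_pow, ← hk', show s * (s * y * s⁻¹) * s⁻¹ = s ^ 2 * y * (s ^ 2)⁻¹ by rw [pow_two]; group,
      hs2, one_mul, inv_one, mul_one]
  have hcast : ((k : ZMod 5)) * k = 1 := by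
    have h2 : y ^ (k * k) = y ^ 1 := by rw [hyk, pow_one]
    rw [pow_eq_pow_iff_modEq, ho, ← ZMod.natCast_eq_natCast_iff] at h2
    push_cast at h2
    exact h2
  rcases (by decide : ∀ z : ZMod 5, z * z = 1 → z = 1 ∨ z = 4) _ hcast with e | e
  · right
    have h1 : y ^ k = y := by
      conv_rhs => rw [← pow_one y]
      rw [pow_eq_pow_iff_modEq, ho, ← ZMod.natCast_eq_natCast_iff]
      push_cast; exact e
    intro z hz
    rw [← hgen] at hz
    obtain ⟨j, rfl⟩ := Subgroup.mem_zpowers_iff.mp hz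
    exact (show Commute y s from ((mul_inv_eq_iff_eq_mul.mp (hk'.trans h1))).symm).zpow_left j
  · left
    have h4 : s * y * s⁻¹ = y⁻¹ := by
      rw [hk']
      refine eq_inv_of_mul_eq_one_left ?_
      rw [← pow_succ, ← orderOf_dvd_iff_pow_eq_one, ho, ← ZMod.natCast_eq_zero_iff]
      push_cast; rw [e]; decide
    refine ⟨hsR, fun z hz => ?_⟩
    rw [← hgen] at hz
    obtain ⟨j, rfl⟩ := Subgroup.mem_zpowers_iff.mp hz
    rw [← conj_zpow, h4, inv_zpow]

set_option maxHeartbeats 800000 in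
/-- With `|N(R)/C(R)| = 4` and four dividing `|C(R)|` there is no such configuration. -/
theorem false_of_four (hG : ¬ IsMulCommutative G) (h21 : Nat.card (Sylow 5 G) = 21)
    (h5 : ∀ Q : Sylow 5 G, Nat.card Q = 5) (P : Sylow 5 G) {c : ℕ}
    (hC : Nat.card (Subgroup.centralizer ((P : Subgroup G) : Set G)) = 5 * c) (hc : 4 ∣ c)
    (hN : Nat.card (Subgroup.normalizer ((P : Subgroup G) : Set G)) = 5 * c * 4) : False := by
  classical
  haveI : Fact (Nat.Prime 2) := ⟨Nat.prime_two⟩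
  -- an involution fixing every orbit
  obtain ⟨T, hT4, hTc⟩ := exists_four h21 P hC hc P
  haveI : Nontrivial (Sylow 5 G) := Finite.one_lt_card_iff_nontrivial.mp (by omega)
  obtain ⟨Q0, hQ0⟩ := exists_ne P
  let N := Subgroup.normalizer ((P : Subgroup G) : Set G)
  let Orb := {S : Set (Sylow 5 G) // ∃ Q : Sylow 5 G, Q ≠ P ∧ S = MulAction.orbit (P : Subgroup G) Q}
  have hmove : ∀ n ∈ N, ∀ Q : Sylow 5 G, n • MulAction.orbit (P : Subgroup G) Q =
      MulAction.orbit (P : Subgroup G) (n • Q) := by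
    intro n hn Q
    ext W
    rw [Set.mem_smul_set]
    constructor
    · rintro ⟨_, ⟨⟨y, hy⟩, rfl⟩, rfl⟩
      exact ⟨⟨n * y * n⁻¹, (Subgroup.mem_normalizer_iff.mp hn y).mp hy⟩,
        show (n * y * n⁻¹) • n • Q = n • y • Q by simp [mul_smul]⟩
    · rintro ⟨⟨y, hy⟩, rfl⟩
      refine ⟨(n⁻¹ * y * n) • Q, ⟨⟨n⁻¹ * y * n, ?_⟩, rfl⟩, ?_⟩
      · exact (Subgroup.mem_normalizer_iff.mp hn (n⁻¹ * y * n)).mpr (by
          rw [show n * (n⁻¹ * y * n) * n⁻¹ = y by group]; exact hy)
      · show n • (n⁻¹ * y * n) • Q = y • n • Q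
        simp [mul_smul]
  letI : MulAction N Orb :=
    { smul := fun n S => ⟨(n : G) • S.1, by
        obtain ⟨Q, hQ, hS⟩ := S.2
        refine ⟨(n : G) • Q, fun e => hQ (MulAction.injective (n : G)
          (e.trans (Sylow.smul_eq_iff_mem_normalizer.mpr n.2).symm)), ?_⟩
        rw [hS, hmove _ n.2]⟩
      one_smul := fun S => Subtype.ext (one_smul G S.1)
      mul_smul := fun a b S => Subtype.ext (mul_smul (a : G) (b : G) S.1) }
  have hOrb : Nat.card Orb ≤ 4 := by
    let f : T → Orb := fun t => ⟨MulAction.orbit (P : Subgroup G) ((t : G) • Q0), (t : G) • Q0, fun e => hQ0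
      (MulAction.injective (t : G) (e.trans (Sylow.smul_eq_iff_mem_normalizer.mpr
        (Subgroup.centralizer_le_normalizer _ (hTc t.2))).symm)), rfl⟩
    refine (Nat.card_le_card_of_surjective f fun S => ?_).trans hT4.le
    obtain ⟨Q, hQ, hS⟩ := S.2
    obtain ⟨y, hy, t, ht, hQe⟩ := centralizer_orbits hG h21 h5 P T hT4 hTc hQ0 Q hQ
    refine ⟨⟨t, ht⟩, Subtype.ext ?_⟩
    have hmem : Q ∈ MulAction.orbit (P : Subgroup G) (t • Q0) := ⟨⟨y, hy⟩, hQe.symm⟩
    show MulAction.orbit (P : Subgroup G) (t • Q0) = S.1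
    rw [hS]
    exact (MulAction.orbit_eq_iff.mpr hmem).symm
  set φ := MulAction.toPermHom N Orb with hφ
  have hk2 : 2 ∣ Nat.card φ.ker := by
    have h1 := φ.ker.card_mul_index
    rw [Subgroup.index_ker, hN] at h1
    have h2 : Nat.card φ.range ∣ 24 := by
      refine (Subgroup.card_subgroup_dvd_card _).trans ?_
      rw [Nat.card_perm]
      exact (Nat.factorial_dvd_factorial hOrb).trans (by norm_num [Nat.factorial])
    obtain ⟨d, hd⟩ := hc
    obtain ⟨m, hm⟩ := h2
    have h3 : Nat.card φ.ker * 24 = 5 * c * 4 * m := by rw [hm, ← mul_assoc, h1]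
    rw [hd] at h3
    have h5' : 2 ∣ 3 * Nat.card φ.ker := ⟨5 * d * m, by linarith⟩
    exact (Nat.Coprime.dvd_of_dvd_mul_left (by norm_num) h5')
  obtain ⟨s0, hs0⟩ := exists_prime_orderOf_dvd_card' (G := φ.ker) 2 hk2
  set s : G := ((s0 : N) : G) with hs
  have hso : orderOf s = 2 := by rw [hs, Subgroup.orderOf_coe, Subgroup.orderOf_coe, hs0]
  have hs2 : s ^ 2 = 1 := hso ▸ pow_orderOf_eq_one s
  have hsP : s • P = P := Sylow.smul_eq_iff_mem_normalizer.mpr (s0 : N).2
  have horb : ∀ Q : Sylow 5 G, Q ≠ P → ∃ y ∈ (P : Subgroup G), s • Q = y • Q := by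
    intro Q hQ
    have h1 : s • MulAction.orbit (P : Subgroup G) Q = MulAction.orbit (P : Subgroup G) Q :=
      congrArg Subtype.val (DFunLike.congr_fun (MonoidHom.mem_ker.mp s0.2)
        (⟨MulAction.orbit (P : Subgroup G) Q, Q, hQ, rfl⟩ : Orb))
    rw [hmove s (s0 : N).2] at h1
    obtain ⟨y, hy⟩ := MulAction.orbit_eq_iff.mp h1
    exact ⟨y, y.2, hy.symm⟩
  have hinv : Inverts P s := by
    refine (inverts_or_comm h5 hs2 hsP).resolve_right fun hc' => ?_
    have hd := Subgroup.orderOf_dvd_natCard _ (mem_of_orbits h21 h5 hc' hsP horb)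
    rw [h5, hso] at hd
    norm_num at hd
  have hfix := (orbits_fixed_iff h21 h5 hinv).mp horb
  obtain ⟨kP, tP⟩ := key_lemma hG h21 h5 P hC hc hs2 hinv hfix
  -- two further fixed points
  have hex : ∃ Q Q' : Sylow 5 G, Q ≠ P ∧ Q' ≠ P ∧ Q ≠ Q' ∧ s • Q = Q ∧ s • Q' = Q' := by
    letI := Fintype.ofFinite (fixedBy (Sylow 5 G) s)
    rw [Nat.card_eq_fintype_card] at hfix
    have h2 : 1 < ((Finset.univ : Finset (fixedBy (Sylow 5 G) s)).erase ⟨P, hsP⟩).card := by
      rw [Finset.card_erase_of_mem (Finset.mem_univ _), Finset.card_univ, hfix]; norm_num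
    obtain ⟨a, ha, b, hb, hab⟩ := Finset.one_lt_card.mp h2
    exact ⟨a, b, fun e => (Finset.ne_of_mem_erase ha) (Subtype.ext e),
      fun e => (Finset.ne_of_mem_erase hb) (Subtype.ext e), fun e => hab (Subtype.ext e), a.2, b.2⟩
  obtain ⟨Q, Q', hQ, hQ', hne, hsQ, hsQ'⟩ := hex
  have hinvQ : Inverts Q s := by
    refine (inverts_or_comm h5 hs2 hsQ).resolve_right fun hc' => ?_
    obtain ⟨y, hy⟩ := exists_prime_orderOf_dvd_card' (G := (Q : Subgroup G)) 5 (by rw [h5])
    refine five_not_dvd_centralizer h5 hfix ?_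
    rw [← hy, ← Subgroup.orderOf_coe]
    exact Subgroup.orderOf_dvd_natCard _ (Subgroup.mem_centralizer_singleton_iff.mpr (hc' y y.2).eq)
  obtain ⟨g, hg, hgQ⟩ := tP Q Q' hQ hQ' hsQ hsQ'
  exact hne (((key_lemma hG h21 h5 P hC hc hs2 hinvQ hfix).1 g hg).symm.trans hgQ)

end Geometry

section Line

/-- With a faithful action on twenty-one Sylow subgroups these have order five. -/
theorem card_eq_five (hfaith : ∀ g : G, (∀ Q : Sylow 5 G, g • Q = Q) → g = 1)
    (h21 : Nat.card (Sylow 5 G) = 21) (P : Sylow 5 G) : Nat.card P = 5 := by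
  classical
  letI := Fintype.ofFinite (Sylow 5 G)
  by_contra hP5
  have horb : ∀ P Q : Sylow 5 G, Q ≠ P →
      Nat.card (MulAction.orbit (P : Subgroup G) Q) = 5 ∧
        Nat.card ((P : Subgroup G) ⊓ (Q : Subgroup G) : Subgroup G) * 5 = Nat.card P := by
    intro P Q hQ
    have hstab : Nat.card (MulAction.stabilizer (P : Subgroup G) Q) =
        Nat.card ((P : Subgroup G) ⊓ (Q : Subgroup G) : Subgroup G) := by
      refine Nat.card_congr ⟨fun y => ⟨y.1.1, y.1.2, mem_of_smul_eq P Q y.1.2 y.2⟩,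
        fun y => ⟨⟨y.1, y.2.1⟩, smul_self Q y.2.2⟩, fun _ => rfl, fun _ => rfl⟩
    have hcard := (MulAction.stabilizer (P : Subgroup G) Q).index_mul_card
    rw [MulAction.index_stabilizer, hstab, ← Nat.card_coe_set_eq] at hcard
    suffices h5 : Nat.card (MulAction.orbit (P : Subgroup G) Q) = 5 by
      exact ⟨h5, by rw [← hcard, h5, mul_comm]⟩
    obtain ⟨a, ha⟩ := (IsPGroup.iff_card.mp P.2)
    obtain ⟨i, -, hi⟩ := (Nat.dvd_prime_pow Nat.prime_five).mp (ha ▸ Dvd.intro _ hcard)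
    have hle : Nat.card (MulAction.orbit (P : Subgroup G) Q) ≤ 20 := by
      have hsub : MulAction.orbit (P : Subgroup G) Q ⊆ {P}ᶜ := by
        rintro _ ⟨y, rfl⟩ (e : (y : G) • Q = P)
        exact hQ (MulAction.injective (y : G) (e.trans (smul_self P y.2).symm))
      rw [Nat.card_coe_set_eq]
      refine (Set.ncard_le_ncard hsub).trans ?_
      rw [Set.ncard_compl, Set.ncard_singleton, h21]
    have hne : i ≠ 0 := fun e => by
      rw [e, pow_zero, Nat.card_eq_one_iff_unique] at hi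
      obtain ⟨g, hg, hgQ⟩ := exists_smul_ne P Q hQ
      haveI := hi.1
      exact hgQ (congrArg Subtype.val (Subsingleton.elim
        (⟨g • Q, ⟨g, hg⟩, rfl⟩ : MulAction.orbit (P : Subgroup G) Q) ⟨Q, MulAction.mem_orbit_self Q⟩))
    have : i < 2 := by
      by_contra hlt
      have := Nat.pow_le_pow_right (show 5 > 0 by norm_num) (not_lt.mp hlt)
      omega
    rw [hi, show i = 1 by omega, pow_one]
  haveI : Nontrivial (Sylow 5 G) := Finite.one_lt_card_iff_nontrivial.mp (by omega)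
  obtain ⟨Q, hQ⟩ := exists_ne P
  obtain ⟨hQo, hQD⟩ := horb P Q hQ
  set D : Subgroup G := (P : Subgroup G) ⊓ (Q : Subgroup G) with hD
  obtain ⟨d, hd, hd1⟩ : ∃ d ∈ D, d ≠ 1 := by
    refine D.bot_or_exists_ne_one.resolve_left fun e => hP5 ?_
    rw [e, Subgroup.card_bot, one_mul] at hQD
    exact hQD.symm
  obtain ⟨x, hx⟩ : ∃ x : Sylow 5 G, ¬ D ≤ (x : Subgroup G) := by
    by_contra hcon
    push Not at hcon
    exact hd1 (hfaith d fun R => smul_self R (hcon R hd))
  have hnorm : (D.subgroupOf (P : Subgroup G)).Normal := by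
    refine Subgroup.normal_of_index_eq_minFac_card ?_
    have h1 := (D.subgroupOf (P : Subgroup G)).index_mul_card
    rw [Nat.card_congr (Subgroup.subgroupOfEquivOfLe (inf_le_left : D ≤ (P : Subgroup G))).toEquiv,
      ← hQD, mul_comm (Nat.card D) 5] at h1
    rw [Nat.eq_of_mul_eq_mul_right Nat.card_pos h1]
    obtain ⟨a, ha⟩ := (IsPGroup.iff_card.mp P.2)
    rw [ha, Nat.pow_minFac (fun e => by rw [e, pow_zero, ← hQD] at ha; omega),
      Nat.prime_five.minFac_eq]
  set F := insert P ((MulAction.orbit (P : Subgroup G) Q).toFinset) with hFdef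
  have hF : F.card = 6 := by
    rw [hFdef, Finset.card_insert_of_notMem, Set.toFinset_card, ← Nat.card_eq_fintype_card, hQo]
    rw [Set.mem_toFinset]
    rintro ⟨y, hy : (y : G) • Q = P⟩
    exact hQ (MulAction.injective (y : G) (hy.trans (smul_self P y.2).symm))
  have hFD : ∀ R ∈ F, D ≤ (R : Subgroup G) := by
    intro R hR e he
    rcases Finset.mem_insert.mp hR with rfl | hR
    · exact he.1
    · obtain ⟨⟨y, hy⟩, rfl⟩ := Set.mem_toFinset.mp hR
      have hc := hnorm.conj_mem ⟨e, he.1⟩ (Subgroup.mem_subgroupOf.mpr he) ⟨y⁻¹, inv_mem hy⟩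
      have hc' : y⁻¹ * e * y⁻¹⁻¹ ∈ (Q : Subgroup G) := (Subgroup.mem_subgroupOf.mp hc).2
      show e ∈ ((y • Q : Sylow 5 G) : Subgroup G)
      rw [Sylow.coe_subgroup_smul]
      refine ⟨_, hc', ?_⟩
      simp [mul_assoc]
  let φ : Sylow 5 G → Subgroup G := fun R => (x : Subgroup G) ⊓ (R : Subgroup G)
  have hxF : ∀ R ∈ F, R ≠ x := fun R hR e => hx (e ▸ hFD R hR)
  have hinj : Set.InjOn φ F := by
    intro R hR R' hR' he
    by_contra hne
    have e1 := (horb x R (hxF R hR)).2
    have e2 := (horb R R' (Ne.symm hne)).2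
    have hcR : Nat.card x = Nat.card P := card_sylow_subgroup x P
    have hcR' : Nat.card R = Nat.card P := card_sylow_subgroup R P
    have hE : φ R ≤ (R : Subgroup G) ⊓ (R' : Subgroup G) := le_inf inf_le_right (he ▸ inf_le_right)
    have hEeq : φ R = (R : Subgroup G) ⊓ (R' : Subgroup G) := by
      refine Subgroup.eq_of_le_of_card_ge hE ?_
      show _ ≤ Nat.card ((x : Subgroup G) ⊓ (R : Subgroup G) : Subgroup G)
      omega
    exact hx ((le_inf (hFD R hR) (hFD R' hR')).trans (hEeq ▸ inf_le_left))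
  have hconst : ∀ R : Sylow 5 G, R ≠ x → ∀ y ∈ (x : Subgroup G), φ (y • R) = φ R := by
    intro R hR y hy
    have hE : ((φ R).subgroupOf (x : Subgroup G)).Normal := by
      refine Subgroup.normal_of_index_eq_minFac_card ?_
      have h1 := ((φ R).subgroupOf (x : Subgroup G)).index_mul_card
      rw [Nat.card_congr (Subgroup.subgroupOfEquivOfLe (inf_le_left : φ R ≤ (x : Subgroup G))).toEquiv,
        ← (horb x R hR).2, mul_comm (Nat.card _) 5] at h1
      rw [Nat.eq_of_mul_eq_mul_right Nat.card_pos h1]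
      obtain ⟨a, ha⟩ := (IsPGroup.iff_card.mp x.2)
      rw [ha, Nat.pow_minFac (fun e => by
        rw [e, pow_zero, ← (horb x R hR).2] at ha; omega), Nat.prime_five.minFac_eq]
    symm
    refine Subgroup.eq_of_le_of_card_ge (fun e he => ⟨he.1, ?_⟩) ?_
    · have hc := hE.conj_mem ⟨e, he.1⟩ (Subgroup.mem_subgroupOf.mpr he) ⟨y⁻¹, inv_mem hy⟩
      have hc' : y⁻¹ * e * y⁻¹⁻¹ ∈ (R : Subgroup G) := (Subgroup.mem_subgroupOf.mp hc).2
      show e ∈ ((y • R : Sylow 5 G) : Subgroup G)
      rw [Sylow.coe_subgroup_smul]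
      refine ⟨_, hc', ?_⟩
      simp [mul_assoc]
    · have h2 := (horb x (y • R) fun e => hR (MulAction.injective y (e.trans (smul_self x hy).symm))).2
      have h1 := (horb x R hR).2
      show Nat.card ((x : Subgroup G) ⊓ ((y • R : Sylow 5 G) : Subgroup G) : Subgroup G) ≤
        Nat.card ((x : Subgroup G) ⊓ (R : Subgroup G) : Subgroup G)
      omega
  have himage := Finset.mul_card_image_le_card (f := φ) (Finset.univ.erase x) 5 (fun b hb => by
    obtain ⟨R, hR, rfl⟩ := Finset.mem_image.mp hb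
    have hRx := Finset.ne_of_mem_erase hR
    refine le_trans (le_of_eq ?_)
      (Finset.card_le_card (s := (MulAction.orbit (x : Subgroup G) R).toFinset) fun W hW => ?_)
    · rw [Set.toFinset_card, ← Nat.card_eq_fintype_card, (horb x R hRx).1]
    obtain ⟨⟨y, hy⟩, rfl⟩ := Set.mem_toFinset.mp hW
    exact Finset.mem_filter.mpr ⟨Finset.mem_erase.mpr ⟨fun e => hRx (MulAction.injective y
      ((e.trans (smul_self x hy).symm))), Finset.mem_univ _⟩, hconst R hRx y hy⟩)
  have hle : F.card ≤ ((Finset.univ.erase x).image φ).card := by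
    rw [← Finset.card_image_of_injOn hinj]
    exact Finset.card_le_card (Finset.image_subset_image fun R hR =>
      Finset.mem_erase.mpr ⟨hxF R hR, Finset.mem_univ _⟩)
  rw [Finset.card_erase_of_mem (Finset.mem_univ x), Finset.card_univ, ← Nat.card_eq_fintype_card,
    h21] at himage
  omega

end Line

section Reduction

omit [Finite G] in
theorem relIndex_eq_index [Finite G] (A N : Subgroup G) [N.Normal] (h : A ⊔ N = ⊤) :
    A.relIndex N = A.index := by
  have h1 : N.relIndex A = N.index := by rw [← Subgroup.relIndex_sup_right, h, Subgroup.relIndex_top_right]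
  have h2 := (N.subgroupOf A).card_mul_index
  have h3 := (A.subgroupOf N).card_mul_index
  have h4 := N.card_mul_index
  have h5 := A.card_mul_index
  change Nat.card (N.subgroupOf A) * N.relIndex A = _ at h2
  change Nat.card (A.subgroupOf N) * A.relIndex N = _ at h3
  have e : Nat.card (N.subgroupOf A) = Nat.card (A.subgroupOf N) :=
    Nat.card_congr ⟨fun a => ⟨⟨a.1.1, a.2⟩, a.1.2⟩, fun a => ⟨⟨a.1.1, a.2⟩, a.1.2⟩, fun _ => rfl,
      fun _ => rfl⟩
  rw [h1, e] at h2
  rw [← h3] at h4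
  rw [← h2, ← h4] at h5
  have hpos : 0 < Nat.card (A.subgroupOf N) * N.index :=
    Nat.mul_pos Nat.card_pos (Nat.pos_of_ne_zero Subgroup.index_ne_zero_of_finite)
  refine (Nat.eq_of_mul_eq_mul_left hpos ?_).symm
  rw [h5]; ring

theorem card_cases {H : Type u} [Group H] [Finite H] (h : Nat.card (Sylow 5 H) ∣ 21) :
    Nat.card (Sylow 5 H) = 1 ∨ Nat.card (Sylow 5 H) = 21 := by
  have hm : Nat.card (Sylow 5 H) % 5 = 1 := card_sylow_modEq_one 5 H
  have hle := Nat.le_of_dvd (by norm_num) h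
  interval_cases Nat.card (Sylow 5 H) <;> simp_all

/-- A minimal counterexample is simple, with Sylow subgroups of order five. -/
theorem reduction (ih : ∀ (H : Type u) [Group H] [Finite H], Nat.card H < Nat.card G →
      Nat.card (Sylow 5 H) ≠ 21) (h21 : Nat.card (Sylow 5 G) = 21) :
    IsSimpleGroup G ∧ ∀ g : G, (∀ Q : Sylow 5 G, g • Q = Q) → g = 1 := by
  classical
  haveI : Nontrivial (Sylow 5 G) := Finite.one_lt_card_iff_nontrivial.mp (by omega)
  set K := (MulAction.toPermHom G (Sylow 5 G)).ker with hKdef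
  have hKmem : ∀ g ∈ K, ∀ Q : Sylow 5 G, g • Q = Q := fun g hg Q =>
    DFunLike.congr_fun (MonoidHom.mem_ker.mp hg) Q
  have hK : K = ⊥ := by
    by_contra hK
    refine ih (G ⧸ K) ?_ ?_
    · have := K.card_eq_card_quotient_mul_card_subgroup
      have h1 : 1 < Nat.card K := K.one_lt_card_iff_ne_bot.mpr hK
      have h2 : 0 < Nat.card (G ⧸ K) := Nat.card_pos
      nlinarith
    · rw [← h21]
      have hsurj := Sylow.mapSurjective_surjective (QuotientGroup.mk'_surjective K) 5
      refine (Nat.card_congr (Equiv.ofBijective _ ⟨fun P Q hPQ => ?_, hsurj⟩)).symm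
      have hle : (Q : Subgroup G) ≤ (P : Subgroup G) ⊔ K := by
        have h := congrArg (fun S : Sylow 5 (G ⧸ K) => Subgroup.comap (QuotientGroup.mk' K) S) hPQ
        simp only [Sylow.coe_mapSurjective, Subgroup.comap_map_eq, QuotientGroup.ker_mk'] at h
        exact h ▸ le_sup_left
      have hN : (P : Subgroup G) ⊔ K ≤ Subgroup.normalizer ((P : Subgroup G) : Set G) :=
        sup_le Subgroup.le_normalizer fun g hg => Sylow.smul_eq_iff_mem_normalizer.mp (hKmem g hg P)
      exact (Sylow.ext (Q.3 P.2 fun g hg =>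
        mem_of_smul_eq Q P hg (Sylow.smul_eq_iff_mem_normalizer.mpr (hN (hle hg)))))
  have hfaith : ∀ g : G, (∀ Q : Sylow 5 G, g • Q = Q) → g = 1 := fun g hg => by
    have : g ∈ K := MonoidHom.mem_ker.mpr (Equiv.ext hg)
    rwa [hK, Subgroup.mem_bot] at this
  refine ⟨?_, hfaith⟩
  haveI : Nontrivial G := by
    by_contra h
    rw [not_nontrivial_iff_subsingleton] at h
    obtain ⟨R, Q, hRQ⟩ := exists_pair_ne (Sylow 5 G)
    exact hRQ (Sylow.ext (Subsingleton.elim _ _))
  refine ⟨fun N hNn => ?_⟩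
  haveI := hNn
  by_contra hcon
  push Not at hcon
  obtain ⟨hNb, hNt⟩ := hcon
  have hlt : ∀ X : Subgroup G, X ≠ ⊤ → Nat.card X < Nat.card G := fun X hX => by
    refine lt_of_le_of_ne (Subgroup.card_le_card_group X) fun e => hX ?_
    exact Subgroup.eq_top_of_card_eq X e
  by_cases h5N : 5 ∣ Nat.card N
  · -- the trace of a Sylow subgroup on `N`
    set S : Sylow 5 N := default with hS
    set S' : Subgroup G := (S : Subgroup N).map N.subtype with hS'
    obtain ⟨P, hSP⟩ := (S.2.map N.subtype).exists_le_sylow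
    have hPN : (P : Subgroup G) ⊓ N ≤ S' := by
      have h1 : ((P : Subgroup G) ⊓ N).subgroupOf N = (S : Subgroup N) := by
        refine S.3 ?_ fun a ha => ⟨hSP ⟨a, ha, rfl⟩, a.2⟩
        exact (P.2.to_le inf_le_left).of_equiv
          (Subgroup.subgroupOfEquivOfLe (inf_le_right : (P : Subgroup G) ⊓ N ≤ N)).symm
      rw [hS', ← h1]
      exact fun a ha => ⟨⟨a, ha.2⟩, ha, rfl⟩
    have hS'P : S' = (P : Subgroup G) ⊓ N :=
      le_antisymm (le_inf hSP (Subgroup.map_subtype_le _)) hPN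
    set A := Subgroup.normalizer (S' : Set G) with hA
    have hle : Subgroup.normalizer ((P : Subgroup G) : Set G) ≤ A := by
      intro g hg
      rw [hA, Subgroup.mem_normalizer_iff]
      intro a
      rw [hS'P, Subgroup.mem_inf, Subgroup.mem_inf, ← Subgroup.mem_normalizer_iff.mp hg a]
      refine and_congr_right fun _ => ⟨fun ha => hNn.conj_mem a ha g, fun ha => ?_⟩
      have := hNn.conj_mem _ ha g⁻¹
      simpa [mul_assoc] using this
    have hdvd : A.index ∣ 21 := by
      rw [← h21, P.card_eq_index_normalizer]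
      exact Subgroup.index_dvd_of_le hle
    have hAN : A.index = Nat.card (Sylow 5 N) := by
      rw [← relIndex_eq_index A N S.normalizer_sup_eq_top, S.card_eq_index_normalizer]
      show (A.subgroupOf N).index = _
      congr 1
      ext ⟨g, hg⟩
      rw [Subgroup.mem_subgroupOf, hA, Subgroup.mem_normalizer_iff]
      refine Iff.trans ?_ Subgroup.mem_normalizer_iff.symm
      constructor
      · intro h a
        have := h a.1
        rwa [hS', show (a : G) = N.subtype a from rfl,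
          show g * N.subtype a * g⁻¹ = N.subtype (⟨g, hg⟩ * a * ⟨g, hg⟩⁻¹) from rfl,
          Subgroup.mem_map_iff_mem N.subtype_injective, Subgroup.mem_map_iff_mem N.subtype_injective] at this
      · intro h a
        constructor
        · rintro ⟨b, hb, rfl⟩
          exact ⟨_, (h b).mp hb, rfl⟩
        · rintro ⟨b, hb, hbe⟩
          refine ⟨(⟨g, hg⟩ : N)⁻¹ * b * ⟨g, hg⟩, (h _).mpr ?_, ?_⟩
          · have e : (⟨g, hg⟩ : N) * (⟨g, hg⟩⁻¹ * b * ⟨g, hg⟩) * (⟨g, hg⟩ : N)⁻¹ = b := by group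
            rw [e]; exact hb
          · show g⁻¹ * (b : G) * g = a
            rw [show (b : G) = g * a * g⁻¹ from hbe]; group
    rcases card_cases (H := N) (hAN ▸ hdvd) with h1 | h1
    · rw [← hAN, Subgroup.index_eq_one] at h1
      haveI : S'.Normal := Subgroup.normalizer_eq_top_iff.mp h1
      have hS1 : S' ≠ ⊥ := by
        rw [hS', ne_eq, Subgroup.map_eq_bot_iff_of_injective _ N.subtype_injective]
        exact S.ne_bot_of_dvd_card h5N
      obtain ⟨g, hg, hg1⟩ := S'.bot_or_exists_ne_one.resolve_left hS1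
      refine hg1 (hfaith g fun Q => smul_self Q ?_)
      exact (Q.3 (Q.2.to_sup_of_normal_right (S.2.map N.subtype)) le_sup_left).le
        (le_sup_right (a := (Q : Subgroup G)) hg)
    · exact ih N (hlt N hNt) h1
  · obtain ⟨P, hP⟩ : ∃ P : Sylow 5 G, ¬ N ≤ Subgroup.normalizer ((P : Subgroup G) : Set G) := by
      by_contra h
      push Not at h
      obtain ⟨g, hg, hg1⟩ := N.bot_or_exists_ne_one.resolve_left hNb
      exact hg1 (hfaith g fun Q => Sylow.smul_eq_iff_mem_normalizer.mpr (h Q hg))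
    set NP := Subgroup.normalizer ((P : Subgroup G) : Set G) with hNP
    set Y := N ⊔ NP with hY
    have hPY : (P : Subgroup G) ≤ Y := Subgroup.le_normalizer.trans le_sup_right
    have hYc : Nat.card (Sylow 5 Y) = NP.relIndex Y := by
      rw [(P.subtype hPY).card_eq_index_normalizer]
      change (Subgroup.normalizer (((P.subtype hPY : Sylow 5 Y) : Subgroup Y) : Set Y)).index = _
      rw [Sylow.coe_subtype,
        ← Subgroup.subgroupOf_normalizer_eq hPY]
      rfl
    have hdvd : Nat.card (Sylow 5 Y) ∣ 21 := by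
      rw [hYc, ← h21, P.card_eq_index_normalizer]
      exact Dvd.intro _ (Subgroup.relIndex_mul_index (le_sup_right : NP ≤ Y))
    have hYtop : Y = ⊤ := by
      rcases card_cases hdvd with h1 | h1
      · rw [hYc, Subgroup.relIndex_eq_one] at h1
        exact absurd (le_sup_left.trans h1) hP
      · by_contra hYt
        exact ih Y (hlt Y hYt) h1
    have hrel : NP.relIndex N = 21 := by
      rw [relIndex_eq_index NP N (by rw [sup_comm]; exact hYtop)]
      exact P.card_eq_index_normalizer.symm.trans h21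
    -- a Sylow 3-subgroup of `N` fixed by `P`
    haveI : Fact (Nat.Prime 3) := ⟨Nat.prime_three⟩
    letI : MulAction (P : Subgroup G) (Sylow 3 N) :=
      MulAction.compHom _ ((MulAut.conjNormal : G →* MulAut N).comp (P : Subgroup G).subtype)
    obtain ⟨W, hW⟩ := P.2.nonempty_fixed_point_of_prime_not_dvd_card (Sylow 3 N) fun h =>
      h5N (h.trans ((default : Sylow 3 N).card_dvd_index.trans (Subgroup.index_dvd_card _)))
    have hW' : ∀ w : N, w ∈ (W : Subgroup N) → ∀ y ∈ (P : Subgroup G),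
        ∃ w' : N, w' ∈ (W : Subgroup N) ∧ y * (w : G) * y⁻¹ = w' := by
      intro w hw y hy
      have h := hW ⟨y, hy⟩
      change ((MulAut.conjNormal : G →* MulAut N) y) • W = W at h
      refine ⟨MulAut.conjNormal y w, ?_, (MulAut.conjNormal_apply y w).symm⟩
      rw [← h]
      exact ⟨w, hw, rfl⟩
    set W' := (W : Subgroup N).map N.subtype with hW'def
    let O : SubMulAction (P : Subgroup G) (Sylow 5 G) :=
      { carrier := MulAction.orbit W' P
        smul_mem' := fun y R hR => by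
          obtain ⟨⟨w, hw⟩, rfl⟩ := hR
          obtain ⟨a, ha, rfl⟩ := hw
          obtain ⟨a', ha', he⟩ := hW' a ha y y.2
          refine ⟨⟨(a' : G), a', ha', rfl⟩, ?_⟩
          show (a' : G) • P = (y : G) • (a : G) • P
          rw [← he]
          simp only [mul_smul, inv_smul_eq_iff.mpr (smul_self P y.2).symm] }
    have hmod : Nat.card (MulAction.orbit W' P) % 5 = 1 := by
      have h := P.2.card_modEq_card_fixedPoints O
      have hone : Nat.card (fixedPoints (P : Subgroup G) O) = 1 := by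
        rw [Nat.card_eq_one_iff_unique]
        refine ⟨⟨fun a b => ?_⟩, ⟨⟨⟨P, MulAction.mem_orbit_self P⟩, fun g => Subtype.ext (smul_self P g.2)⟩⟩⟩
        have e : ∀ c : fixedPoints (P : Subgroup G) O, ((c : O) : Sylow 5 G) = P := fun c => by
          by_contra hne
          obtain ⟨g, hg, hgc⟩ := exists_smul_ne P _ hne
          exact hgc (congrArg Subtype.val (c.2 ⟨g, hg⟩))
        exact Subtype.ext (Subtype.ext ((e a).trans (e b).symm))
      rw [hone] at h
      exact h
    obtain ⟨i, hi⟩ : ∃ i, Nat.card (MulAction.orbit W' P) = 3 ^ i := by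
      obtain ⟨a, ha⟩ := IsPGroup.iff_card.mp (W.2.map N.subtype)
      have hd := (MulAction.stabilizer W' P).index_dvd_card
      rw [MulAction.index_stabilizer, ← Nat.card_coe_set_eq] at hd
      change _ ∣ Nat.card ((W : Subgroup N).map N.subtype : Subgroup G) at hd
      rw [ha] at hd
      obtain ⟨i, -, hi2⟩ := (Nat.dvd_prime_pow Nat.prime_three).mp hd
      exact ⟨i, hi2⟩
    have hle21 : Nat.card (MulAction.orbit W' P) ≤ 21 := h21 ▸ Finite.card_subtype_le _
    have hi0 : i = 0 := by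
      have hb : i < 3 := by
        by_contra hlt
        have := Nat.pow_le_pow_right (show 3 > 0 by norm_num) (not_lt.mp hlt)
        omega
      interval_cases i <;> omega
    rw [hi0, pow_zero, Nat.card_eq_one_iff_unique] at hi
    haveI := hi.1
    have hWN : W' ≤ NP := fun w hw => Sylow.smul_eq_iff_mem_normalizer.mp (congrArg Subtype.val
      (Subsingleton.elim (⟨w • P, ⟨w, hw⟩, rfl⟩ : MulAction.orbit W' P) ⟨P, MulAction.mem_orbit_self P⟩))
    have h3 : NP.relIndex N ∣ (W : Subgroup N).index :=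
      Subgroup.index_dvd_of_le fun w hw => hWN ⟨w, hw, rfl⟩
    rw [hrel] at h3
    exact W.not_dvd_index ((by norm_num : 3 ∣ 21).trans h3)

/-- No finite group has twenty-one Sylow `5`-subgroups. -/
theorem ne_twentyone (n : ℕ) : ∀ (H : Type u) [Group H] [Finite H], Nat.card H = n →
    Nat.card (Sylow 5 H) ≠ 21 := by
  induction n using Nat.strong_induction_on with
  | _ n ih =>
    intro H _ _ hn h21
    obtain ⟨hsimp, hfaith⟩ := reduction (G := H)
      (fun K _ _ hlt => ih _ (hn ▸ hlt) K rfl) h21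
    have hG : ¬ IsMulCommutative H := by
      intro hc
      haveI : Nontrivial (Sylow 5 H) := Finite.one_lt_card_iff_nontrivial.mp (by omega)
      obtain ⟨R, Q, hRQ⟩ := exists_pair_ne (Sylow 5 H)
      obtain ⟨g, hg, hgR⟩ := exists_smul_ne Q R hRQ
      refine hgR (Sylow.smul_eq_iff_mem_normalizer.mpr (Subgroup.mem_normalizer_iff.mpr fun a => ?_))
      rw [hc.is_comm.comm g a, mul_inv_cancel_right]
    have h5 : ∀ Q : Sylow 5 H, Nat.card Q = 5 := card_eq_five hfaith h21
    let P : Sylow 5 H := default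
    obtain ⟨c, e, hC, hN, he2, hediv, hcf, hno⟩ := CfsgLib.SmallOrder.exists_refined hG P (h5 P)
    have hcard : Nat.card H = 5 * c * e * 21 := by
      rw [← hN, ← h21, P.card_eq_index_normalizer]
      exact (Subgroup.card_mul_index _).symm
    rw [h21, hcard] at hno
    rw [h21] at hcf
    have he : e = 2 ∨ e = 4 := by
      have := Nat.le_of_dvd (by norm_num) (Nat.dvd_of_mod_eq_zero hediv)
      interval_cases e <;> simp_all
    have hc24 : c ∣ 24 := by simpa [Nat.factorial] using hcf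
    have hchk : ∀ c ∈ ([1, 2, 3, 4, 6, 8, 12, 24] : List ℕ), ∀ e ∈ ([2, 4] : List ℕ),
        e = 4 ∧ 4 ∣ c ∨ CfsgLib.SmallOrder.noSolution (5 * c * e * 21) 5 c e ((5 - 1) / e) 21
          (Nat.sqrt (5 * c * e * 21)) = true := by
      decide +kernel
    have hcmem : c ∈ ([1, 2, 3, 4, 6, 8, 12, 24] : List ℕ) := by
      have : c ∈ Nat.divisors 24 := Nat.mem_divisors.mpr ⟨hc24, by norm_num⟩
      rw [show Nat.divisors 24 = {1, 2, 3, 4, 6, 8, 12, 24} by decide] at this
      simpa using this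
    have hemem : e ∈ ([2, 4] : List ℕ) := by simpa using he
    rcases hchk c hcmem e hemem with ⟨rfl, hc4⟩ | h
    · exact false_of_four hG h21 h5 P hC hc4 hN
    · rw [hno] at h
      exact Bool.false_ne_true h

end Reduction

end CfsgLib.Recog.TwentyOne
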