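import Cfsg.Agent.Lib.Recog.GF8
import Cfsg.Agent.Lib.Recog.GraphTools
import Cfsg.Agent.Lib.SuzukiMatrix.Bridge
import Cfsg.Agent.Lib.Suzuki.Summary
import Mathlib

/-!
`L = Sz(8).3` and a module `W` in characteristic 2 on which elements of order 13 fix only `0`, while
some elements of orders 5 and 7 fix nonzero vectors: `W^k ⋊ L` has the prime graph of `PSp(6,3)`.
-/

set_option autoImplicit false
set_option maxHeartbeats 1000000

namespace CfsgLib.Recog.GF8

open Matrix

/-- The Suzuki group over the model field. -/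
abbrev S8 : Type := ↥(Cfsg.Lie.Sz K8 4)

/-- The matrix of an element. -/
abbrev mat (g : S8) : Matrix (Fin 4) (Fin 4) K8 := ((g : GL (Fin 4) K8) : Matrix (Fin 4) (Fin 4) K8)

theorem mat_mul (g h : S8) : mat (g * h) = mat g * mat h := rfl

theorem mat_one : mat (1 : S8) = 1 := rfl

theorem mat_injective {g h : S8} (e : mat g = mat h) : g = h := Subtype.ext (Units.ext e)

theorem szHyp : CfsgLib.Suzuki.SzHyp K8 1 := ⟨le_rfl, by rw [card_K8]; norm_num⟩

theorem card_S8 : Nat.card S8 = 29120 := by
  have h := CfsgLib.SuzukiMatrix.card_lieSz szHyp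
  norm_num at h
  exact h

theorem two_eq_zero : (2 : K8) = 0 := by decide +kernel

instance instCharP : CharP K8 2 := szHyp.charTwo

/-! ### The field automorphism -/

/-- Squaring. -/
def sqHom : K8 →+* K8 where
  toFun x := x * x
  map_one' := one_mul 1
  map_mul' x y := mul_mul_mul_comm x y x y
  map_zero' := mul_zero 0
  map_add' x y := by linear_combination (x * y) * two_eq_zero

theorem sqHom_apply (x : K8) : sqHom x = x * x := rfl

theorem sq_bij : Function.Bijective sqHom :=
  Finite.injective_iff_bijective.1 sqHom.injective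

/-- The field automorphism. -/
noncomputable def frob : K8 ≃+* K8 := RingEquiv.ofBijective sqHom sq_bij

theorem frob_apply (x : K8) : frob x = x * x := rfl

theorem sq_cubed_aux : ∀ i : Fin 8,
    ((⟨i⟩ : K8) * ⟨i⟩) * (⟨i⟩ * ⟨i⟩) * ((⟨i⟩ * ⟨i⟩) * (⟨i⟩ * ⟨i⟩)) = ⟨i⟩ := by
  decide +kernel

/-- The field automorphism on matrices. -/
noncomputable def frobGL : MulAut (GL (Fin 4) K8) := Units.mapEquiv frob.mapMatrix.toMulEquiv

theorem frobGL_coe (g : GL (Fin 4) K8) :
    ((frobGL g : GL (Fin 4) K8) : Matrix (Fin 4) (Fin 4) K8) =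
      (g : Matrix (Fin 4) (Fin 4) K8).map frob := rfl

theorem mem_Sp4_of {A : GL (Fin 4) K8}
    (h : (A : Matrix (Fin 4) (Fin 4) K8)ᵀ * CfsgLib.SuzukiMatrix.antiMat K8 *
      (A : Matrix (Fin 4) (Fin 4) K8) = CfsgLib.SuzukiMatrix.antiMat K8) :
    A ∈ Cfsg.Lie.Sp4 K8 := by
  refine CfsgLib.SuzukiMatrix.mem_Sp4_iff.2 fun u v => ?_
  have e : ∀ x y : Fin 4 → K8, Cfsg.Lie.altForm4 x y =
      x ⬝ᵥ (CfsgLib.SuzukiMatrix.antiMat K8) *ᵥ y := fun x y => by
    rw [CfsgLib.SuzukiMatrix.altForm4_eq]
    simp [CfsgLib.SuzukiMatrix.antiMat, Matrix.mulVec, dotProduct, Fin.sum_univ_four]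
  rw [e, e, Matrix.mulVec_mulVec, Matrix.dotProduct_mulVec, Matrix.vecMul_mulVec,
    ← Matrix.mul_assoc, h, ← Matrix.dotProduct_mulVec]

theorem frobGL_mem {g : GL (Fin 4) K8} (hg : g ∈ Cfsg.Lie.Sz K8 4) :
    frobGL g ∈ Cfsg.Lie.Sz K8 4 := by
  replace hg := (CfsgLib.SuzukiMatrix.mem_Sz_iff (F := K8) 2).1 hg
  refine (CfsgLib.SuzukiMatrix.mem_Sz_iff (F := K8) 2).2 ⟨mem_Sp4_of ?_, ?_⟩
  · have e := congrArg (fun M : Matrix (Fin 4) (Fin 4) K8 => M.map frob)
      (CfsgLib.SuzukiMatrix.transpose_mul_anti_mul hg.1)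
    have hJ : (CfsgLib.SuzukiMatrix.antiMat K8).map frob = CfsgLib.SuzukiMatrix.antiMat K8 := by
      ext i j
      fin_cases i <;> fin_cases j <;> simp [CfsgLib.SuzukiMatrix.antiMat, frob_apply]
    simp only [Matrix.map_mul, hJ, Matrix.transpose_map] at e
    rw [frobGL_coe]
    exact e
  · ext p r
    have e := congrArg frob (congrFun (congrFun hg.2 p) r)
    simp only [Cfsg.Lie.star4, Matrix.of_apply, Matrix.map_apply, map_sub, map_mul, map_pow] at e
    simp only [Cfsg.Lie.star4, Matrix.of_apply, frobGL_coe, Matrix.map_apply]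
    exact e

theorem frobGL_map : (Cfsg.Lie.Sz K8 4).map frobGL.toMonoidHom = Cfsg.Lie.Sz K8 4 := by
  refine Subgroup.eq_of_le_of_card_ge ?_ ?_
  · rintro _ ⟨g, hg, rfl⟩
    exact frobGL_mem hg
  · exact (Subgroup.card_map_of_injective (f := frobGL.toMonoidHom) frobGL.injective).ge

/-- The automorphism of the Suzuki group. -/
noncomputable def sig8 : MulAut S8 :=
  (frobGL.subgroupMap (Cfsg.Lie.Sz K8 4)).trans (MulEquiv.subgroupCongr frobGL_map)

theorem mat_sig8 (g : S8) : mat (sig8 g) = (mat g).map frob := rfl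

theorem sig8_cubed : sig8 ^ 3 = 1 := by
  apply MulEquiv.ext
  intro g
  apply mat_injective
  show mat (sig8 (sig8 (sig8 g))) = mat g
  rw [mat_sig8, mat_sig8, mat_sig8]
  ext i j
  simp only [Matrix.map_apply, frob_apply]
  exact sq_cubed_aux (mat g i j).val

theorem sig8_pow_mod (n : ℕ) : sig8 ^ (n % 3) = sig8 ^ n := by
  conv_rhs => rw [← Nat.mod_add_div n 3, pow_add, pow_mul, sig8_cubed, one_pow, mul_one]

/-- The action of the cyclic group of order 3. -/
noncomputable def act3 : Multiplicative (ZMod 3) →* MulAut S8 where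
  toFun a := sig8 ^ (Multiplicative.toAdd a).val
  map_one' := by simp
  map_mul' a b := by rw [toAdd_mul, ZMod.val_add, sig8_pow_mod, pow_add]

/-- `Sz(8).3`. -/
abbrev L8 : Type := SemidirectProduct S8 (Multiplicative (ZMod 3)) act3

instance instFiniteL8 : Finite L8 := Finite.of_equiv _ SemidirectProduct.equivProd.symm

theorem card_L8 : Nat.card L8 = 87360 := by
  rw [SemidirectProduct.card, card_S8, Nat.card_eq_fintype_card (α := Multiplicative (ZMod 3)),
    Fintype.card_multiplicative, ZMod.card]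

/-! ### Concrete elements -/

/-- A matrix from numerals. -/
def m4 (r : Fin 4 → Fin 4 → Fin 8) : Matrix (Fin 4) (Fin 4) K8 := Matrix.of fun i j => ⟨r i j⟩

/-- The element of order 13. -/
def A13 : Matrix (Fin 4) (Fin 4) K8 :=
  m4 ![![6, 3, 1, 6], ![5, 0, 6, 6], ![4, 7, 7, 0], ![1, 4, 6, 6]]

/-- The element of order 7. -/
def A7 : Matrix (Fin 4) (Fin 4) K8 :=
  m4 ![![3, 0, 0, 0], ![0, 4, 0, 0], ![0, 0, 7, 0], ![0, 0, 0, 6]]

/-- The element of order 5 over the prime field. -/
def A5 : Matrix (Fin 4) (Fin 4) K8 :=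
  m4 ![![1, 1, 0, 1], ![1, 0, 1, 0], ![0, 1, 0, 0], ![1, 0, 0, 0]]

/-- An involution over the prime field. -/
def A2 : Matrix (Fin 4) (Fin 4) K8 :=
  m4 ![![0, 0, 0, 1], ![0, 0, 1, 0], ![0, 1, 0, 0], ![1, 0, 0, 0]]

/-- Powers, by repeated multiplication. -/
def pw (a : Matrix (Fin 4) (Fin 4) K8) : ℕ → Matrix (Fin 4) (Fin 4) K8
  | 0 => 1
  | n + 1 => pw a n * a

/-- Membership test. -/
def Good (A : Matrix (Fin 4) (Fin 4) K8) (n : ℕ) : Prop :=
  Aᵀ * CfsgLib.SuzukiMatrix.antiMat K8 * A = CfsgLib.SuzukiMatrix.antiMat K8 ∧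
    Cfsg.Lie.star4 A = A.map (fun x => (x * x) * (x * x)) ∧
    A * pw A (n - 1) = 1 ∧ pw A (n - 1) * A = 1

/-- The element with a given matrix. -/
def elS {A : Matrix (Fin 4) (Fin 4) K8} {n : ℕ} (h : Good A n) : S8 :=
  ⟨⟨A, pw A (n - 1), h.2.2.1, h.2.2.2⟩, Subgroup.subset_closure ⟨mem_Sp4_of h.1, by
    refine h.2.1.trans ?_
    show A.map _ = A.map _
    congr 1
    funext x
    simp only [pow_succ, pow_zero, one_mul, mul_assoc]⟩⟩

theorem good13 : Good A13 13 := by unfold Good; decide +kernel
theorem good7 : Good A7 7 := by unfold Good; decide +kernel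
theorem good5 : Good A5 5 := by unfold Good; decide +kernel
theorem good2 : Good A2 2 := by unfold Good; decide +kernel

/-- The element of order 13. -/
def t13 : S8 := elS good13
/-- The element of order 7. -/
def t7 : S8 := elS good7
/-- The element of order 5. -/
def t5 : S8 := elS good5
/-- The involution. -/
def t2 : S8 := elS good2

theorem mat_pow (g : S8) (n : ℕ) : mat (g ^ n) = pw (mat g) n := by
  induction n with
  | zero => exact mat_one
  | succ n ih => rw [pow_succ, mat_mul, ih, pw]

theorem orderOf_elS {A : Matrix (Fin 4) (Fin 4) K8} {n : ℕ} (h : Good A n) (hn : n.Prime)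
    (h1 : pw A n = 1) (h2 : A ≠ 1) : orderOf (elS h) = n := by
  haveI := Fact.mk hn
  refine orderOf_eq_prime (mat_injective ?_) fun e => h2 ((congrArg mat e).trans mat_one)
  rw [mat_pow, mat_one]
  exact h1

theorem orderOf_t13 : orderOf t13 = 13 :=
  orderOf_elS good13 (by norm_num) (by decide +kernel) (by decide +kernel)
theorem orderOf_t7 : orderOf t7 = 7 :=
  orderOf_elS good7 (by norm_num) (by decide +kernel) (by decide +kernel)
theorem orderOf_t5 : orderOf t5 = 5 :=
  orderOf_elS good5 (by norm_num) (by decide +kernel) (by decide +kernel)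
theorem orderOf_t2 : orderOf t2 = 2 :=
  orderOf_elS good2 (by norm_num) (by decide +kernel) (by decide +kernel)

theorem sig8_t5 : sig8 t5 = t5 := mat_injective (by
  rw [mat_sig8]
  exact (by decide +kernel : A5.map (fun x => x * x) = A5))

theorem sig8_t2 : sig8 t2 = t2 := mat_injective (by
  rw [mat_sig8]
  exact (by decide +kernel : A2.map (fun x => x * x) = A2))

/-! ### Centralisers -/

theorem fac_S8 (r k : ℕ) (hr : r.Prime) (he : 29120 = r ^ 1 * k) (hk : ¬ r ∣ k) (hk0 : k ≠ 0) :
    (Nat.card S8).factorization r = 1 := by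
  rw [card_S8, he, Nat.factorization_mul (pow_ne_zero _ hr.ne_zero) hk0, Finsupp.add_apply,
    Nat.Prime.factorization_pow hr, Finsupp.single_eq_same,
    Nat.factorization_eq_zero_of_not_dvd hk]

theorem fac13 : (Nat.card S8).factorization 13 = 1 :=
  fac_S8 13 2240 (by norm_num) (by norm_num) (by norm_num) (by norm_num)
theorem fac7 : (Nat.card S8).factorization 7 = 1 :=
  fac_S8 7 4160 (by norm_num) (by norm_num) (by norm_num) (by norm_num)
theorem fac5 : (Nat.card S8).factorization 5 = 1 :=
  fac_S8 5 5824 (by norm_num) (by norm_num) (by norm_num) (by norm_num)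

theorem exists_self_centralizing {r : ℕ} (hr : r = 5 ∨ r = 7 ∨ r = 13) :
    ∃ U : Subgroup (Cfsg.Sz K8 1), Nat.card U = r ∧
      ∀ u ∈ U, u ≠ 1 → Subgroup.centralizer {u} = U := by
  rcases hr with rfl | rfl | rfl
  · obtain ⟨U, -, hU, hC, -⟩ := CfsgLib.Suzuki.exceptional_cyclic szHyp 5 (by norm_num)
    exact ⟨U, hU, hC⟩
  · exact ⟨CfsgLib.Suzuki.torus szHyp,
      (CfsgLib.Suzuki.card_torus szHyp).trans (by norm_num),
      fun u hu h1 => CfsgLib.Suzuki.centralizer_mem_torus szHyp hu h1⟩
  · obtain ⟨U, -, hU, hC, -⟩ := CfsgLib.Suzuki.exceptional_cyclic szHyp 13 (by norm_num)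
    exact ⟨U, hU, hC⟩

/-- Elements commuting with an element of order `r ∈ {5, 7, 13}` have order dividing `r`. -/
theorem pow_eq_one_of_commute {r : ℕ} (hr : r = 5 ∨ r = 7 ∨ r = 13) {u v : S8}
    (hu : orderOf u = r) (hcomm : u * v = v * u) : v ^ r = 1 := by
  obtain ⟨U, hU, hC⟩ := exists_self_centralizing hr
  haveI : Fact r.Prime := ⟨by rcases hr with rfl | rfl | rfl <;> norm_num⟩
  have hfac : (Nat.card S8).factorization r = 1 := by
    rcases hr with rfl | rfl | rfl
    · exact fac5
    · exact fac7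
    · exact fac13
  set e := (CfsgLib.SuzukiMatrix.szEquiv szHyp).symm
  haveI : Nontrivial ↥U := Finite.one_lt_card_iff_nontrivial.1 (by
    rw [hU]; exact (Fact.out : r.Prime).one_lt)
  obtain ⟨⟨t, ht⟩, ht1⟩ := exists_ne (1 : ↥U)
  have hto : orderOf t = r := by
    rcases (Nat.dvd_prime Fact.out).1 (hU ▸ Subgroup.orderOf_dvd_natCard U ht) with h | h
    · exact absurd (Subtype.ext (orderOf_eq_one_iff.1 h)) ht1
    · exact h
  obtain ⟨c, hc⟩ := GF4.exists_conj_zpowers hfac
    (t := e.symm t) ((MulEquiv.orderOf_eq e.symm t).trans hto) hu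
  have h1 : Commute v (c * e.symm t * c⁻¹) := by
    obtain ⟨i, hi⟩ := Subgroup.mem_zpowers_iff.1 hc
    rw [← hi]
    exact (show Commute v u from hcomm.symm).zpow_right i
  have h2 : Commute (e (c⁻¹ * v * c)) t := by
    have h4 : Commute (c⁻¹ * v * c) (e.symm t) := by
      show c⁻¹ * v * c * e.symm t = e.symm t * (c⁻¹ * v * c)
      calc c⁻¹ * v * c * e.symm t = c⁻¹ * (v * (c * e.symm t * c⁻¹)) * c := by group
        _ = c⁻¹ * ((c * e.symm t * c⁻¹) * v) * c := by rw [h1.eq]
        _ = _ := by group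
    have h5 := congrArg e h4.eq
    rw [map_mul, map_mul e (e.symm t), MulEquiv.apply_symm_apply] at h5
    exact h5
  have hmem : e (c⁻¹ * v * c) ∈ U := by
    rw [← hC t ht (fun h => ht1 (Subtype.ext h))]
    exact Subgroup.mem_centralizer_singleton_iff.2 h2.eq
  have h3 : (e (c⁻¹ * v * c)) ^ r = 1 :=
    orderOf_dvd_iff_pow_eq_one.1 (hU ▸ Subgroup.orderOf_dvd_natCard U hmem)
  rw [← map_pow, MulEquiv.map_eq_one_iff] at h3
  have h6 : (c⁻¹ * v * c) ^ r = c⁻¹ * v ^ r * c := by
    have := conj_pow (a := c⁻¹) (b := v) (i := r)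
    rwa [inv_inv] at this
  rw [h6] at h3
  calc v ^ r = c * (c⁻¹ * v ^ r * c) * c⁻¹ := by group
    _ = 1 := by rw [h3, mul_one, mul_inv_cancel]

theorem trace_conj (g u : S8) : (mat (g * u * g⁻¹)).trace = (mat u).trace := by
  rw [mat_mul, mat_mul, Matrix.trace_mul_cycle, ← mat_mul, inv_mul_cancel, mat_one, Matrix.one_mul]

theorem trace_pw13 : ∀ i : Fin 13, (i : ℕ) ≠ 0 →
    (pw A13 i).trace * (pw A13 i).trace ≠ (pw A13 i).trace := by
  decide +kernel

theorem trace_pw7 : ∀ i : Fin 7, (i : ℕ) ≠ 0 →
    (pw A7 i).trace * (pw A7 i).trace ≠ (pw A7 i).trace := by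
  decide +kernel

/-- The trace of an element of order 7 or 13 is moved by the field automorphism. -/
theorem trace_moved {u : S8} (hu : orderOf u = 7 ∨ orderOf u = 13) :
    frob (mat u).trace ≠ (mat u).trace := by
  have key : ∀ (r : ℕ) [Fact r.Prime] (A : Matrix (Fin 4) (Fin 4) K8) (t : S8),
      (Nat.card S8).factorization r = 1 → mat t = A → orderOf t = r →
      (∀ i : Fin r, (i : ℕ) ≠ 0 → (pw A i).trace * (pw A i).trace ≠ (pw A i).trace) →
      orderOf u = r → frob (mat u).trace ≠ (mat u).trace := by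
    intro r _ A t hf hA ht htr hur
    obtain ⟨c, hc⟩ := GF4.exists_conj_zpowers hf hur ht
    obtain ⟨n, hn⟩ := Submonoid.mem_powers_iff _ _ |>.1 (mem_powers_iff_mem_zpowers.2 hc)
    have hr : r.Prime := Fact.out
    have hn' : t ^ (n % r) = c * u * c⁻¹ := by rw [← ht, pow_mod_orderOf, hn]
    have h1 := htr ⟨n % r, Nat.mod_lt _ hr.pos⟩ (fun h => by
      simp only at h
      rw [h, pow_zero] at hn'
      have : u = 1 := by
        calc u = c⁻¹ * (c * u * c⁻¹) * c := by group
          _ = 1 := by rw [← hn', mul_one, inv_mul_cancel]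
      rw [this, orderOf_one] at hur
      exact hr.one_lt.ne hur)
    rw [← trace_conj c u, ← hn', mat_pow, hA]
    exact h1
  rcases hu with h | h
  · haveI : Fact (Nat.Prime 7) := ⟨by norm_num⟩
    exact key 7 A7 t7 fac7 rfl orderOf_t7 trace_pw7 h
  · haveI : Fact (Nat.Prime 13) := ⟨by norm_num⟩
    exact key 13 A13 t13 fac13 rfl orderOf_t13 trace_pw13 h

theorem right_eq_one {x : L8} {r : ℕ} (hx : orderOf x = r) (hr : r.Coprime 3) : x.right = 1 := by
  refine orderOf_eq_one_iff.1 (Nat.eq_one_of_dvd_coprimes hr ?_ ?_)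
  · rw [← hx]
    exact orderOf_map_dvd (SemidirectProduct.rightHom : L8 →* Multiplicative (ZMod 3)) x
  · have := orderOf_dvd_natCard x.right
    rwa [Nat.card_eq_fintype_card, Fintype.card_multiplicative, ZMod.card] at this

theorem inl_left {x : L8} (h : x.right = 1) : SemidirectProduct.inl x.left = x := by
  apply SemidirectProduct.ext
  · simp
  · exact (SemidirectProduct.right_inl (φ := act3) x.left).trans h.symm

/-- No element of order `r * s` for `r ∈ {7, 13}`, or `r = 5` and `s ≠ 3`. -/
theorem no_orderOf_mul {r s : ℕ} (hr : r = 5 ∨ r = 7 ∨ r = 13) (hs : s.Prime) (hsr : s ≠ r)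
    (h35 : r = 5 → s ≠ 3) : ¬ ∃ y : L8, orderOf y = r * s := by
  rintro ⟨y, hy⟩
  have hrp : r.Prime := by rcases hr with rfl | rfl | rfl <;> norm_num
  obtain ⟨u, v, hu, hv, huv⟩ := exists_commute_of_orderOf_mul hrp.pos hs.pos hy
  have hu1 : u.right = 1 := right_eq_one hu (by rcases hr with rfl | rfl | rfl <;> norm_num)
  have huo : orderOf u.left = r := by
    rw [← hu]
    conv_rhs => rw [← inl_left hu1]
    exact (orderOf_injective _ SemidirectProduct.inl_injective _).symm
  have hcomm := congrArg SemidirectProduct.left huv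
  simp only [SemidirectProduct.mul_left, hu1, map_one, MulAut.one_apply] at hcomm
  by_cases hv1 : v.right = 1
  · rw [hv1, map_one, MulAut.one_apply] at hcomm
    have h1 := pow_eq_one_of_commute hr huo hcomm
    have h2 : orderOf v.left = s := by
      rw [← hv]
      conv_rhs => rw [← inl_left hv1]
      exact (orderOf_injective _ SemidirectProduct.inl_injective _).symm
    exact hsr ((Nat.prime_dvd_prime_iff_eq hs hrp).1 (h2 ▸ orderOf_dvd_of_pow_eq_one h1))
  · -- `v` lies outside `Sz(8)`, so `s = 3`, and the trace of `u` is fixed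
    have hs3 : s = 3 := by
      by_contra hne
      exact hv1 (right_eq_one hv ((Nat.coprime_primes hs Nat.prime_three).2 hne))
    have h78 : orderOf u.left = 7 ∨ orderOf u.left = 13 := by
      rw [huo]
      rcases hr with rfl | rfl | rfl
      · exact absurd hs3 (h35 rfl)
      · exact Or.inl rfl
      · exact Or.inr rfl
    have htr : (mat (act3 v.right u.left)).trace = (mat u.left).trace := by
      rw [← trace_conj v.left (act3 v.right u.left), ← hcomm, mul_inv_cancel_right]
    have hmoved := trace_moved h78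
    have hval : (Multiplicative.toAdd v.right).val = 1 ∨ (Multiplicative.toAdd v.right).val = 2 := by
      have h1 := ZMod.val_lt (Multiplicative.toAdd v.right)
      have h2 : (Multiplicative.toAdd v.right).val ≠ 0 := fun h => hv1
        (Multiplicative.toAdd.injective ((ZMod.val_eq_zero _).1 h))
      omega
    have hmap : ∀ g : S8, (mat (sig8 g)).trace = frob (mat g).trace := fun g => by
      rw [mat_sig8]
      simp [Matrix.trace, Fin.sum_univ_four]
    rcases hval with h | h
    · apply hmoved
      rw [← hmap, ← htr]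
      show _ = (mat ((sig8 ^ (Multiplicative.toAdd v.right).val) u.left)).trace
      rw [h, pow_one]
    · apply hmoved
      have e : (mat (sig8 (sig8 u.left))).trace = (mat u.left).trace := by
        conv_rhs => rw [← htr]
        show _ = (mat ((sig8 ^ (Multiplicative.toAdd v.right).val) u.left)).trace
        rw [h]
        rfl
      rw [hmap, hmap] at e
      have e' := congrArg frob e
      rw [show frob (frob (frob (mat u.left).trace)) = (mat u.left).trace from
        sq_cubed_aux (mat u.left).trace.val] at e'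
      exact e'.symm

theorem orderOf_gen :
    orderOf (SemidirectProduct.inr (Multiplicative.ofAdd (1 : ZMod 3)) : L8) = 3 := by
  rw [orderOf_injective _ SemidirectProduct.inr_injective, orderOf_ofAdd_eq_addOrderOf,
    ZMod.addOrderOf_one]

theorem act3_gen (g : S8) : act3 (Multiplicative.ofAdd (1 : ZMod 3)) g = sig8 g := rfl

theorem exists_six : ∃ x : L8, orderOf x = 2 * 3 := by
  haveI : Fact (Nat.Prime 3) := ⟨Nat.prime_three⟩
  set a : L8 := SemidirectProduct.inl t2
  set b : L8 := SemidirectProduct.inr (Multiplicative.ofAdd (1 : ZMod 3))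
  have hc : Commute b a := by
    apply SemidirectProduct.ext
    · simp [a, b, SemidirectProduct.mul_left, act3_gen, sig8_t2]
    · simp [a, b]
  have ha : orderOf a = 2 := by
    rw [orderOf_injective _ SemidirectProduct.inl_injective, orderOf_t2]
  have hb : orderOf b = 3 := orderOf_gen
  exact ⟨a * b, by rw [hc.symm.orderOf_mul_eq_mul_orderOf_of_coprime (by rw [ha, hb]; norm_num),
    ha, hb]⟩

theorem exists_fifteen : ∃ x : L8, orderOf x = 3 * 5 := by
  haveI : Fact (Nat.Prime 3) := ⟨Nat.prime_three⟩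
  set a : L8 := SemidirectProduct.inl t5
  set b : L8 := SemidirectProduct.inr (Multiplicative.ofAdd (1 : ZMod 3))
  have hc : Commute b a := by
    apply SemidirectProduct.ext
    · simp [a, b, SemidirectProduct.mul_left, act3_gen, sig8_t5]
    · simp [a, b]
  have ha : orderOf a = 5 := by
    rw [orderOf_injective _ SemidirectProduct.inl_injective, orderOf_t5]
  have hb : orderOf b = 3 := orderOf_gen
  exact ⟨a * b, by rw [hc.symm.orderOf_mul_eq_mul_orderOf_of_coprime (by rw [ha, hb]; norm_num),
    ha, hb, mul_comm]⟩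

/-! ### The module -/

/-- The matrix of `g` twisted by the `j`-th power of the field automorphism. -/
noncomputable def tw (j : ZMod 3) (g : S8) : Matrix (Fin 4) (Fin 4) K8 := mat ((sig8 ^ j.val) g)

theorem tw_mul (j a : ZMod 3) (g h : S8) :
    tw j (g * act3 (Multiplicative.ofAdd a) h) = tw j g * tw (j + a) h := by
  simp only [tw, map_mul, mat_mul]
  congr 1
  show mat ((sig8 ^ j.val) ((sig8 ^ a.val) h)) = _
  rw [← MulAut.mul_apply, ← pow_add, ← sig8_pow_mod, ← ZMod.val_add]

theorem tw_one (j : ZMod 3) : tw j 1 = 1 := by rw [tw, map_one, mat_one]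

/-- The module. -/
abbrev W8 : Type := ZMod 3 → Matrix (Fin 4) (Fin 4) K8

/-- The action of an element. -/
noncomputable def actW (x : L8) (f : W8) : W8 := fun j =>
  tw j x.left * f (j + Multiplicative.toAdd x.right) * (tw (j + 1) x.left)ᵀ

theorem actW_one (f : W8) : actW 1 f = f := by
  funext j
  simp [actW, tw_one]

theorem actW_mul (x y : L8) (f : W8) : actW (x * y) f = actW x (actW y f) := by
  funext j
  simp only [actW, SemidirectProduct.mul_left, SemidirectProduct.mul_right, toAdd_mul]
  rw [← ofAdd_toAdd x.right, tw_mul, tw_mul, toAdd_ofAdd, Matrix.transpose_mul,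
    show j + 1 + Multiplicative.toAdd x.right = j + Multiplicative.toAdd x.right + 1 by ring]
  simp only [Matrix.mul_assoc, add_assoc]

theorem actW_add (x : L8) (f g : W8) : actW x (f + g) = actW x f + actW x g := by
  funext j
  simp [actW, Matrix.mul_add, Matrix.add_mul]

/-- `k` copies of the module, as a multiplicative group. -/
abbrev V8 (k : ℕ) : Type := Multiplicative (Fin k → W8)

/-- The action on `k` copies. -/
noncomputable def actV (k : ℕ) : L8 →* MulAut (V8 k) where
  toFun x := AddEquiv.toMultiplicative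
    { toFun := fun F i => actW x (F i)
      invFun := fun F i => actW x⁻¹ (F i)
      left_inv := fun F => funext fun i => by
        show actW x⁻¹ (actW x (F i)) = F i
        rw [← actW_mul, inv_mul_cancel, actW_one]
      right_inv := fun F => funext fun i => by
        show actW x (actW x⁻¹ (F i)) = F i
        rw [← actW_mul, mul_inv_cancel, actW_one]
      map_add' := fun F G => funext fun i => actW_add x _ _ }
  map_one' := by
    apply MulEquiv.ext
    intro v
    apply Multiplicative.toAdd.injective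
    exact funext fun i => actW_one _
  map_mul' x y := by
    apply MulEquiv.ext
    intro v
    apply Multiplicative.toAdd.injective
    exact funext fun i => actW_mul x y _

theorem exp_V8 (k : ℕ) (v : V8 k) : v ^ 2 = 1 := by
  apply Multiplicative.toAdd.injective
  funext i j a b
  show (2 • Multiplicative.toAdd v) i j a b = 0
  simp only [two_nsmul, Pi.add_apply, Matrix.add_apply]
  exact add_self _

/-- The Kronecker sum along the powers of the element of order 13. -/
def kron13 (r a c b : Fin 4) : K8 :=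
  ((List.range 13).map fun i => pw A13 i r a * (pw A13 i c b * pw A13 i c b)).sum

theorem kron13_zero : ∀ r a c b : Fin 4, kron13 r a c b = 0 := by
  decide +kernel

/-- The element of order 13 fixes only `0`. -/
theorem fixed_t13 {f : W8} (hf : actW (SemidirectProduct.inl t13) f = f) : f = 0 := by
  have hpow : ∀ n : ℕ, actW (SemidirectProduct.inl (t13 ^ n)) f = f := fun n => by
    induction n with
    | zero => rw [pow_zero, map_one, actW_one]
    | succ n ih => rw [pow_succ, map_mul, actW_mul, hf, ih]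
  funext j
  have h13 : (∑ i ∈ Finset.range 13, f j) = f j := by
    rw [Finset.sum_const, Finset.card_range]
    have h2 : f j + f j = 0 := by
      ext a b
      exact add_self _
    simp only [show (13 : ℕ) = 2 * 6 + 1 by norm_num, add_nsmul, mul_nsmul, two_nsmul, h2,
      smul_zero, zero_add, one_nsmul]
  rw [Pi.zero_apply, ← h13, Finset.sum_congr rfl fun i _ => (congrFun (hpow i) j).symm]
  ext r c
  have hσ : ∃ σ : K8 →+* K8, ∀ g : S8, tw j g = (mat g).map σ ∧
      tw (j + 1) g = (mat g).map (fun x => σ (x * x)) := by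
    have t : ∀ n : ℕ, n < 3 → ∀ g : S8, mat ((sig8 ^ n) g) = (mat g).map (sqHom ^ n : K8 →+* K8) := by
      intro n hn g
      interval_cases n
      · ext a b; rfl
      · ext a b; rfl
      · ext a b; rfl
    refine ⟨sqHom ^ j.val, fun g => ⟨t _ (ZMod.val_lt j) g, ?_⟩⟩
    rw [tw, t _ (ZMod.val_lt _) g]
    ext a b
    fin_cases j
    · rfl
    · rfl
    · exact (sq_cubed_aux (mat g a b).val).symm
  obtain ⟨σ, hσ⟩ := hσ
  simp only [actW, Matrix.sum_apply, Matrix.mul_apply, SemidirectProduct.left_inl,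
    SemidirectProduct.right_inl, toAdd_one, add_zero, (hσ _).1, (hσ _).2, Matrix.transpose_apply,
    Matrix.map_apply, Finset.sum_mul, mat_pow, Matrix.zero_apply]
  rw [Finset.sum_comm]
  refine Finset.sum_eq_zero fun b _ => ?_
  rw [Finset.sum_comm]
  refine Finset.sum_eq_zero fun a _ => ?_
  have hk : ∑ i ∈ Finset.range 13, σ (pw A13 i r a * (pw A13 i c b * pw A13 i c b)) = 0 := by
    rw [← map_sum]
    have h0 := kron13_zero r a c b
    rw [kron13, ← List.sum_toFinset _ List.nodup_range, List.toFinset_range] at h0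
    rw [h0, map_zero]
  calc _ = (∑ i ∈ Finset.range 13, σ (pw A13 i r a * (pw A13 i c b * pw A13 i c b))) * f j a b := by
        rw [Finset.sum_mul]
        refine Finset.sum_congr rfl fun i _ => ?_
        simp only [map_mul]
        rw [show mat t13 = A13 from rfl]
        ring
    _ = 0 := by rw [hk, zero_mul]

theorem fixed_13 {k : ℕ} {g : L8} (hg : orderOf g = 13) {v : V8 k} (hv : actV k g v = v) :
    v = 1 := by
  haveI : Fact (Nat.Prime 13) := ⟨by norm_num⟩
  have hr : g.right = 1 := right_eq_one hg (by norm_num)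
  have hgl : orderOf g.left = 13 := by
    rw [← hg]
    conv_rhs => rw [← inl_left hr]
    exact (orderOf_injective _ SemidirectProduct.inl_injective _).symm
  obtain ⟨c, hc⟩ := GF4.exists_conj_zpowers fac13 orderOf_t13 hgl
  obtain ⟨n, hn⟩ := Submonoid.mem_powers_iff _ _ |>.1 (mem_powers_iff_mem_zpowers.2 hc)
  apply Multiplicative.toAdd.injective
  funext i
  set f := Multiplicative.toAdd v i
  have hgf : actW g f = f := congrFun (congrArg Multiplicative.toAdd hv) i
  have hgn : ∀ n : ℕ, actW (g ^ n) f = f := fun n => by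
    induction n with
    | zero => rw [pow_zero, actW_one]
    | succ n ih => rw [pow_succ, actW_mul, hgf, ih]
  have h1 : actW (SemidirectProduct.inl (c * t13 * c⁻¹)) f = f := by
    rw [← hn, map_pow, inl_left hr]
    exact hgn n
  have h2 := fixed_t13 (f := actW (SemidirectProduct.inl c⁻¹) f) (by
    have e := congrArg (actW (SemidirectProduct.inl c⁻¹)) h1
    rw [← actW_mul, ← map_mul, show c⁻¹ * (c * t13 * c⁻¹) = t13 * c⁻¹ by group, map_mul,
      actW_mul] at e
    exact e)
  have h3 := congrArg (actW (SemidirectProduct.inl c)) h2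
  rw [← actW_mul, ← map_mul, mul_inv_cancel, map_one, actW_one] at h3
  rw [h3]
  funext j
  simp [actW]

/-- A fixed vector of the element of order 7. -/
def X7 : Matrix (Fin 4) (Fin 4) K8 :=
  m4 ![![0, 1, 0, 0], ![0, 0, 0, 0], ![0, 0, 0, 0], ![0, 0, 0, 0]]

/-- A fixed vector of the element of order 5. -/
def X5 : Matrix (Fin 4) (Fin 4) K8 :=
  m4 ![![0, 0, 0, 1], ![0, 0, 1, 0], ![0, 1, 0, 0], ![1, 0, 0, 0]]

theorem exists_fixed {k : ℕ} {A : Matrix (Fin 4) (Fin 4) K8} {n : ℕ} (h : Good A n)
    {X : Matrix (Fin 4) (Fin 4) K8} (hX : A * X * (A.map fun x => x * x)ᵀ = X) (hX0 : X ≠ 0) :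
    ∃ v : V8 (k + 1), v ≠ 1 ∧ actV (k + 1) (SemidirectProduct.inl (elS h)) v = v := by
  refine ⟨Multiplicative.ofAdd fun _ j => if j = 0 then X else 0, fun e => hX0 ?_, ?_⟩
  · have := congrFun (congrFun (congrArg Multiplicative.toAdd e) 0) 0
    simpa using this
  · apply Multiplicative.toAdd.injective
    funext i j
    show actW (SemidirectProduct.inl (elS h)) (fun j => if j = 0 then X else 0) j = _
    simp only [actW, SemidirectProduct.left_inl, SemidirectProduct.right_inl, toAdd_one, add_zero,
      toAdd_ofAdd]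
    by_cases hj : j = 0
    · subst hj
      rw [if_pos rfl]
      exact hX
    · rw [if_neg hj, Matrix.mul_zero, Matrix.zero_mul]

theorem card_W8 : Fintype.card W8 = 2 ^ 144 := by
  rw [Fintype.card_fun, ZMod.card, show Fintype.card (Matrix (Fin 4) (Fin 4) K8) =
    Fintype.card (Fin 4 → Fin 4 → K8) from rfl, Fintype.card_fun, Fintype.card_fun,
    Fintype.card_fin, card_K8, show (8 : ℕ) = 2 ^ 3 by norm_num, ← pow_mul, ← pow_mul, ← pow_mul]

/-- Groups of arbitrarily large order with the prime graph of `PSp(6,3)`. -/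
theorem exists_large (N : ℕ) :
    ∃ (H : Type) (_ : Group H) (_ : Finite H), N < Nat.card H ∧
      (∀ r : ℕ, r.Prime → (r ∣ Nat.card H ↔ PrimesSix r)) ∧
      ∀ r s : ℕ, r.Prime → s.Prime → r ≠ s →
        ((∃ x : H, orderOf x = r * s) ↔ AdjSix r s) := by
  haveI : Fact (Nat.Prime 2) := ⟨Nat.prime_two⟩
  haveI hfin : Finite (SemidirectProduct (V8 (N + 1)) L8 (actV (N + 1))) :=
    Finite.of_equiv _ SemidirectProduct.equivProd.symm
  have hcard : Nat.card (SemidirectProduct (V8 (N + 1)) L8 (actV (N + 1))) =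
      2 ^ (144 * (N + 1)) * 87360 := by
    rw [SemidirectProduct.card, card_L8, Nat.card_eq_fintype_card (α := V8 (N + 1)),
      Fintype.card_multiplicative, Fintype.card_fun, Fintype.card_fin]
    rw [card_W8, ← pow_mul]
  have hprimes : ∀ r : ℕ, r.Prime →
      (r ∣ Nat.card (SemidirectProduct (V8 (N + 1)) L8 (actV (N + 1))) ↔ PrimesSix r) := by
    intro r hr
    rw [hcard, show (87360 : ℕ) = 2 ^ 6 * 3 * 5 * 7 * 13 by norm_num]
    constructor
    · intro h
      rcases hr.dvd_mul.1 h with h | h
      · exact Or.inl ((Nat.prime_dvd_prime_iff_eq hr Nat.prime_two).1 (hr.dvd_of_dvd_pow h))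
      rcases hr.dvd_mul.1 h with h | h
      · rcases hr.dvd_mul.1 h with h | h
        · rcases hr.dvd_mul.1 h with h | h
          · rcases hr.dvd_mul.1 h with h | h
            · exact Or.inl ((Nat.prime_dvd_prime_iff_eq hr Nat.prime_two).1 (hr.dvd_of_dvd_pow h))
            · exact Or.inr (Or.inl ((Nat.prime_dvd_prime_iff_eq hr Nat.prime_three).1 h))
          · exact Or.inr (Or.inr (Or.inl ((Nat.prime_dvd_prime_iff_eq hr Nat.prime_five).1 h)))
        · exact Or.inr (Or.inr (Or.inr (Or.inl
            ((Nat.prime_dvd_prime_iff_eq hr (by norm_num)).1 h))))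
      · exact Or.inr (Or.inr (Or.inr (Or.inr
          ((Nat.prime_dvd_prime_iff_eq hr (by norm_num)).1 h))))
    · rintro (rfl | rfl | rfl | rfl | rfl) <;> exact Dvd.dvd.mul_left (by norm_num) _
  have hadj : ∀ r s : ℕ, r.Prime → s.Prime → r ≠ s →
      ((∃ x : SemidirectProduct (V8 (N + 1)) L8 (actV (N + 1)), orderOf x = r * s) ↔
        AdjSix r s) := by
    intro r s hr hs hne
    have lift : ∀ {a b : ℕ}, a.Prime → b.Prime → a ≠ b → (∃ g : L8, orderOf g = a * b) →
        ∃ x : SemidirectProduct (V8 (N + 1)) L8 (actV (N + 1)), orderOf x = a * b :=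
      fun ha hb hab h => (semidirect_adj (exp_V8 _) _ ha hb hab).2 (Or.inl h)
    refine adjSix_of (fun p hp h => (hprimes p hp).1 h)
      (lift Nat.prime_two Nat.prime_three (by norm_num) exists_six) ?_ ?_
      (lift Nat.prime_three Nat.prime_five (by norm_num) exists_fifteen) ?_ ?_ ?_ hr hs hne
    · refine (semidirect_adj (exp_V8 _) _ Nat.prime_two Nat.prime_five (by norm_num)).2
        (Or.inr (Or.inl ⟨rfl, SemidirectProduct.inl t5,
          (orderOf_injective _ SemidirectProduct.inl_injective _).trans orderOf_t5,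
          exists_fixed good5 (X := X5) (by decide +kernel) (by decide +kernel)⟩))
    · refine (semidirect_adj (exp_V8 _) _ Nat.prime_two (by norm_num) (by norm_num)).2
        (Or.inr (Or.inl ⟨rfl, SemidirectProduct.inl t7,
          (orderOf_injective _ SemidirectProduct.inl_injective _).trans orderOf_t7,
          exists_fixed good7 (X := X7) (by decide +kernel) (by decide +kernel)⟩))
    · intro q hq hq13 hex
      rcases (semidirect_adj (exp_V8 _) _ (by norm_num) hq hq13.symm).1 hex with h | h | h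
      · exact no_orderOf_mul (Or.inr (Or.inr rfl)) hq hq13 (by norm_num) h
      · exact absurd h.1 (by norm_num)
      · obtain ⟨-, g, hg, v, hv, hfix⟩ := h
        exact hv (fixed_13 hg hfix)
    · intro hex
      rcases (semidirect_adj (exp_V8 _) _ (by norm_num) Nat.prime_three (by norm_num)).1 hex
        with h | h | h
      · exact no_orderOf_mul (Or.inr (Or.inl rfl)) Nat.prime_three (by norm_num) (by norm_num) h
      · exact absurd h.1 (by norm_num)
      · exact absurd h.1 (by norm_num)
    · intro hex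
      rcases (semidirect_adj (exp_V8 _) _ (by norm_num) Nat.prime_five (by norm_num)).1 hex
        with h | h | h
      · exact no_orderOf_mul (Or.inr (Or.inl rfl)) Nat.prime_five (by norm_num) (by norm_num) h
      · exact absurd h.1 (by norm_num)
      · exact absurd h.1 (by norm_num)
  obtain ⟨H, iH, iF, ⟨e⟩⟩ := exists_type_model (SemidirectProduct (V8 (N + 1)) L8 (actV (N + 1)))
  refine ⟨H, iH, inferInstance, ?_, fun r hr => ?_, fun r s hr hs hne => ?_⟩
  · rw [← Nat.card_congr e.toEquiv, hcard]
    have h1 : N < 2 ^ (144 * (N + 1)) :=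
      lt_of_lt_of_le (by omega : N < 144 * (N + 1)) (Nat.lt_two_pow_self).le
    exact lt_of_lt_of_le h1 (Nat.le_mul_of_pos_right _ (by norm_num))
  · rw [← Nat.card_congr e.toEquiv]
    exact hprimes r hr
  · rw [← hadj r s hr hs hne]
    exact ((SamePrimeGraph.of_mulEquiv e).2 r s hr hs hne).symm

end CfsgLib.Recog.GF8
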