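import Cfsg.Agent.Lib.Components.Local
import Cfsg.Agent.Lib.Components.GenFittingSub
import Cfsg.Agent.Lib.Solvable.CoprimeAction

/-!
The group theoretic core of the Thompson–Wielandt theorem.

Two distinct conjugate subgroups `A`, `B` of a finite group, each of which is the normalizer of each
of its nontrivial normal subgroups, and nontrivial subgroups `R ≤ A ∩ B` normal in `A`, subnormal in
`B`, and `R' ≤ A ∩ B` normal in `B`, subnormal in `A`.  Then `F*(A) = O_p(A)` for a prime `p`, and
`O_p(R)`, `O_p(R')` are nontrivial.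
-/

set_option autoImplicit false
set_option linter.style.haveILetI false
set_option linter.unusedVariables false
set_option linter.unusedSectionVars false

namespace CfsgLib.Recog.TW

open Subgroup
open CfsgLib.Components

variable {G : Type*} [Group G]

/-- `O_t(H)` as a subgroup of the ambient group. -/
def O (t : ℕ) (H : Subgroup G) : Subgroup G := (Cfsg.pCore t ↥H).map H.subtype

theorem O_le (t : ℕ) (H : Subgroup G) : O t H ≤ H := map_subtype_le _

theorem O_map_conj (t : ℕ) (H : Subgroup G) (g : G) :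
    (O t H).map (MulAut.conj g).toMonoidHom = O t (H.map (MulAut.conj g).toMonoidHom) := by
  show _ = (Cfsg.pCore t ↥(H.map (MulAut.conj g).toMonoidHom)).map _
  have e := pCore_map_equiv t ((MulAut.conj g).subgroupMap H)
  erw [← e]
  rw [O, Subgroup.map_map]
  erw [Subgroup.map_map]
  rfl

theorem mem_normalizer_of_map_conj [Finite G] {U : Subgroup G} {g : G}
    (h : ∀ x ∈ U, g * x * g⁻¹ ∈ U) : g ∈ normalizer (U : Set G) := by
  have h1 : U.map (MulAut.conj g).toMonoidHom = U := by
    refine eq_of_le_of_card_ge ?_ (card_map_conj g U).ge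
    rintro _ ⟨x, hx, rfl⟩
    exact h x hx
  rw [mem_normalizer_iff]
  intro x
  refine ⟨h x, fun hx => ?_⟩
  rw [← h1] at hx
  obtain ⟨y, hy, hyx⟩ := hx
  have : y = x := (MulAut.conj g).injective hyx
  exact this ▸ hy

theorem mem_normalizer_of_map_eq {U : Subgroup G} {g : G}
    (h : U.map (MulAut.conj g).toMonoidHom = U) : g ∈ normalizer (U : Set G) := by
  rw [mem_normalizer_iff]
  intro x
  constructor
  · intro hx
    exact h.le ⟨x, hx, rfl⟩
  · intro hx
    rw [← h] at hx
    obtain ⟨y, hy, hyx⟩ := hx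
    have : y = x := (MulAut.conj g).injective hyx
    exact this ▸ hy

theorem normalizer_le_normalizer_O (t : ℕ) (H : Subgroup G) :
    normalizer (H : Set G) ≤ normalizer (O t H : Set G) := fun g hg =>
  mem_normalizer_of_map_eq (by rw [O_map_conj, map_conj_eq_of_mem_normalizer hg])

theorem le_normalizer_O (t : ℕ) (H : Subgroup G) : H ≤ normalizer (O t H : Set G) :=
  le_normalizer.trans (normalizer_le_normalizer_O t H)

theorem isPGroup_O [Finite G] (t : ℕ) (H : Subgroup G) : IsPGroup t ↥(O t H) :=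
  (isPGroup_pCore t).map _

theorem le_O_of_isSubnormal [Finite G] {t : ℕ} {N H : Subgroup G} (hNH : N ≤ H)
    (hsn : (N.subgroupOf H).IsSubnormal) (hp : IsPGroup t ↥N) : N ≤ O t H := by
  rw [O, ← map_subgroupOf_eq_of_le hNH]
  exact map_mono (le_pCore_of_isSubnormal hsn (hp.comap_of_injective _ H.subtype_injective))

theorem le_O [Finite G] {t : ℕ} {N H : Subgroup G} (hNH : N ≤ H)
    (hn : H ≤ normalizer (N : Set G)) (hp : IsPGroup t ↥N) : N ≤ O t H :=
  le_O_of_isSubnormal hNH ((normal_subgroupOf_iff_le_normalizer hNH).mpr hn).isSubnormal hp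

theorem O_ne_bot_iff (t : ℕ) (H : Subgroup G) : O t H ≠ ⊥ ↔ Cfsg.pCore t ↥H ≠ ⊥ := by
  rw [O, Ne, map_eq_bot_iff_of_injective _ H.subtype_injective]

theorem commute_of_coprime {s t : ℕ} [Fact s.Prime] [Fact t.Prime] (hne : s ≠ t)
    {X Y : Subgroup G} (hX : IsPGroup s ↥X) (hY : IsPGroup t ↥Y)
    (hXY : X ≤ normalizer (Y : Set G)) (hYX : Y ≤ normalizer (X : Set G)) :
    X ≤ centralizer (Y : Set G) := by
  refine le_centralizer_of_commutator_eq_bot (le_bot_iff.mp ?_)
  rw [← disjoint_iff.mp (IsPGroup.disjoint_of_ne s t hne X Y hX hY)]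
  exact le_inf (le_normalizer_iff_commutator_le_left.mp hYX)
    (le_normalizer_iff_commutator_le_right.mp hXY)

theorem centralizer_le_normalizer (U : Subgroup G) :
    centralizer (U : Set G) ≤ normalizer (U : Set G) :=
  le_normalizer_of_commutator_eq_bot (commutator_eq_bot_iff_le_centralizer.mpr le_rfl)

/-- `(ru)^n ∈ R u^n` when `u` normalizes `R`. -/
theorem mul_pow_mem_coset {R : Subgroup G} {r u : G} (hr : r ∈ R)
    (hu : u ∈ normalizer (R : Set G)) (n : ℕ) : ∃ r' ∈ R, (r * u) ^ n = r' * u ^ n := by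
  induction n with
  | zero => exact ⟨1, R.one_mem, by simp⟩
  | succ n ih =>
    obtain ⟨r', hr', he⟩ := ih
    refine ⟨r' * (u ^ n * r * (u ^ n)⁻¹), R.mul_mem hr'
      ((mem_normalizer_iff.mp (Subgroup.pow_mem _ hu n) r).mp hr), ?_⟩
    rw [pow_succ, he, pow_succ]
    group

/-- A `p'`-element of `R U`, `U` a `p`-group normalizing `R`, lies in `R`. -/
theorem mem_of_coprime_mul [Finite G] {p : ℕ} [Fact p.Prime] {R U : Subgroup G}
    (hU : IsPGroup p ↥U) (hUR : U ≤ normalizer (R : Set G)) {r u : G} (hr : r ∈ R)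
    (hu : u ∈ U) (hcop : (orderOf (r * u)).Coprime p) : r * u ∈ R := by
  obtain ⟨r', hr', he⟩ := mul_pow_mem_coset hr (hUR hu) (orderOf (r * u))
  rw [pow_orderOf_eq_one] at he
  have h1 : u ^ orderOf (r * u) ∈ R := by
    rw [eq_inv_of_mul_eq_one_right he.symm]
    exact R.inv_mem hr'
  obtain ⟨k, hk⟩ := hU ⟨u, hu⟩
  have hk' : u ^ p ^ k = 1 := congrArg Subtype.val hk
  have hdvd : orderOf u ∣ p ^ k := orderOf_dvd_of_pow_eq_one hk'
  have h2 : (orderOf (r * u)).Coprime (orderOf u) :=
    Nat.Coprime.coprime_dvd_right hdvd (hcop.pow_right k)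
  obtain ⟨m, hm⟩ := exists_pow_eq_self_of_coprime h2
  have : u ∈ R := hm ▸ R.pow_mem h1 m
  exact R.mul_mem hr this

/-- A perfect subgroup centralizing the components and all `O_t` is trivial. -/
theorem eq_bot_of_centralizes [Finite G] {K : Subgroup G} (hK : ⁅K, K⁆ = K)
    (hcomp : ∀ L : Subgroup G, Cfsg.IsComponent L → K ≤ centralizer (L : Set G))
    (hcore : ∀ t : ℕ, t.Prime → K ≤ centralizer (Cfsg.pCore t G : Set G)) : K = ⊥ := by
  have h1 : Cfsg.generalizedFittingSubgroup G ≤ centralizer (K : Set G) :=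
    sup_le (sSup_le fun L hL => le_centralizer_iff.mp (hcomp L hL))
      (fitting_le_of_pCore_le fun t ht => le_centralizer_iff.mp (hcore t ht))
  have h2 : K ≤ centralizer (K : Set G) :=
    ((le_centralizer_iff.mp h1).trans centralizer_genFitting_le).trans h1
  rw [← hK, commutator_eq_bot_iff_le_centralizer]
  exact h2

/-- The subgroup generated by the `t'`-elements of `C_A(O_t(A))`. -/
def W (t : ℕ) (A : Subgroup G) : Subgroup G :=
  closure {x : G | x ∈ A ∧ x ∈ centralizer (O t A : Set G) ∧ (orderOf x).Coprime t}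

theorem W_map_conj_le (t : ℕ) (A : Subgroup G) (g : G) :
    (W t A).map (MulAut.conj g).toMonoidHom ≤ W t (A.map (MulAut.conj g).toMonoidHom) := by
  rw [W, MonoidHom.map_closure]
  refine closure_mono ?_
  rintro _ ⟨x, ⟨hx, hxc, hxo⟩, rfl⟩
  refine ⟨⟨x, hx, rfl⟩, ?_, ?_⟩
  · rw [← O_map_conj]
    rintro _ ⟨y, hy, rfl⟩
    rw [← map_mul, ← map_mul, hxc y hy]
  · rwa [show orderOf ((MulAut.conj g).toMonoidHom x) = orderOf x from MulEquiv.orderOf_eq _ _]

/-- The hypotheses of the Thompson–Wielandt theorem. -/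
structure Config (A B R R' : Subgroup G) : Prop where
  ne : A ≠ B
  maxA : ∀ U : Subgroup G, U ≠ ⊥ → U ≤ A → A ≤ normalizer (U : Set G) →
    normalizer (U : Set G) ≤ A
  maxB : ∀ U : Subgroup G, U ≠ ⊥ → U ≤ B → B ≤ normalizer (U : Set G) →
    normalizer (U : Set G) ≤ B
  conj : ∃ g : G, A.map (MulAut.conj g).toMonoidHom = B
  R_ne : R ≠ ⊥
  R_le : R ≤ A ⊓ B
  R_norm : A ≤ normalizer (R : Set G)
  R_sn : (R.subgroupOf B).IsSubnormal
  R'_ne : R' ≠ ⊥
  R'_le : R' ≤ A ⊓ B
  R'_norm : B ≤ normalizer (R' : Set G)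
  R'_sn : (R'.subgroupOf A).IsSubnormal

namespace Config

variable {A B R R' : Subgroup G}

theorem symm (h : Config A B R R') : Config B A R' R := by
  refine ⟨h.ne.symm, h.maxB, h.maxA, ?_, h.R'_ne, ?_, h.R'_norm, h.R'_sn, h.R_ne, ?_, h.R_norm,
    h.R_sn⟩
  · obtain ⟨g, hg⟩ := h.conj
    refine ⟨g⁻¹, ?_⟩
    rw [← hg, Subgroup.map_map]
    convert Subgroup.map_id A using 2
    ext x
    simp [mul_assoc]
  · rw [inf_comm]; exact h.R'_le
  · rw [inf_comm]; exact h.R_le

/-- No nontrivial subgroup is normal in both `A` and `B`. -/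
theorem eq_bot_of_normal (h : Config A B R R') {U : Subgroup G} (hA : U ≤ A) (hB : U ≤ B)
    (hnA : A ≤ normalizer (U : Set G)) (hnB : B ≤ normalizer (U : Set G)) : U = ⊥ := by
  by_contra hne
  exact h.ne (le_antisymm (hnA.trans (h.maxB U hne hB hnB)) (hnB.trans (h.maxA U hne hA hnA)))

variable [Finite G]

theorem component_le (h : Config A B R R') {L : Subgroup G} (hLB : L ≤ B)
    (hL : Cfsg.IsComponent (L.subgroupOf B)) : L ≤ A := by
  rcases component_le_or_commutator hL h.R_sn with h1 | h1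
  · have hLR : L ≤ R := fun x hx => h1 (show (⟨x, hLB hx⟩ : ↥B) ∈ L.subgroupOf B from hx)
    exact hLR.trans (h.R_le.trans inf_le_left)
  · exact ((le_centralizer_of_commutator_eq_bot
      ((commutator_subgroupOf_eq_bot_iff hLB (h.R_le.trans inf_le_right)).mp h1)).trans
      (centralizer_le_normalizer R)).trans (h.maxA R h.R_ne (h.R_le.trans inf_le_left) h.R_norm)

theorem O_R_le_O_B (h : Config A B R R') (p : ℕ) : O p R ≤ O p B := by
  refine le_O_of_isSubnormal ((O_le p R).trans (h.R_le.trans inf_le_right)) ?_ (isPGroup_O p R)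
  have hn : ((O p R).subgroupOf R).Normal :=
    (normal_subgroupOf_iff_le_normalizer (O_le p R)).mpr (le_normalizer_O p R)
  refine IsSubnormal.trans (fun x hx => O_le p R hx) ?_ h.R_sn
  have hle : ((O p R).subgroupOf B).subgroupOf (R.subgroupOf B) =
      ((O p R).subgroupOf R).comap
        (subgroupOfEquivOfLe (h.R_le.trans inf_le_right)).toMonoidHom := by
    ext x; rfl
  rw [hle]
  exact (hn.comap _).isSubnormal

theorem O_R_le_O_A (h : Config A B R R') (p : ℕ) : O p R ≤ O p A :=
  le_O ((O_le p R).trans (h.R_le.trans inf_le_left))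
    (h.R_norm.trans (normalizer_le_normalizer_O p R)) (isPGroup_O p R)

theorem le_of_centralizes (h : Config A B R R') {p : ℕ} {X : Subgroup G} (hne : O p R ≠ ⊥)
    (hX : X ≤ centralizer (O p R : Set G)) : X ≤ A :=
  (hX.trans (centralizer_le_normalizer _)).trans (h.maxA _ hne
    ((O_le p R).trans (h.R_le.trans inf_le_left))
    (h.R_norm.trans (normalizer_le_normalizer_O p R)))

theorem O_B_le_A (h : Config A B R R') {p t : ℕ} (hp : p.Prime) (ht : t.Prime) (hne : t ≠ p)
    (hR : O p R ≠ ⊥) : O t B ≤ A := by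
  haveI := Fact.mk hp
  haveI := Fact.mk ht
  exact h.le_of_centralizes hR ((commute_of_coprime hne (isPGroup_O t B) (isPGroup_O p B)
    ((O_le t B).trans (le_normalizer_O p B)) ((O_le p B).trans (le_normalizer_O t B))).trans
      (centralizer_le (h.O_R_le_O_B p)))

theorem exists_component_or_core {H : Subgroup G} (hH : H ≠ ⊥) :
    (∃ L : Subgroup ↥H, Cfsg.IsComponent L) ∨ ∃ p : ℕ, p.Prime ∧ O p H ≠ ⊥ := by
  by_contra hcon
  push Not at hcon
  haveI : Nontrivial ↥H := (nontrivial_iff_ne_bot H).mpr hH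
  refine genFitting_ne_bot (G := ↥H) ?_
  rw [genFitting_eq_fitting_of_layer_eq_bot (layer_eq_bot_iff.mpr hcon.1), eq_bot_iff]
  refine fitting_le_of_pCore_le fun p hp => le_of_eq ?_
  exact (map_eq_bot_iff_of_injective _ H.subtype_injective).mp (hcon.2 p hp)

theorem component_of_R (h : Config A B R R') {L : Subgroup ↥R} (hL : Cfsg.IsComponent L) :
    Cfsg.IsComponent ((L.map R.subtype).subgroupOf B) := by
  have hRB := h.R_le.trans inf_le_right
  have h1 := component_map_equiv (subgroupOfEquivOfLe hRB).symm hL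
  have h2 := component_map_subtype h.R_sn h1
  convert h2 using 1
  ext x
  constructor
  · rintro ⟨y, hy, hyx⟩
    refine ⟨⟨x, show (x : G) ∈ R from Eq.subst (motive := fun v => v ∈ R) hyx y.2⟩,
      ⟨y, hy, ?_⟩, rfl⟩
    exact Subtype.ext (Subtype.ext hyx)
  · rintro ⟨_, ⟨y, hy, rfl⟩, rfl⟩
    exact ⟨y, hy, rfl⟩

theorem exists_exceptional (h : Config A B R R') :
    ∃ p : ℕ, p.Prime ∧ (O p R ≠ ⊥ ∨ O p B ≤ A) ∧ ∀ t : ℕ, t.Prime → t ≠ p → O t B ≤ A := by
  by_cases hc : ∃ p : ℕ, p.Prime ∧ O p R ≠ ⊥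
  · obtain ⟨p, hp, hne⟩ := hc
    exact ⟨p, hp, Or.inl hne, fun t ht htp => h.O_B_le_A hp ht htp hne⟩
  · rcases exists_component_or_core h.R_ne with ⟨L, hL⟩ | h1
    · set U := (Cfsg.layer ↥R).map R.subtype with hU
      have hUne : U ≠ ⊥ := by
        rw [hU, Ne, map_eq_bot_iff_of_injective _ R.subtype_injective]
        exact fun hb => layer_eq_bot_iff.mp hb L hL
      have hUR : U ≤ R := map_subtype_le _
      have hUn : A ≤ normalizer (U : Set G) := by
        intro a ha
        refine mem_normalizer_of_map_conj fun x hx => ?_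
        obtain ⟨y, hy, rfl⟩ := hx
        have hm := map_conj_eq_of_mem_normalizer (h.R_norm ha)
        have h2 := layer_map_equiv (((MulAut.conj a).subgroupMap R).trans
          (MulEquiv.subgroupCongr hm))
        exact ⟨_, h2.le ⟨y, hy, rfl⟩, rfl⟩
      have key : ∀ t : ℕ, t.Prime → O t B ≤ A := by
        intro t ht
        haveI := Fact.mk ht
        refine (?_ : O t B ≤ centralizer (U : Set G)).trans ((centralizer_le_normalizer U).trans
          (h.maxA U hUne (hUR.trans (h.R_le.trans inf_le_left)) hUn))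
        rw [hU, le_centralizer_iff, map_le_iff_le_comap]
        refine sSup_le fun M hM => ?_
        rw [← map_le_iff_le_comap]
        have hMB := component_of_R h hM
        have h3 := le_centralizer_of_commutator_eq_bot (component_commutator_fitting hMB)
        intro x hx
        rintro _ ⟨y, hy, rfl⟩
        have hxB : x ∈ B := (h.R_le ((map_subtype_le M) hx)).2
        exact congrArg Subtype.val (h3 (show (⟨x, hxB⟩ : ↥B) ∈ (M.map R.subtype).subgroupOf B
          from hx) y (pCore_le_fitting t hy))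
      exact ⟨2, Nat.prime_two, Or.inr (key 2 Nat.prime_two), fun t ht _ => key t ht⟩
    · exact absurd h1 hc

theorem component_inf (h : Config A B R R') {K : Subgroup G} (hKA : K ≤ A)
    (hK : Cfsg.IsComponent (K.subgroupOf A)) (hKB : K ≤ B) :
    Cfsg.IsComponent (K.subgroupOf (A ⊓ B)) := by
  have h0 : K.subgroupOf A ≤ (A ⊓ B).subgroupOf A := fun x hx => ⟨x.2, hKB hx⟩
  have h2 := component_map_equiv (subgroupOfEquivOfLe (inf_le_left : A ⊓ B ≤ A))
    (component_subgroupOf hK h0)
  convert h2 using 1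
  ext x
  constructor
  · intro hx
    exact ⟨⟨⟨x, x.2.1⟩, x.2⟩, hx, Subtype.ext rfl⟩
  · rintro ⟨y, hy, rfl⟩
    exact hy

theorem component_transfer (h : Config A B R R') {K : Subgroup G} (hKA : K ≤ A)
    (hK : Cfsg.IsComponent (K.subgroupOf A)) :
    K ≤ B ∧ Cfsg.IsComponent (K.subgroupOf B) := by
  have hKB : K ≤ B := h.symm.component_le hKA hK
  refine ⟨hKB, ?_⟩
  by_contra hn
  have hKC : K ≤ A ⊓ B := le_inf hKA hKB
  have hKc := h.component_inf hKA hK hKB
  have hperf : ⁅K, K⁆ = K := by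
    have := congrArg (Subgroup.map A.subtype) (component_commutator_self hK)
    rwa [map_commutator, map_subgroupOf_eq_of_le hKA] at this
  have hsolv : ∀ (t : ℕ) [Fact t.Prime] (U : Subgroup G), U ≤ A ⊓ B → IsPGroup t ↥U →
      A ⊓ B ≤ normalizer (U : Set G) → ⁅K, U⁆ = ⊥ := by
    intro t _ U hU hp hUn
    refine (commutator_subgroupOf_eq_bot_iff hKC hU).mp (component_commutator_solvable hKc ?_ ?_)
    · haveI := ((hp.comap_of_injective (A ⊓ B).subtype (A ⊓ B).subtype_injective)).isNilpotent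
      exact inferInstanceAs (Group.IsSolvable ↥(U.comap (A ⊓ B).subtype))
    · haveI : (U.subgroupOf (A ⊓ B)).Normal :=
        (normal_subgroupOf_iff_le_normalizer hU).mpr hUn
      exact le_normalizer_of_normal
  obtain ⟨p, hp, hexc, hle⟩ := h.exists_exceptional
  haveI := Fact.mk hp
  have hkO : ∀ t : ℕ, t.Prime → ⁅K, O t B ⊓ A⁆ = ⊥ := by
    intro t ht
    haveI := Fact.mk ht
    refine hsolv t _ (le_inf inf_le_right (inf_le_left.trans (O_le t B)))
      ((isPGroup_O t B).to_le inf_le_left) ?_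
    exact (le_inf (inf_le_right.trans (le_normalizer_O t B))
      (inf_le_left.trans le_normalizer)).trans inf_normalizer_le_normalizer_inf
  have hO : ∀ t : ℕ, t.Prime → K ≤ centralizer (O t B : Set G) := by
    intro t ht
    haveI := Fact.mk ht
    by_cases htA : O t B ≤ A
    · have := hkO t ht
      rw [inf_eq_left.mpr htA] at this
      exact le_centralizer_of_commutator_eq_bot this
    have htp : t = p := by
      by_contra hne
      exact htA (hle t ht hne)
    subst htp
    have hR0 : O t R ≠ ⊥ := hexc.resolve_right htA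
    have hKR : K ≤ centralizer (O t R : Set G) :=
      le_centralizer_of_commutator_eq_bot (hsolv t (O t R) ((O_le t R).trans h.R_le)
        (isPGroup_O t R) ((inf_le_left.trans h.R_norm).trans (normalizer_le_normalizer_O t R)))
    refine le_of_coprime_orderOf_mem (p := t) hperf fun x hx hcop => ?_
    refine CfsgLib.Solvable.thompson_pxq (Q := zpowers x) (isPGroup_O t R) ?_ (isPGroup_O t B)
      ?_ ?_ ?_ ?_ (mem_zpowers x)
    · rwa [Nat.card_zpowers]
    · exact le_centralizer_iff.mp ((zpowers_le).mpr (hKR hx))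
    · exact (h.O_R_le_O_B t).trans le_normalizer
    · exact ((zpowers_le).mpr (hKB hx)).trans (le_normalizer_O t B)
    · refine le_centralizer_iff.mp ((zpowers_le).mpr fun v hv => ?_)
      have hvA : v ∈ A := (h.le_of_centralizes hR0
        (inf_le_right : O t B ⊓ centralizer (O t R : Set G) ≤ _)) hv
      exact le_centralizer_of_commutator_eq_bot (hkO t ht) hx v ⟨hv.1, hvA⟩
  have hbot : K.subgroupOf B = ⊥ := by
    refine eq_bot_of_centralizes ?_ (fun L hL => ?_) (fun t ht x hx y hy => ?_)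
    · apply map_injective B.subtype_injective
      rw [map_commutator, map_subgroupOf_eq_of_le hKB, hperf]
    · have hLK : L.map B.subtype ≠ K := fun he =>
        hn (by rw [← he, Subgroup.subgroupOf, comap_map_eq_self_of_injective B.subtype_injective];
               exact hL)
      have hLB : L.map B.subtype ≤ B := map_subtype_le _
      have hL' : Cfsg.IsComponent ((L.map B.subtype).subgroupOf B) := by
        rw [Subgroup.subgroupOf, comap_map_eq_self_of_injective B.subtype_injective]; exact hL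
      have hLA : L.map B.subtype ≤ A := h.component_le hLB hL'
      have hLc : Cfsg.IsComponent ((L.map B.subtype).subgroupOf (A ⊓ B)) := by
        have := h.symm.component_inf hLB hL' hLA
        rwa [inf_comm] at this
      have hne : K.subgroupOf (A ⊓ B) ≠ (L.map B.subtype).subgroupOf (A ⊓ B) := fun he => by
        have h1 := subgroupOf_inj.mp he
        rw [inf_eq_left.mpr hKC, inf_eq_left.mpr (le_inf hLA hLB)] at h1
        exact hLK h1.symm
      · have h1 := (commutator_subgroupOf_eq_bot_iff hKC (le_inf hLA hLB)).mp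
          (component_commutator_of_ne hKc hLc hne)
        intro x hx y hy
        exact Subtype.ext (le_centralizer_of_commutator_eq_bot h1 hx y ⟨y, hy, rfl⟩)
    · exact Subtype.ext (hO t ht hx (y : G) ⟨y, hy, rfl⟩)
  exact component_ne_bot hK (le_bot_iff.mp (by
    rw [subgroupOf_eq_bot] at hbot
    intro x hx
    have : (x : G) ∈ K ⊓ B := ⟨hx, hKB hx⟩
    rw [disjoint_iff.mp hbot] at this
    exact Subtype.ext this))

theorem layer_map_le (h : Config A B R R') :
    (Cfsg.layer ↥A).map A.subtype ≤ (Cfsg.layer ↥B).map B.subtype := by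
  rw [map_le_iff_le_comap]
  refine sSup_le fun K hK => ?_
  rw [← map_le_iff_le_comap]
  have hK' : Cfsg.IsComponent ((K.map A.subtype).subgroupOf A) := by
    rw [Subgroup.subgroupOf, comap_map_eq_self_of_injective A.subtype_injective]; exact hK
  obtain ⟨hB, hc⟩ := h.component_transfer (map_subtype_le _) hK'
  rw [← map_subgroupOf_eq_of_le hB]
  exact map_mono (component_le_layer hc)

theorem le_normalizer_map_of_char {H : Subgroup G} (C : Subgroup ↥H) [C.Normal] :
    H ≤ normalizer (C.map H.subtype : Set G) := by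
  intro x hx
  refine mem_normalizer_of_map_conj fun y hy => ?_
  obtain ⟨z, hz, rfl⟩ := hy
  exact ⟨⟨x, hx⟩ * z * ⟨x, hx⟩⁻¹, Normal.conj_mem inferInstance z hz _, rfl⟩

theorem card_layer_eq (h : Config A B R R') :
    Nat.card ↥(Cfsg.layer ↥A) = Nat.card ↥(Cfsg.layer ↥B) := by
  obtain ⟨g, hg⟩ := h.conj
  rw [← layer_map_equiv (((MulAut.conj g).subgroupMap A).trans (MulEquiv.subgroupCongr hg))]
  exact (card_map_of_injective (MulEquiv.injective _)).symm

theorem layer_eq_bot (h : Config A B R R') : Cfsg.layer ↥A = ⊥ := by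
  have he : (Cfsg.layer ↥A).map A.subtype = (Cfsg.layer ↥B).map B.subtype := by
    refine eq_of_le_of_card_ge h.layer_map_le (le_of_eq ?_)
    rw [card_map_of_injective B.subtype_injective, card_map_of_injective A.subtype_injective,
      h.card_layer_eq]
  rw [← map_eq_bot_iff_of_injective _ A.subtype_injective]
  refine h.eq_bot_of_normal (map_subtype_le _) (he ▸ map_subtype_le _)
    (le_normalizer_map_of_char _) ?_
  rw [he]
  exact le_normalizer_map_of_char _

theorem exists_core_ne_bot (h : Config A B R R') : ∃ p : ℕ, p.Prime ∧ O p R ≠ ⊥ := by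
  rcases exists_component_or_core h.R_ne with ⟨L, hL⟩ | h1
  · exact absurd (h.component_of_R hL) (layer_eq_bot_iff.mp h.symm.layer_eq_bot _)
  · exact h1

/-- Every `t'`-element of `C_B(O_t(B))` centralizes `O_t(A)`, if `O_t(A) ≤ B`. -/
theorem mem_centralizer_O (h : Config A B R R') {p t : ℕ} [Fact p.Prime] [Fact t.Prime]
    (hR : O p R ≠ ⊥) (hPB : O t A ≤ B) {x : G} (hxB : x ∈ B)
    (hxc : x ∈ centralizer (O t B : Set G)) (hxo : (orderOf x).Coprime t) :
    x ∈ centralizer (O t A : Set G) := by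
  classical
  have hPA : O t A ≤ A := O_le t A
  -- `O_t(A)` centralizes `O_s(B)` for `s ≠ t`
  have hP : ∀ s : ℕ, s.Prime → s ≠ t → O t A ≤ centralizer (O s B : Set G) := by
    intro s hs hst
    haveI := Fact.mk hs
    have hPn : O t A ≤ normalizer (O s B ⊓ A : Set G) :=
      (le_inf (hPB.trans (le_normalizer_O s B)) (hPA.trans le_normalizer)).trans
        inf_normalizer_le_normalizer_inf
    have h1 : O t A ≤ centralizer ((O s B ⊓ A : Subgroup G) : Set G) :=
      commute_of_coprime hst.symm (isPGroup_O t A) ((isPGroup_O s B).to_le inf_le_left) hPn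
        (inf_le_right.trans (le_normalizer_O t A))
    by_cases hsA : O s B ≤ A
    · rwa [inf_eq_left.mpr hsA] at h1
    have hsp : s = p := by
      by_contra hne
      exact hsA (h.O_B_le_A (Fact.out) hs hne hR)
    subst hsp
    refine CfsgLib.Solvable.thompson_pxq (isPGroup_O s R) ?_ (isPGroup_O s B) ?_
      ((h.O_R_le_O_B s).trans le_normalizer) (hPB.trans (le_normalizer_O s B)) ?_
    · obtain ⟨n, hn⟩ := (isPGroup_O t A).exists_card_eq
      rw [hn]
      exact ((Nat.coprime_primes Fact.out Fact.out).mpr hst.symm).pow_left n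
    · exact le_centralizer_iff.mp ((commute_of_coprime hst.symm (isPGroup_O t A) (isPGroup_O s A)
        (hPA.trans (le_normalizer_O s A)) ((O_le s A).trans (le_normalizer_O t A))).trans
        (centralizer_le (h.O_R_le_O_A s)))
    · exact (le_inf inf_le_left (h.le_of_centralizes hR inf_le_right)).trans
        (le_centralizer_iff.mp h1)
  intro y hy
  have hyB : y ∈ B := hPB hy
  set z := y * x * y⁻¹ * x⁻¹ with hz
  have hzB : z ∈ B := B.mul_mem (B.mul_mem (B.mul_mem hyB hxB) (B.inv_mem hyB)) (B.inv_mem hxB)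
  -- `T`, the join of the `O_s(B)`, `s ≠ t`
  set T : Subgroup G := ⨆ s : {s : ℕ // s.Prime ∧ s ≠ t}, O s B with hT
  have hTO : ∀ s : ℕ, s.Prime → s ≠ t → O s B ≤ T := fun s hs hst =>
    le_iSup_of_le (⟨s, hs, hst⟩ : {s : ℕ // s.Prime ∧ s ≠ t}) le_rfl
  have hyT : y ∈ centralizer (T : Set G) := by
    have : T ≤ centralizer ({y} : Set G) := iSup_le fun s v hv => by
      rintro _ rfl
      exact (hP s.1 s.2.1 s.2.2 hy v hv).symm
    intro v hv
    exact (this hv y rfl).symm
  have hQT : ⁅O t B, T⁆ = ⊥ := by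
    rw [commutator_eq_bot_iff_le_centralizer, le_centralizer_iff]
    refine iSup_le fun s => ?_
    haveI := Fact.mk s.2.1
    exact commute_of_coprime s.2.2 (isPGroup_O _ B) (isPGroup_O t B)
      ((O_le _ B).trans (le_normalizer_O t B)) ((O_le t B).trans (le_normalizer_O _ B))
  have hFB : (Cfsg.fittingSubgroup ↥B).map B.subtype ≤ O t B ⊔ T := by
    rw [map_le_iff_le_comap]
    refine fitting_le_of_pCore_le fun s hs => ?_
    rw [← map_le_iff_le_comap]
    by_cases hst : s = t
    · subst hst; exact le_sup_left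
    · exact (hTO s hs hst).trans le_sup_right
  have hzQ : z ∈ centralizer (O t B : Set G) := by
    have h1 : y * x * y⁻¹ ∈ centralizer (O t B : Set G) := by
      intro v hv
      have hv' : y⁻¹ * v * y ∈ O t B :=
        (mem_normalizer_iff''.mp (le_normalizer_O t B hyB) v).mp hv
      have := hxc (y⁻¹ * v * y) hv'
      calc v * (y * x * y⁻¹) = y * ((y⁻¹ * v * y) * x) * y⁻¹ := by group
        _ = y * (x * (y⁻¹ * v * y)) * y⁻¹ := by rw [this]
        _ = y * x * y⁻¹ * v := by group
    exact Subgroup.mul_mem _ h1 (Subgroup.inv_mem _ hxc)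
  have hzs : ∀ s : ℕ, s.Prime → s ≠ t → z ∈ centralizer (O s B : Set G) := by
    intro s hs hst
    have h1 : x * y⁻¹ * x⁻¹ ∈ centralizer (O s B : Set G) := by
      intro v hv
      have hv' : x⁻¹ * v * x ∈ O s B :=
        (mem_normalizer_iff''.mp (le_normalizer_O s B hxB) v).mp hv
      have := Subgroup.inv_mem _ (hP s hs hst hy) (x⁻¹ * v * x) hv'
      calc v * (x * y⁻¹ * x⁻¹) = x * ((x⁻¹ * v * x) * y⁻¹) * x⁻¹ := by group
        _ = x * (y⁻¹ * (x⁻¹ * v * x)) * x⁻¹ := by rw [this]
        _ = x * y⁻¹ * x⁻¹ * v := by group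
    have := Subgroup.mul_mem _ (hP s hs hst hy) h1
    rw [hz, mul_assoc, mul_assoc, ← mul_assoc x]
    exact this
  have hzF : z ∈ O t B ⊔ T := by
    refine hFB ⟨⟨z, hzB⟩, ?_, rfl⟩
    refine (centralizer_fitting_le_iff (G := ↥B)).mpr h.symm.layer_eq_bot ?_
    have : Cfsg.fittingSubgroup ↥B ≤ centralizer ({⟨z, hzB⟩} : Set ↥B) := by
      refine fitting_le_of_pCore_le fun s hs v hv => ?_
      rintro _ rfl
      by_cases hst : s = t
      · subst hst; exact Subtype.ext (hzQ (v : G) ⟨v, hv, rfl⟩).symm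
      · exact Subtype.ext (hzs s hs hst (v : G) ⟨v, hv, rfl⟩).symm
    exact fun v hv => (this hv _ rfl).symm
  obtain ⟨q₀, hq₀, r, hr, hqr⟩ :=
    CfsgLib.GenFittingSub.exists_mul_of_mem_sup_of_commute hQT hzF
  have hcomm : ∀ v ∈ O t B, r * v = v * r := fun v hv =>
    (le_centralizer_of_commutator_eq_bot hQT hv r hr)
  have hpow : ∀ n : ℕ, ∃ q ∈ O t B, y ^ n * x * (y ^ n)⁻¹ * x⁻¹ = q * r ^ n := by
    intro n
    induction n with
    | zero => exact ⟨1, one_mem _, by simp⟩
    | succ n ih =>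
      obtain ⟨q, hq, he⟩ := ih
      refine ⟨y * q * y⁻¹ * q₀,
        mul_mem ((mem_normalizer_iff.mp (le_normalizer_O t B hyB) q).mp hq) hq₀, ?_⟩
      have hyr : y * r ^ n = r ^ n * y :=
        (hyT (r ^ n) (T.pow_mem hr n)).symm
      have hrq : r ^ n * q₀ = q₀ * r ^ n := (Commute.pow_left (hcomm q₀ hq₀) n).eq
      calc y ^ (n + 1) * x * (y ^ (n + 1))⁻¹ * x⁻¹
          = y * (y ^ n * x * (y ^ n)⁻¹ * x⁻¹) * y⁻¹ * (y * x * y⁻¹ * x⁻¹) := by
            rw [pow_succ']; group
        _ = y * q * (r ^ n * y⁻¹) * z := by rw [he, ← hz]; group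
        _ = y * q * (y⁻¹ * r ^ n) * (q₀ * r) := by
            rw [hqr]
            congr 2
            rw [eq_inv_mul_iff_mul_eq, ← mul_assoc, hyr, mul_inv_cancel_right]
        _ = y * q * y⁻¹ * (r ^ n * q₀) * r := by group
        _ = y * q * y⁻¹ * q₀ * r ^ (n + 1) := by rw [hrq, pow_succ]; group
  obtain ⟨k, hk⟩ := isPGroup_O t A ⟨y, hy⟩
  have hk' : y ^ t ^ k = 1 := congrArg Subtype.val hk
  obtain ⟨q, hq, he⟩ := hpow (t ^ k)
  rw [hk', show (1 : G) * x * 1⁻¹ * x⁻¹ = 1 by group] at he
  have hrQ : r ^ t ^ k ∈ O t B := by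
    rw [eq_inv_of_mul_eq_one_right he.symm]
    exact inv_mem hq
  obtain ⟨j, hj⟩ := isPGroup_O t B ⟨_, hrQ⟩
  have hr1 : r ^ t ^ (k + j) = 1 := by
    rw [pow_add, pow_mul]; exact congrArg Subtype.val hj
  have hzQ' : z ∈ O t B := by
    -- `r` has `t`-power order and `T` is a `t'`-group
    have hrT : (orderOf r).Coprime t := by
      have hTcop : (Nat.card ↥T).Coprime t := by
        have hTn : T = (⨆ s : {s : ℕ // s.Prime ∧ s ≠ t}, Cfsg.pCore s.1 ↥B).map B.subtype := by
          rw [Subgroup.map_iSup]; rfl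
        rw [hTn, card_map_of_injective B.subtype_injective]
        refine Nat.Coprime.coprime_dvd_left (card_dvd_of_le (iSup_le fun s => ?_))
          (coprime_card_pPrimeCore (G := ↥B) t)
        haveI := Fact.mk s.2.1
        refine le_pPrimeCore_of_normal inferInstance ?_
        obtain ⟨n, hn⟩ := (isPGroup_pCore (G := ↥B) s.1).exists_card_eq
        rw [hn]
        exact ((Nat.coprime_primes s.2.1 Fact.out).mpr s.2.2).pow_left n
      exact hTcop.coprime_dvd_left (T.orderOf_dvd_natCard hr)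
    have : orderOf r = 1 := Nat.eq_one_of_dvd_coprimes (hrT.pow_right (k + j)) dvd_rfl
      (orderOf_dvd_of_pow_eq_one hr1)
    rw [← hqr, orderOf_eq_one_iff.mp this, mul_one]
    exact hq₀
  have hzx : Commute z x := (hxc z hzQ')
  have hord : orderOf (z * x) = orderOf x := by
    rw [show z * x = MulAut.conj y x by rw [MulAut.conj_apply, hz]; group]
    exact MulEquiv.orderOf_eq _ _
  have h1 : z ^ orderOf x = 1 := by
    have := pow_orderOf_eq_one (z * x)
    rwa [hord, hzx.mul_pow, pow_orderOf_eq_one, mul_one] at this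
  obtain ⟨m, hm⟩ := isPGroup_O t B ⟨z, hzQ'⟩
  have hm' : z ^ t ^ m = 1 := congrArg Subtype.val hm
  have : orderOf z = 1 := Nat.eq_one_of_dvd_coprimes (hxo.pow_right m)
    (orderOf_dvd_of_pow_eq_one h1) (orderOf_dvd_of_pow_eq_one hm')
  have hz1 : z = 1 := orderOf_eq_one_iff.mp this
  rw [hz, mul_inv_eq_one, mul_inv_eq_iff_eq_mul] at hz1
  exact hz1

theorem O_eq_bot_of_ne (h : Config A B R R') {p q t : ℕ} [Fact p.Prime] [Fact q.Prime]
    [Fact t.Prime] (hR : O p R ≠ ⊥) (hR' : O q R' ≠ ⊥) (ht : t ≠ q) : O t A = ⊥ := by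
  by_contra hne
  have hPB : O t A ≤ B := h.symm.O_B_le_A (Fact.out) (Fact.out) ht hR'
  have hsub : W t B ≤ centralizer (O t A : Set G) :=
    (closure_le _).mpr fun x hx => h.mem_centralizer_O hR hPB hx.1 hx.2.1 hx.2.2
  have hcA : centralizer (O t A : Set G) ≤ A :=
    (centralizer_le_normalizer _).trans (h.maxA _ hne (O_le t A) (le_normalizer_O t A))
  have hle : W t B ≤ W t A := (closure_le _).mpr fun x hx => subset_closure
    ⟨hcA (hsub (subset_closure hx)), hsub (subset_closure hx), hx.2.2⟩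
  obtain ⟨g, hg⟩ := h.conj
  have hcard : Nat.card ↥(W t A) ≤ Nat.card ↥(W t B) := by
    have := card_le_of_le (hg ▸ W_map_conj_le t A g : (W t A).map _ ≤ W t B)
    rwa [card_map_conj] at this
  have heq : W t B = W t A := eq_of_le_of_card_ge hle hcard
  have hn : ∀ H : Subgroup G, H ≤ normalizer (W t H : Set G) := fun H x hx =>
    mem_normalizer_of_map_conj fun y hy => by
      have := W_map_conj_le t H x ⟨y, hy, rfl⟩
      rwa [map_conj_eq_of_mem_normalizer (le_normalizer hx)] at this
  have hWA : W t A ≤ A := (closure_le _).mpr fun x hx => hx.1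
  have hWB : W t B ≤ B := (closure_le _).mpr fun x hx => hx.1
  have hbot : W t A = ⊥ := h.eq_bot_of_normal hWA (heq ▸ hWB) (hn A) (heq ▸ hn B)
  refine hR' (le_bot_iff.mp ((h.symm.O_R_le_O_B q).trans ?_))
  rw [← hbot]
  intro x hx
  refine subset_closure ⟨O_le q A hx, commute_of_coprime ht.symm (isPGroup_O q A) (isPGroup_O t A)
    ((O_le q A).trans (le_normalizer_O t A)) ((O_le t A).trans (le_normalizer_O q A)) hx, ?_⟩
  obtain ⟨k, hk⟩ := isPGroup_O q A ⟨x, hx⟩
  exact Nat.Coprime.coprime_dvd_left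
    (orderOf_dvd_of_pow_eq_one (congrArg Subtype.val hk : x ^ q ^ k = 1))
    (((Nat.coprime_primes Fact.out Fact.out).mpr ht.symm).pow_left k)

/-- The Thompson–Wielandt theorem, first part. -/
theorem exists_prime (h : Config A B R R') :
    ∃ p : ℕ, p.Prime ∧ Cfsg.generalizedFittingSubgroup ↥A = Cfsg.pCore p ↥A ∧
      (∀ t : ℕ, t.Prime → t ≠ p → O t A = ⊥) ∧ O p R ≠ ⊥ ∧ O p R' ≠ ⊥ := by
  obtain ⟨p, hp, hR⟩ := h.exists_core_ne_bot
  obtain ⟨q, hq, hR'⟩ := h.symm.exists_core_ne_bot
  haveI := Fact.mk hp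
  haveI := Fact.mk hq
  have hpq : p = q := by
    by_contra hne
    refine hR (le_bot_iff.mp ((h.O_R_le_O_A p).trans (h.O_eq_bot_of_ne hR hR' hne).le))
  subst hpq
  refine ⟨p, hp, ?_, fun t ht hne => ?_, hR, hR'⟩
  · refine (genFitting_eq_pCore_iff_criterion p).mpr ⟨h.layer_eq_bot, fun t ht hne => ?_⟩
    haveI := Fact.mk ht
    exact (map_eq_bot_iff_of_injective _ A.subtype_injective).mp (h.O_eq_bot_of_ne hR hR' hne)
  · haveI := Fact.mk ht
    exact h.O_eq_bot_of_ne hR hR' hne

end Config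

end CfsgLib.Recog.TW
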