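import Cfsg.Agent.Lib.Char.Exceptional
import Cfsg.Agent.Lib.OddChar.Coherence

/-!
Rigidity of the character lattice of an elementary abelian Sylow subgroup of order 27 with normalizer
`3³:2²`: the Gram matrix and the vanishing class multiplication coefficients force three linear characters.
-/

set_option autoImplicit false

open scoped ComplexConjugate

namespace CfsgLib.ThreeCube

/-- the value of the `c`th degree two character at the `i`th class -/
def fv (i c : Fin 3) : ℤ := if c = i then -1 else 2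

/-- the value of the `x`th degree four character at the `i`th class -/
def rv (i x : Fin 3) : ℤ := if x = i then 4 else -2

theorem beta_cases (x y z : ℤ) (h : x + y + z = -2)
    (hn : x ^ 2 + y ^ 2 + z ^ 2 + (x ^ 2 + (y + 1) ^ 2 + (z + 1) ^ 2) ≤ 3) : x = 0 ∧ y = -1 ∧ z = -1 := by
  have hx : -1 ≤ x ∧ x ≤ 1 := by constructor <;> nlinarith
  have hy : -2 ≤ y ∧ y ≤ 1 := by constructor <;> nlinarith
  obtain ⟨hx1, hx2⟩ := hx
  obtain ⟨hy1, hy2⟩ := hy
  obtain rfl : z = -2 - x - y := by omega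
  interval_cases x <;> interval_cases y <;> first | (norm_num at hn; done) | norm_num

theorem omega_cases (k x y z : ℤ) (h : -k + (x + y + z) = 2)
    (hn : k ^ 2 + 2 * (k + 2) ^ 2 + 2 * (x ^ 2 + y ^ 2 + z ^ 2) +
      ((y + z) ^ 2 + (x + z) ^ 2 + (x + y) ^ 2) ≤ 6) : k = -2 ∧ x = 0 ∧ y = 0 ∧ z = 0 := by
  have hk : -2 ≤ k ∧ k ≤ -1 := by constructor <;> nlinarith
  have hx : -1 ≤ x ∧ x ≤ 1 := by constructor <;> nlinarith
  have hy : -1 ≤ y ∧ y ≤ 1 := by constructor <;> nlinarith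
  obtain ⟨hk1, hk2⟩ := hk
  obtain ⟨hx1, hx2⟩ := hx
  obtain ⟨hy1, hy2⟩ := hy
  obtain rfl : z = 2 + k - x - y := by omega
  interval_cases k <;> interval_cases x <;> interval_cases y <;> first | (norm_num at hn; done) | norm_num

variable {G : Type*} [Group G] [Fintype G]

theorem classInner_coef {θ η : G → ℂ} (hθ : Cfsg.IsGeneralizedCharacter G θ)
    (hη : Cfsg.IsGeneralizedCharacter G η) {z w : Cfsg.IrrCharacter G → ℤ}
    (hz : ∀ χ : Cfsg.IrrCharacter G, Cfsg.classInner θ χ = z χ)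
    (hw : ∀ χ : Cfsg.IrrCharacter G, Cfsg.classInner η χ = w χ) {n : ℤ}
    (h : Cfsg.classInner θ η = n) : ∑ χ, z χ * w χ = n := by
  rw [Char.classInner_eq_sum (Char.IsGeneralizedCharacter.isClassFunction hθ)
    (Char.IsGeneralizedCharacter.isClassFunction hη)] at h
  simp only [hz, hw, map_intCast] at h
  exact_mod_cast h

/-- The hypotheses: degree zero generalized characters with the Gram matrix of the lattice of `3³:2²`. -/
structure Gram (τ A B : Fin 3 → G → ℂ) (E W : G → ℂ) : Prop where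
  tau0 : τ 0 = 0
  genT : ∀ x, Cfsg.IsGeneralizedCharacter G (τ x)
  genA : ∀ c, Cfsg.IsGeneralizedCharacter G (A c)
  genB : ∀ c, Cfsg.IsGeneralizedCharacter G (B c)
  genE : Cfsg.IsGeneralizedCharacter G E
  genW : Cfsg.IsGeneralizedCharacter G W
  oneT : ∀ x, τ x 1 = 0
  oneA : ∀ c, A c 1 = 0
  oneB : ∀ c, B c 1 = 0
  oneE : E 1 = 0
  TT : ∀ x y, x ≠ 0 → y ≠ 0 → Cfsg.classInner (τ x) (τ y) = ((if x = y then 2 else 1 : ℤ) : ℂ)
  T1 : ∀ x, Cfsg.classInner (τ x) (fun _ => 1) = ((0 : ℤ) : ℂ)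
  A1 : ∀ c, Cfsg.classInner (A c) (fun _ => 1) = ((-1 : ℤ) : ℂ)
  B1 : ∀ c, Cfsg.classInner (B c) (fun _ => 1) = ((0 : ℤ) : ℂ)
  E1 : Cfsg.classInner E (fun _ => 1) = ((1 : ℤ) : ℂ)
  W1 : Cfsg.classInner W (fun _ => 1) = ((0 : ℤ) : ℂ)
  AT : ∀ c x, Cfsg.classInner (A c) (τ x) = ((0 : ℤ) : ℂ)
  BT : ∀ c x, Cfsg.classInner (B c) (τ x) = ((0 : ℤ) : ℂ)
  ET : ∀ x, x ≠ 0 → Cfsg.classInner E (τ x) = ((1 : ℤ) : ℂ)
  WT : ∀ x, x ≠ 0 → Cfsg.classInner W (τ x) = ((2 : ℤ) : ℂ)
  AA : ∀ c d, Cfsg.classInner (A c) (A d) = ((if c = d then 3 else 1 : ℤ) : ℂ)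
  AB : ∀ c d, Cfsg.classInner (A c) (B d) = ((if c = d then 0 else 1 : ℤ) : ℂ)
  BB : ∀ c d, Cfsg.classInner (B c) (B d) = ((if c = d then 3 else 1 : ℤ) : ℂ)
  EA : ∀ c, Cfsg.classInner E (A c) = ((-2 : ℤ) : ℂ)
  EB : ∀ c, Cfsg.classInner E (B c) = ((-2 : ℤ) : ℂ)
  EE : Cfsg.classInner E E = ((5 : ℤ) : ℂ)
  WA : ∀ c, Cfsg.classInner W (A c) = ((0 : ℤ) : ℂ)
  WB : ∀ c, Cfsg.classInner W (B c) = ((0 : ℤ) : ℂ)
  WE : Cfsg.classInner W E = ((2 : ℤ) : ℂ)
  WW : Cfsg.classInner W W = ((6 : ℤ) : ℂ)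

/-- The combination representing `54` times the indicator of the `i`th class. -/
noncomputable def phi (τ A B : Fin 3 → G → ℂ) (E W : G → ℂ) (i : Fin 3) : G → ℂ :=
  (∑ c, (fv i c : ℂ) • (A c + B c)) - (∑ x, (rv i x : ℂ) • (E - τ x)) - (2 : ℂ) • (W - (2 : ℂ) • E)

set_option maxHeartbeats 1000000 in
theorem Gram.exists_linear {τ A B : Fin 3 → G → ℂ} {E W : G → ℂ} (h : Gram τ A B E W)
    (heq : ∀ i j l : Fin 3, ¬ (i = j ∧ j = l) → ∑ χ : Cfsg.IrrCharacter G,
      Cfsg.classInner (phi τ A B E W i) χ * Cfsg.classInner (phi τ A B E W j) χ *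
        Cfsg.classInner (phi τ A B E W l) χ / (χ : G → ℂ) 1 = 0) :
    ∃ L : Fin 3 → Cfsg.IrrCharacter G, Function.Injective L ∧
      ∀ c, L c ≠ Char.principalIrr ∧ (L c : G → ℂ) 1 = 1 := by
  classical
  set P : Cfsg.IrrCharacter G := Char.principalIrr with hP
  have hPone : (P : G → ℂ) = fun _ => 1 := rfl
  -- the exceptional characters
  obtain ⟨εc, hεc, μf, hμirr, hμinj, hτμ⟩ := CharExc.exists_base (0 : Fin 3) τ h.tau0 h.genT h.oneT
    (fun i hi => by rw [h.TT i i hi hi, if_pos rfl]; norm_num)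
    (fun i j hi hj hne => by rw [h.TT i j hi hj, if_neg hne]; norm_num)
  obtain ⟨ε, hε, rfl⟩ : ∃ ε : ℤ, (ε = 1 ∨ ε = -1) ∧ (ε : ℂ) = εc := by
    rcases hεc with rfl | rfl
    exacts [⟨1, Or.inl rfl, by norm_num⟩, ⟨-1, Or.inr rfl, by norm_num⟩]
  have hεsq : ε * ε = 1 := by rcases hε with rfl | rfl <;> rfl
  let μ : Fin 3 → Cfsg.IrrCharacter G := fun x => ⟨μf x, hμirr x⟩
  have hμi : Function.Injective μ := fun x y e => hμinj (congrArg Subtype.val e)
  set t : Fin 3 → Cfsg.IrrCharacter G → ℤ := fun x χ =>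
    ε * ((if μ x = χ then 1 else 0) - (if μ 0 = χ then 1 else 0)) with ht
  have hcT : ∀ x χ, Cfsg.classInner (τ x) (χ : Cfsg.IrrCharacter G) = t x χ := by
    intro x χ
    have e : ∀ y, Cfsg.classInner (μf y) χ = ((if μ y = χ then 1 else 0 : ℤ) : ℂ) := fun y => by
      rw [show μf y = (μ y : G → ℂ) from rfl, Char.classInner_irrCharacter]
      split_ifs <;> simp
    rw [hτμ, Char.classInner_smul_left, Char.classInner_sub_left, e, e, ht]
    push_cast
    ring
  choose a ha using fun c χ => CharExc.exists_int_classInner (h.genA c) (χ : Cfsg.IrrCharacter G).2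
  choose b hb using fun c χ => CharExc.exists_int_classInner (h.genB c) (χ : Cfsg.IrrCharacter G).2
  choose e he using fun χ => CharExc.exists_int_classInner h.genE (χ : Cfsg.IrrCharacter G).2
  choose w hw using fun χ => CharExc.exists_int_classInner h.genW (χ : Cfsg.IrrCharacter G).2
  have hgenP := Char.IsIrrCharacter.isGeneralizedCharacter P.2
  have hp1 : ∀ χ, Cfsg.classInner (P : G → ℂ) (χ : Cfsg.IrrCharacter G) =
      ((if P = χ then 1 else 0 : ℤ) : ℂ) := fun χ => by
    rw [Char.classInner_irrCharacter]; split_ifs <;> simp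
  have pcoef : ∀ {θ : G → ℂ} {z : Cfsg.IrrCharacter G → ℤ} {m : ℤ}, Cfsg.IsGeneralizedCharacter G θ →
      (∀ χ : Cfsg.IrrCharacter G, Cfsg.classInner θ χ = z χ) →
      Cfsg.classInner θ (fun _ => 1) = (m : ℂ) → z P = m := by
    intro θ z m hg hz hm
    have := hz P
    rw [hPone, hm] at this
    exact_mod_cast this.symm
  have haP : ∀ c, a c P = -1 := fun c => pcoef (h.genA c) (ha c) (h.A1 c)
  have hbP : ∀ c, b c P = 0 := fun c => pcoef (h.genB c) (hb c) (h.B1 c)
  have heP : e P = 1 := pcoef h.genE he h.E1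
  have hwP : w P = 0 := pcoef h.genW hw h.W1
  have htP : ∀ x, t x P = 0 := fun x => pcoef (h.genT x) (hcT x) (h.T1 x)
  have hμP : ∀ x, μ x ≠ P := by
    intro x hx
    by_cases hx0 : x = 0
    · have := htP 1
      subst hx0
      simp only [ht] at this
      rw [if_pos hx, if_neg (fun e => absurd (hμi (e.trans hx.symm)) (by decide))] at this
      omega
    · have := htP x
      simp only [ht] at this
      rw [if_pos hx, if_neg (fun e => hx0 (hμi (hx.trans e.symm)))] at this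
      omega
  have sumt : ∀ (z : Cfsg.IrrCharacter G → ℤ) x, ∑ χ, z χ * t x χ = ε * (z (μ x) - z (μ 0)) := by
    intro z x
    simp only [ht, mul_sub, mul_ite, mul_one, mul_zero, Finset.sum_sub_distrib, Finset.sum_ite_eq,
      Finset.mem_univ, if_true]
    ring
  have coefT : ∀ {θ : G → ℂ} {z : Cfsg.IrrCharacter G → ℤ} {m : ℤ} (x : Fin 3),
      Cfsg.IsGeneralizedCharacter G θ → (∀ χ : Cfsg.IrrCharacter G, Cfsg.classInner θ χ = z χ) →
      Cfsg.classInner θ (τ x) = (m : ℂ) → z (μ x) = z (μ 0) + ε * m := by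
    intro θ z m x hg hz hm
    have := classInner_coef hg (h.genT x) hz (hcT x) hm
    rw [sumt] at this
    linear_combination ε * this - (z (μ x) - z (μ 0)) * hεsq
  have haμ : ∀ c x, a c (μ x) = a c (μ 0) := fun c x => by
    simpa using coefT x (h.genA c) (ha c) (h.AT c x)
  have hbμ : ∀ c x, b c (μ x) = b c (μ 0) := fun c x => by
    simpa using coefT x (h.genB c) (hb c) (h.BT c x)
  have heμ : ∀ x, x ≠ 0 → e (μ x) = e (μ 0) + ε := fun x hx => by
    simpa using coefT x h.genE he (h.ET x hx)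
  have hwμ : ∀ x, x ≠ 0 → w (μ x) = w (μ 0) + ε * 2 := fun x hx => coefT x h.genW hw (h.WT x hx)
  set N : Finset (Cfsg.IrrCharacter G) := (insert P (Finset.univ.image μ))ᶜ with hN
  have split : ∀ f : Cfsg.IrrCharacter G → ℤ,
      ∑ χ, f χ = f P + (f (μ 0) + f (μ 1) + f (μ 2)) + ∑ χ ∈ N, f χ := by
    intro f
    rw [← Finset.sum_add_sum_compl (insert P (Finset.univ.image μ)) f, Finset.sum_insert (by
      simp only [Finset.mem_image, Finset.mem_univ, true_and, not_exists]
      exact hμP), Finset.sum_image fun x _ y _ e => hμi e, Fin.sum_univ_three]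
  have memN : ∀ {χ}, χ ∈ N ↔ χ ≠ P ∧ ∀ x, μ x ≠ χ := by
    intro χ
    simp [hN]
  -- the coefficients of `A`
  have gA : ∀ c d, ∑ χ, a c χ * a d χ = if c = d then 3 else 1 := fun c d =>
    classInner_coef (h.genA c) (h.genA d) (ha c) (ha d) (h.AA c d)
  have haμ0 : ∀ c, a c (μ 0) = 0 := by
    intro c
    have := gA c c
    rw [split, if_pos rfl, haP, haμ c 1, haμ c 2] at this
    have hpos : 0 ≤ ∑ χ ∈ N, a c χ * a c χ := Finset.sum_nonneg fun χ _ => mul_self_nonneg _
    have hk : a c (μ 0) * a c (μ 0) ≤ 0 := by omega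
    exact mul_self_eq_zero.1 (le_antisymm hk (mul_self_nonneg _))
  have hA0 : ∀ c x, a c (μ x) = 0 := fun c x => (haμ c x).trans (haμ0 c)
  have nA : ∀ c d, ∑ χ ∈ N, a c χ * a d χ = if c = d then 2 else 0 := by
    intro c d
    have := gA c d
    rw [split, haP, haP, hA0, hA0, hA0, hA0, hA0, hA0] at this
    split_ifs at this ⊢ <;> linarith
  have nEA : ∀ c, ∑ χ ∈ N, e χ * a c χ = -1 := by
    intro c
    have := classInner_coef h.genE (h.genA c) he (ha c) (h.EA c)
    rw [split, haP, heP, hA0, hA0, hA0] at this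
    linarith
  have nE : 2 * e (μ 1) ^ 2 + (e (μ 1) - ε) ^ 2 + ∑ χ ∈ N, e χ * e χ = 4 := by
    have := classInner_coef h.genE h.genE he he h.EE
    rw [split, heP] at this
    have e1 := heμ 1 (by decide)
    have e2 := heμ 2 (by decide)
    have e0 : e (μ 0) = e (μ 1) - ε := by linarith
    have e2' : e (μ 2) = e (μ 1) := by linarith
    rw [e0, e2'] at this
    linear_combination this
  have hele : ∀ χ ∈ N, e χ * e χ ≤ 3 := by
    intro χ hχ
    have h1 := Finset.single_le_sum (f := fun χ => e χ * e χ) (fun χ _ => mul_self_nonneg _) hχ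
    have h2 : 0 < 2 * e (μ 1) ^ 2 + (e (μ 1) - ε) ^ 2 := by
      rcases eq_or_ne (e (μ 1)) 0 with h0 | h0
      · rw [h0]; rcases hε with rfl | rfl <;> norm_num
      · have : 0 < e (μ 1) ^ 2 := by positivity
        have := sq_nonneg (e (μ 1) - ε)
        omega
    omega
  have exπ : ∀ c, ∃ χ ∈ N, a c χ = -e χ ∧ (e χ = 1 ∨ e χ = -1) := by
    intro c
    obtain ⟨χ, hχ, hneg⟩ : ∃ χ ∈ N, e χ * a c χ < 0 := by
      by_contra hall
      push Not at hall
      have := Finset.sum_nonneg hall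
      rw [nEA c] at this
      omega
    have h1 : a c χ * a c χ ≤ 2 := by
      have := Finset.single_le_sum (f := fun χ => a c χ * a c χ) (fun χ _ => mul_self_nonneg _) hχ
      rw [nA, if_pos rfl] at this
      simpa using this
    have h2 := hele χ hχ
    have ha1 : a c χ = 1 ∨ a c χ = -1 := by
      have h3 : -1 ≤ a c χ ∧ a c χ ≤ 1 := by constructor <;> nlinarith
      have : a c χ ≠ 0 := fun e0 => by rw [e0, mul_zero] at hneg; omega
      omega
    have he1 : e χ = 1 ∨ e χ = -1 := by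
      have h3 : -1 ≤ e χ ∧ e χ ≤ 1 := by constructor <;> nlinarith
      have : e χ ≠ 0 := fun e0 => by rw [e0, zero_mul] at hneg; omega
      omega
    exact ⟨χ, hχ, by rcases ha1 with h | h <;> rcases he1 with h' | h' <;> rw [h, h'] at hneg ⊢ <;> omega, he1⟩
  choose π hπN hπa hπe using exπ
  have hπsq : ∀ c, e (π c) * e (π c) = 1 := fun c => by rcases hπe c with h | h <;> rw [h] <;> rfl
  have exq : ∀ c, ∃ χ ∈ N, χ ≠ π c ∧ a c χ * a c χ = 1 ∧ (∀ ψ ∈ N, ψ ≠ π c → ψ ≠ χ → a c ψ = 0) := by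
    intro c
    have h1 := nA c c
    rw [if_pos rfl, ← Finset.add_sum_erase _ _ (hπN c), hπa, neg_mul_neg, hπsq] at h1
    obtain ⟨χ, hχ, hne⟩ := Finset.exists_ne_zero_of_sum_ne_zero
      (show ∑ χ ∈ N.erase (π c), a c χ * a c χ ≠ 0 by omega)
    rw [← Finset.add_sum_erase _ _ hχ] at h1
    have h2 : 0 < a c χ * a c χ := lt_of_le_of_ne (mul_self_nonneg _) (Ne.symm hne)
    have h3 : 0 ≤ ∑ ψ ∈ (N.erase (π c)).erase χ, a c ψ * a c ψ :=
      Finset.sum_nonneg fun _ _ => mul_self_nonneg _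
    obtain ⟨hχne, hχN⟩ := Finset.mem_erase.1 hχ
    refine ⟨χ, hχN, hχne, by omega, fun ψ hψ hψ1 hψ2 => mul_self_eq_zero.1 ?_⟩
    exact (Finset.sum_eq_zero_iff_of_nonneg fun _ _ => mul_self_nonneg _).1
      (show ∑ ψ ∈ (N.erase (π c)).erase χ, a c ψ * a c ψ = 0 by omega) ψ
      (Finset.mem_erase.2 ⟨hψ2, Finset.mem_erase.2 ⟨hψ1, hψ⟩⟩)
  choose q hqN hqne hqsq hq0 using exq
  have sumA : ∀ c (z : Cfsg.IrrCharacter G → ℤ),
      ∑ χ ∈ N, z χ * a c χ = -(z (π c) * e (π c)) + z (q c) * a c (q c) := by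
    intro c z
    rw [← Finset.add_sum_erase _ _ (hπN c),
      ← Finset.add_sum_erase _ _ (Finset.mem_erase.2 ⟨hqne c, hqN c⟩),
      Finset.sum_eq_zero fun ψ hψ => by
        simp only [Finset.mem_erase] at hψ
        rw [hq0 c ψ hψ.2.2 hψ.2.1 hψ.1, mul_zero], hπa]
    ring
  have heq0 : ∀ c, e (q c) = 0 := by
    intro c
    have h1 := nEA c
    rw [sumA, hπsq] at h1
    have : a c (q c) ≠ 0 := fun e0 => by have := hqsq c; rw [e0] at this; omega
    exact (mul_eq_zero.1 (show e (q c) * a c (q c) = 0 by omega)).resolve_right this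
  -- degrees
  choose dg hdg0 hdg using fun χ : Cfsg.IrrCharacter G => Char.IsIrrCharacter.exists_degree χ.2
  have degsum : ∀ {θ : G → ℂ} {z : Cfsg.IrrCharacter G → ℤ}, Cfsg.IsGeneralizedCharacter G θ →
      (∀ χ : Cfsg.IrrCharacter G, Cfsg.classInner θ χ = z χ) → θ 1 = 0 →
      ∑ χ, z χ * (dg χ : ℤ) = 0 := by
    intro θ z hg hz h1
    have := congrFun (Char.IsClassFunction.eq_sum_classInner
      (Char.IsGeneralizedCharacter.isClassFunction hg)) 1
    simp only [h1, Finset.sum_apply, Pi.smul_apply, smul_eq_mul, hz, hdg] at this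
    exact_mod_cast this.symm
  have hdμ : ∀ x, (dg (μ x) : ℤ) = dg (μ 0) := by
    intro x
    have := h.oneT x
    rw [hτμ, Pi.smul_apply, Pi.sub_apply, smul_eq_mul, mul_eq_zero, sub_eq_zero] at this
    rcases this with e0 | e0
    · exfalso; rcases hε with rfl | rfl <;> simp at e0
    · rw [show μf x = (μ x : G → ℂ) from rfl, show μf 0 = (μ 0 : G → ℂ) from rfl, hdg, hdg] at e0
      exact_mod_cast e0
  have degA : ∀ c, -(dg P : ℤ) - e (π c) * dg (π c) + a c (q c) * dg (q c) = 0 := by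
    intro c
    have h1 := degsum (h.genA c) (ha c) (h.oneA c)
    rw [split, haP, hA0, hA0, hA0] at h1
    have h2 := sumA c (fun χ => (dg χ : ℤ))
    rw [Finset.sum_congr rfl fun χ (_ : χ ∈ N) => mul_comm (a c χ) (dg χ : ℤ), h2] at h1
    linear_combination h1
  have hqa : ∀ c, a c (q c) = 1 ∨ a c (q c) = -1 := fun c => mul_self_eq_one_iff.1 (hqsq c)
  have hπinj : Function.Injective π := by
    intro c d hcd
    by_contra hne
    have h1 := nA c d
    rw [if_neg hne, sumA d, ← hcd, hπa c, neg_mul, neg_neg, hπsq] at h1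
    have hqq : q c = q d := by
      by_contra hq
      have : a c (q d) = 0 := hq0 c (q d) (hqN d) (hcd ▸ hqne d) (Ne.symm hq)
      rw [this, zero_mul] at h1
      omega
    have h2 := degA c
    have h3 := degA d
    rw [← hqq] at h1 h3
    rw [← hcd] at h3
    have hd : 0 < (dg (q c) : ℤ) := by exact_mod_cast hdg0 _
    have hz := hqa c
    have hz' := hqa d
    rw [← hqq] at hz'
    rcases hz with z1 | z1 <;> rcases hz' with z2 | z2 <;> rw [z1] at h1 h2 <;> rw [z2] at h1 h3 <;> omega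
  have hEsum : ∑ c, e (π c) * e (π c) + ∑ χ ∈ N \ Finset.univ.image π, e χ * e χ =
      ∑ χ ∈ N, e χ * e χ := by
    rw [add_comm, ← Finset.sum_image (f := fun χ => e χ * e χ) fun x _ y _ e => hπinj e]
    refine Finset.sum_sdiff ?_
    intro χ hχ
    obtain ⟨c, -, rfl⟩ := Finset.mem_image.1 hχ
    exact hπN c
  simp only [hπsq, Finset.sum_const, Finset.card_univ, Fintype.card_fin] at hEsum
  norm_num at hEsum
  have hEnn : 0 ≤ ∑ χ ∈ N \ Finset.univ.image π, e χ * e χ := Finset.sum_nonneg fun _ _ => mul_self_nonneg _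
  have hm : e (μ 1) = 0 := by
    by_contra h0
    have : 0 < e (μ 1) ^ 2 := by positivity
    have := sq_nonneg (e (μ 1) - ε)
    omega
  have hEzero : ∀ χ ∈ N, (∀ c, χ ≠ π c) → e χ = 0 := by
    intro χ hχ hc
    refine mul_self_eq_zero.1 ((Finset.sum_eq_zero_iff_of_nonneg fun _ _ => mul_self_nonneg _).1
      (show ∑ χ ∈ N \ Finset.univ.image π, e χ * e χ = 0 from ?_) χ ?_)
    · rw [hm] at nE
      rcases hε with rfl | rfl <;> norm_num at nE <;> omega
    · simp [hχ]; exact fun c => Ne.symm (hc c)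
  have heμ0 : e (μ 0) = -ε := by have := heμ 1 (by decide); omega
  have heμ2 : e (μ 2) = 0 := by have := heμ 2 (by decide); omega
  have hπq : ∀ c d, π c ≠ q d := fun c d e0 => by
    have := heq0 d
    rw [← e0] at this
    rcases hπe c with h | h <;> omega
  have hqinj : Function.Injective q := by
    intro c d hcd
    by_contra hne
    have h1 := nA c d
    rw [if_neg hne, sumA d, hq0 c (π d) (hπN d) (fun e => hne (hπinj e).symm) (hπq d c), zero_mul, neg_zero,
      zero_add, ← hcd] at h1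
    rcases hqa c with z | z <;> rcases hqa d with z' | z' <;> rw [z] at h1 <;> rw [← hcd] at z' <;>
      rw [z'] at h1 <;> omega
  have haπ : ∀ c d, a c (π d) = if c = d then -e (π d) else 0 := by
    intro c d
    split_ifs with hcd
    · subst hcd; exact hπa c
    · exact hq0 c (π d) (hπN d) (fun e => hcd (hπinj e).symm) (hπq d c)
  have haq : ∀ c d, a c (q d) = if c = d then a d (q d) else 0 := by
    intro c d
    split_ifs with hcd
    · subst hcd; rfl
    · exact hq0 c (q d) (hqN d) (Ne.symm (hπq c d)) (fun e => hcd (hqinj e).symm)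
  have sumE : ∀ z : Cfsg.IrrCharacter G → ℤ, ∑ χ ∈ N, z χ * e χ = ∑ c, z (π c) * e (π c) := by
    intro z
    rw [← Finset.sum_image (f := fun χ => z χ * e χ) fun x _ y _ e => hπinj e]
    refine (Finset.sum_subset ?_ fun χ hχ hn => ?_).symm
    · intro χ hχ
      obtain ⟨c, -, rfl⟩ := Finset.mem_image.1 hχ
      exact hπN c
    · rw [hEzero χ hχ fun c e => hn (Finset.mem_image.2 ⟨c, Finset.mem_univ _, e.symm⟩), mul_zero]
  -- the coefficients of `B`
  set R : Finset (Cfsg.IrrCharacter G) := N \ (Finset.univ.image π ∪ Finset.univ.image q) with hR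
  have memR : ∀ {χ}, χ ∈ R ↔ χ ∈ N ∧ (∀ c, π c ≠ χ) ∧ ∀ c, q c ≠ χ := by
    intro χ; simp [hR]
  have splitN : ∀ f : Cfsg.IrrCharacter G → ℤ,
      ∑ χ ∈ N, f χ = ∑ c, f (π c) + ∑ c, f (q c) + ∑ χ ∈ R, f χ := by
    intro f
    have hsub : Finset.univ.image π ∪ Finset.univ.image q ⊆ N := by
      intro χ hχ
      rcases Finset.mem_union.1 hχ with hχ | hχ <;> obtain ⟨c, -, rfl⟩ := Finset.mem_image.1 hχ
      exacts [hπN c, hqN c]
    have hdis : Disjoint (Finset.univ.image π) (Finset.univ.image q) := by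
      rw [Finset.disjoint_left]
      intro χ hχ hχ'
      obtain ⟨c, -, rfl⟩ := Finset.mem_image.1 hχ
      obtain ⟨d, -, hd⟩ := Finset.mem_image.1 hχ'
      exact hπq c d hd.symm
    rw [← Finset.sum_sdiff hsub, Finset.sum_union hdis, Finset.sum_image fun x _ y _ e => hπinj e,
      Finset.sum_image fun x _ y _ e => hqinj e, hR]
    ring
  have gB : ∀ c d, ∑ χ, b c χ * b d χ = if c = d then 3 else 1 := fun c d =>
    classInner_coef (h.genB c) (h.genB d) (hb c) (hb d) (h.BB c d)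
  have hbμ0 : ∀ c, b c (μ 0) = 0 := by
    intro c
    by_contra h0
    have h1 := gB c c
    rw [split, if_pos rfl, hbP, hbμ c 1, hbμ c 2] at h1
    have h2 : 0 < b c (μ 0) * b c (μ 0) := mul_self_pos.2 h0
    have h3 : 0 ≤ ∑ χ ∈ N, b c χ * b c χ := Finset.sum_nonneg fun _ _ => mul_self_nonneg _
    have h4 : ∀ χ ∈ N, b c χ = 0 := fun χ hχ => mul_self_eq_zero.1
      ((Finset.sum_eq_zero_iff_of_nonneg fun _ _ => mul_self_nonneg _).1
        (show ∑ χ ∈ N, b c χ * b c χ = 0 by omega) χ hχ)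
    have h5 := classInner_coef (h.genB c) h.genE (hb c) he
      (n := -2) (by rw [OddChar.Coh.classInner_comm_gen (h.genB c) h.genE]; exact h.EB c)
    rw [split, hbP, hbμ c 1, hbμ c 2, hm, heμ2, heμ0,
      Finset.sum_eq_zero fun χ hχ => by rw [h4 χ hχ, zero_mul]] at h5
    have hb1 : b c (μ 0) * b c (μ 0) = 1 := by omega
    rcases mul_self_eq_one_iff.1 hb1 with h | h <;> rw [h] at h5 <;> rcases hε with rfl | rfl <;> omega
  have hB0 : ∀ c x, b c (μ x) = 0 := fun c x => (hbμ c x).trans (hbμ0 c)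
  set β : Fin 3 → Fin 3 → ℤ := fun c d => b c (π d) * e (π d) with hβd
  set ρ : Fin 3 → Fin 3 → ℤ := fun c d => b c (q d) * a d (q d) with hρd
  have nAB : ∀ c d, -β c d + ρ c d = if d = c then 0 else 1 := by
    intro c d
    have h1 := classInner_coef (h.genA d) (h.genB c) (ha d) (hb c) (h.AB d c)
    rw [split, haP, hbP, hA0, hA0, hA0,
      Finset.sum_congr rfl fun χ (_ : χ ∈ N) => mul_comm (a d χ) (b c χ), sumA] at h1
    linear_combination h1
  have nEB : ∀ c, ∑ d, β c d = -2 := by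
    intro c
    have h1 := classInner_coef h.genE (h.genB c) he (hb c) (h.EB c)
    rw [split, hbP, hB0, hB0, hB0,
      Finset.sum_congr rfl fun χ (_ : χ ∈ N) => mul_comm (e χ) (b c χ), sumE] at h1
    linear_combination h1
  have nBB : ∀ c, ∑ d, β c d ^ 2 + ∑ d, ρ c d ^ 2 + ∑ χ ∈ R, b c χ * b c χ = 3 := by
    intro c
    have h1 := gB c c
    rw [split, if_pos rfl, hbP, hB0, hB0, hB0, splitN] at h1
    have e1 : ∀ d, β c d ^ 2 = b c (π d) * b c (π d) := fun d => by
      simp only [hβd]; linear_combination b c (π d) ^ 2 * hπsq d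
    have e2 : ∀ d, ρ c d ^ 2 = b c (q d) * b c (q d) := fun d => by
      simp only [hρd]; linear_combination b c (q d) ^ 2 * hqsq d
    simp only [e1, e2]
    linear_combination h1
  have hβ : ∀ c d, β c d = (if d = c then 0 else -1) ∧ ρ c d = 0 := by
    intro c
    have hR0 : 0 ≤ ∑ χ ∈ R, b c χ * b c χ := Finset.sum_nonneg fun _ _ => mul_self_nonneg _
    have s1 := nEB c
    have s2 := nBB c
    have r0 := nAB c 0
    have r1 := nAB c 1
    have r2 := nAB c 2
    rw [Fin.sum_univ_three] at s1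
    rw [Fin.sum_univ_three, Fin.sum_univ_three] at s2
    fin_cases c <;> simp only [Fin.isValue, Fin.zero_eta, Fin.mk_one, Fin.reduceFinMk, Fin.reduceEq,
      if_false, if_true] at r0 r1 r2 s1 s2 hR0 ⊢
    · rw [show ρ 0 0 = β 0 0 by omega, show ρ 0 1 = β 0 1 + 1 by omega,
        show ρ 0 2 = β 0 2 + 1 by omega] at s2
      obtain ⟨x, y, z⟩ := beta_cases (β 0 0) (β 0 1) (β 0 2) s1 (by linarith)
      intro d; fin_cases d <;> simp <;> omega
    · rw [show ρ 1 1 = β 1 1 by omega, show ρ 1 0 = β 1 0 + 1 by omega,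
        show ρ 1 2 = β 1 2 + 1 by omega] at s2
      obtain ⟨x, y, z⟩ := beta_cases (β 1 1) (β 1 0) (β 1 2) (by linarith) (by linarith)
      intro d; fin_cases d <;> simp <;> omega
    · rw [show ρ 2 2 = β 2 2 by omega, show ρ 2 0 = β 2 0 + 1 by omega,
        show ρ 2 1 = β 2 1 + 1 by omega] at s2
      obtain ⟨x, y, z⟩ := beta_cases (β 2 2) (β 2 0) (β 2 1) (by linarith) (by linarith)
      intro d; fin_cases d <;> simp <;> omega
  have hbπ : ∀ c d, b c (π d) = if d = c then 0 else -e (π d) := by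
    intro c d
    have h1 := (hβ c d).1
    simp only [hβd] at h1
    split_ifs at h1 ⊢
    · linear_combination e (π d) * h1 - b c (π d) * hπsq d
    · linear_combination e (π d) * h1 - b c (π d) * hπsq d
  have hbq : ∀ c d, b c (q d) = 0 := by
    intro c d
    have h1 := (hβ c d).2
    simp only [hρd] at h1
    linear_combination a d (q d) * h1 - b c (q d) * hqsq d
  have exr : ∀ c, ∃ χ ∈ R, b c χ * b c χ = 1 ∧ ∀ ψ ∈ R, ψ ≠ χ → b c ψ = 0 := by
    intro c
    have h1 := nBB c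
    rw [Fin.sum_univ_three, Fin.sum_univ_three, (hβ c 0).2, (hβ c 1).2, (hβ c 2).2, (hβ c 0).1, (hβ c 1).1,
      (hβ c 2).1] at h1
    have h2 : ∑ χ ∈ R, b c χ * b c χ = 1 := by fin_cases c <;> simp at h1 ⊢ <;> omega
    obtain ⟨χ, hχ, hne⟩ := Finset.exists_ne_zero_of_sum_ne_zero
      (show ∑ χ ∈ R, b c χ * b c χ ≠ 0 by omega)
    rw [← Finset.add_sum_erase _ _ hχ] at h2
    have h3 : 0 < b c χ * b c χ := lt_of_le_of_ne (mul_self_nonneg _) (Ne.symm hne)
    have h4 : 0 ≤ ∑ ψ ∈ R.erase χ, b c ψ * b c ψ := Finset.sum_nonneg fun _ _ => mul_self_nonneg _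
    refine ⟨χ, hχ, by omega, fun ψ hψ hψ2 => mul_self_eq_zero.1 ?_⟩
    exact (Finset.sum_eq_zero_iff_of_nonneg fun _ _ => mul_self_nonneg _).1
      (show ∑ ψ ∈ R.erase χ, b c ψ * b c ψ = 0 by omega) ψ (Finset.mem_erase.2 ⟨hψ2, hψ⟩)
  choose r hrR hrsq hr0 using exr
  have hrb : ∀ c, b c (r c) = 1 ∨ b c (r c) = -1 := fun c => mul_self_eq_one_iff.1 (hrsq c)
  have sumR : ∀ c (z : Cfsg.IrrCharacter G → ℤ), ∑ χ ∈ R, z χ * b c χ = z (r c) * b c (r c) := fun c z =>
    Finset.sum_eq_single_of_mem _ (hrR c) fun ψ hψ hne => by rw [hr0 c ψ hψ hne, mul_zero]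
  have hrinj : Function.Injective r := by
    intro c d hcd
    by_contra hne
    have h1 := gB c d
    rw [split, if_neg hne, hbP, hB0, hB0, hB0, hB0, hB0, hB0, splitN, Fin.sum_univ_three, Fin.sum_univ_three,
      sumR d, hbq, hbq, hbq, hbq, hbq, hbq, hbπ, hbπ, hbπ, hbπ, hbπ, hbπ, ← hcd] at h1
    have hsq0 := hπsq 0
    have hsq1 := hπsq 1
    have hsq2 := hπsq 2
    have z' := hrb d
    rw [← hcd] at z'
    fin_cases c <;> fin_cases d <;> simp at h1 hne <;>
      (rcases hrb _ with z | z <;> rcases z' with z' | z' <;> simp only [Fin.isValue, Fin.zero_eta, Fin.mk_one,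
        Fin.reduceFinMk] at z z' h1 <;> first | omega | nlinarith)
  have haR : ∀ c, ∀ χ ∈ R, a c χ = 0 := fun c χ hχ =>
    hq0 c χ (memR.1 hχ).1 (Ne.symm ((memR.1 hχ).2.1 c)) (Ne.symm ((memR.1 hχ).2.2 c))
  have heR : ∀ χ ∈ R, e χ = 0 := fun χ hχ => hEzero χ (memR.1 hχ).1 fun c => Ne.symm ((memR.1 hχ).2.1 c)
  have hbr : ∀ c d, b c (r d) = if c = d then b d (r d) else 0 := by
    intro c d
    split_ifs with hcd
    · subst hcd; rfl
    · exact hr0 c (r d) (hrR d) fun e => hcd (hrinj e).symm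
  -- the coefficients of `W`
  set ω : Fin 3 → ℤ := fun c => w (π c) * e (π c) with hωd
  have nWA : ∀ c, w (q c) * a c (q c) = ω c := by
    intro c
    have h1 := classInner_coef h.genW (h.genA c) hw (ha c) (h.WA c)
    rw [split, haP, hwP, hA0, hA0, hA0, sumA] at h1
    linear_combination h1
  have nWE : -(ε * w (μ 0)) + ∑ c, ω c = 2 := by
    have h1 := classInner_coef h.genW h.genE hw he h.WE
    rw [split, hwP, hm, heμ2, heμ0, sumE] at h1
    linear_combination h1
  have nWB : ∀ c, w (r c) * b c (r c) = ∑ d, (if d = c then 0 else ω d) := by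
    intro c
    have h1 := classInner_coef h.genW (h.genB c) hw (hb c) (h.WB c)
    rw [split, hwP, hB0, hB0, hB0, splitN, sumR] at h1
    simp only [hbπ, hbq, mul_zero, Finset.sum_const_zero, add_zero, zero_add] at h1
    have : ∑ d, w (π d) * (if d = c then 0 else -e (π d)) = -∑ d, (if d = c then 0 else ω d) := by
      rw [← Finset.sum_neg_distrib]
      exact Finset.sum_congr rfl fun d _ => by split_ifs <;> simp [hωd]
    rw [this] at h1
    linear_combination h1
  have hW : ε * w (μ 0) = -2 ∧ ∀ c, ω c = 0 := by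
    have h1 := classInner_coef h.genW h.genW hw hw h.WW
    rw [split, hwP, hwμ 1 (by decide), hwμ 2 (by decide), splitN] at h1
    have h2 : ∑ c, w (r c) * w (r c) ≤ ∑ χ ∈ R, w χ * w χ := by
      rw [← Finset.sum_image (f := fun χ => w χ * w χ) fun x _ y _ e => hrinj e]
      exact Finset.sum_le_sum_of_subset_of_nonneg (fun χ hχ => by
        obtain ⟨c, -, rfl⟩ := Finset.mem_image.1 hχ; exact hrR c) fun _ _ _ => mul_self_nonneg _
    have e1 : ∀ c, w (π c) * w (π c) = ω c ^ 2 := fun c => by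
      simp only [hωd]; linear_combination (-(w (π c) ^ 2)) * hπsq c
    have e2 : ∀ c, w (q c) * w (q c) = ω c ^ 2 := fun c => by
      rw [← nWA c]; linear_combination (-(w (q c) ^ 2)) * hqsq c
    have e3 : ∀ c, w (r c) * w (r c) = (∑ d, (if d = c then 0 else ω d)) ^ 2 := fun c => by
      rw [← nWB c]; linear_combination (-(w (r c) ^ 2)) * hrsq c
    simp only [e1, e2, e3, Fin.sum_univ_three, Fin.reduceEq, if_true, if_false, zero_add, add_zero] at h1 h2
    have hs := nWE
    rw [Fin.sum_univ_three] at hs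
    obtain ⟨hk, hx, hy, hz⟩ := omega_cases (ε * w (μ 0)) (ω 0) (ω 1) (ω 2) hs (by
      have k1 : (ε * w (μ 0)) ^ 2 = w (μ 0) * w (μ 0) := by linear_combination w (μ 0) ^ 2 * hεsq
      have k2 : (ε * w (μ 0) + 2) ^ 2 = (w (μ 0) + ε * 2) * (w (μ 0) + ε * 2) := by
        linear_combination (w (μ 0) ^ 2 - 4) * hεsq
      rw [k1, k2]
      linarith)
    exact ⟨hk, fun c => by fin_cases c <;> assumption⟩
  obtain ⟨hwμ0, hω⟩ := hW
  have hwμ0' : w (μ 0) = ε * -2 := by linear_combination ε * hwμ0 - w (μ 0) * hεsq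
  have hwπ : ∀ c, w (π c) = 0 := fun c => by
    have := hω c
    simp only [hωd] at this
    linear_combination e (π c) * this - w (π c) * hπsq c
  have hwq : ∀ c, w (q c) = 0 := fun c => by
    have := nWA c
    rw [hω c] at this
    linear_combination a c (q c) * this - w (q c) * hqsq c
  have hwr : ∀ c, w (r c) = 0 := fun c => by
    have := nWB c
    simp only [hω, ite_self, Finset.sum_const_zero] at this
    linear_combination b c (r c) * this - w (r c) * hrsq c
  -- degree relations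
  have dP : (dg P : ℤ) = 1 := by
    have := hdg P
    rw [hPone] at this
    simp only at this
    exact_mod_cast this.symm
  set lam : Fin 3 → ℤ := fun c => e (π c) * dg (π c) with hlam
  set PP : Fin 3 → ℤ := fun c => a c (q c) * dg (q c) with hPP
  set QQ : Fin 3 → ℤ := fun c => b c (r c) * dg (r c) with hQQ
  set sd : ℤ := ε * dg (μ 0) with hsd
  have dA : ∀ c, PP c = 1 + lam c := fun c => by
    have := degA c
    rw [dP] at this
    simp only [hPP, hlam]
    linarith
  have dB : ∀ c, QQ c = ∑ d, (if d = c then 0 else lam d) := by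
    intro c
    have h1 := degsum (h.genB c) (hb c) (h.oneB c)
    have h2 := sumR c (fun χ => (dg χ : ℤ))
    rw [split, hbP, hB0, hB0, hB0, splitN,
      Finset.sum_congr rfl fun χ (_ : χ ∈ R) => mul_comm (b c χ) (dg χ : ℤ), h2] at h1
    simp only [hbπ, hbq, zero_mul, Finset.sum_const_zero, add_zero, zero_add] at h1
    have : ∑ d, (if d = c then 0 else -e (π d)) * (dg (π d) : ℤ) =
        -∑ d, (if d = c then 0 else lam d) := by
      rw [← Finset.sum_neg_distrib]
      exact Finset.sum_congr rfl fun d _ => by split_ifs <;> simp [hlam]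
    rw [this] at h1
    simp only [hQQ]
    linear_combination h1
  have dE : sd = 1 + ∑ c, lam c := by
    have h1 := degsum h.genE he h.oneE
    have h2 := sumE (fun χ => (dg χ : ℤ))
    rw [split, heP, hm, heμ2, heμ0, dP,
      Finset.sum_congr rfl fun χ (_ : χ ∈ N) => mul_comm (e χ) (dg χ : ℤ), h2] at h1
    have : ∑ c, lam c = ∑ c, (dg (π c) : ℤ) * e (π c) := Finset.sum_congr rfl fun c _ => mul_comm _ _
    rw [hsd, this]
    linear_combination -h1
  -- the coefficients of the class functions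
  set ν : Fin 3 → Cfsg.IrrCharacter G → ℤ := fun i χ =>
    ∑ c, fv i c * (a c χ + b c χ) - ∑ x, rv i x * (e χ - t x χ) - 2 * (w χ - 2 * e χ) with hν
  have hphi : ∀ i χ, Cfsg.classInner (phi τ A B E W i) (χ : Cfsg.IrrCharacter G) = ν i χ := by
    intro i χ
    simp only [phi, Char.classInner_sub_left, Char.classInner_sum_left, Char.classInner_smul_left,
      Char.classInner_add_left, ha, hb, he, hw, hcT, hν]
    push_cast
    ring
  have sumf : ∀ i, ∑ c, fv i c = 3 := by decide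
  have sumr : ∀ i, ∑ c, rv i c = 0 := by decide
  have htN : ∀ x, ∀ χ ∈ N, t x χ = 0 := fun x χ hχ => by
    simp [ht, (memN.1 hχ).2 x, (memN.1 hχ).2 0]
  have νP : ∀ i, ν i P = 1 := by
    intro i
    have := sumf i
    have := sumr i
    simp only [hν, haP, hbP, heP, htP, hwP, add_zero, sub_zero, ← Finset.sum_mul]
    linarith
  have νπ : ∀ i d, ν i (π d) = e (π d) := by
    intro i d
    have e1 : ∀ c, a c (π d) + b c (π d) = -e (π d) := fun c => by
      rw [haπ, hbπ]
      by_cases h0 : c = d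
      · simp [h0]
      · simp [h0, Ne.symm h0]
    have h3 := sumf i
    have h4 := sumr i
    simp only [hν, e1, htN _ _ (hπN d), hwπ, sub_zero, ← Finset.sum_mul, h3, h4]
    ring
  have νq : ∀ i d, ν i (q d) = fv i d * a d (q d) := by
    intro i d
    have e1 : ∀ c, a c (q d) + b c (q d) = if c = d then a d (q d) else 0 := fun c => by
      rw [hbq, haq, add_zero]
    simp only [hν, e1, heq0, htN _ _ (hqN d), hwq, add_zero, sub_zero, mul_zero, mul_ite,
      Finset.sum_ite_eq', Finset.mem_univ, if_true, Finset.sum_const_zero]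
  have νr : ∀ i d, ν i (r d) = fv i d * b d (r d) := by
    intro i d
    have e1 : ∀ c, a c (r d) + b c (r d) = if c = d then b d (r d) else 0 := fun c => by
      rw [haR _ _ (hrR d), hbr, zero_add]
    simp only [hν, e1, heR _ (hrR d), htN _ _ (memR.1 (hrR d)).1, hwr, sub_zero,
      mul_zero, mul_ite, Finset.sum_ite_eq', Finset.mem_univ, if_true, Finset.sum_const_zero]
  have νμ : ∀ i x, ν i (μ x) = ε * rv i x := by
    intro i x
    have := sumr i
    rw [Fin.sum_univ_three] at this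
    simp only [hν, hA0, hB0, add_zero, mul_zero, Finset.sum_const_zero, ht, hμi.eq_iff, Fin.sum_univ_three]
    fin_cases x
    · simp [heμ0, hwμ0']
      ring
    · simp [hm, hwμ 1 (by decide), hwμ0']
      ring
    · simp [heμ2, hwμ 2 (by decide), hwμ0']
      ring
  set R' : Finset (Cfsg.IrrCharacter G) := R \ Finset.univ.image r with hR'
  have νR : ∀ i, ∀ χ ∈ R', ν i χ = -2 * w χ := by
    intro i χ hχ
    simp only [hR', Finset.mem_sdiff, Finset.mem_image, Finset.mem_univ, true_and, not_exists] at hχ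
    have e1 : ∀ c, b c χ = 0 := fun c => hr0 c χ hχ.1 (Ne.symm (hχ.2 c))
    simp only [hν, haR _ _ hχ.1, e1, heR _ hχ.1, htN _ _ (memR.1 hχ.1).1, add_zero, mul_zero, sub_zero,
      Finset.sum_const_zero]
    ring
  -- the vanishing class multiplication coefficients
  set K : ℂ := ∑ χ ∈ R', ((-2 * w χ) ^ 3 : ℤ) / (dg χ : ℂ) with hK
  have inv1 : ∀ {z : ℤ}, (z = 1 ∨ z = -1) → ∀ x : ℂ, (z : ℂ) ^ 3 * x⁻¹ = ((z : ℂ) * x)⁻¹ := by
    intro z hz x; rcases hz with rfl | rfl <;> norm_num [inv_neg]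
  have EQ : ∀ i j l : Fin 3, ¬ (i = j ∧ j = l) →
      1 + ∑ c, ((lam c : ℤ) : ℂ)⁻¹ +
        ∑ c, ((fv i c * fv j c * fv l c : ℤ) : ℂ) * (((PP c : ℤ) : ℂ)⁻¹ + ((QQ c : ℤ) : ℂ)⁻¹) +
        (∑ x, ((rv i x * rv j x * rv l x : ℤ) : ℂ)) * ((sd : ℤ) : ℂ)⁻¹ + K = 0 := by
    intro i j l hne
    have hz := heq i j l hne
    simp only [hphi, hdg] at hz
    have hsub : Finset.univ.image r ⊆ R := fun χ hχ => by
      obtain ⟨c, -, rfl⟩ := Finset.mem_image.1 hχ; exact hrR c
    set g : Cfsg.IrrCharacter G → ℂ := fun χ => (ν i χ : ℂ) * ν j χ * ν l χ / (dg χ : ℂ) with hg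
    have splitC : ∑ χ, g χ = g P + ∑ x, g (μ x) + (∑ c, g (π c) + ∑ c, g (q c) +
        (∑ χ ∈ R', g χ + ∑ c, g (r c))) := by
      rw [← Finset.sum_add_sum_compl (insert P (Finset.univ.image μ)) g, Finset.sum_insert (by
        simp only [Finset.mem_image, Finset.mem_univ, true_and, not_exists]
        exact hμP), Finset.sum_image fun x _ y _ e => hμi e]
      congr 1
      have hs' : Finset.univ.image π ∪ Finset.univ.image q ⊆ N := by
        intro χ hχ
        rcases Finset.mem_union.1 hχ with hχ | hχ <;> obtain ⟨c, -, rfl⟩ := Finset.mem_image.1 hχ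
        exacts [hπN c, hqN c]
      have hdis : Disjoint (Finset.univ.image π) (Finset.univ.image q) := by
        rw [Finset.disjoint_left]
        intro χ hχ hχ'
        obtain ⟨c, -, rfl⟩ := Finset.mem_image.1 hχ
        obtain ⟨d, -, hd⟩ := Finset.mem_image.1 hχ'
        exact hπq c d hd.symm
      rw [← hN, ← Finset.sum_sdiff hs', Finset.sum_union hdis, Finset.sum_image fun x _ y _ e => hπinj e,
        Finset.sum_image fun x _ y _ e => hqinj e, ← hR, ← Finset.sum_sdiff hsub,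
        Finset.sum_image fun x _ y _ e => hrinj e, ← hR']
      ring
    rw [show (∑ χ, g χ) = 0 from hz] at splitC
    have gP : g P = 1 := by
      have : (dg P : ℂ) = 1 := by exact_mod_cast dP
      simp [hg, νP, this]
    have gπ : ∀ c, g (π c) = ((lam c : ℤ) : ℂ)⁻¹ := fun c => by
      simp only [hg, νπ, hlam, Int.cast_mul, Int.cast_natCast, div_eq_mul_inv]
      rw [← inv1 (hπe c)]; ring
    have gq : ∀ c, g (q c) = ((fv i c * fv j c * fv l c : ℤ) : ℂ) * ((PP c : ℤ) : ℂ)⁻¹ := fun c => by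
      simp only [hg, νq, hPP, Int.cast_mul, Int.cast_natCast, div_eq_mul_inv]
      rw [← inv1 (hqa c)]; ring
    have gr : ∀ c, g (r c) = ((fv i c * fv j c * fv l c : ℤ) : ℂ) * ((QQ c : ℤ) : ℂ)⁻¹ := fun c => by
      simp only [hg, νr, hQQ, Int.cast_mul, Int.cast_natCast, div_eq_mul_inv]
      rw [← inv1 (hrb c)]; ring
    have gμ : ∀ x, g (μ x) = ((rv i x * rv j x * rv l x : ℤ) : ℂ) * ((sd : ℤ) : ℂ)⁻¹ := fun x => by
      have : (dg (μ x) : ℂ) = dg (μ 0) := by exact_mod_cast hdμ x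
      simp only [hg, νμ, hsd, Int.cast_mul, Int.cast_natCast, div_eq_mul_inv, this]
      rw [← inv1 hε]; ring
    have gK : ∑ χ ∈ R', g χ = K := Finset.sum_congr rfl fun χ hχ => by
      simp only [hg, νR _ χ hχ]
      push_cast
      ring
    simp only [gP, gπ, gq, gr, gμ, gK, ← Finset.sum_mul] at splitC
    simp only [mul_add, Finset.sum_add_distrib]
    linear_combination -splitC
  set mm : Fin 3 → ℂ := fun c => ((PP c : ℤ) : ℂ)⁻¹ + ((QQ c : ℤ) : ℂ)⁻¹ - 4 * ((sd : ℤ) : ℂ)⁻¹ with hmm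
  set C := 1 + ∑ c, ((lam c : ℤ) : ℂ)⁻¹ + K with hC
  have E01 := EQ 0 0 1 (by decide)
  have E10 := EQ 1 1 0 (by decide)
  have E02 := EQ 0 0 2 (by decide)
  have E20 := EQ 2 2 0 (by decide)
  have E12 := EQ 1 1 2 (by decide)
  have E21 := EQ 2 2 1 (by decide)
  have D := EQ 0 1 2 (by decide)
  simp only [Fin.sum_univ_three, fv, rv, Fin.reduceEq, if_true, if_false] at E01 E10 E02 E20 E12 E21 D
  norm_num at E01 E10 E02 E20 E12 E21 D
  have hmz : ∀ c, mm c = 0 := by
    have m01 : mm 0 = mm 1 := by simp only [hmm]; linear_combination (E01 - E10) / 6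
    have m12 : mm 1 = mm 2 := by simp only [hmm]; linear_combination (E02 - E01) / 12
    have m0 : mm 0 = 0 := by
      have p : mm 0 + mm 1 + mm 2 = 0 := by
        simp only [hmm]
        linear_combination (E01 + E10 + E02 + E20 + E12 + E21 - 6 * D) / 36
      linear_combination (p + 2 * m01 + m12) / 3
    intro c; fin_cases c
    exacts [m0, m01 ▸ m0, m12 ▸ m01 ▸ m0]
  have nzd : ∀ {z : ℤ} {χ : Cfsg.IrrCharacter G}, (z = 1 ∨ z = -1) →
      ((z * (dg χ : ℤ) : ℤ) : ℂ) ≠ 0 := by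
    intro z χ hz
    have := hdg0 χ
    have h1 : (0 : ℤ) < dg χ := by exact_mod_cast this
    exact_mod_cast mul_ne_zero (by rcases hz with rfl | rfl <;> omega) h1.ne'
  have hxy : ∀ c, PP c = QQ c := by
    intro c
    have hsum : sd = PP c + QQ c := by
      rw [dE, dA, dB, Fin.sum_univ_three, Fin.sum_univ_three]
      fin_cases c <;> simp <;> ring
    have h0 := hmz c
    simp only [hmm] at h0
    have hp : ((PP c : ℤ) : ℂ) ≠ 0 := nzd (hqa c)
    have hq : ((QQ c : ℤ) : ℂ) ≠ 0 := nzd (hrb c)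
    have hs : ((sd : ℤ) : ℂ) ≠ 0 := nzd hε
    field_simp at h0
    have hc : ((sd : ℤ) : ℂ) = (PP c : ℂ) + (QQ c : ℂ) := by exact_mod_cast hsum
    have : ((PP c : ℂ) - QQ c) ^ 2 = 0 := by
      rw [hc] at h0
      linear_combination h0
    exact_mod_cast sub_eq_zero.1 (pow_eq_zero_iff (n := 2) (by norm_num) |>.1 this)
  have hlam1 : ∀ c, lam c = 1 := by
    have h0 := hxy 0
    have h1 := hxy 1
    have h2 := hxy 2
    rw [dA, dB, Fin.sum_univ_three] at h0 h1 h2
    simp only [Fin.reduceEq, if_true, if_false] at h0 h1 h2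
    intro c; fin_cases c <;> simp <;> omega
  refine ⟨π, hπinj, fun c => ⟨(memN.1 (hπN c)).1, ?_⟩⟩
  rw [hdg]
  have h1 := hlam1 c
  simp only [hlam] at h1
  rcases hπe c with h0 | h0 <;> rw [h0] at h1
  · exact_mod_cast (show (dg (π c) : ℤ) = 1 by omega)
  · exfalso
    have := hdg0 (π c)
    omega

end CfsgLib.ThreeCube
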