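import Cfsg.Agent.Lib.Recog.ThreeCubeGram
import Cfsg.Agent.Lib.PermChar.Basic
import Mathlib.GroupTheory.SpecificGroups.Dihedral
import Mathlib.GroupTheory.Perm.Fin
import Mathlib.Algebra.Group.Subgroup.Map

/-!
The group `3³:2²` as the even part of the cube of the dihedral group of order six, the character
functions on it and their inner products, computed by evaluation.
-/

set_option autoImplicit false
set_option maxRecDepth 100000

namespace CfsgLib.ThreeCube

/-- the dihedral group of order six -/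
abbrev Dih := DihedralGroup 3

/-- the sign -/
def sg : Dih → ℤ
  | .r _ => 1
  | .sr _ => -1

/-- the character of degree two -/
def chi : Dih → ℤ
  | .r i => if i = 0 then 2 else -1
  | .sr _ => 0

theorem sg_mul : ∀ a b : Dih, sg (a * b) = sg a * sg b := by decide

/-- the model -/
def Mdl : Subgroup (Dih × Dih × Dih) where
  carrier := {x | sg x.1 * sg x.2.1 * sg x.2.2 = 1}
  one_mem' := rfl
  mul_mem' {x y} hx hy := by
    simp only [Set.mem_setOf_eq] at hx hy ⊢
    rw [Prod.fst_mul, Prod.snd_mul, Prod.fst_mul, Prod.snd_mul, sg_mul, sg_mul, sg_mul]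
    linear_combination (sg y.1 * sg y.2.1 * sg y.2.2) * hx + hy
  inv_mem' {x} hx := by
    have e : ∀ a : Dih, sg a⁻¹ = sg a := by decide
    simp only [Set.mem_setOf_eq, Prod.fst_inv, Prod.snd_inv, e] at hx ⊢
    exact hx

instance decidableMemMdl : DecidablePred (· ∈ Mdl) := fun x =>
  inferInstanceAs (Decidable (sg x.1 * sg x.2.1 * sg x.2.2 = 1))

/-- the elements of the model -/
abbrev Md := ↥Mdl

/-- the coordinates -/
def co (c : Fin 3) (x : Md) : Dih := ![x.1.1, x.1.2.1, x.1.2.2] c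

theorem co_mul : ∀ (c : Fin 3) (x y : Md), co c (x * y) = co c x * co c y := by
  intro c x y; fin_cases c <;> rfl

/-- linear characters -/
def lam (c : Fin 3) (x : Md) : ℤ := sg (co c x)
/-- characters of degree two -/
def eta (c : Fin 3) (x : Md) : ℤ := chi (co c x)
/-- the other characters of degree two -/
def eta' (c : Fin 3) (x : Md) : ℤ := chi (co c x) * sg (co (c + 1) x)
/-- characters of degree four -/
def rr (c : Fin 3) (x : Md) : ℤ := chi (co (c + 1) x) * chi (co (c + 2) x)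
/-- the character of degree eight -/
def uu (x : Md) : ℤ := chi (co 0 x) * chi (co 1 x) * chi (co 2 x)

/-- virtual characters supported on the singular elements -/
def mA (c : Fin 3) (x : Md) : ℤ := eta c x - 1 - lam c x
/-- virtual characters supported on the singular elements -/
def mB (c : Fin 3) (x : Md) : ℤ := eta' c x - lam (c + 1) x - lam (c + 2) x
/-- virtual characters supported on the singular elements -/
def mE (x : Md) : ℤ := 1 + lam 0 x + lam 1 x + lam 2 x - rr 0 x
/-- virtual characters supported on the singular elements -/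
def mW (x : Md) : ℤ := uu x - 2 * rr 0 x
/-- virtual characters supported on the singular elements -/
def mT (c : Fin 3) (x : Md) : ℤ := rr c x - rr 0 x

/-- a 3-element in one coordinate -/
def pt (i : Fin 3) : Md :=
  ![⟨(.r 1, 1, 1), rfl⟩, ⟨(1, .r 1, 1), rfl⟩, ⟨(1, 1, .r 1), rfl⟩] i

/-- the class function which is `54` on the class of `pt i` -/
def mPhi (i : Fin 3) (x : Md) : ℤ := if x = pt i ∨ x = (pt i)⁻¹ then 54 else 0

/-- `108` times the inner product -/
def ip (f g : Md → ℤ) : ℤ := ∑ x, f x * g x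

theorem card_Md : Fintype.card Md = 108 := by decide +kernel

theorem phi_eq : ∀ i x, mPhi i x = (∑ c, fv i c * (mA c x + mB c x)) - (∑ c, rv i c * (mE x - mT c x)) -
    2 * (mW x - 2 * mE x) := by decide +kernel

theorem ip_TT : ∀ x y : Fin 3, x ≠ 0 → y ≠ 0 → ip (mT x) (mT y) = 108 * if x = y then 2 else 1 := by
  decide +kernel
theorem ip_one : (∀ x, ip (mT x) 1 = 108 * 0) ∧ (∀ c, ip (mA c) 1 = 108 * -1) ∧ (∀ c, ip (mB c) 1 = 108 * 0) ∧
    ip mE 1 = 108 * 1 ∧ ip mW 1 = 108 * 0 := by decide +kernel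
theorem ip_AT : ∀ c x : Fin 3, ip (mA c) (mT x) = 108 * 0 ∧ ip (mB c) (mT x) = 108 * 0 := by decide +kernel
theorem ip_EWT : ∀ x : Fin 3, x ≠ 0 → ip mE (mT x) = 108 * 1 ∧ ip mW (mT x) = 108 * 2 := by decide +kernel
theorem ip_AB : ∀ c d : Fin 3, ip (mA c) (mA d) = 108 * (if c = d then 3 else 1) ∧
    ip (mA c) (mB d) = 108 * (if c = d then 0 else 1) ∧ ip (mB c) (mB d) = 108 * (if c = d then 3 else 1) := by
  decide +kernel
theorem ip_EW : (∀ c, ip mE (mA c) = 108 * -2 ∧ ip mE (mB c) = 108 * -2 ∧ ip mW (mA c) = 108 * 0 ∧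
    ip mW (mB c) = 108 * 0) ∧ ip mE mE = 108 * 5 ∧ ip mW mE = 108 * 2 ∧ ip mW mW = 108 * 6 := by decide +kernel

theorem support : ∀ x : Md, x * x = 1 →
    (∀ c, mT c x = 0 ∧ mA c x = 0 ∧ mB c x = 0) ∧ mE x = 0 ∧ mW x = 0 := by decide +kernel

/-- the rotations -/
def IsRot (x : Md) : Prop := sg x.1.1 = 1 ∧ sg x.1.2.1 = 1 ∧ sg x.1.2.2 = 1

instance decidableIsRot : DecidablePred IsRot := fun x => by unfold IsRot; infer_instance

theorem rot_iff : ∀ x : Md, IsRot x ↔ x * x * x = 1 := by decide +kernel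
theorem card_rot : (Finset.univ.filter IsRot : Finset Md).card = 27 := by decide +kernel
theorem rot_comm : ∀ x y : Md, IsRot x → IsRot y → x * y = y * x := by decide +kernel
theorem cube_sq : ∀ x : Md, x * x ≠ 1 → (x * x) * (x * x) * (x * x) = 1 := by decide +kernel
theorem rot_of_pow : ∀ x : Md, x ^ 27 = 1 → IsRot x := by decide +kernel
theorem conj_pt : ∀ (i : Fin 3) (m : Md), m * pt i * m⁻¹ = pt i ∨ m * pt i * m⁻¹ = (pt i)⁻¹ := by decide +kernel
theorem pt_conj_inv : ∀ i : Fin 3, ∃ m : Md, m * pt i * m⁻¹ = (pt i)⁻¹ := by decide +kernel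
theorem pt_ne : ∀ i j : Fin 3, (pt i = pt j ∨ pt i = (pt j)⁻¹) → i = j := by decide +kernel
theorem pt_sum : ∀ i j l : Fin 3, ∀ x ∈ [pt i, (pt i)⁻¹], ∀ y ∈ [pt j, (pt j)⁻¹], x * y = pt l →
    i = j ∧ j = l := by decide +kernel
theorem pt_rot : ∀ i : Fin 3, IsRot (pt i) ∧ pt i ≠ 1 := by decide +kernel

/-- the two generating involutions -/
def va : Md := ⟨(1, .sr 0, .sr 0), rfl⟩
/-- the two generating involutions -/
def vb : Md := ⟨(.sr 0, 1, .sr 0), rfl⟩

theorem v_sq : va * va = 1 ∧ vb * vb = 1 := by decide +kernel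

theorem rot_commutator : ∀ t : Md, IsRot t → ∃ hf : ((t.1.1, 1, 1) : Dih × Dih × Dih) ∈ Mdl,
    t = (va * t * va⁻¹ * t⁻¹) * (vb * ⟨_, hf⟩ * vb⁻¹ * (⟨_, hf⟩ : Md)⁻¹) := by decide +kernel

theorem rot_mul_v : ∀ m : Md, IsRot m ∨ IsRot (m * va) ∨ IsRot (m * vb) ∨ IsRot (m * (va * vb)) := by
  decide +kernel

/-- the action on three points -/
def dperm : Dih → Equiv.Perm (Fin 3)
  | .r i => Equiv.addRight (i : Fin 3)
  | .sr i => (Equiv.addRight (i : Fin 3)).trans (Equiv.neg (Fin 3))

theorem dperm_spec : (∀ a b : Dih, dperm (a * b) = dperm a * dperm b) ∧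
    ∀ a : Dih, chi a = ((Finset.univ.filter fun x : Fin 3 => dperm a x = x).card : ℤ) - 1 := by
  decide +kernel

end CfsgLib.ThreeCube
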