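import Cfsg.Agent.Lib.Recog.U34Data

/-! The kernel computation for `U34Data`. -/

set_option autoImplicit false
set_option maxHeartbeats 4000000
set_option maxRecDepth 100000

namespace CfsgLib.Recog.GF16

theorem check_0 : ((reps.drop 0).take 10).all checkRep = true := by
  decide +kernel

theorem check_1 : ((reps.drop 10).take 10).all checkRep = true := by
  decide +kernel

theorem check_2 : ((reps.drop 20).take 10).all checkRep = true := by
  decide +kernel

theorem check_3 : ((reps.drop 30).take 10).all checkRep = true := by
  decide +kernel

theorem check_4 : ((reps.drop 40).take 10).all checkRep = true := by
  decide +kernel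

theorem check_5 : ((reps.drop 50).take 10).all checkRep = true := by
  decide +kernel

theorem check_6 : ((reps.drop 60).take 10).all checkRep = true := by
  decide +kernel

theorem check_7 : ((reps.drop 70).take 10).all checkRep = true := by
  decide +kernel

end CfsgLib.Recog.GF16
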