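import Cfsg.Agent.Lib.Recog.GF16

/-!
Finite verification for a 12-dimensional mod 5 class function of `SU(3,4)`: its sum over each coset
of a subgroup of order 13 vanishes.
-/

set_option autoImplicit false

namespace CfsgLib.Recog.GF16

/-- A `3 × 3` matrix over `K16`. -/
structure M3 where
  a00 : K16
  a01 : K16
  a02 : K16
  a10 : K16
  a11 : K16
  a12 : K16
  a20 : K16
  a21 : K16
  a22 : K16
deriving DecidableEq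

/-- A matrix from numerals. -/
def mk (a b c d e f g h i : Fin 16) : M3 := ⟨⟨a⟩, ⟨b⟩, ⟨c⟩, ⟨d⟩, ⟨e⟩, ⟨f⟩, ⟨g⟩, ⟨h⟩, ⟨i⟩⟩

/-- Product of matrices. -/
def mmul (p q : M3) : M3 :=
  ⟨add (add (mul p.a00 q.a00) (mul p.a01 q.a10)) (mul p.a02 q.a20),
   add (add (mul p.a00 q.a01) (mul p.a01 q.a11)) (mul p.a02 q.a21),
   add (add (mul p.a00 q.a02) (mul p.a01 q.a12)) (mul p.a02 q.a22),
   add (add (mul p.a10 q.a00) (mul p.a11 q.a10)) (mul p.a12 q.a20),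
   add (add (mul p.a10 q.a01) (mul p.a11 q.a11)) (mul p.a12 q.a21),
   add (add (mul p.a10 q.a02) (mul p.a11 q.a12)) (mul p.a12 q.a22),
   add (add (mul p.a20 q.a00) (mul p.a21 q.a10)) (mul p.a22 q.a20),
   add (add (mul p.a20 q.a01) (mul p.a21 q.a11)) (mul p.a22 q.a21),
   add (add (mul p.a20 q.a02) (mul p.a21 q.a12)) (mul p.a22 q.a22)⟩

/-- Equality of field elements, as a Boolean. -/
def eqb (a b : K16) : Bool := Nat.beq a.val.1 b.val.1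

/-- Trace. -/
def mtr (p : M3) : K16 := add (add p.a00 p.a11) p.a22

/-- Scalar shift of the diagonal. -/
def mshift (p : M3) (c : K16) : M3 :=
  { p with a00 := add p.a00 c, a11 := add p.a11 c, a22 := add p.a22 c }

/-- Is the matrix zero? -/
def mzero (p : M3) : Bool :=
  eqb p.a00 0 && eqb p.a01 0 && eqb p.a02 0 && eqb p.a10 0 && eqb p.a11 0 && eqb p.a12 0 &&
    eqb p.a20 0 && eqb p.a21 0 && eqb p.a22 0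

/-- Is the matrix the identity? -/
def mone (p : M3) : Bool :=
  eqb p.a00 1 && eqb p.a01 0 && eqb p.a02 0 && eqb p.a10 0 && eqb p.a11 1 && eqb p.a12 0 &&
    eqb p.a20 0 && eqb p.a21 0 && eqb p.a22 1

/-- The generic part of the class function, in terms of the trace `t`. -/
def base (t : K16) : ℕ :=
  if eqb (mul (mul t t) t) 1 && !eqb t 1 then 2
  else if eqb (mul (bar t) t) 1 && !eqb t 1 then 1
  else if eqb (add (add (bar t) (mul (mul t t) t)) 1) 0 then 4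
  else 0

/-- The class function, modulo 5. -/
def phiN (p : M3) : ℕ :=
  let t := mtr p
  if eqb t 1 && mone p then 2
  else base t + if eqb (mul (bar t) t) 1 && mzero (mmul (mshift p (mul t t)) (mshift p t))
    then 1 else 0

/-- The powers of an element of order 13. -/
def powers : List M3 := [
  mk 1 0 0 0 1 0 0 0 1,
  mk 3 8 3 12 10 10 3 12 7,
  mk 10 3 3 11 3 12 3 8 2,
  mk 15 5 9 14 5 1 9 15 4,
  mk 3 3 12 11 1 2 12 13 11,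
  mk 5 9 10 4 6 10 10 12 8,
  mk 4 10 9 15 14 6 9 4 1,
  mk 5 8 14 12 9 5 14 6 1,
  mk 4 5 12 14 6 10 12 12 15,
  mk 2 13 10 2 1 11 10 3 13,
  mk 8 9 14 4 4 8 14 1 5,
  mk 12 13 2 2 2 15 2 10 3,
  mk 2 10 2 15 12 10 2 12 7]

/-- First-column transversal under the element of order 13. -/
def reps : List M3 := [
  mk 0 0 1 0 1 0 1 0 0,
  mk 0 0 15 0 1 0 8 0 0,
  mk 0 0 12 0 1 0 10 0 0,
  mk 0 0 10 0 1 0 12 0 0,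
  mk 0 0 8 0 1 0 15 0 0,
  mk 0 0 1 1 0 0 0 1 0,
  mk 0 0 12 2 4 0 4 13 0,
  mk 0 0 1 2 4 0 5 3 0,
  mk 0 0 8 2 4 0 6 2 0,
  mk 0 0 10 2 4 0 9 7 0,
  mk 0 0 15 2 4 0 14 11 0,
  mk 0 0 12 3 4 0 4 7 0,
  mk 0 0 8 3 4 0 6 13 0,
  mk 0 0 15 3 4 0 14 3 0,
  mk 0 0 8 4 2 0 2 6 0,
  mk 0 0 1 4 2 0 3 5 0,
  mk 0 0 10 4 2 0 7 9 0,
  mk 0 0 15 4 2 0 11 14 0,
  mk 0 0 12 4 2 0 13 4 0,
  mk 0 0 8 5 2 0 2 9 0,
  mk 0 0 1 5 2 0 3 4 0,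
  mk 0 0 10 5 2 0 7 5 0,
  mk 0 0 15 5 2 0 11 6 0,
  mk 0 0 12 5 2 0 13 14 0,
  mk 0 0 8 6 2 0 2 4 0,
  mk 0 0 12 7 4 0 4 3 0,
  mk 0 0 1 7 4 0 5 7 0,
  mk 0 0 8 7 4 0 6 11 0,
  mk 0 0 10 7 4 0 9 2 0,
  mk 0 0 15 7 4 0 14 13 0,
  mk 0 0 15 8 0 0 0 1 0,
  mk 0 0 1 9 2 0 3 14 0,
  mk 0 0 10 9 2 0 7 4 0,
  mk 0 0 12 9 2 0 13 6 0,
  mk 0 0 12 10 0 0 0 1 0,
  mk 0 0 1 11 4 0 5 13 0,
  mk 0 0 10 12 0 0 0 1 0,
  mk 0 0 10 13 4 0 9 13 0,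
  mk 0 0 15 14 2 0 11 4 0,
  mk 0 0 8 15 0 0 0 1 0,
  mk 1 0 0 0 0 1 0 1 0,
  mk 1 1 1 1 2 3 1 3 2,
  mk 1 1 10 1 2 13 12 7 2,
  mk 1 1 8 2 1 11 2 15 2,
  mk 1 1 1 2 1 3 3 1 2,
  mk 1 1 10 2 1 13 7 12 2,
  mk 1 1 10 3 1 7 11 12 3,
  mk 1 1 12 4 1 9 4 10 4,
  mk 1 1 10 4 1 4 9 12 4,
  mk 1 1 15 4 1 6 14 8 4,
  mk 1 1 15 5 1 9 6 8 5,
  mk 1 1 12 7 10 3 3 1 11,
  mk 1 1 1 7 10 13 7 12 11,
  mk 1 1 15 8 3 3 1 3 13,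
  mk 1 1 8 8 3 7 10 13 13,
  mk 1 1 10 9 5 1 4 5 10,
  mk 1 1 8 9 5 10 5 9 10,
  mk 1 1 15 9 5 8 9 6 10,
  mk 1 1 1 9 5 12 14 4 10,
  mk 1 1 12 10 4 4 1 4 9,
  mk 1 1 8 10 4 9 8 6 9,
  mk 1 1 10 10 4 6 15 9 9,
  mk 1 1 15 11 3 1 2 3 15,
  mk 1 1 8 11 3 12 7 13 15,
  mk 1 1 15 12 5 14 15 6 14,
  mk 1 1 12 13 2 8 2 13 8,
  mk 1 1 15 13 2 10 7 11 8,
  mk 1 1 12 14 4 1 5 4 12,
  mk 1 1 8 14 4 15 14 6 12,
  mk 1 1 1 15 2 13 8 3 11,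
  mk 2 0 5 0 1 0 4 0 3,
  mk 2 0 4 1 4 14 2 13 15,
  mk 2 0 9 7 2 8 1 14 5,
  mk 2 0 5 8 4 6 7 3 15,
  mk 2 0 6 10 4 5 13 2 15,
  mk 2 0 5 11 2 10 12 6 5,
  mk 2 0 5 12 4 5 7 2 15,
  mk 2 0 5 13 2 1 12 9 5,
  mk 3 0 14 10 4 14 11 7 10,
  mk 4 0 13 12 2 11 14 14 15]

/-- The parameters of the stabiliser of the first basis vector. -/
def params : List (K16 × K16) := [
  (⟨0⟩, ⟨1⟩), (⟨0⟩, ⟨8⟩), (⟨0⟩, ⟨10⟩), (⟨0⟩, ⟨12⟩), (⟨0⟩, ⟨15⟩), (⟨1⟩, ⟨0⟩), (⟨2⟩, ⟨4⟩), (⟨2⟩, ⟨5⟩), (⟨2⟩, ⟨6⟩), (⟨2⟩, ⟨9⟩), (⟨2⟩, ⟨14⟩), (⟨3⟩, ⟨4⟩), (⟨3⟩, ⟨5⟩), (⟨3⟩, ⟨6⟩), (⟨3⟩, ⟨9⟩), (⟨3⟩, ⟨14⟩), (⟨4⟩, ⟨2⟩), (⟨4⟩, ⟨3⟩), (⟨4⟩, ⟨7⟩), (⟨4⟩, ⟨11⟩), (⟨4⟩, ⟨13⟩), (⟨5⟩, ⟨2⟩), (⟨5⟩, ⟨3⟩), (⟨5⟩, ⟨7⟩), (⟨5⟩, ⟨11⟩), (⟨5⟩, ⟨13⟩), (⟨6⟩, ⟨2⟩), (⟨6⟩, ⟨3⟩), (⟨6⟩, ⟨7⟩), (⟨6⟩, ⟨11⟩), (⟨6⟩, ⟨13⟩), (⟨7⟩, ⟨4⟩), (⟨7⟩, ⟨5⟩), (⟨7⟩, ⟨6⟩), (⟨7⟩, ⟨9⟩), (⟨7⟩, ⟨14⟩),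 (⟨8⟩, ⟨0⟩), (⟨9⟩, ⟨2⟩), (⟨9⟩, ⟨3⟩), (⟨9⟩, ⟨7⟩), (⟨9⟩, ⟨11⟩), (⟨9⟩, ⟨13⟩), (⟨10⟩, ⟨0⟩), (⟨11⟩, ⟨4⟩), (⟨11⟩, ⟨5⟩), (⟨11⟩, ⟨6⟩), (⟨11⟩, ⟨9⟩), (⟨11⟩, ⟨14⟩), (⟨12⟩, ⟨0⟩), (⟨13⟩, ⟨4⟩), (⟨13⟩, ⟨5⟩), (⟨13⟩, ⟨6⟩), (⟨13⟩, ⟨9⟩), (⟨13⟩, ⟨14⟩), (⟨14⟩, ⟨2⟩), (⟨14⟩, ⟨3⟩), (⟨14⟩, ⟨7⟩), (⟨14⟩, ⟨11⟩), (⟨14⟩, ⟨13⟩), (⟨15⟩, ⟨0⟩)]

/-- The element of the stabiliser with parameters `(a, b)`. -/
def stab (ab : K16 × K16) : M3 :=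
  ⟨1, 0, 0, 0, ab.1, bar ab.2, 0, ab.2, bar ab.1⟩

/-- The coset sum. -/
def cosetSum (y : M3) : ℕ := (powers.map fun x => phiN (mmul y x)).sum % 5

/-- The coset sums vanish at one representative. -/
def checkRep (r : M3) : Bool := params.all fun ab => Nat.beq (cosetSum (mmul r (stab ab))) 0

/-- The norm-one vectors, as a bit set. -/
def normOneMask : ℕ := 0x95024270288c9502288c950242709502288c427042704270288c288c95020001427095020001427000014270950242700001950295029502000100014270288c288c00019502288c9502288c0001288c950200010001000195029502288c427095024270288c9502288c950242709502288c427042704270288c288c95020001288c00019502288c9502288c0001288c950200010001000195029502288c427095024270288c9502288c950242709502288c427042704270288c288c95020001427095020001427000014270950242700001950295029502000100014270288c950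24270288c9502288c950242709502288c427042704270288c288c95020001288c00019502288c9502288c0001288c950200010001000195029502288c4270427095020001427000014270950242700001950295029502000100014270288c427095020001427000014270950242700001950295029502000100014270288c427095020001427000014270950242700001950295029502000100014270288c288c00019502288c9502288c0001288c950200010001000195029502288c4270288c00019502288c9502288c0001288c950200010001000195029502288c427095024270288c9502288c950242709502288c427042704270288c288c950200010001288c4270000142700001288c00014270288c288c288c4270427000019502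

/-- Code of a vector. -/
def code (a b c : K16) : ℕ := 256 * a.val.1 + 16 * b.val.1 + c.val.1

/-- The first columns of all translates of the representatives. -/
def columns : List ℕ :=
  reps.flatMap fun r => powers.map fun x =>
    let y := mmul x r
    code y.a00 y.a10 y.a20

end CfsgLib.Recog.GF16
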