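import Cfsg.Agent.Lib.Recog.U34Module
import Cfsg.Agent.Lib.Recog.PrimeGraph
import Cfsg.Agent.Lib.Classical.Herm.Apps

/-!
Groups of arbitrarily large order with the prime graph of `SU(3,4)`: `V ⋊ SU(3,4)` for a module in
characteristic 5 on which the elements of order 13 fix only `0`.
-/

set_option autoImplicit false

namespace CfsgLib.Recog.GF16

open Matrix

theorem card_U34 : Nat.card U34 = 62400 := by
  have hF : Fintype.card K16 = 4 ^ 2 := by rw [card_K16]; norm_num
  have h := CfsgLib.Classical.Herm.card_psu (F := K16) (q := 4) hF (n := 3) (by norm_num)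
  have hz := CfsgLib.Classical.Herm.card_center_su (F := K16) (q := 4) hF (n := 3) le_rfl
  norm_num [Finset.prod_range_succ, Nat.even_iff] at h
  replace hz : Nat.card ↥(Subgroup.center U34) = 1 := hz.trans (by norm_num)
  rw [Subgroup.card_eq_card_quotient_mul_card_subgroup (Subgroup.center U34), hz]
  show Nat.card (Cfsg.PSU 3 K16 4) * 1 = 62400
  omega

/-- An element of order 10. -/
def x10 : U34 := mkU (mk 0 8 0 8 0 0 0 0 10) (by decide +kernel)

/-- An element of order 15. -/
def x15 : U34 := mkU (mk 3 14 0 6 11 0 0 0 10) (by decide +kernel)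

theorem mkU_pow_eq_one_iff {p : M3} (h : isSU p = true) (n : ℕ) :
    mkU p h ^ n = 1 ↔ mpow p n = mI := by
  constructor
  · intro e
    apply toMat_injective
    rw [toMat_mpow, toMat_mI, ← mat_one, ← e, mat_pow]
    rfl
  · intro e
    apply mat_injective
    rw [mat_pow, mat_one, show mat (mkU p h) = toMat p from rfl, ← toMat_mpow, e, toMat_mI]

theorem orderOf_mkU {p : M3} (h : isSU p = true) {n : ℕ} (hn : 0 < n) (h1 : mpow p n = mI)
    (h2 : ∀ m < n, 0 < m → mpow p m ≠ mI) : orderOf (mkU p h) = n :=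
  (orderOf_eq_iff hn).2 ⟨(mkU_pow_eq_one_iff h n).2 h1,
    fun m hm hm0 => fun e => h2 m hm hm0 ((mkU_pow_eq_one_iff h m).1 e)⟩

theorem orderOf_x10 : orderOf x10 = 5 * 2 :=
  orderOf_mkU _ (by norm_num) (by decide +kernel) (by decide +kernel)

theorem orderOf_x15 : orderOf x15 = 5 * 3 :=
  orderOf_mkU _ (by norm_num) (by decide +kernel) (by decide +kernel)

/-- Functions whose sums over all translates of the conjugates of `⟨tU⟩` vanish. -/
def modW : AddSubgroup (U34 → ZMod 5) where
  carrier := {f | ∀ c x : U34, ∑ i ∈ Finset.range 13, f (x * (c * tU ^ i * c⁻¹)) = 0}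
  zero_mem' := fun c x => by simp
  add_mem' := fun {f g} hf hg c x => by
    simp only [Pi.add_apply, Finset.sum_add_distrib, hf c x, hg c x, add_zero]
  neg_mem' := fun {f} hf c x => by
    simp only [Pi.neg_apply, Finset.sum_neg_distrib, hf c x, neg_zero]

theorem shift_mem {f : U34 → ZMod 5} (hf : f ∈ modW) (g : U34) :
    (fun x => f (x * g)) ∈ modW := by
  intro c x
  refine Eq.trans (Finset.sum_congr rfl fun i _ => ?_) (hf (g⁻¹ * c) (x * g))
  show f (x * (c * tU ^ i * c⁻¹) * g) = f _
  congr 1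
  group

/-- Translation of functions. -/
def shift (g : U34) : ↥modW ≃+ ↥modW where
  toFun f := ⟨fun x => (f : U34 → ZMod 5) (x * g), shift_mem f.2 g⟩
  invFun f := ⟨fun x => (f : U34 → ZMod 5) (x * g⁻¹), shift_mem f.2 g⁻¹⟩
  left_inv f := Subtype.ext (funext fun x => by simp)
  right_inv f := Subtype.ext (funext fun x => by simp)
  map_add' f g := rfl

/-- The module. -/
def action : U34 →* MulAut (Multiplicative ↥modW) where
  toFun g := AddEquiv.toMultiplicative (shift g)
  map_one' := by
    ext f : 1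
    apply Multiplicative.toAdd.injective
    exact Subtype.ext (funext fun x => congrArg _ (mul_one x))
  map_mul' a b := by
    ext f : 1
    apply Multiplicative.toAdd.injective
    exact Subtype.ext (funext fun x => congrArg _ (mul_assoc x a b).symm)

theorem phi_mem : phi ∈ modW := by
  intro c x
  refine Eq.trans (Finset.sum_congr rfl fun i _ => ?_) (S_eq_zero (c⁻¹ * x * c))
  rw [← phi_conj c⁻¹ (x * (c * tU ^ i * c⁻¹))]
  congr 1
  group

theorem exists_conj {g : U34} (hg : orderOf g = 13) :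
    ∃ c : U34, c * tU * c⁻¹ ∈ Subgroup.zpowers g := by
  haveI : Fact (Nat.Prime 13) := ⟨by norm_num⟩
  have hsyl : ∀ a : U34, orderOf a = 13 → Nat.card ↥(Subgroup.zpowers a) =
      13 ^ (Nat.card U34).factorization 13 := by
    intro a ha
    have hf : (Nat.card U34).factorization 13 = 1 := by
      rw [card_U34, show (62400 : ℕ) = 13 ^ 1 * 4800 by norm_num,
        Nat.factorization_mul (by norm_num) (by norm_num), Finsupp.add_apply,
        Nat.Prime.factorization_pow (by norm_num), Finsupp.single_eq_same,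
        Nat.factorization_eq_zero_of_not_dvd (by norm_num)]
    rw [Nat.card_zpowers, ha, hf, pow_one]
  obtain ⟨c, hc⟩ := MulAction.exists_smul_eq U34 (Sylow.ofCard _ (hsyl tU orderOf_tU))
    (Sylow.ofCard _ (hsyl g hg))
  refine ⟨c, ?_⟩
  have h1 : c * tU * c⁻¹ ∈ (c • Sylow.ofCard _ (hsyl tU orderOf_tU) : Sylow 13 U34) :=
    ⟨tU, Subgroup.mem_zpowers tU, rfl⟩
  rw [hc] at h1
  exact h1

theorem thirteen_ne_zero : ((13 : ℕ) : ZMod 5) ≠ 0 := by decide

theorem fixed_eq_one {g : U34} (hg : orderOf g = 13) (v : Multiplicative ↥modW)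
    (hv : action g v = v) : v = 1 := by
  obtain ⟨c, hc⟩ := exists_conj hg
  set f : U34 → ZMod 5 := ((Multiplicative.toAdd v : ↥modW) : U34 → ZMod 5) with hf
  have hfix : ∀ x, f (x * g) = f x := fun x =>
    congrFun (congrArg Subtype.val (congrArg Multiplicative.toAdd hv)) x
  have hpow : ∀ k ∈ Subgroup.zpowers g, ∀ x, f (x * k) = f x := by
    intro k hk x
    obtain ⟨n, rfl⟩ := Submonoid.mem_powers_iff _ _ |>.1 (mem_powers_iff_mem_zpowers.2 hk)
    induction n with
    | zero => rw [pow_zero, mul_one]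
    | succ n ih => rw [pow_succ, ← mul_assoc, hfix, ih (Subgroup.npow_mem_zpowers g n)]
  apply Multiplicative.toAdd.injective
  refine Subtype.ext (funext fun x => ?_)
  have h0 : ∑ i ∈ Finset.range 13, f (x * (c * tU ^ i * c⁻¹)) = 0 :=
    (Multiplicative.toAdd v).2 c x
  have hmem : ∀ i : ℕ, c * tU ^ i * c⁻¹ ∈ Subgroup.zpowers g := fun i => by
    have he : (c * tU * c⁻¹) ^ i = c * tU ^ i * c⁻¹ := conj_pow
    exact he ▸ Subgroup.pow_mem _ hc i
  rw [Finset.sum_congr rfl fun i _ => hpow _ (hmem i) x, Finset.sum_const, Finset.card_range,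
    nsmul_eq_mul] at h0
  haveI : Fact (Nat.Prime 5) := ⟨by norm_num⟩
  exact (mul_eq_zero.1 h0).resolve_left thirteen_ne_zero

theorem nontrivial_modW : Nontrivial (Multiplicative ↥modW) :=
  nontrivial_of_ne (Multiplicative.ofAdd ⟨phi, phi_mem⟩) 1 fun h => by
    have h1 : phi 1 = 0 := congrFun (congrArg Subtype.val (congrArg Multiplicative.toAdd h)) 1
    rw [phi_one] at h1
    exact absurd h1 (by decide)

theorem isPGroup_modW : IsPGroup 5 (Multiplicative ↥modW) := fun v => ⟨1, by
  apply Multiplicative.toAdd.injective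
  refine Subtype.ext (funext fun x => ?_)
  rw [pow_one, toAdd_pow, toAdd_one, AddSubmonoidClass.coe_nsmul, ZeroMemClass.coe_zero,
    Pi.smul_apply, nsmul_eq_mul, Pi.zero_apply, ZMod.natCast_self, zero_mul]⟩

/-- Groups of arbitrarily large order with the prime graph of `SU(3,4)`. -/
theorem exists_large (N : ℕ) :
    ∃ (H : Type) (_ : Group H) (_ : Fintype H), N < Nat.card H ∧ SamePrimeGraph U34 H := by
  haveI : Fact (Nat.Prime 5) := ⟨by norm_num⟩
  haveI := nontrivial_modW
  refine exists_large_of_nonadjacent isPGroup_modW (by rw [card_U34]; norm_num) action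
    (fun g s hs hs5 hna hg v hv => ?_) N
  have hdvd : s ∣ 2 ^ 6 * 3 * 5 ^ 2 * 13 := by
    have := orderOf_dvd_natCard g
    rwa [hg, card_U34] at this
  rcases hs.dvd_mul.1 hdvd with h | h
  · rcases hs.dvd_mul.1 h with h | h
    · rcases hs.dvd_mul.1 h with h | h
      · obtain rfl := (Nat.prime_dvd_prime_iff_eq hs Nat.prime_two).1 (hs.dvd_of_dvd_pow h)
        exact absurd ⟨x10, orderOf_x10⟩ hna
      · obtain rfl := (Nat.prime_dvd_prime_iff_eq hs Nat.prime_three).1 h
        exact absurd ⟨x15, orderOf_x15⟩ hna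
    · exact absurd ((Nat.prime_dvd_prime_iff_eq hs Fact.out).1 (hs.dvd_of_dvd_pow h)) hs5
  · obtain rfl := (Nat.prime_dvd_prime_iff_eq hs (by norm_num)).1 h
    exact fixed_eq_one hg v hv

end CfsgLib.Recog.GF16
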