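import Cfsg.Prelude.Def_Classical
import Cfsg.Agent.Lib.Recog.U34Check
import Mathlib

/-!
A class function `φ` of `SU(3,4)` (over the model field `K16`) with values mod 5, nonzero at `1`,
whose sum over each coset of each subgroup of order 13 vanishes.
-/

set_option autoImplicit false

namespace CfsgLib.Recog.GF16

open Matrix

/-- `SU(3,4)` over the model field. -/
abbrev U34 : Type := ↥(Cfsg.SU 3 K16 4)

/-- The underlying matrix. -/
abbrev mat (g : U34) : Matrix (Fin 3) (Fin 3) K16 :=
  ((g : Matrix.SpecialLinearGroup (Fin 3) K16) : Matrix (Fin 3) (Fin 3) K16)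

theorem mat_mul (g h : U34) : mat (g * h) = mat g * mat h := rfl

theorem mat_one : mat (1 : U34) = 1 := rfl

theorem mat_injective {g h : U34} (e : mat g = mat h) : g = h := Subtype.ext (Subtype.ext e)

theorem mat_pow (g : U34) (n : ℕ) : mat (g ^ n) = mat g ^ n := by
  induction n with
  | zero => rfl
  | succ n ih => rw [pow_succ, mat_mul, ih, pow_succ]

/-- A triple-row matrix as a `Matrix`. -/
def toMat (p : M3) : Matrix (Fin 3) (Fin 3) K16 :=
  !![p.a00, p.a01, p.a02; p.a10, p.a11, p.a12; p.a20, p.a21, p.a22]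

theorem add_def (a b : K16) : add a b = a + b := rfl
theorem mul_def (a b : K16) : mul a b = a * b := rfl

theorem toMat_mmul (p q : M3) : toMat (mmul p q) = toMat p * toMat q := by
  ext i j
  fin_cases i <;> fin_cases j <;>
    simp [toMat, mmul, add_def, mul_def, Matrix.mul_apply, Fin.sum_univ_three]

theorem toMat_injective {p q : M3} (e : toMat p = toMat q) : p = q := by
  obtain ⟨a, b, c, d, f, g, h, i, j⟩ := p
  obtain ⟨a', b', c', d', f', g', h', i', j'⟩ := q
  have := fun k l => congrFun (congrFun e k) l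
  have h00 := this 0 0; have h01 := this 0 1; have h02 := this 0 2
  have h10 := this 1 0; have h11 := this 1 1; have h12 := this 1 2
  have h20 := this 2 0; have h21 := this 2 1; have h22 := this 2 2
  simp [toMat] at h00 h01 h02 h10 h11 h12 h20 h21 h22
  subst_vars
  rfl

theorem toMat_ofMat (A : Matrix (Fin 3) (Fin 3) K16) :
    toMat ⟨A 0 0, A 0 1, A 0 2, A 1 0, A 1 1, A 1 2, A 2 0, A 2 1, A 2 2⟩ = A :=
  (Matrix.eta_fin_three A).symm

/-- The identity. -/
def mI : M3 := ⟨1, 0, 0, 0, 1, 0, 0, 0, 1⟩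

theorem toMat_mI : toMat mI = 1 := Matrix.one_fin_three.symm

/-- The class function. -/
def phiM (A : Matrix (Fin 3) (Fin 3) K16) : ZMod 5 :=
  if A = 1 then 2
  else (base A.trace : ZMod 5) +
    if bar A.trace * A.trace = 1 ∧
      (A + Matrix.scalar (Fin 3) (A.trace * A.trace)) * (A + Matrix.scalar (Fin 3) A.trace) = 0
    then 1 else 0

theorem eqb_iff {a b : K16} : eqb a b = true ↔ a = b := by
  constructor
  · intro h
    have h1 : a.val.1 = b.val.1 := Nat.eq_of_beq_eq_true h
    exact congrArg K16.mk (Fin.ext h1)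
  · rintro rfl
    exact Nat.beq_refl _

theorem mzero_iff (p : M3) : mzero p = true ↔ toMat p = 0 := by
  have h0 : toMat (⟨0, 0, 0, 0, 0, 0, 0, 0, 0⟩ : M3) = 0 := by
    ext i j; fin_cases i <;> fin_cases j <;> rfl
  rw [← h0]
  constructor
  · intro h
    simp only [mzero, Bool.and_eq_true, eqb_iff] at h
    obtain ⟨⟨⟨⟨⟨⟨⟨⟨h1, h2⟩, h3⟩, h4⟩, h5⟩, h6⟩, h7⟩, h8⟩, h9⟩ := h
    obtain ⟨a, b, c, d, f, g, hh, i, j⟩ := p
    subst h1 h2 h3 h4 h5 h6 h7 h8 h9
    rfl
  · intro h
    rw [toMat_injective h]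
    rfl

theorem mone_iff (p : M3) : mone p = true ↔ toMat p = 1 := by
  rw [← toMat_mI]
  constructor
  · intro h
    simp only [mone, Bool.and_eq_true, eqb_iff] at h
    obtain ⟨⟨⟨⟨⟨⟨⟨⟨h1, h2⟩, h3⟩, h4⟩, h5⟩, h6⟩, h7⟩, h8⟩, h9⟩ := h
    obtain ⟨a, b, c, d, f, g, hh, i, j⟩ := p
    subst h1 h2 h3 h4 h5 h6 h7 h8 h9
    rfl
  · intro h
    rw [toMat_injective h]
    rfl

theorem mtr_eq (p : M3) : mtr p = (toMat p).trace := (Matrix.trace_fin_three (toMat p)).symm

theorem toMat_mshift (p : M3) (c : K16) :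
    toMat (mshift p c) = toMat p + Matrix.scalar (Fin 3) c := by
  ext i j
  fin_cases i <;> fin_cases j <;> simp [toMat, mshift, add_def]

theorem phiN_spec (p : M3) : (phiN p : ZMod 5) = phiM (toMat p) := by
  unfold phiN phiM
  simp only []
  rw [← mtr_eq]
  have htr : toMat p = 1 → mtr p = 1 := fun h => by
    rw [mtr_eq, h, Matrix.trace_fin_three]
    rfl
  by_cases h1 : toMat p = 1
  · rw [if_pos h1, if_pos (by simp [eqb_iff, mone_iff, h1, htr h1])]
    norm_num
  · rw [if_neg h1, if_neg (by simp [eqb_iff, mone_iff, h1])]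
    push_cast
    congr 1
    refine if_congr ?_ rfl rfl
    simp only [Bool.and_eq_true, eqb_iff, mzero_iff, toMat_mmul, toMat_mshift, mul_def]

theorem phiM_conj {P Q : Matrix (Fin 3) (Fin 3) K16} (h : P * Q = 1)
    (A : Matrix (Fin 3) (Fin 3) K16) : phiM (P * A * Q) = phiM A := by
  have h' : Q * P = 1 := mul_eq_one_comm.1 h
  have htr : (P * A * Q).trace = A.trace := by
    rw [Matrix.trace_mul_cycle, h', Matrix.one_mul]
  have hone : P * A * Q = 1 ↔ A = 1 := by
    refine ⟨fun e => ?_, fun e => by rw [e, Matrix.mul_one, h]⟩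
    calc A = (Q * P) * A * (Q * P) := by rw [h', Matrix.one_mul, Matrix.mul_one]
      _ = Q * (P * A * Q) * P := by simp only [Matrix.mul_assoc]
      _ = 1 := by rw [e, Matrix.mul_one, h']
  have hs : ∀ c : K16, P * A * Q + Matrix.scalar (Fin 3) c =
      P * (A + Matrix.scalar (Fin 3) c) * Q := fun c => by
    rw [Matrix.mul_add, Matrix.add_mul,
      ← (Matrix.scalar_commute c (fun r => Commute.all c r) P).eq, Matrix.mul_assoc _ P Q, h,
      Matrix.mul_one]
  have hz : ∀ X Y : Matrix (Fin 3) (Fin 3) K16, (P * X * Q) * (P * Y * Q) = 0 ↔ X * Y = 0 := by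
    intro X Y
    have e1 : (P * X * Q) * (P * Y * Q) = P * (X * Y) * Q := by
      calc _ = P * X * (Q * P) * Y * Q := by simp only [Matrix.mul_assoc]
        _ = _ := by rw [h', Matrix.mul_one, Matrix.mul_assoc P X Y]
    rw [e1]
    refine ⟨fun e => ?_, fun e => by rw [e, Matrix.mul_zero, Matrix.zero_mul]⟩
    calc X * Y = (Q * P) * (X * Y) * (Q * P) := by rw [h', Matrix.one_mul, Matrix.mul_one]
      _ = Q * (P * (X * Y) * Q) * P := by simp only [Matrix.mul_assoc]
      _ = 0 := by rw [e, Matrix.mul_zero, Matrix.zero_mul]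
  unfold phiM
  simp only [htr, hone, hs, hz]

/-- The class function on the group. -/
def phi (g : U34) : ZMod 5 := phiM (mat g)

theorem phi_one : phi 1 = 2 := by rw [phi, mat_one, phiM, if_pos rfl]

theorem phi_conj (c x : U34) : phi (c * x * c⁻¹) = phi x := by
  rw [phi, mat_mul, mat_mul]
  exact phiM_conj (by rw [← mat_mul, mul_inv_cancel, mat_one]) _

/-! ### Membership -/

theorem bar_add_aux : ∀ i j : Fin 16,
    bar (add ⟨i⟩ ⟨j⟩) = add (bar ⟨i⟩) (bar ⟨j⟩) ∧ bar (mul ⟨i⟩ ⟨j⟩) = mul (bar ⟨i⟩) (bar ⟨j⟩) := by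
  decide +kernel

theorem bar_bar_aux : ∀ i : Fin 16, bar (bar ⟨i⟩) = ⟨i⟩ := by
  decide +kernel

theorem bar_add (a b : K16) : bar (a + b) = bar a + bar b := (bar_add_aux a.val b.val).1
theorem bar_mul (a b : K16) : bar (a * b) = bar a * bar b := (bar_add_aux a.val b.val).2
theorem bar_bar (a : K16) : bar (bar a) = a := bar_bar_aux a.val

/-- Hermitian product of two triples. -/
def herm (a b c a' b' c' : K16) : K16 :=
  add (add (mul a (bar a')) (mul b (bar b'))) (mul c (bar c'))

/-- The test for membership in `SU(3,4)`. -/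
def isSU (p : M3) : Bool :=
  eqb (herm p.a00 p.a10 p.a20 p.a00 p.a10 p.a20) 1 &&
  eqb (herm p.a01 p.a11 p.a21 p.a01 p.a11 p.a21) 1 &&
  eqb (herm p.a02 p.a12 p.a22 p.a02 p.a12 p.a22) 1 &&
  eqb (herm p.a00 p.a10 p.a20 p.a01 p.a11 p.a21) 0 &&
  eqb (herm p.a00 p.a10 p.a20 p.a02 p.a12 p.a22) 0 &&
  eqb (herm p.a01 p.a11 p.a21 p.a02 p.a12 p.a22) 0 &&
  eqb (add (add (add (add (add (mul (mul p.a00 p.a11) p.a22) (mul (mul p.a00 p.a12) p.a21))
    (mul (mul p.a01 p.a10) p.a22)) (mul (mul p.a01 p.a12) p.a20))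
    (mul (mul p.a02 p.a10) p.a21)) (mul (mul p.a02 p.a11) p.a20)) 1

theorem two_eq_zero : (2 : K16) = 0 := by decide +kernel

theorem det_toMat {p : M3} (h : isSU p = true) : (toMat p).det = 1 := by
  simp only [isSU, Bool.and_eq_true, eqb_iff, add_def, mul_def] at h
  rw [Matrix.det_fin_three]
  simp only [toMat, Matrix.cons_val', Matrix.cons_val_zero, Matrix.cons_val_one,
    Matrix.empty_val', Matrix.cons_val_fin_one, Matrix.cons_val, Matrix.of_apply]
  have := h.2
  simp only [sub_eq_add_neg, neg_eq]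
  linear_combination this

theorem form_toMat {p : M3} (h : isSU p = true) (u v : Fin 3 → K16) :
    Cfsg.hermForm 3 K16 4 (toMat p *ᵥ u) (toMat p *ᵥ v) = Cfsg.hermForm 3 K16 4 u v := by
  simp only [isSU, Bool.and_eq_true, eqb_iff, herm, add_def, mul_def] at h
  obtain ⟨⟨⟨⟨⟨⟨h00, h11⟩, h22⟩, h01⟩, h02⟩, h12⟩, -⟩ := h
  have h10 := congrArg bar h01
  have h20 := congrArg bar h02
  have h21 := congrArg bar h12
  simp only [bar_add, bar_mul, bar_bar, show bar (0 : K16) = 0 from rfl] at h10 h20 h21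
  simp only [Cfsg.hermForm, Matrix.mulVec, dotProduct, Fin.sum_univ_three, toMat,
    Matrix.cons_val', Matrix.cons_val_zero, Matrix.cons_val_one, Matrix.empty_val',
    Matrix.cons_val_fin_one, Matrix.cons_val, Matrix.of_apply, pow_four, bar_add, bar_mul]
  linear_combination (u 0 * bar (v 0)) * h00 + (u 1 * bar (v 1)) * h11 +
    (u 2 * bar (v 2)) * h22 + (u 0 * bar (v 1)) * h01 + (u 0 * bar (v 2)) * h02 +
    (u 1 * bar (v 2)) * h12 + (u 1 * bar (v 0)) * h10 + (u 2 * bar (v 0)) * h20 +
    (u 2 * bar (v 1)) * h21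

/-- An element of `SU(3,4)` from a triple-row matrix. -/
def mkU (p : M3) (h : isSU p = true) : U34 := ⟨⟨toMat p, det_toMat h⟩, form_toMat h⟩

theorem col_herm (g : U34) (j k : Fin 3) :
    mat g 0 j * bar (mat g 0 k) + mat g 1 j * bar (mat g 1 k) + mat g 2 j * bar (mat g 2 k) =
      if j = k then 1 else 0 := by
  have h : Cfsg.hermForm 3 K16 4 (mat g *ᵥ Pi.single j 1) (mat g *ᵥ Pi.single k 1) =
      Cfsg.hermForm 3 K16 4 (Pi.single j 1) (Pi.single k 1) := g.2 _ _
  simp only [Cfsg.hermForm, Matrix.mulVec_single_one, Fin.sum_univ_three, Matrix.col_apply,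
    pow_four] at h
  rw [h]
  fin_cases j <;> fin_cases k <;> decide +kernel

/-! ### The element of order 13 and its powers -/

/-- The element of order 13. -/
def T0 : M3 := mk 3 8 3 12 10 10 3 12 7

/-- Powers of a matrix. -/
def mpow (p : M3) : ℕ → M3
  | 0 => mI
  | n + 1 => mmul (mpow p n) p

theorem toMat_mpow (p : M3) (n : ℕ) : toMat (mpow p n) = toMat p ^ n := by
  induction n with
  | zero => exact toMat_mI
  | succ n ih => rw [mpow, toMat_mmul, ih, pow_succ]

theorem powers_eq : powers = (List.range 13).map (mpow T0) := by decide +kernel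

/-- The element of order 13. -/
def tU : U34 := mkU T0 (by decide +kernel)

theorem mat_tU_pow (n : ℕ) : mat (tU ^ n) = toMat (mpow T0 n) := by
  rw [mat_pow, toMat_mpow]
  rfl

theorem orderOf_tU : orderOf tU = 13 := by
  haveI : Fact (Nat.Prime 13) := ⟨by norm_num⟩
  refine orderOf_eq_prime (mat_injective ?_) fun h => ?_
  · rw [mat_tU_pow, mat_one, ← toMat_mI]
    exact congrArg toMat (by decide +kernel)
  · have h1 : toMat (mpow T0 1) = toMat mI := by rw [← mat_tU_pow, pow_one, h, mat_one, toMat_mI]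
    exact absurd (toMat_injective h1) (by decide +kernel)

/-- The coset sum. -/
def S (y : U34) : ZMod 5 := ∑ i ∈ Finset.range 13, phi (y * tU ^ i)

theorem S_tU_mul (y : U34) : S (tU * y) = S y := by
  have h : ∀ i : ℕ, phi (tU * y * tU ^ i) = phi (y * tU ^ (i + 1)) := fun i => by
    rw [← phi_conj tU⁻¹ (tU * y * tU ^ i)]
    congr 1
    group
  unfold S
  simp only [h]
  have e1 := Finset.sum_range_succ' (fun i => phi (y * tU ^ i)) 13
  have e2 := Finset.sum_range_succ (fun i => phi (y * tU ^ i)) 13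
  have h13 : tU ^ 13 = 1 := by rw [← orderOf_tU]; exact pow_orderOf_eq_one _
  simp only [h13, pow_zero] at e1 e2
  exact add_right_cancel (e1.symm.trans e2)

theorem S_mul_left (y : U34) {a : U34} (ha : a ∈ Subgroup.zpowers tU) : S (a * y) = S y := by
  obtain ⟨k, rfl⟩ := Submonoid.mem_powers_iff _ _ |>.1 (mem_powers_iff_mem_zpowers.2 ha)
  induction k with
  | zero => rw [pow_zero, one_mul]
  | succ k ih => rw [pow_succ', mul_assoc, S_tU_mul, ih (Subgroup.npow_mem_zpowers tU k)]

theorem cosetSum_spec {y : U34} {p : M3} (h : toMat p = mat y) :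
    (cosetSum p : ZMod 5) = S y := by
  rw [S, cosetSum, ZMod.natCast_mod, powers_eq, List.map_map, Nat.cast_list_sum,
    List.map_map, ← List.sum_toFinset _ List.nodup_range, List.toFinset_range]
  refine Finset.sum_congr rfl fun i _ => ?_
  simp only [Function.comp_apply, phiN_spec, toMat_mmul, phi, mat_mul, mat_tU_pow, h]

/-! ### Coverage -/

/-- The bit set of a list. -/
def maskOf : List ℕ → ℕ
  | [] => 0
  | c :: l => Nat.lor (Nat.shiftLeft 1 c) (maskOf l)

theorem mem_of_testBit : ∀ {l : List ℕ} {c : ℕ}, (maskOf l).testBit c = true → c ∈ l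
  | [], c, h => by simp [maskOf] at h
  | d :: l, c, h => by
    have h' : ((1 <<< d) ||| maskOf l).testBit c = true := h
    rw [Nat.testBit_or, Bool.or_eq_true, Nat.one_shiftLeft, Nat.testBit_two_pow,
      decide_eq_true_eq] at h'
    rcases h' with h' | h'
    · exact h' ▸ List.mem_cons_self
    · exact List.mem_cons_of_mem _ (mem_of_testBit h')

theorem columns_mask : maskOf columns = normOneMask := by decide +kernel

theorem normOne_aux : ∀ i j k : Fin 16,
    eqb (herm ⟨i⟩ ⟨j⟩ ⟨k⟩ ⟨i⟩ ⟨j⟩ ⟨k⟩) 1 = true →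
      Nat.testBit normOneMask (code ⟨i⟩ ⟨j⟩ ⟨k⟩) = true := by
  decide +kernel

theorem code_injective {a b c a' b' c' : K16} (h : code a b c = code a' b' c') :
    a = a' ∧ b = b' ∧ c = c' := by
  have := a.val.2; have := b.val.2; have := c.val.2
  have := a'.val.2; have := b'.val.2; have := c'.val.2
  simp only [code] at h
  exact ⟨congrArg K16.mk (Fin.ext (by omega)), congrArg K16.mk (Fin.ext (by omega)),
    congrArg K16.mk (Fin.ext (by omega))⟩

theorem reps_isSU : reps.all isSU = true := by decide +kernel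

theorem params_complete : ∀ i j : Fin 16,
    eqb (add (mul ⟨i⟩ (bar ⟨i⟩)) (mul ⟨j⟩ (bar ⟨j⟩))) 1 = true → (⟨i⟩, ⟨j⟩) ∈ params := by
  decide +kernel

theorem check_mem : ∀ r ∈ reps, checkRep r = true := by
  intro r hr
  have key : reps = (reps.drop 0).take 10 ++ ((reps.drop 10).take 10 ++ ((reps.drop 20).take 10 ++
      ((reps.drop 30).take 10 ++ ((reps.drop 40).take 10 ++ ((reps.drop 50).take 10 ++
        ((reps.drop 60).take 10 ++ (reps.drop 70).take 10)))))) := by decide +kernel
  rw [key] at hr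
  simp only [List.mem_append] at hr
  rcases hr with h | h | h | h | h | h | h | h
  · exact List.all_eq_true.1 check_0 r h
  · exact List.all_eq_true.1 check_1 r h
  · exact List.all_eq_true.1 check_2 r h
  · exact List.all_eq_true.1 check_3 r h
  · exact List.all_eq_true.1 check_4 r h
  · exact List.all_eq_true.1 check_5 r h
  · exact List.all_eq_true.1 check_6 r h
  · exact List.all_eq_true.1 check_7 r h

theorem exists_decomp (y : U34) : ∃ (a : U34) (r : M3) (ab : K16 × K16),
    a ∈ Subgroup.zpowers tU ∧ r ∈ reps ∧ ab ∈ params ∧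
      mat (a⁻¹ * y) = toMat (mmul r (stab ab)) := by
  have hc := col_herm y 0 0
  rw [if_pos rfl] at hc
  have hb : Nat.testBit normOneMask (code (mat y 0 0) (mat y 1 0) (mat y 2 0)) = true :=
    normOne_aux _ _ _ (eqb_iff.2 hc)
  rw [← columns_mask] at hb
  have hmem := mem_of_testBit hb
  simp only [columns, List.mem_flatMap, List.mem_map] at hmem
  obtain ⟨r, hr, x, hx, he⟩ := hmem
  rw [powers_eq, List.mem_map] at hx
  obtain ⟨i, -, rfl⟩ := hx
  set rU := mkU r (List.all_eq_true.1 reps_isSU r hr) with hrU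
  obtain ⟨e0, e1, e2⟩ := code_injective he
  have hcol : ∀ k, mat y k 0 = mat (tU ^ i * rU) k 0 := by
    have hm : mat (tU ^ i * rU) = toMat (mmul (mpow T0 i) r) := by
      rw [mat_mul, mat_tU_pow, toMat_mmul]; rfl
    intro k
    rw [hm]
    fin_cases k
    · exact e0.symm
    · exact e1.symm
    · exact e2.symm
  set h := (tU ^ i * rU)⁻¹ * y with hh
  have hh0 : ∀ k, mat h k 0 = (1 : Matrix (Fin 3) (Fin 3) K16) k 0 := by
    intro k
    rw [hh, mat_mul, Matrix.mul_apply]
    simp only [hcol]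
    rw [← Matrix.mul_apply, ← mat_mul, inv_mul_cancel, mat_one]
  have g00 : mat h 0 0 = 1 := by rw [hh0, Matrix.one_apply_eq]
  have g10 : mat h 1 0 = 0 := by rw [hh0, Matrix.one_apply_ne (by decide)]
  have g20 : mat h 2 0 = 0 := by rw [hh0, Matrix.one_apply_ne (by decide)]
  have g01 : mat h 0 1 = 0 := by
    have := col_herm h 0 1
    rw [g00, g10, g20, if_neg (by decide)] at this
    have e := congrArg bar this
    simp only [one_mul, zero_mul, add_zero, bar_bar] at e
    exact e
  have g02 : mat h 0 2 = 0 := by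
    have := col_herm h 0 2
    rw [g00, g10, g20, if_neg (by decide)] at this
    have e := congrArg bar this
    simp only [one_mul, zero_mul, add_zero, bar_bar] at e
    exact e
  have hnorm : mat h 1 1 * bar (mat h 1 1) + mat h 2 1 * bar (mat h 2 1) = 1 := by
    have := col_herm h 1 1
    rwa [g01, if_pos rfl, zero_mul, zero_add] at this
  have horth : mat h 1 1 * bar (mat h 1 2) + mat h 2 1 * bar (mat h 2 2) = 0 := by
    have := col_herm h 1 2
    rwa [g01, if_neg (by decide), zero_mul, zero_add] at this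
  have horth' : bar (mat h 1 1) * mat h 1 2 + bar (mat h 2 1) * mat h 2 2 = 0 := by
    have e := congrArg bar horth
    rwa [bar_add, bar_mul, bar_mul, bar_bar, bar_bar] at e
  have hdet : mat h 1 1 * mat h 2 2 + mat h 1 2 * mat h 2 1 = 1 := by
    have e : (mat h).det = 1 := (h : Matrix.SpecialLinearGroup (Fin 3) K16).2
    rw [Matrix.det_fin_three, g00, g10, g20, g01, g02] at e
    simp only [sub_eq_add_neg, neg_eq] at e
    linear_combination e
  have g22 : mat h 2 2 = bar (mat h 1 1) := by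
    linear_combination (bar (mat h 1 1)) * hdet + (-(mat h 2 2)) * hnorm + (mat h 2 1) * horth' +
      (-(mat h 2 1 * bar (mat h 1 1) * mat h 1 2)) * two_eq_zero
  have g12 : mat h 1 2 = bar (mat h 2 1) := by
    linear_combination (bar (mat h 2 1)) * hdet + (-(mat h 1 2)) * hnorm + (mat h 1 1) * horth' +
      (-(bar (mat h 2 1) * mat h 1 1 * mat h 2 2)) * two_eq_zero
  refine ⟨tU ^ i, r, (mat h 1 1, mat h 2 1), Subgroup.npow_mem_zpowers tU i, hr,
    params_complete _ _ (eqb_iff.2 hnorm), ?_⟩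
  rw [toMat_mmul, show (tU ^ i)⁻¹ * y = rU * h by rw [hh]; group, mat_mul]
  congr 1
  ext k l
  fin_cases k <;> fin_cases l <;> simp [toMat, stab, g00, g10, g20, g01, g02, g12, g22]

/-- All coset sums vanish. -/
theorem S_eq_zero (y : U34) : S y = 0 := by
  obtain ⟨a, r, ab, ha, hr, hab, he⟩ := exists_decomp y
  rw [← S_mul_left y (inv_mem ha), ← cosetSum_spec he.symm]
  have h := List.all_eq_true.1 (check_mem r hr) ab hab
  rw [Nat.eq_of_beq_eq_true h, Nat.cast_zero]

end CfsgLib.Recog.GF16
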