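import Cfsg.Agent.Lib.Recog.OrbitalKernels
import Cfsg.Agent.Lib.Recog.BigPerm

/-!
Orbital graphs whose local group contains the alternating group and is not faithful:
the kernels at adjacent points intersect trivially.
-/

set_option autoImplicit false
set_option linter.style.haveILetI false
set_option linter.unusedVariables false
set_option linter.unusedSectionVars false

namespace CfsgLib.Recog.TW

open Subgroup MulAction
open CfsgLib.Recog.BigPerm
open scoped Classical

variable {G Ω : Type*} [Group G] [MulAction G Ω]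

/-- The restriction of an action to an invariant set. -/
def res (H : Subgroup G) (S : Set Ω) (hS : ∀ x ∈ H, ∀ v, v ∈ S → x • v ∈ S) :
    ↥H →* Equiv.Perm ↥S :=
  MonoidHom.mk'
    (fun x =>
      { toFun := fun v => ⟨(x : G) • (v : Ω), hS x x.2 v v.2⟩
        invFun := fun v => ⟨(x : G)⁻¹ • (v : Ω), hS _ (H.inv_mem x.2) v v.2⟩
        left_inv := fun v => Subtype.ext (inv_smul_smul _ _)
        right_inv := fun v => Subtype.ext (smul_inv_smul _ _) })
    fun x y => Equiv.ext fun v => Subtype.ext (mul_smul (x : G) (y : G) (v : Ω))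

@[simp]
theorem res_apply (H : Subgroup G) (S : Set Ω) (hS : ∀ x ∈ H, ∀ v, v ∈ S → x • v ∈ S) (x : ↥H)
    (v : ↥S) : (res H S hS x v : Ω) = (x : G) • (v : Ω) := rfl

theorem mem_ker_res {H : Subgroup G} {S : Set Ω} {hS : ∀ x ∈ H, ∀ v, v ∈ S → x • v ∈ S}
    {x : ↥H} : x ∈ (res H S hS).ker ↔ ∀ v ∈ S, (x : G) • v = v := by
  rw [MonoidHom.mem_ker, Equiv.ext_iff]
  exact ⟨fun h v hv => congrArg Subtype.val (h ⟨v, hv⟩), fun h v => Subtype.ext (h v v.2)⟩

theorem card_map_mul {X : Type*} [Group X] {H : Subgroup G} (f : ↥H →* X) (U : Subgroup G)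
    (hU : U ≤ H) {N : Subgroup G} (hN : f.ker = N.subgroupOf H) :
    Nat.card ↥((U.subgroupOf H).map f) * Nat.card ↥(U ⊓ N) = Nat.card ↥U := by
  set g := f.comp (Subgroup.inclusion hU) with hg
  have hr : g.range = (U.subgroupOf H).map f := by
    rw [hg, MonoidHom.range_comp, inclusion_range]
  have hk : g.ker = (U ⊓ N).subgroupOf U := by
    rw [inf_subgroupOf_left, hg, ← MonoidHom.comap_ker, hN]
    rfl
  rw [← hr, ← index_ker, hk, mul_comm,
    ← Nat.card_congr (subgroupOfEquivOfLe (inf_le_left : U ⊓ N ≤ U)).toEquiv]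
  exact card_mul_index _

/-- The permutations induced on the other out-neighbours of `a` by the stabilizer of an arc. -/
def side {r : Ω → Ω → Prop} (hr : Inv G r) (a b : Ω) :
    ↥(stabilizer G a ⊓ stabilizer G b) →* Equiv.Perm ↥(out r a \ {b}) :=
  res _ _ fun x hx v hv => ⟨by
    have := hr x a v hv.1
    rwa [mem_stabilizer_iff.mp hx.1] at this, fun h => hv.2 <| by
      have h' : x • v = x • b := h.trans (mem_stabilizer_iff.mp hx.2).symm
      exact smul_left_cancel x h'⟩

/-- The image of a subgroup of an arc stabilizer in the local action. -/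
def im {r : Ω → Ω → Prop} (hr : Inv G r) (a b : Ω) (U : Subgroup G) :
    Subgroup (Equiv.Perm ↥(out r a \ {b})) :=
  (U.subgroupOf (stabilizer G a ⊓ stabilizer G b)).map (side hr a b)

theorem im_mono {r : Ω → Ω → Prop} (hr : Inv G r) (a b : Ω) {U V : Subgroup G} (h : U ≤ V) :
    im hr a b U ≤ im hr a b V :=
  map_mono fun x hx => h hx

theorem ker_side {r : Ω → Ω → Prop} (hr : Inv G r) {a b : Ω} (hab : r a b) :
    (side hr a b).ker = (K G r a).subgroupOf (stabilizer G a ⊓ stabilizer G b) := by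
  ext x
  refine mem_ker_res.trans ?_
  rw [mem_subgroupOf, mem_K_iff]
  refine ⟨fun h => ⟨x.2.1, fun v hv => ?_⟩, fun h v hv => h.2 v hv.1⟩
  by_cases hvb : v = b
  · rw [hvb]; exact x.2.2
  · exact h v ⟨hv, hvb⟩

theorem range_side {r : Ω → Ω → Prop} (hr : Inv G r) (a b : Ω) :
    (side hr a b).range = im hr a b (stabilizer G a ⊓ stabilizer G b) := by
  rw [im, subgroupOf_self, MonoidHom.range_eq_map]

theorem im_eq_bot_iff {r : Ω → Ω → Prop} (hr : Inv G r) {a b : Ω} (hab : r a b) {U : Subgroup G}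
    (hU : U ≤ stabilizer G a ⊓ stabilizer G b) : im hr a b U = ⊥ ↔ U ≤ K G r a := by
  rw [im, Subgroup.map_eq_bot_iff, ker_side hr hab]
  exact ⟨fun h x hx => h (show (⟨x, hU hx⟩ : ↥(stabilizer G a ⊓ stabilizer G b)) ∈ _ from hx),
    fun h x hx => h hx⟩

theorem le_normalizer_im {r : Ω → Ω → Prop} (hr : Inv G r) (a b : Ω) {U V : Subgroup G}
    (h : V ≤ normalizer (U : Set G)) :
    im hr a b V ≤ normalizer (im hr a b U : Set (Equiv.Perm ↥(out r a \ {b}))) := by
  refine le_trans (map_mono fun x hx => ?_) (le_normalizer_map _)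
  rw [mem_normalizer_iff]
  exact fun y => mem_normalizer_iff.mp (h hx) y

theorem subgroupOf_commutator {H U V : Subgroup G} (hU : U ≤ H) (hV : V ≤ H) :
    ⁅U.subgroupOf H, V.subgroupOf H⁆ = ⁅U, V⁆.subgroupOf H := by
  refine map_injective H.subtype_injective ?_
  rw [map_commutator, map_subgroupOf_eq_of_le hU, map_subgroupOf_eq_of_le hV,
    map_subgroupOf_eq_of_le]
  exact (commutator_mono hU hV).trans (le_normalizer_iff_commutator_le_left.mp Subgroup.le_normalizer)

theorem im_commutator {r : Ω → Ω → Prop} (hr : Inv G r) (a b : Ω) {U V : Subgroup G}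
    (hU : U ≤ stabilizer G a ⊓ stabilizer G b) (hV : V ≤ stabilizer G a ⊓ stabilizer G b) :
    im hr a b ⁅U, V⁆ = ⁅im hr a b U, im hr a b V⁆ := by
  rw [im, ← subgroupOf_commutator hU hV, map_commutator]; rfl

/-- A homomorphism onto a big group cannot have a kernel series with small indices. -/
theorem chain_false [Finite G] {α : Type*} [Fintype α] [DecidableEq α] (h5 : 5 ≤ Nat.card α)
    (H Kk : Subgroup G) {ι : Type*} (F : ι → Subgroup G) (S : Finset ι) (m : ℕ)
    (hm : 2 * m < (Nat.card α).factorial)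
    (hK : Kk ≤ H) (hKn : H ≤ normalizer (Kk : Set G)) (hKi : Kk.relIndex H ≤ m)
    (hFn : ∀ i ∈ S, Kk ≤ normalizer (F i : Set G)) (hFi : ∀ i ∈ S, (F i).relIndex Kk ≤ m)
    (hbot : Kk ⊓ ⨅ i ∈ S, F i = ⊥) (ψ : ↥H →* Equiv.Perm α) (hψ : Big ψ.range) : False := by
  classical
  have peel : ∀ M N : Subgroup G, N ≤ M → M ≤ H → M ≤ normalizer (N : Set G) →
      N.relIndex M ≤ m → Big ((M.subgroupOf H).map ψ) → Big ((N.subgroupOf H).map ψ) := by
    intro M N hNM hMH hn hi hM
    have hn' : (M.subgroupOf H).map ψ ≤ normalizer ((N.subgroupOf H).map ψ : Set (Equiv.Perm α)) :=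
      le_trans (map_mono fun x hx => mem_normalizer_iff.mpr fun y => mem_normalizer_iff.mp (hn hx) y)
        (le_normalizer_map _)
    rcases hM.normal h5 (map_mono fun x hx => hNM hx) hn' with hb | hB
    · exfalso
      have h1 : Nat.card ↥((M.subgroupOf H).map ψ) ≤ m := by
        rw [Subgroup.map_eq_bot_iff] at hb
        refine le_trans ?_ hi
        rw [← relIndex_subgroupOf (H := N) hMH]
        rw [show Nat.card ↥((M.subgroupOf H).map ψ) = ψ.ker.relIndex (M.subgroupOf H) from
          by rw [relIndex_ker]]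
        exact relIndex_le_of_le_left hb index_ne_zero_of_finite
      unfold Big at hM
      omega
    · exact hB
  have key : ∀ T ⊆ S, Big (((Kk ⊓ ⨅ i ∈ T, F i).subgroupOf H).map ψ) := by
    intro T
    induction T using Finset.induction_on with
    | empty =>
      intro _
      simp only [Finset.notMem_empty, iInf_false, iInf_top, inf_top_eq]
      refine peel H Kk hK le_rfl hKn hKi ?_
      rwa [subgroupOf_self, ← MonoidHom.range_eq_map]
    | @insert i T hiT ih =>
      intro hT
      rw [Finset.insert_subset_iff] at hT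
      have hsplit : Kk ⊓ ⨅ j ∈ insert i T, F j = (Kk ⊓ ⨅ j ∈ T, F j) ⊓ F i := by
        rw [Finset.iInf_insert]; ac_rfl
      rw [hsplit]
      refine peel _ _ inf_le_left (inf_le_left.trans hK) ?_ ?_ (ih hT.2)
      · exact (le_inf Subgroup.le_normalizer (inf_le_left.trans (hFn i hT.1))).trans
          Subgroup.inf_normalizer_le_normalizer_inf
      · rw [inf_relIndex_left]
        exact le_trans (relIndex_le_of_le_right inf_le_left index_ne_zero_of_finite) (hFi i hT.1)
  have h := key S subset_rfl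
  rw [hbot, bot_subgroupOf, Subgroup.map_bot] at h
  exact not_big_bot h5 h

/-- The index of `K_a ∩ K'_v` in `K_a`. -/
theorem relIndex_K_flip_dvd [Finite Ω] {r : Ω → Ω → Prop} (hr : Inv G r) {a v : Ω} (hav : r a v)
    {d : ℕ} (hin : Nat.card ↥(out (flip r) v) = d) :
    (K G (flip r) v).relIndex (K G r a) ∣ (d - 1).factorial := by
  classical
  set S : Unit → Set Ω := fun _ => out (flip r) v \ {a} with hS
  have hinv : ∀ i, ∀ x ∈ K G r a, ∀ w ∈ S i, x • w ∈ S i := by
    intro _ x hx w hw
    have hxv : x • v = v := (mem_K_iff.mp hx).2 v hav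
    refine ⟨?_, fun h => hw.2 ?_⟩
    · have := hr x w v hw.1
      rwa [hxv] at this
    · have h' : x • w = x • a := h.trans (mem_K_iff.mp hx).1.symm
      exact smul_left_cancel x h'
  have h := relIndex_fixing_dvd (K G r a) S hinv
  have heq : K G r a ⊓ ⨅ i, fixingSubgroup G (S i) = K G r a ⊓ K G (flip r) v := by
    ext x
    simp only [mem_inf, mem_iInf, mem_fixingSubgroup_iff]
    refine and_congr_right fun hx => ⟨fun h => mem_K_iff.mpr ⟨(mem_K_iff.mp hx).2 v hav,
      fun w hw => ?_⟩, fun h _ w hw => (mem_K_iff.mp h).2 w hw.1⟩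
    by_cases hwa : w = a
    · rw [hwa]; exact (mem_K_iff.mp hx).1
    · exact h () w ⟨hw, hwa⟩
  rw [heq, inf_relIndex_left, Fintype.prod_unique] at h
  rwa [hS, Nat.card_coe_set_eq, Set.ncard_sdiff_singleton_of_mem (show a ∈ out (flip r) v from hav),
    ← Nat.card_coe_set_eq, hin] at h

theorem relIndex_K_arc_le [Finite Ω] {r : Ω → Ω → Prop} (hr : Inv G r) {a b : Ω} (hab : r a b)
    {d : ℕ} (hout : Nat.card ↥(out r a) = d) :
    (K G r a).relIndex (stabilizer G a ⊓ stabilizer G b) ≤ (d - 1).factorial := by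
  classical
  haveI : Fintype ↥(out r a \ {b}) := Fintype.ofFinite _
  have h1 : (K G r a).relIndex (stabilizer G a ⊓ stabilizer G b) = Nat.card ↥(side hr a b).range := by
    rw [← index_ker, ker_side hr hab]; rfl
  rw [h1]
  refine (Nat.le_of_dvd ?_ (card_subgroup_dvd_card _)).trans (le_of_eq ?_)
  · exact Nat.card_pos
  · rw [Nat.card_perm, Nat.card_coe_set_eq,
      Set.ncard_sdiff_singleton_of_mem (show b ∈ out r a from hab), ← Nat.card_coe_set_eq, hout]

theorem two_mul_factorial_lt {d : ℕ} (h6 : 6 ≤ d) : 2 * (d - 1).factorial < d.factorial := by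
  obtain ⟨n, rfl⟩ : ∃ n, d = n + 1 := ⟨d - 1, by omega⟩
  rw [Nat.add_sub_cancel, Nat.factorial_succ]
  exact Nat.mul_lt_mul_of_pos_right (by omega) (Nat.factorial_pos n)

/-- No arc stabilizer of a graph with trivial `RR` maps onto a big group of the degree. -/
theorem not_big_of_RR_eq_bot [Finite G] [Finite Ω] {r : Ω → Ω → Prop} (hr : Inv G r) {d : ℕ}
    (h6 : 6 ≤ d) (hout : ∀ v, Nat.card ↥(out r v) = d)
    (hin : ∀ v, Nat.card ↥(out (flip r) v) = d) {a b : Ω} (hab : r a b)
    (hR : RR G r a = ⊥) {α : Type*} [Fintype α] [DecidableEq α] (hα : Nat.card α = d)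
    (ψ : ↥(stabilizer G a ⊓ stabilizer G b) →* Equiv.Perm α) (hψ : Big ψ.range) : False := by
  classical
  haveI : Fintype ↥(out r a) := Fintype.ofFinite _
  have hKC : K G r a ≤ stabilizer G a ⊓ stabilizer G b :=
    le_inf (K_le_stabilizer _ _) (K_le_stabilizer_out hab)
  refine chain_false (by omega) _ (K G r a) (fun v => K G (flip r) v) (out r a).toFinset
    (d - 1).factorial (by rw [hα]; exact two_mul_factorial_lt h6) hKC
    (inf_le_left.trans (stabilizer_le_normalizer_K hr a)) (relIndex_K_arc_le hr hab (hout a))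
    (fun v hv => (K_le_stabilizer_out (show v ∈ out r a from Set.mem_toFinset.mp hv)).trans
      (stabilizer_le_normalizer_K hr.flip v))
    (fun v hv => Nat.le_of_dvd (Nat.factorial_pos _)
      (relIndex_K_flip_dvd hr (show v ∈ out r a from Set.mem_toFinset.mp hv) (hin v))) ?_ ψ hψ
  rw [← hR]
  ext x
  simp only [mem_inf, mem_iInf, mem_RR_iff]
  exact and_congr_right fun _ => ⟨fun h v hv => h v (Set.mem_toFinset.mpr (show v ∈ out r a from hv)),
    fun h v hv => h v (show v ∈ out r a from Set.mem_toFinset.mp hv)⟩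

/-- Local action containing the alternating group, with nontrivial kernel. -/
structure AltCfg (G : Type*) {Ω : Type*} [Group G] [MulAction G Ω] (r : Ω → Ω → Prop) (d : ℕ) :
    Prop where
  inv : Inv G r
  six : 6 ≤ d
  trans : IsPretransitive G Ω
  out_card : ∀ v, Nat.card ↥(out r v) = d
  in_card : ∀ v, Nat.card ↥(out (flip r) v) = d
  big : ∀ v, d.factorial * Nat.card ↥(K G r v) ≤ 2 * Nat.card ↥(stabilizer G v)
  ne : ∀ v w, r v w → stabilizer G v ≠ stabilizer G w
  max : ∀ (v : Ω) (U : Subgroup G), U ≠ ⊥ → U ≤ stabilizer G v →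
    stabilizer G v ≤ normalizer (U : Set G) → normalizer (U : Set G) ≤ stabilizer G v
  K_ne : ∀ v, K G r v ≠ ⊥
  K_eq : ∀ v, K G (flip r) v = K G r v

theorem AltCfg.flip {r : Ω → Ω → Prop} {d : ℕ} (h : AltCfg G r d) : AltCfg G (flip r) d where
  inv := h.inv.flip
  six := h.six
  trans := h.trans
  out_card := h.in_card
  in_card := h.out_card
  big v := by rw [h.K_eq]; exact h.big v
  ne v w hvw := (h.ne w v hvw).symm
  max := h.max
  K_ne v := by rw [h.K_eq]; exact h.K_ne v
  K_eq v := (h.K_eq v).symm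

theorem card_stabilizer_eq [IsPretransitive G Ω] (v w : Ω) :
    Nat.card ↥(stabilizer G v) = Nat.card ↥(stabilizer G w) := by
  obtain ⟨g, rfl⟩ := exists_smul_eq G v w
  rw [← map_conj_stabilizer, CfsgLib.Components.card_map_conj]

theorem card_K_eq [IsPretransitive G Ω] {r : Ω → Ω → Prop} (hr : Inv G r) (v w : Ω) :
    Nat.card ↥(K G r v) = Nat.card ↥(K G r w) := by
  obtain ⟨g, rfl⟩ := exists_smul_eq G v w
  rw [← map_conj_K hr, CfsgLib.Components.card_map_conj]

/-- The local group of a vertex. -/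
def loc {r : Ω → Ω → Prop} (hr : Inv G r) (a : Ω) :
    ↥(stabilizer G a) →* Equiv.Perm ↥(out r a) :=
  res _ _ fun x hx v hv => by
    have := hr x a v hv
    rwa [mem_stabilizer_iff.mp hx] at this

theorem ker_loc {r : Ω → Ω → Prop} (hr : Inv G r) (a : Ω) :
    (loc hr a).ker = (K G r a).subgroupOf (stabilizer G a) := by
  ext x
  refine mem_ker_res.trans ?_
  rw [mem_subgroupOf, mem_K_iff]
  exact ⟨fun h => ⟨x.2, h⟩, fun h => h.2⟩

theorem card_range_loc {r : Ω → Ω → Prop} (hr : Inv G r) (a : Ω) :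
    Nat.card ↥(loc hr a).range * Nat.card ↥(K G r a) = Nat.card ↥(stabilizer G a) := by
  have := card_map_mul (loc hr a) (stabilizer G a) le_rfl (ker_loc hr a)
  rwa [subgroupOf_self, ← MonoidHom.range_eq_map, inf_eq_right.mpr (K_le_stabilizer r a)] at this

section Big

variable [Finite G] [Finite Ω] [Fintype Ω] [DecidableEq Ω]

theorem big_loc {r : Ω → Ω → Prop} (hr : Inv G r) (a : Ω) {d : ℕ}
    (hout : Nat.card ↥(out r a) = d)
    (hb : d.factorial * Nat.card ↥(K G r a) ≤ 2 * Nat.card ↥(stabilizer G a)) :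
    Big (loc hr a).range := by
  rw [← card_range_loc hr a, ← mul_assoc] at hb
  unfold Big
  rw [hout]
  exact Nat.le_of_mul_le_mul_right hb Nat.card_pos

theorem exists_smul_eq_of_out {r : Ω → Ω → Prop} (hr : Inv G r) {a v w : Ω}
    (hb : Big (loc hr a).range) (h3 : 3 ≤ Nat.card ↥(out r a)) (hv : r a v) (hw : r a w) :
    ∃ x ∈ stabilizer G a, x • v = w := by
  obtain ⟨_, ⟨x, rfl⟩, hx⟩ := hb.exists_apply_eq h3 (⟨v, hv⟩ : ↥(out r a)) ⟨w, hw⟩
  exact ⟨x, x.2, congrArg Subtype.val hx⟩

theorem orbit_eq_out {r : Ω → Ω → Prop} (hr : Inv G r) {a b : Ω}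
    (hb : Big (loc hr a).range) (h3 : 3 ≤ Nat.card ↥(out r a)) (hab : r a b) :
    orbit ↥(stabilizer G a) b = out r a := by
  ext v
  constructor
  · rintro ⟨x, rfl⟩
    have := hr x a b hab
    rwa [mem_stabilizer_iff.mp x.2] at this
  · intro hv
    obtain ⟨x, hx, rfl⟩ := exists_smul_eq_of_out hr hb h3 hab hv
    exact ⟨⟨x, hx⟩, rfl⟩

theorem AltCfg.big_loc {r : Ω → Ω → Prop} {d : ℕ} (h : AltCfg G r d) (a : Ω) :
    Big (loc h.inv a).range :=
  CfsgLib.Recog.TW.big_loc h.inv a (h.out_card a) (h.big a)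

theorem AltCfg.card_arc {r : Ω → Ω → Prop} {d : ℕ} (h : AltCfg G r d) {a b : Ω} (hab : r a b) :
    d * Nat.card ↥(stabilizer G a ⊓ stabilizer G b) = Nat.card ↥(stabilizer G a) := by
  rw [← card_orbit_stabilizer a b, orbit_eq_out h.inv (h.big_loc a)
    (by rw [h.out_card]; have := h.six; omega) hab, h.out_card]

theorem card_out_sdiff {r : Ω → Ω → Prop} {a b : Ω} {d : ℕ} (hout : Nat.card ↥(out r a) = d)
    (hab : r a b) : Nat.card ↥(out r a \ {b}) = d - 1 := by
  rw [Nat.card_coe_set_eq, Set.ncard_sdiff_singleton_of_mem (show b ∈ out r a from hab),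
    ← Nat.card_coe_set_eq, hout]

theorem AltCfg.five {r : Ω → Ω → Prop} {d : ℕ} (h : AltCfg G r d) {a b : Ω} (hab : r a b) :
    5 ≤ Nat.card ↥(out r a \ {b}) := by
  rw [card_out_sdiff (h.out_card a) hab]
  have := h.six
  omega

theorem AltCfg.card_range_side {r : Ω → Ω → Prop} {d : ℕ} (h : AltCfg G r d) {a b : Ω}
    (hab : r a b) :
    d * Nat.card ↥(side h.inv a b).range = Nat.card ↥(loc h.inv a).range := by
  have h1 := card_map_mul (side h.inv a b) _ le_rfl (ker_side h.inv hab)
  rw [subgroupOf_self, ← MonoidHom.range_eq_map,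
    inf_eq_right.mpr (le_inf (K_le_stabilizer _ _) (K_le_stabilizer_out hab))] at h1
  have h2 := card_range_loc h.inv a
  have h3 := h.card_arc hab
  rw [← h1, ← h2, ← mul_assoc] at h3
  exact Nat.eq_of_mul_eq_mul_right Nat.card_pos h3

theorem AltCfg.big_side {r : Ω → Ω → Prop} {d : ℕ} (h : AltCfg G r d) {a b : Ω} (hab : r a b) :
    Big (side h.inv a b).range := by
  have h1 := h.big_loc a
  unfold Big at h1 ⊢
  rw [h.out_card, ← h.card_range_side hab] at h1
  rw [card_out_sdiff (h.out_card a) hab]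
  have hd := h.six
  obtain ⟨n, rfl⟩ : ∃ n, d = n + 1 := ⟨d - 1, by omega⟩
  rw [Nat.factorial_succ, mul_left_comm] at h1
  rw [Nat.add_sub_cancel]
  exact Nat.le_of_mul_le_mul_left h1 n.succ_pos

theorem AltCfg.K_out_le {r : Ω → Ω → Prop} {d : ℕ} (h : AltCfg G r d) {a b : Ω} (hab : r a b) :
    K G r b ≤ stabilizer G a ⊓ stabilizer G b :=
  le_inf (h.K_eq b ▸ K_le_stabilizer_out (r := _root_.flip r) hab) (K_le_stabilizer _ _)

theorem AltCfg.K_self_le {r : Ω → Ω → Prop} {d : ℕ} (h : AltCfg G r d) {a b : Ω} (hab : r a b) :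
    K G r a ≤ stabilizer G a ⊓ stabilizer G b :=
  le_inf (K_le_stabilizer _ _) (K_le_stabilizer_out hab)

theorem AltCfg.not_K_out_le {r : Ω → Ω → Prop} {d : ℕ} (h : AltCfg G r d) {a b : Ω}
    (hab : r a b) : ¬ K G r b ≤ K G r a := by
  intro hle
  haveI := h.trans
  have he : K G r b = K G r a := eq_of_le_of_card_ge hle (card_K_eq h.inv a b).le
  refine h.ne a b hab (le_antisymm ?_ ?_)
  · refine (stabilizer_le_normalizer_K h.inv a).trans ?_
    rw [← he]
    exact h.max b _ (h.K_ne b) (K_le_stabilizer _ _) (stabilizer_le_normalizer_K h.inv b)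
  · refine (stabilizer_le_normalizer_K h.inv b).trans ?_
    rw [he]
    exact h.max a _ (h.K_ne a) (K_le_stabilizer _ _) (stabilizer_le_normalizer_K h.inv a)

/-- The kernel at one end of an arc induces a big group at the other end. -/
theorem AltCfg.big_im_K {r : Ω → Ω → Prop} {d : ℕ} (h : AltCfg G r d) {a b : Ω} (hab : r a b) :
    Big (im h.inv a b (K G r b)) := by
  rcases (h.big_side hab).normal (h.five hab) (map_le_range _ _)
    (range_side h.inv a b ▸ le_normalizer_im h.inv a b
      (inf_le_right.trans (stabilizer_le_normalizer_K h.inv b))) with hb | hB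
  · exact absurd ((im_eq_bot_iff h.inv hab (h.K_out_le hab)).mp hb) (h.not_K_out_le hab)
  · exact hB

theorem AltCfg.im_commutator_K {r : Ω → Ω → Prop} {d : ℕ} (h : AltCfg G r d) {a b : Ω}
    (hab : r a b) : im h.inv a b ⁅K G r b, K G r b⁆ = alternatingGroup ↥(out r a \ {b}) := by
  rw [im_commutator h.inv a b (h.K_out_le hab) (h.K_out_le hab),
    (h.big_im_K hab).commutator_eq (h.five hab)]

theorem AltCfg.conj_out {r : Ω → Ω → Prop} (hr : Inv G r) {a v : Ω} {x : G}
    (hx : x ∈ stabilizer G a) (hv : r a v) : r a (x • v) := by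
  have := hr x a v hv
  rwa [mem_stabilizer_iff.mp hx] at this

theorem map_conj_commutator {r : Ω → Ω → Prop} (hr : Inv G r) (g : G) (a : Ω) :
    (⁅K G r a, K G r a⁆).map (MulAut.conj g).toMonoidHom = ⁅K G r (g • a), K G r (g • a)⁆ := by
  rw [map_commutator, map_conj_K hr]

theorem map_conj_inf (g : G) (U V : Subgroup G) :
    (U ⊓ V).map (MulAut.conj g).toMonoidHom =
      U.map (MulAut.conj g).toMonoidHom ⊓ V.map (MulAut.conj g).toMonoidHom :=
  map_inf _ _ _ (MulAut.conj g).injective

/-- Adjacent kernels meet trivially, given that the second kernel is trivial. -/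
theorem AltCfg.inf_eq_bot {r : Ω → Ω → Prop} {d : ℕ} (h : AltCfg G r d)
    (hR : ∀ v, RR G r v = ⊥) {a b : Ω} (hab : r a b)
    (hff : ∀ N : Subgroup G, N ≤ stabilizer G a ⊓ stabilizer G b →
      stabilizer G a ⊓ stabilizer G b ≤ normalizer (N : Set G) → ⁅N, N⁆ = ⊥ → N = ⊥) :
    K G r a ⊓ K G r b = ⊥ := by
  haveI := h.trans
  set P : Subgroup G := ⁅K G r a, K G r a⁆ with hP
  have hPK : P ≤ K G r a := commutator_le_self _
  have hRR : ∀ x, x ∈ K G r a → (∀ v, r a v → x ∈ K G r v) → x = 1 := by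
    intro x hx hall
    have : x ∈ RR G r a := mem_RR_iff.mpr ⟨hx, fun v hv => by rw [h.K_eq]; exact hall v hv⟩
    rw [hR a] at this
    exact mem_bot.mp this
  have hconj : ∀ x ∈ stabilizer G a, ∀ v, (P ⊓ K G r v).map (MulAut.conj x).toMonoidHom =
      P ⊓ K G r (x • v) := by
    intro x hx v
    rw [map_conj_inf, hP, map_conj_commutator h.inv, map_conj_K h.inv, mem_stabilizer_iff.mp hx]
  by_cases hex : ∃ v, r a v ∧ v ≠ b ∧ P ⊓ K G r v = P ⊓ K G r b
  · obtain ⟨v, hv, hvb, heq⟩ := hex
    have hall : ∀ u, r a u → P ⊓ K G r b ≤ K G r u := by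
      intro u hu
      by_cases hub : u = b
      · rw [hub]; exact inf_le_right
      obtain ⟨_, ⟨x, rfl⟩, hx⟩ := (h.big_side hab).exists_apply_eq
        (by have := h.five hab; omega) (⟨v, hv, hvb⟩ : ↥(out r a \ {b})) ⟨u, hu, hub⟩
      have hxu : (x : G) • v = u := congrArg Subtype.val hx
      have h1 := hconj x x.2.1 v
      rw [heq, hconj x x.2.1 b, mem_stabilizer_iff.mp x.2.2, hxu] at h1
      rw [h1]; exact inf_le_right
    have hPb : P ⊓ K G r b = ⊥ := (eq_bot_iff_forall _).mpr fun x hx =>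
      hRR x (hPK hx.1) fun u hu => hall u hu hx
    set N := K G r a ⊓ K G r b with hN
    refine hff N (inf_le_left.trans (h.K_self_le hab)) ?_ ?_
    · exact (le_inf (inf_le_left.trans (stabilizer_le_normalizer_K h.inv a))
        (inf_le_right.trans (stabilizer_le_normalizer_K h.inv b))).trans
        Subgroup.inf_normalizer_le_normalizer_inf
    · refine le_bot_iff.mp (hPb ▸ le_inf (commutator_mono inf_le_left inf_le_left) ?_)
      exact (commutator_mono inf_le_right inf_le_right).trans (commutator_le_self _)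
  -- all the `P ∩ K_v` are distinct
  push Not at hex
  exfalso
  have hdist : ∀ v w, r a v → r a w → v ≠ w → P ⊓ K G r v ≠ P ⊓ K G r w := by
    intro v w hv hw hvw heq
    obtain ⟨x, hx, hxv⟩ := exists_smul_eq_of_out h.inv (h.big_loc a)
      (by rw [h.out_card]; have := h.six; omega) hv hab
    have h1 := hconj x hx w
    rw [← heq, hconj x hx v, hxv] at h1
    exact hex _ (AltCfg.conj_out h.inv hx hw)
      (fun he => hvw (smul_left_cancel x (hxv.trans he.symm))) h1.symm
  have hcard : ∀ v w, r a v → r a w →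
      Nat.card ↥(P ⊓ K G r v) = Nat.card ↥(P ⊓ K G r w) := by
    intro v w hv hw
    obtain ⟨x, hx, hxv⟩ := exists_smul_eq_of_out h.inv (h.big_loc a)
      (by rw [h.out_card]; have := h.six; omega) hv hw
    rw [← hxv, ← hconj x hx v, CfsgLib.Components.card_map_conj]
  have hf := h.flip
  have imP : ∀ v, r a v → im hf.inv v a P = alternatingGroup ↥(out (_root_.flip r) v \ {a}) := by
    intro v hv
    have := hf.im_commutator_K (a := v) (b := a) hv
    rwa [h.K_eq] at this
  have hCv : ∀ v, r a v → P ≤ stabilizer G v ⊓ stabilizer G a := fun v hv =>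
    hPK.trans ((h.K_self_le hv).trans (inf_comm _ _).le)
  have hkerv : ∀ v, r a v → ∀ U : Subgroup G, U ≤ P →
      (im hf.inv v a U = ⊥ ↔ U ≤ K G r v) := fun v hv U hU => by
    rw [im_eq_bot_iff hf.inv (show _root_.flip r v a from hv) (hU.trans (hCv v hv)), h.K_eq]
  have hKn : ∀ v, r a v → K G r a ≤ normalizer (K G r v : Set G) := fun v hv =>
    (K_le_stabilizer_out hv).trans (stabilizer_le_normalizer_K h.inv v)
  have hPn : K G r a ≤ normalizer (P : Set G) := by
    intro x hx
    refine mem_normalizer_of_map_eq ?_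
    rw [hP, map_conj_commutator h.inv, mem_stabilizer_iff.mp (K_le_stabilizer _ _ hx)]
  -- the intersections
  have hnorm : ∀ S : Set Ω, S ⊆ out r a →
      K G r a ≤ normalizer ((P ⊓ ⨅ u ∈ S, K G r u : Subgroup G) : Set G) := by
    intro S hS x hx
    refine mem_normalizer_of_map_conj fun y hy => ?_
    simp only [mem_inf, mem_iInf] at hy ⊢
    exact ⟨(mem_normalizer_iff.mp (hPn hx) y).mp hy.1, fun u hu =>
      (mem_normalizer_iff.mp (hKn u (hS hu) hx) y).mp (hy.2 u hu)⟩
  have hbigS : ∀ v, r a v → ∀ S : Finset Ω, (∀ u ∈ S, r a u ∧ u ≠ v) →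
      Big (im hf.inv v a (P ⊓ ⨅ u ∈ (S : Set Ω), K G r u)) := by
    intro v hv S
    have h5 := hf.five (a := v) (b := a) hv
    induction S using Finset.induction_on with
    | empty =>
      intro _
      simp only [Finset.coe_empty, Set.mem_empty_iff_false, iInf_false, iInf_top, inf_top_eq,
        imP v hv]
      exact big_of_alt_le le_rfl
    | @insert u S huS ih =>
      intro hS
      have hJ := ih fun w hw => hS w (Finset.mem_insert_of_mem hw)
      obtain ⟨hu, huv⟩ := hS u (Finset.mem_insert_self u S)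
      set J := P ⊓ ⨅ w ∈ (S : Set Ω), K G r w with hJdef
      set U := P ⊓ K G r u with hUdef
      have hSsub : (S : Set Ω) ⊆ out r a := fun w hw => (hS w (Finset.mem_insert_of_mem hw)).1
      have hUn : P ≤ normalizer (U : Set G) := by
        have := hnorm {u} (Set.singleton_subset_iff.mpr hu)
        simp only [Set.mem_singleton_iff, iInf_iInf_eq_left] at this
        exact hPK.trans this
      have hUbig : Big (im hf.inv v a U) := by
        have hle : im hf.inv v a U ≤ alternatingGroup _ := imP v hv ▸ im_mono _ _ _ inf_le_left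
        have hn : alternatingGroup ↥(out (_root_.flip r) v \ {a}) ≤
            normalizer (im hf.inv v a U : Set (Equiv.Perm ↥(out (_root_.flip r) v \ {a}))) :=
          imP v hv ▸ le_normalizer_im hf.inv v a hUn
        rcases (big_of_alt_le le_rfl).normal h5 hle hn with hb | hB
        · rw [hkerv v hv U inf_le_left] at hb
          exact absurd (eq_of_le_of_card_ge (le_inf inf_le_left hb) (hcard v u hv hu).le)
            (hdist u v hu hv huv)
        · exact hB
      have hle : ⁅J, U⁆ ≤ P ⊓ ⨅ w ∈ ((insert u S : Finset Ω) : Set Ω), K G r w := by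
        have h1 : ⁅J, U⁆ ≤ J := le_normalizer_iff_commutator_le_left.mp
          (inf_le_left.trans (hPK.trans (hnorm _ hSsub)))
        have h2 : ⁅J, U⁆ ≤ U :=
          le_normalizer_iff_commutator_le_right.mp (inf_le_left.trans hUn)
        refine le_inf (h1.trans inf_le_left) (le_iInf₂ fun w hw => ?_)
        rw [Finset.coe_insert, Set.mem_insert_iff] at hw
        rcases hw with rfl | hw
        · exact h2.trans inf_le_right
        · exact h1.trans (inf_le_right.trans (iInf₂_le w hw))
      refine big_of_alt_le (le_trans ?_ (im_mono _ _ _ hle))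
      rw [im_commutator hf.inv v a (inf_le_left.trans (hCv v hv)) (inf_le_left.trans (hCv v hv))]
      exact (commutator_alt h5).ge.trans (commutator_mono hJ.alt_le hUbig.alt_le)
  set T : Ω → Subgroup G := fun v => P ⊓ ⨅ u ∈ out r a \ {v}, K G r u with hT
  set W : Ω → Subgroup G := fun v => ⁅T v, T v⁆ with hW
  have hWP : ∀ v, W v ≤ P := fun v => (commutator_le_self _).trans inf_le_left
  have hWu : ∀ v u, r a u → u ≠ v → W v ≤ K G r u := fun v u hu huv =>
    (commutator_le_self _).trans (inf_le_right.trans (iInf₂_le u ⟨hu, huv⟩))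
  have hWbig : ∀ v, r a v → Big (im hf.inv v a (W v)) := by
    intro v hv
    have h1 := hbigS v hv (out r a \ {v}).toFinset fun u hu => by
      rw [Set.mem_toFinset] at hu; exact hu
    rw [Set.coe_toFinset] at h1
    rw [hW, im_commutator hf.inv v a (inf_le_left.trans (hCv v hv))
      (inf_le_left.trans (hCv v hv)), h1.commutator_eq (hf.five (a := v) (b := a) hv)]
    exact big_of_alt_le le_rfl
  have hWn : ∀ v, K G r a ≤ normalizer (W v : Set G) := fun v x hx => by
    refine mem_normalizer_of_map_eq (eq_of_le_of_card_ge ?_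
      (CfsgLib.Components.card_map_conj _ _).ge)
    rw [hW, map_commutator]
    refine commutator_mono ?_ ?_ <;>
    · rintro _ ⟨y, hy, rfl⟩
      exact (mem_normalizer_iff.mp (hnorm _ (fun u hu => hu.1) hx) y).mp hy
  have hWconj : ∀ x ∈ stabilizer G a, ∀ v,
      (W v).map (MulAut.conj x).toMonoidHom ≤ W (x • v) := by
    intro x hx v
    have hTc : (T v).map (MulAut.conj x).toMonoidHom ≤ T (x • v) := by
      rintro _ ⟨y, hy, rfl⟩
      simp only [hT, SetLike.mem_coe, mem_inf, mem_iInf] at hy ⊢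
      refine ⟨?_, fun u hu => ?_⟩
      · have := map_conj_commutator h.inv x a
        rw [mem_stabilizer_iff.mp hx, ← hP] at this
        exact this ▸ mem_map_of_mem _ hy.1
      · have h1 : x⁻¹ • u ∈ out r a \ {v} :=
          ⟨AltCfg.conj_out h.inv (inv_mem hx) hu.1, fun he => hu.2 (by
            rw [Set.mem_singleton_iff] at he ⊢
            rw [← he, smul_inv_smul])⟩
        have h2 := conj_mem_K h.inv x (hy.2 _ h1)
        rwa [smul_inv_smul] at h2
    rw [hW, map_commutator]
    exact commutator_mono hTc hTc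
  set Pb : Subgroup G := ⁅K G r b, K G r b⁆ with hPb
  have hPbK : Pb ≤ K G r b := commutator_le_self _
  have hWPb : ∀ v, v ≠ b → W v ≤ Pb := fun v hv => commutator_mono
    (inf_le_right.trans (iInf₂_le b ⟨hab, hv.symm⟩))
    (inf_le_right.trans (iInf₂_le b ⟨hab, hv.symm⟩))
  have hfix : ∀ x ∈ Pb, ∀ v, r a v → x • v = v := by
    intro x hx v hv
    have hxC := h.K_out_le hab (hPbK hx)
    by_cases hvb : v = b
    · rw [hvb]; exact hxC.2
    by_contra hmove
    have hv' : r a (x • v) := AltCfg.conj_out h.inv hxC.1 hv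
    have hv'b : x • v ≠ b := fun he =>
      hvb (smul_left_cancel x (he.trans (mem_stabilizer_iff.mp hxC.2).symm))
    have hinter : W v ⊓ W (x • v) = ⊥ := (eq_bot_iff_forall _).mpr fun y hy =>
      hRR y (hPK (hWP v hy.1)) fun u hu => by
        by_cases huv : u = v
        · exact hWu _ u hu (fun he => hmove (he.symm.trans huv)) hy.2
        · exact hWu _ u hu huv hy.1
    have hcomm : ⁅W v, W (x • v)⁆ = ⊥ := le_bot_iff.mp (hinter ▸ le_inf
      (le_normalizer_iff_commutator_le_left.mp ((hWP _).trans (hPK.trans (hWn v))))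
      (le_normalizer_iff_commutator_le_right.mp ((hWP _).trans (hPK.trans (hWn _)))))
    have hWK : ∀ w, r b w → W v ≤ K G r w := by
      intro w hw
      have hbw : _root_.flip r w b := hw
      have h5 := hf.five hbw
      have hKle : K G r b ≤ stabilizer G w ⊓ stabilizer G b :=
        (h.K_self_le hw).trans (inf_comm _ _).le
      have hW1 := (hWPb v hvb).trans (hPbK.trans hKle)
      have hW2 := (hWPb _ hv'b).trans (hPbK.trans hKle)
      have hiff : im hf.inv w b (W v) = ⊥ ↔ W v ≤ K G r w := by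
        rw [im_eq_bot_iff hf.inv hbw hW1, h.K_eq]
      have hPbim : im hf.inv w b Pb = alternatingGroup ↥(out (_root_.flip r) w \ {b}) := by
        have := hf.im_commutator_K hbw
        rwa [h.K_eq] at this
      set Q := P ⊓ Pb with hQ
      have hPbn : Pb ≤ normalizer (Q : Set G) := by
        have hPA : Pb ≤ normalizer (P : Set G) := fun y hy => by
          refine mem_normalizer_of_map_eq ?_
          rw [hP, map_conj_commutator h.inv, mem_stabilizer_iff.mp (h.K_out_le hab (hPbK hy)).1]
        exact (le_inf hPA Subgroup.le_normalizer).trans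
          Subgroup.inf_normalizer_le_normalizer_inf
      have hQle : im hf.inv w b Q ≤ alternatingGroup ↥(out (_root_.flip r) w \ {b}) :=
        hPbim ▸ im_mono _ _ _ inf_le_right
      have hQn : alternatingGroup ↥(out (_root_.flip r) w \ {b}) ≤
          normalizer (im hf.inv w b Q : Set (Equiv.Perm ↥(out (_root_.flip r) w \ {b}))) :=
        hPbim ▸ le_normalizer_im hf.inv w b hPbn
      have hWQ : W v ≤ Q := le_inf (hWP v) (hWPb v hvb)
      rcases (big_of_alt_le le_rfl).normal h5 hQle hQn with hb | hB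
      · exact hiff.mp (le_bot_iff.mp (hb ▸ im_mono _ _ _ hWQ))
      rcases hB.normal h5 (im_mono _ _ _ hWQ) (le_normalizer_im hf.inv w b
          (inf_le_left.trans (hPK.trans (hWn v)))) with hb' | hB'
      · exact hiff.mp hb'
      exfalso
      have hxw : x ∈ stabilizer G w ⊓ stabilizer G b := hKle (hPbK hx)
      have halt : alternatingGroup ↥(out (_root_.flip r) w \ {b}) ≤
          im hf.inv w b (W (x • v)) := by
        intro s hs
        set q := side hf.inv w b ⟨x, hxw⟩ with hq
        have hs' : q⁻¹ * s * q ∈ im hf.inv w b (W v) := hB'.alt_le (by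
          have := (inferInstance : (alternatingGroup
            ↥(out (_root_.flip r) w \ {b})).Normal).conj_mem s hs q⁻¹
          rwa [inv_inv] at this)
        obtain ⟨y, hy, hyq⟩ := hs'
        refine ⟨⟨x, hxw⟩ * y * ⟨x, hxw⟩⁻¹, hWconj x hxC.1 v ⟨(y : G), hy, rfl⟩, ?_⟩
        rw [map_mul, map_mul, map_inv, hyq, ← hq]
        group
      refine alt_ne_bot h5 (le_bot_iff.mp ?_)
      calc alternatingGroup ↥(out (_root_.flip r) w \ {b})
          = ⁅alternatingGroup _, alternatingGroup _⁆ := (commutator_alt h5).symm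
        _ ≤ ⁅im hf.inv w b (W v), im hf.inv w b (W (x • v))⁆ := commutator_mono hB'.alt_le halt
        _ = im hf.inv w b ⁅W v, W (x • v)⁆ := (im_commutator hf.inv w b hW1 hW2).symm
        _ = ⊥ := by rw [hcomm, im, bot_subgroupOf, Subgroup.map_bot]
    have hW0 : W v = ⊥ := le_bot_iff.mp (hR b ▸ fun y hy => mem_RR_iff.mpr
      ⟨hPbK (hWPb v hvb hy), fun w hw => by rw [h.K_eq]; exact hWK w hw hy⟩)
    have hbig := hWbig v hv
    rw [hW0, im, bot_subgroupOf, Subgroup.map_bot] at hbig
    exact not_big_bot (hf.five (a := v) (b := a) hv) hbig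
  have hPbKa : Pb ≤ K G r a := fun x hx =>
    mem_K_iff.mpr ⟨(h.K_out_le hab (hPbK hx)).1, hfix x hx⟩
  have h1 := (im_eq_bot_iff h.inv hab (hPbK.trans (h.K_out_le hab))).mpr hPbKa
  rw [hPb, h.im_commutator_K hab] at h1
  exact alt_ne_bot (h.five hab) h1

end Big

end CfsgLib.Recog.TW
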